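import Cfsg.Agent.Base
import Cfsg.Agent.H71.Glue
set_option maxRecDepth 1000000
set_option Elab.async false
namespace H59.P43L0
open H71
noncomputable def nx_0 : ℕ := 0x206c72044866f2353321aa4a
noncomputable def nx_1 : ℕ := 0x723c24038a18000000000000442304b5fd22
noncomputable def nx_2 : ℕ := 0x401540000000711a0200000021eac000000000fa94
noncomputable def nx_3 : ℕ := 0x152000a00000d2c000b62000e800002e4000286000048
noncomputable def nx_4 : ℕ := 0x1c01203402c02403803a000004014014004000000010032
noncomputable def nx_5 : ℕ := 0x4004102006180000000184180000102184080100104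
noncomputable def nx_6 : ℕ := 0x240248001208208041209208001049200048001209009048
noncomputable def nx_7 : ℕ := 0x248249241249248241209249041249208049209249209248
noncomputable def nx_8 : ℕ := 0x8040200201000048048000208040209201200041040208
noncomputable def nx_9 : ℕ := 0x1001461040841020c41c00051c60c4047184102045044180
noncomputable def nx_10 : ℕ := 0x2600903c01602203c02500000800803202000202800003f
noncomputable def nx_11 : ℕ := 0xa39000f2e000a9b00053300076a0009fb0001c4000c0c
noncomputable def nx_12 : ℕ := 0x108b9000000929511000000985760000000121c0a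
noncomputable def nx_13 : ℕ := 0x99e2329ed8f000000000000aa5228387c19
noncomputable def nx_14 : ℕ := 0xb236938086bb234a9cb87026
noncomputable def nx : Net := .cons 96 nx_0 <| .cons 48 nx_1 <| .cons 24 nx_2 <| .cons 12 nx_3 <| .cons 6 nx_4 <| .cons 3 nx_5 <| .cons 2 nx_6 <| .cons 1 nx_7 <| .cons 2 nx_8 <| .cons 3 nx_9 <| .cons 6 nx_10 <| .cons 12 nx_11 <| .cons 24 nx_12 <| .cons 48 nx_13 <| .cons 96 nx_14 <| .nil
theorem vnx : Net.valid 192 nx = true := by decide +kernel
noncomputable def nt_0 : ℕ := 0x4ed73dab92d82040cfc5c84a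
noncomputable def nt_1 : ℕ := 0x5fb1e7c0d32c0000000000002fa28600cbd8
noncomputable def nt_2 : ℕ := 0xbad00000000047cc44000000b0940800000047d02a
noncomputable def nt_3 : ℕ := 0xfd2000d460006ac0004800001de000678000462000970
noncomputable def nt_4 : ℕ := 0x1800402400000a01000c00401600002800002200000c000
noncomputable def nt_5 : ℕ := 0x84080000100184102086100100180100106180100102
noncomputable def nt_6 : ℕ := 0x8000049008208208208048041040009201041200040
noncomputable def nt_7 : ℕ := 0x241049200249248209208209049049040209241249248041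
noncomputable def nt_8 : ℕ := 0x241248201249209000049001249200241040009208049240
noncomputable def nt_9 : ℕ := 0x31c40800821401850c20870041820c0144182083085100
noncomputable def nt_10 : ℕ := 0x2f02201e03b02702d00401c03001f01701f00f03e00e01c
noncomputable def nt_11 : ℕ := 0x6e7000076000b19000e50000bec00071a000cd3000889
noncomputable def nt_12 : ℕ := 0x4279fe0000001695f2000000e4c3f000000009ca6c
noncomputable def nt_13 : ℕ := 0x3e4631f106c80000000000006028e1f4640d
noncomputable def nt_14 : ℕ := 0xd37de4d123a67e2f04081221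
noncomputable def nt : Net := .cons 96 nt_0 <| .cons 48 nt_1 <| .cons 24 nt_2 <| .cons 12 nt_3 <| .cons 6 nt_4 <| .cons 3 nt_5 <| .cons 2 nt_6 <| .cons 1 nt_7 <| .cons 2 nt_8 <| .cons 3 nt_9 <| .cons 6 nt_10 <| .cons 12 nt_11 <| .cons 24 nt_12 <| .cons 48 nt_13 <| .cons 96 nt_14 <| .nil
theorem vnt : Net.valid 192 nt = true := by decide +kernel
noncomputable def ns_0 : ℕ := 0xa400f2d68dac165ca0749d68
noncomputable def ns_1 : ℕ := 0xd5a8cd59ef00000000000000014f72dad920
noncomputable def ns_2 : ℕ := 0xe0f450000000066e0a00000047f3c0000000f10558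
noncomputable def ns_3 : ℕ := 0x5a4000a88000f600004e000042800097c000c12000b44
noncomputable def ns_4 : ℕ := 0x1c01202002003400800201c00200402002801403803003a
noncomputable def ns_5 : ℕ := 0x102100184002086102180080006000080082004104082000
noncomputable def ns_6 : ℕ := 0x40001048048008200208008200241001201041201240008
noncomputable def ns_7 : ℕ := 0x248241249049048248208208201241041241249209248048
noncomputable def ns_8 : ℕ := 0x49209048048240041240008048249048040048201209249
noncomputable def ns_9 : ℕ := 0x421860441030801421c4086086143043084181001002083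
noncomputable def ns_10 : ℕ := 0x3401a03403203801d02e02c03702503e03d00e03c006033
noncomputable def ns_11 : ℕ := 0x53e000d28000b46000ec2000b3e00001f0000130006d1
noncomputable def ns_12 : ℕ := 0xe0fa910000007459bb000000f5606a000000a2baaa
noncomputable def ns_13 : ℕ := 0x2aae585c09df0000000000003d91b1af4a48
noncomputable def ns_14 : ℕ := 0x29e88562c0e6799c4e977c92
noncomputable def ns : Net := .cons 96 ns_0 <| .cons 48 ns_1 <| .cons 24 ns_2 <| .cons 12 ns_3 <| .cons 6 ns_4 <| .cons 3 ns_5 <| .cons 2 ns_6 <| .cons 1 ns_7 <| .cons 2 ns_8 <| .cons 3 ns_9 <| .cons 6 ns_10 <| .cons 12 ns_11 <| .cons 24 ns_12 <| .cons 48 ns_13 <| .cons 96 ns_14 <| .nil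
theorem vns : Net.valid 192 ns = true := by decide +kernel
noncomputable def np_0 : ℕ := 0xc7d00c9f63a1de8f5f84a61c
noncomputable def np_1 : ℕ := 0x476ddee0887e000000000000366d9020b592
noncomputable def np_2 : ℕ := 0x2a75880000006b38ac000000579d280000001c50be
noncomputable def np_3 : ℕ := 0x33200082200032000030a000ca0000228000ce0000e6c
noncomputable def np_4 : ℕ := 0x802001401400802e00802c02200a01a000034028024008
noncomputable def np_5 : ℕ := 0x4100084180002000004100180100000086000004002
noncomputable def np_6 : ℕ := 0x248008001008200001000001201009041000001009008009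
noncomputable def np_7 : ℕ := 0x248209209208240249049241209209049049041209049049
noncomputable def np_8 : ℕ := 0x200009049008048241200240008200201200009001049001
noncomputable def np_9 : ℕ := 0x1870c50440010041c00031810061870470030c31821c40c3
noncomputable def np_10 : ℕ := 0x1900802003c01d03500000e03701103d008015034017020
noncomputable def np_11 : ℕ := 0xe6c0002d70009a4000dd7000530000cf500072d000332
noncomputable def np_12 : ℕ := 0xe3af4100000057dd280000006b3cac000000d58a77
noncomputable def np_13 : ℕ := 0xc9926fdf4a6d000000000000b892211f7781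
noncomputable def np_14 : ℕ := 0x382ff3609c5e2170a07b59e3
noncomputable def np : Net := .cons 96 np_0 <| .cons 48 np_1 <| .cons 24 np_2 <| .cons 12 np_3 <| .cons 6 np_4 <| .cons 3 np_5 <| .cons 2 np_6 <| .cons 1 np_7 <| .cons 2 np_8 <| .cons 3 np_9 <| .cons 6 np_10 <| .cons 12 np_11 <| .cons 24 np_12 <| .cons 48 np_13 <| .cons 96 np_14 <| .nil
theorem vnp : Net.valid 192 np = true := by decide +kernel
noncomputable def nq_0 : ℕ := 0xf37a34dd4a531fd56074881a
noncomputable def nq_1 : ℕ := 0xf257bedd6a60000000000000ded9eb5fddb4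
noncomputable def nq_2 : ℕ := 0x293e7400000025c690000000be9202000000ec21b8
noncomputable def nq_3 : ℕ := 0x7b800060600024000023600059a0008a400067e000770
noncomputable def nq_4 : ℕ := 0x3803400000202400800002c01c034002000008024006
noncomputable def nq_5 : ℕ := 0x6000084084000180002000100004184004184100
noncomputable def nq_6 : ℕ := 0x240001008000048240040040040000048040200048040
noncomputable def nq_7 : ℕ := 0x9249001048040049248049241049240048040240049049
noncomputable def nq_8 : ℕ := 0x209009009249208001009000208200200241241048249201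
noncomputable def nq_9 : ℕ := 0x1070420421860041c31021830460c10800810820c51c3047
noncomputable def nq_10 : ℕ := 0x2800d03d00301800003b03a00601e00e02201500802500e
noncomputable def nq_11 : ℕ := 0xa530005410000ac0007f90002e200084400093c000082
noncomputable def nq_12 : ℕ := 0x935ec700000060a2dd000000fc554d0000004241ab
noncomputable def nq_13 : ℕ := 0x21020004632a000000000000092c5592c58f
noncomputable def nq_14 : ℕ := 0xcc4cb22b5ade02a998b77c5
noncomputable def nq : Net := .cons 96 nq_0 <| .cons 48 nq_1 <| .cons 24 nq_2 <| .cons 12 nq_3 <| .cons 6 nq_4 <| .cons 3 nq_5 <| .cons 2 nq_6 <| .cons 1 nq_7 <| .cons 2 nq_8 <| .cons 3 nq_9 <| .cons 6 nq_10 <| .cons 12 nq_11 <| .cons 24 nq_12 <| .cons 48 nq_13 <| .cons 96 nq_14 <| .nil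
theorem vnq : Net.valid 192 nq = true := by decide +kernel
noncomputable def nb_0 : ℕ := 0x3253bd5444265e65100170fc
noncomputable def nb_1 : ℕ := 0x42039e5fe99400000000000013e3a95a35f4
noncomputable def nb_2 : ℕ := 0xb768a8000000efad7200000034dec6000000ec921c
noncomputable def nb_3 : ℕ := 0xed4000a10000bc200026c000f580007920005400008a2
noncomputable def nb_4 : ℕ := 0x2a00002c01200401400a038030014014004038030038028
noncomputable def nb_5 : ℕ := 0x100080002000100102080082086006102080006002000184
noncomputable def nb_6 : ℕ := 0x1049040000040041049200008008201049048000008040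
noncomputable def nb_7 : ℕ := 0x209249048009240049249248049009241249249001248049
noncomputable def nb_8 : ℕ := 0x40041208041208008209048041041040209208240240008
noncomputable def nb_9 : ℕ := 0x1021451851c21870861440c51021c41451421470c5045145
noncomputable def nb_10 : ℕ := 0x2200e03103502b03000001001403b03800a00402e03c032
noncomputable def nb_11 : ℕ := 0x777000ecb0000a700096900043d000d81000fa1000171
noncomputable def nb_12 : ℕ := 0x6b59c300000034dec6000000efad7200000069141e
noncomputable def nb_13 : ℕ := 0xec1c56a5ca0b000000000000bdfc61a0166b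
noncomputable def nb_14 : ℕ := 0xcda442abbbd9a19aaffe8f03
noncomputable def nb : Net := .cons 96 nb_0 <| .cons 48 nb_1 <| .cons 24 nb_2 <| .cons 12 nb_3 <| .cons 6 nb_4 <| .cons 3 nb_5 <| .cons 2 nb_6 <| .cons 1 nb_7 <| .cons 2 nb_8 <| .cons 3 nb_9 <| .cons 6 nb_10 <| .cons 12 nb_11 <| .cons 24 nb_12 <| .cons 48 nb_13 <| .cons 96 nb_14 <| .nil
theorem vnb : Net.valid 192 nb = true := by decide +kernel
noncomputable def gensN : List Net := [nx, Net.nil]
noncomputable def invsN : List Net := [nt, ns, np, nq, nb, Net.nil]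
noncomputable def A : ℕ → ℕ → ℕ := mkA gensN invsN
noncomputable def π : ℕ → Equiv.Perm ℕ := mkPi gensN invsN
theorem vG : ∀ r ∈ ([nx, Net.nil] : List Net), Net.valid 192 r = true := by
  intro r hr
  simp only [List.mem_cons, List.not_mem_nil, or_false] at hr
  rcases hr with rfl | rfl
  · exact vnx
  · rfl
theorem vI : ∀ r ∈ ([nt, ns, np, nq, nb, Net.nil] : List Net), Net.valid 192 r = true := by
  intro r hr
  simp only [List.mem_cons, List.not_mem_nil, or_false] at hr
  rcases hr with rfl | rfl | rfl | rfl | rfl | rfl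
  · exact vnt
  · exact vns
  · exact vnp
  · exact vnq
  · exact vnb
  · rfl
theorem env : Env 192 π A := env_mk vG vI
theorem hN : 192 ≤ 2 ^ 8 := by norm_num
theorem pinv : ∀ l, π (linv 4 l) = (π l)⁻¹ := mkPi_inv' hN rfl vI (by decide +kernel)
def R : List (List ℕ) := [[4,5,4,5],
  [4,6,4,6],
  [4,7,4,7],
  [5,6,5,6],
  [5,7,5,7],
  [6,7,6,7],
  [0,0,0],
  [0,4,1,4],
  [0,5,1,5],
  [0,6,1,7],
  [0,7,1,4,5,6,7],
  [8,4,8,4],
  [8,5,8,6],
  [8,7,8,4,5,6,7],
  [0,8,0,8,0,8]]
def RH : List (List ℕ) := []
def HL : List ℕ := []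
def S : List ℕ := [4,5,6,7,0,1,8]
theorem relP : ∀ r ∈ R, evw π r = 1 := env.eq_one_of_allId hN (by decide +kernel)
def seeds : List (List ℕ) := []
theorem seeds_mem {G : Type*} [Group G] {val : ℕ → G} {H : Subgroup G} (hv : ∀ l, val (linv 4 l) = (val l)⁻¹) (he : val 10 = 1)
    (hR : ∀ r ∈ R ++ RH, evw val r = 1) (hH : ∀ l ∈ HL, val l ∈ H) : ∀ w ∈ seeds, evw val w ∈ H := by simp [seeds]
def spec : List ℕ := [49152,0,8192,16384,24576,32768,40960,57346,57350,65538,65542,73730,73734,90114,98306,98310,114690,81922,81930,106498,106504]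
noncomputable def rules : List (List ℕ) := spec.map (mkRule 4 R)
noncomputable def hs : List (List ℕ) := HL.map (fun z => [z]) ++ seeds
noncomputable def D0 : ℕ := Nat.shiftLeft 1 0
noncomputable def K0 : List ℕ := List.replicate 10 0
def steps0_0 : List ℕ := [16,20,24,28,0,4,32,0,4,1,2,5,9,13,17,21,25,29,33,37,41,45,49,53,57,61,65,34,69,73,77,81,29,33,37,41,45,49,61,69]
theorem run0 : tcRun A 4 0 rules hs (steps0_0) (finSt A S (ival 0 192)) D0 K0 = true := by decide +kernel
theorem done {G : Type*} [Group G] {val : ℕ → G} {H : Subgroup G} (hv : ∀ l, val (linv 4 l) = (val l)⁻¹) (he : val 10 = 1)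
    (hR : ∀ r ∈ R ++ RH, evw val r = 1) (hH : ∀ l ∈ HL, val l ∈ H) : TCDone val H π 0 S (ival 0 192) := by
  have T : TCHyp val H 192 π A 4 rules hs := tcHyp_mk env hv pinv (fun r hr => hR r (List.mem_append_left _ hr)) relP hH (seeds_mem hv he hR hH) spec
  have h0 : Inv val H π 0 D0 K0 := inv_init val H π 0 10
  exact tcRun_fin T h0 run0
end H59.P43L0
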