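import Cfsg.Agent.Base
import Cfsg.Agent.H71.Glue
set_option maxRecDepth 1000000
set_option Elab.async false
namespace H59.P43L2
open H71
noncomputable def nx_0 : ℕ := 0x3
noncomputable def nx_1 : ℕ := 0x1
noncomputable def nx_2 : ℕ := 0x1
noncomputable def nx_3 : ℕ := 0x3
noncomputable def nx : Net := .cons 3 nx_0 <| .cons 2 nx_1 <| .cons 1 nx_2 <| .cons 3 nx_3 <| .nil
theorem vnx : Net.valid 5 nx = true := by decide +kernel
noncomputable def nt : Net := .nil
theorem vnt : Net.valid 5 nt = true := by decide +kernel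
noncomputable def ns : Net := .nil
theorem vns : Net.valid 5 ns = true := by decide +kernel
noncomputable def np : Net := .nil
theorem vnp : Net.valid 5 np = true := by decide +kernel
noncomputable def nq : Net := .nil
theorem vnq : Net.valid 5 nq = true := by decide +kernel
noncomputable def nb_0 : ℕ := 0x1
noncomputable def nb_1 : ℕ := 0x9
noncomputable def nb_2 : ℕ := 0x1
noncomputable def nb : Net := .cons 2 nb_0 <| .cons 1 nb_1 <| .cons 2 nb_2 <| .nil
theorem vnb : Net.valid 5 nb = true := by decide +kernel
noncomputable def nn_0 : ℕ := 0x3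
noncomputable def nn_1 : ℕ := 0x1
noncomputable def nn_2 : ℕ := 0x9
noncomputable def nn_3 : ℕ := 0x1
noncomputable def nn_4 : ℕ := 0x3
noncomputable def nn : Net := .cons 3 nn_0 <| .cons 2 nn_1 <| .cons 1 nn_2 <| .cons 2 nn_3 <| .cons 3 nn_4 <| .nil
theorem vnn : Net.valid 5 nn = true := by decide +kernel
noncomputable def gensN : List Net := [nx, Net.nil]
noncomputable def invsN : List Net := [nt, ns, np, nq, nb, nn]
noncomputable def A : ℕ → ℕ → ℕ := mkA gensN invsN
noncomputable def π : ℕ → Equiv.Perm ℕ := mkPi gensN invsN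
theorem vG : ∀ r ∈ ([nx, Net.nil] : List Net), Net.valid 5 r = true := by
  intro r hr
  simp only [List.mem_cons, List.not_mem_nil, or_false] at hr
  rcases hr with rfl | rfl
  · exact vnx
  · rfl
theorem vI : ∀ r ∈ ([nt, ns, np, nq, nb, nn] : List Net), Net.valid 5 r = true := by
  intro r hr
  simp only [List.mem_cons, List.not_mem_nil, or_false] at hr
  rcases hr with rfl | rfl | rfl | rfl | rfl | rfl
  · exact vnt
  · exact vns
  · exact vnp
  · exact vnq
  · exact vnb
  · exact vnn
theorem env : Env 5 π A := env_mk vG vI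
theorem hN : 5 ≤ 2 ^ 3 := by norm_num
theorem pinv : ∀ l, π (linv 4 l) = (π l)⁻¹ := mkPi_inv' hN rfl vI (by decide +kernel)
def R : List (List ℕ) := [[4,5,4,5],
  [4,6,4,6],
  [4,7,4,7],
  [5,6,5,6],
  [5,7,5,7],
  [6,7,6,7],
  [0,0,0],
  [0,4,1,4],
  [0,5,1,5],
  [0,6,1,7],
  [0,7,1,4,5,6,7],
  [8,4,8,4],
  [8,5,8,6],
  [8,7,8,4,5,6,7],
  [0,8,0,8,0,8],
  [9,4,9,5],
  [9,6,9,7],
  [9,0,9,0],
  [9,8,9,8,9,8,9,8,9,8],
  [9,8,0,9,8,0,9,8,0,9,8,0,9,8,0]]
def RH : List (List ℕ) := []
def HL : List ℕ := [4,5,6,7,0,1,8]
def S : List ℕ := [4,5,6,7,0,1,8,9]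
theorem relP : ∀ r ∈ R, evw π r = 1 := env.eq_one_of_allId hN (by decide +kernel)
def seeds : List (List ℕ) := [[9,8,9,0,8,9]]
noncomputable def pc0 : ℕ := 0x280001c900002800034a00003800028a00005000048a0000680005ca0000980007ca0000e80004ca0000f800074a0001180008c80001180008800001180007490001100004c90000f80005c80000f80007410000f80004c00000e80005480000e80004c10000c80005080000c80006490000c80005c10000c80004800000b80004890000b80004810000a80005090000a80004000000a00004010000980003480000900002c80000800004090000800002880000680002810000680002c00000680001c90000580002800000580001890000500001490000380001880000380001810000380001400000300001410000280000c80000180000c000001800000900000000000800000000000100000000000a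
noncomputable def pT : Tr := (.leaf pc0)
noncomputable def pJ0_0 : List ℕ := [0x2,1,1,0,0x1c0000300001800c006,0,0,0,0xf00003000800a,0x3c0000b0000240000a00003001400e,0,0,0x5c0000d00005000c006,0,0x6c0001100005800c006,0x6c0000f00005000c012,0,0x840001500002c000070000100000600002800014000080024016,0,0,0,0,0xac000220000a000c01a,0,0x2f000094000170000340000b00001c00003000010000060000200000a0000500001800009003801e,0,0x330000b800800a,0xcc000300000d000c01a,0xcc00025000064000200000a001400e,0,0xec0002700007c000200000a8014022,0,0x3f0000e800800a,0xfc00027000074000240000b801400e,0,0,0x11c0003b00011000c006,0x11c0003d0000b4000380000d8000390000b00003c000118024026,0x1040003d0000b40002900008400015000038000130000580001c000098000440001200004a00011c03c02a,0x4c0001040004c0000fc01002e,0x4e000130008002,0x980005100010c00c032,0x78000530000bc00c036,0x1a00014c0003100015001003a,0x380005700007800c02e,0x5900006c00803a]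
noncomputable def pJ0 : List ℕ := pJ0_0
def pspec : List ℕ := [245760,139268,49157,114695,139271,147462,139269,155656,114692,147460,155648,172032,229376,163840,237568]
noncomputable def prules : List (List ℕ) := pspec.map (mkRule 4 ((R ++ RH) ++ trivRels 4 10))
theorem pk0 : chkFacts (look pT) 4 10 (maskL HL) prules pJ0 0 = true := by decide +kernel
theorem ps0 : chkSeed (look pT) 4 10 46 [9,8,9,0,8,9] 0x180000a0000380005a00002c00007006 = true := by decide +kernel
theorem seeds_mem {G : Type*} [Group G] {val : ℕ → G} {H : Subgroup G} (hv : ∀ l, val (linv 4 l) = (val l)⁻¹) (he : val 10 = 1)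
    (hR : ∀ r ∈ R ++ RH, evw val r = 1) (hH : ∀ l ∈ HL, val l ∈ H) : ∀ w ∈ seeds, evw val w ∈ H := by
  have P : PHyp val H 4 10 (maskL HL) prules := pHyp_mk hv he hR hH pspec
  have h0 := holds_start val H (look pT)
  have h1 := chkFacts_step (k' := 46) P h0 pk0 (by decide +kernel)
  intro w hw
  simp only [seeds, List.mem_cons, List.not_mem_nil, or_false] at hw
  rcases hw with rfl
  · exact chkSeed_sound P h1 ps0
def spec : List ℕ := [122882,122886,131074,131078,139266,106498,90114,98306,98310,57350,65542,73734,81930,49152,139264,114690]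
noncomputable def rules : List (List ℕ) := spec.map (mkRule 4 R)
noncomputable def hs : List (List ℕ) := HL.map (fun z => [z]) ++ seeds
noncomputable def D0 : ℕ := Nat.shiftLeft 1 0
noncomputable def K0 : List ℕ := List.replicate 10 0
def steps0_0 : List ℕ := [3,16387,32771,49155,65539,2,98307,36,32,36,0,1,5,9,13,17,2,21,25,29,33,1,5,9,13,37,41,45,49,114703,2,53,2,57,61,34]
theorem run0 : tcRun A 4 0 rules hs (steps0_0) (finSt A S (ival 0 5)) D0 K0 = true := by decide +kernel
theorem done {G : Type*} [Group G] {val : ℕ → G} {H : Subgroup G} (hv : ∀ l, val (linv 4 l) = (val l)⁻¹) (he : val 10 = 1)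
    (hR : ∀ r ∈ R ++ RH, evw val r = 1) (hH : ∀ l ∈ HL, val l ∈ H) : TCDone val H π 0 S (ival 0 5) := by
  have T : TCHyp val H 5 π A 4 rules hs := tcHyp_mk env hv pinv (fun r hr => hR r (List.mem_append_left _ hr)) relP hH (seeds_mem hv he hR hH) spec
  have h0 : Inv val H π 0 D0 K0 := inv_init val H π 0 10
  exact tcRun_fin T h0 run0
end H59.P43L2
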