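import Cfsg.Agent.Base
import Cfsg.Agent.H71.Glue
set_option maxRecDepth 1000000
set_option Elab.async false
namespace H59.P43L3
open H71
noncomputable def nx_0 : ℕ := 0x2840
noncomputable def nx_1 : ℕ := 0x1d8040
noncomputable def nx_2 : ℕ := 0x18000
noncomputable def nx_3 : ℕ := 0x800
noncomputable def nx_4 : ℕ := 0x2a50800
noncomputable def nx_5 : ℕ := 0x600000
noncomputable def nx_6 : ℕ := 0x400100
noncomputable def nx_7 : ℕ := 0x154060
noncomputable def nx_8 : ℕ := 0x2160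
noncomputable def nx : Net := .cons 14 nx_0 <| .cons 7 nx_1 <| .cons 4 nx_2 <| .cons 2 nx_3 <| .cons 1 nx_4 <| .cons 2 nx_5 <| .cons 4 nx_6 <| .cons 7 nx_7 <| .cons 14 nx_8 <| .nil
theorem vnx : Net.valid 28 nx = true := by decide +kernel
noncomputable def ny_0 : ℕ := 0x31d2
noncomputable def ny_1 : ℕ := 0x40072
noncomputable def ny_2 : ℕ := 0x210305
noncomputable def ny_3 : ℕ := 0x2448012
noncomputable def ny_4 : ℕ := 0x2250a91
noncomputable def ny_5 : ℕ := 0x644902
noncomputable def ny_6 : ℕ := 0x218006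
noncomputable def ny_7 : ℕ := 0x188059
noncomputable def ny_8 : ℕ := 0x3c69
noncomputable def ny : Net := .cons 14 ny_0 <| .cons 7 ny_1 <| .cons 4 ny_2 <| .cons 2 ny_3 <| .cons 1 ny_4 <| .cons 2 ny_5 <| .cons 4 ny_6 <| .cons 7 ny_7 <| .cons 14 ny_8 <| .nil
theorem vny : Net.valid 28 ny = true := by decide +kernel
noncomputable def nt_0 : ℕ := 0x2138
noncomputable def nt_1 : ℕ := 0xf0042
noncomputable def nt_2 : ℕ := 0xa0c000
noncomputable def nt_3 : ℕ := 0x400100
noncomputable def nt_4 : ℕ := 0x240080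
noncomputable def nt_5 : ℕ := 0x240c102
noncomputable def nt_6 : ℕ := 0xe0c200
noncomputable def nt_7 : ℕ := 0x1f0072
noncomputable def nt_8 : ℕ := 0x2138
noncomputable def nt : Net := .cons 14 nt_0 <| .cons 7 nt_1 <| .cons 4 nt_2 <| .cons 2 nt_3 <| .cons 1 nt_4 <| .cons 2 nt_5 <| .cons 4 nt_6 <| .cons 7 nt_7 <| .cons 14 nt_8 <| .nil
theorem vnt : Net.valid 28 nt = true := by decide +kernel
noncomputable def ns_0 : ℕ := 0x3e00
noncomputable def ns_1 : ℕ := 0x108044
noncomputable def ns_2 : ℕ := 0x60c180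
noncomputable def ns_3 : ℕ := 0x40002
noncomputable def ns_4 : ℕ := 0x2850284
noncomputable def ns_5 : ℕ := 0x2000982
noncomputable def ns_6 : ℕ := 0x60c082
noncomputable def ns_7 : ℕ := 0xc4062
noncomputable def ns_8 : ℕ := 0x3e00
noncomputable def ns : Net := .cons 14 ns_0 <| .cons 7 ns_1 <| .cons 4 ns_2 <| .cons 2 ns_3 <| .cons 1 ns_4 <| .cons 2 ns_5 <| .cons 4 ns_6 <| .cons 7 ns_7 <| .cons 14 ns_8 <| .nil
theorem vns : Net.valid 28 ns = true := by decide +kernel
noncomputable def np_0 : ℕ := 0x338c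
noncomputable def np_1 : ℕ := 0x120008
noncomputable def np_2 : ℕ := 0x818003
noncomputable def np_3 : ℕ := 0x40012
noncomputable def np_4 : ℕ := 0x840011
noncomputable def np_5 : ℕ := 0x2244093
noncomputable def np_6 : ℕ := 0xa08107
noncomputable def np_7 : ℕ := 0xd4010
noncomputable def np_8 : ℕ := 0x3fd2
noncomputable def np : Net := .cons 14 np_0 <| .cons 7 np_1 <| .cons 4 np_2 <| .cons 2 np_3 <| .cons 1 np_4 <| .cons 2 np_5 <| .cons 4 np_6 <| .cons 7 np_7 <| .cons 14 np_8 <| .nil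
theorem vnp : Net.valid 28 np = true := by decide +kernel
noncomputable def nq_0 : ℕ := 0xc86
noncomputable def nq_1 : ℕ := 0x108002
noncomputable def nq_2 : ℕ := 0x281
noncomputable def nq_3 : ℕ := 0x2000002
noncomputable def nq_4 : ℕ := 0x2210281
noncomputable def nq_5 : ℕ := 0x260c802
noncomputable def nq_6 : ℕ := 0x287
noncomputable def nq_7 : ℕ := 0x174002
noncomputable def nq_8 : ℕ := 0xc86
noncomputable def nq : Net := .cons 14 nq_0 <| .cons 7 nq_1 <| .cons 4 nq_2 <| .cons 2 nq_3 <| .cons 1 nq_4 <| .cons 2 nq_5 <| .cons 4 nq_6 <| .cons 7 nq_7 <| .cons 14 nq_8 <| .nil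
theorem vnq : Net.valid 28 nq = true := by decide +kernel
noncomputable def nb_0 : ℕ := 0x480
noncomputable def nb_1 : ℕ := 0x40002
noncomputable def nb_2 : ℕ := 0x810002
noncomputable def nb_3 : ℕ := 0x440100
noncomputable def nb_4 : ℕ := 0x2244890
noncomputable def nb_5 : ℕ := 0x2008102
noncomputable def nb_6 : ℕ := 0x810002
noncomputable def nb_7 : ℕ := 0xbc002
noncomputable def nb_8 : ℕ := 0x480
noncomputable def nb : Net := .cons 14 nb_0 <| .cons 7 nb_1 <| .cons 4 nb_2 <| .cons 2 nb_3 <| .cons 1 nb_4 <| .cons 2 nb_5 <| .cons 4 nb_6 <| .cons 7 nb_7 <| .cons 14 nb_8 <| .nil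
theorem vnb : Net.valid 28 nb = true := by decide +kernel
noncomputable def nn_0 : ℕ := 0x2140
noncomputable def nn_1 : ℕ := 0x80040
noncomputable def nn_2 : ℕ := 0x200104
noncomputable def nn_3 : ℕ := 0x800
noncomputable def nn_4 : ℕ := 0x814800
noncomputable def nn_5 : ℕ := 0x200c892
noncomputable def nn_6 : ℕ := 0x600104
noncomputable def nn_7 : ℕ := 0x80060
noncomputable def nn_8 : ℕ := 0x2140
noncomputable def nn : Net := .cons 14 nn_0 <| .cons 7 nn_1 <| .cons 4 nn_2 <| .cons 2 nn_3 <| .cons 1 nn_4 <| .cons 2 nn_5 <| .cons 4 nn_6 <| .cons 7 nn_7 <| .cons 14 nn_8 <| .nil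
theorem vnn : Net.valid 28 nn = true := by decide +kernel
noncomputable def gensN : List Net := [nx, ny]
noncomputable def invsN : List Net := [nt, ns, np, nq, nb, nn]
noncomputable def A : ℕ → ℕ → ℕ := mkA gensN invsN
noncomputable def π : ℕ → Equiv.Perm ℕ := mkPi gensN invsN
theorem vG : ∀ r ∈ ([nx, ny] : List Net), Net.valid 28 r = true := by
  intro r hr
  simp only [List.mem_cons, List.not_mem_nil, or_false] at hr
  rcases hr with rfl | rfl
  · exact vnx
  · exact vny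
theorem vI : ∀ r ∈ ([nt, ns, np, nq, nb, nn] : List Net), Net.valid 28 r = true := by
  intro r hr
  simp only [List.mem_cons, List.not_mem_nil, or_false] at hr
  rcases hr with rfl | rfl | rfl | rfl | rfl | rfl
  · exact vnt
  · exact vns
  · exact vnp
  · exact vnq
  · exact vnb
  · exact vnn
theorem env : Env 28 π A := env_mk vG vI
theorem hN : 28 ≤ 2 ^ 5 := by norm_num
theorem pinv : ∀ l, π (linv 4 l) = (π l)⁻¹ := mkPi_inv' hN rfl vI (by decide +kernel)
def R : List (List ℕ) := [[4,5,4,5],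
  [4,6,4,6],
  [4,7,4,7],
  [5,6,5,6],
  [5,7,5,7],
  [6,7,6,7],
  [0,0,0],
  [0,4,1,4],
  [0,5,1,5],
  [0,6,1,7],
  [0,7,1,4,5,6,7],
  [8,4,8,4],
  [8,5,8,6],
  [8,7,8,4,5,6,7],
  [0,8,0,8,0,8],
  [2,2,2],
  [2,4,3,4],
  [2,0,3,1],
  [5,2,5,2],
  [2,8,3,4,5,6],
  [2,0,8,1,3,4,5,7],
  [2,5,6,3,7,8,7],
  [9,4,9,5],
  [9,6,9,7],
  [9,0,9,0],
  [9,8,9,8,9,8,9,8,9,8],
  [9,8,0,9,8,0,9,8,0,9,8,0,9,8,0],
  [2,9,2,9,3,9,3,9]]
def RH : List (List ℕ) := []
def HL : List ℕ := [4,5,6,7,0,1,8,9]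
def S : List ℕ := [4,5,6,7,0,1,8,2,3,9]
theorem relP : ∀ r ∈ R, evw π r = 1 := env.eq_one_of_allId hN (by decide +kernel)
def seeds : List (List ℕ) := []
theorem seeds_mem {G : Type*} [Group G] {val : ℕ → G} {H : Subgroup G} (hv : ∀ l, val (linv 4 l) = (val l)⁻¹) (he : val 10 = 1)
    (hR : ∀ r ∈ R ++ RH, evw val r = 1) (hH : ∀ l ∈ HL, val l ∈ H) : ∀ w ∈ seeds, evw val w ∈ H := by simp [seeds]
def spec : List ℕ := [122880,131074,131078,139266,139270,147456,180226,180230,196610,155650,155658,163854,221186,221190,221198,90114,98304,98310,188418,188422,106498,106504,172034,172036,24576,65542,106496,106508,172042,8192,32770,57350,73728,73734,139264,188416,114688,155648,81920,81930,221184,221188,196608,114690]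
noncomputable def rules : List (List ℕ) := spec.map (mkRule 4 R)
noncomputable def hs : List (List ℕ) := HL.map (fun z => [z]) ++ seeds
noncomputable def D0 : ℕ := Nat.shiftLeft 1 0
noncomputable def K0 : List ℕ := List.replicate 10 0
def steps0_0 : List ℕ := [3,16387,32771,49155,65539,2,98307,114691,8,12,36,32,8,12,36,24,0,1,10,5,9,13,2,17,6,21,22,25,29,33,2,37,41,26,45,30,49,38,53,57,61,65,69,5,9,13,2,17,6,21,22,29,73,77,37,41,26,81,85,89,22,93,26,97,101,65,34,25,73,77,37,105,109,30,113,117,121,125,129,2,133,65,137,10,141,145,2,149,10,153,2,157,161,10,165,10,137,10,13,2,169,173,34]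
theorem run0 : tcRun A 4 0 rules hs (steps0_0) (finSt A S (ival 0 27)) D0 K0 = true := by decide +kernel
theorem done {G : Type*} [Group G] {val : ℕ → G} {H : Subgroup G} (hv : ∀ l, val (linv 4 l) = (val l)⁻¹) (he : val 10 = 1)
    (hR : ∀ r ∈ R ++ RH, evw val r = 1) (hH : ∀ l ∈ HL, val l ∈ H) : TCDone val H π 0 S (ival 0 27) := by
  have T : TCHyp val H 28 π A 4 rules hs := tcHyp_mk env hv pinv (fun r hr => hR r (List.mem_append_left _ hr)) relP hH (seeds_mem hv he hR hH) spec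
  have h0 : Inv val H π 0 D0 K0 := inv_init val H π 0 10
  exact tcRun_fin T h0 run0
end H59.P43L3
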