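import Cfsg.Agent.H57.DPCSpec
import Cfsg.Agent.H98.CharP
import Cfsg.Agent.H1.CoprimeGen

/-! S3275, chapter C+KM, slot A: the case of an `E₉` centralising `K`. -/

set_option autoImplicit false

namespace H59.DpcA

open Subgroup Cfsg H98 H48.DP H57.DPC
open scoped commutatorElement

universe u

theorem not_cyc {G : Type u} [Group G] [Finite G] {U : Subgroup G} (h : IsElementaryAbelian 3 U)
    (h9 : 9 ≤ Nat.card U) : ¬ IsCyclic U := fun hc => by
  have e := hc.exponent_eq_card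
  have : Monoid.exponent U ∣ 3 := Monoid.exponent_dvd_of_forall_pow_eq_one fun g =>
    Subtype.ext (h.2 g g.2)
  have := Nat.le_of_dvd (by norm_num) this
  omega

theorem jobA : JobA.{u} := by
  intro G _ _ hG U K hU h9 hUK hC
  have := hU.1
  have p3 : IsPGroup 3 U := H87.KM.pgrp Nat.prime_three hU
  have U0 : U ≠ ⊥ := fun e => by rw [e, card_bot] at h9; omega
  obtain ⟨⟨w, hw⟩, w1⟩ := (ne_bot_iff_exists_ne_one).1 U0
  have sm := (hC w hw fun e => w1 (Subtype.ext e)).sm
  have inv : ∀ S : Subgroup G, IsPGroup 2 S → U ≤ No S → S ≤ No K := fun S hS h =>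
    H1.le_of_noncyclic_centralizer_le (not_cyc hU h9) h
      (H87.KM.coprime_two Nat.prime_three (by norm_num) p3 hS) _ fun a ha a1 g hg =>
        (hC a ha a1).two g hg.2 (hS.to_le (zpowers_le.2 hg.1))
  have ch : ∀ T : Subgroup G, IsPGroup 2 T → T ≠ ⊥ → H98.CharP 2 (No T) := fun T h1 h2 =>
    charP_iff.2 (hG.2 T h1 h2)
  obtain ⟨t, tK, -, -, t2, -⟩ := sm.four
  obtain ⟨-, -, y, yK, -, -, y3, -⟩ := sm.loc
  have K2 : ¬ IsPGroup 2 K := fun h => by
    obtain ⟨k, e⟩ := h ⟨y, yK⟩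
    have : orderOf y ∣ 2 ^ k := orderOf_dvd_of_pow_eq_one (congrArg Subtype.val e)
    rw [y3] at this
    exact absurd (Nat.prime_three.dvd_of_dvd_pow this) (by norm_num)
  have tp : IsPGroup 2 (zpowers t) := IsPGroup.of_card (n := 1) (by rw [Nat.card_zpowers, t2]; rfl)
  have t0 : zpowers t ≠ ⊥ := fun h1 => by simp [zpowers_eq_bot.1 h1] at t2
  have Ut : U ≤ No (zpowers t) :=
    (hUK.trans (centralizer_le (zpowers_le.2 tK))).trans (centralizer_le_normalizer _)
  set Q := O2 (No (zpowers t)) with hQ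
  have UQ : U ≤ No Q := le_normalizer_pCoreOf_of_le Ut
  have QK : Q ≤ No K := inv Q (isPGroup_pCoreOf _) UQ
  have UC : U ≤ No (Ce K) := hUK.trans le_normalizer
  by_cases h0 : Q ⊓ Ce K = ⊥
  · have : ⁅Q, U⁆ ≤ Q ⊓ Ce K := le_inf (commutator_le_left' UQ)
      ((commutator_mono le_rfl hUK).trans (commutator_le_right' (le_normalizer_centralizer QK)))
    rw [h0, le_bot_iff, commutator_comm, commutator_eq_bot_iff_le_centralizer] at this
    have h2 : IsPGroup 2 U := (isPGroup_pCoreOf _).to_le ((ch _ tp t0).le_pCoreOf Ut this)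
    have := H87.KM.coprime_two Nat.prime_three (by norm_num) p3 h2
    rw [Nat.coprime_self] at this
    omega
  have q0 : IsPGroup 2 ↥(Q ⊓ Ce K) := (isPGroup_pCoreOf _).to_le inf_le_left
  have UN : U ≤ No (Q ⊓ Ce K) := le_normalizer_inf UQ UC
  have KN : K ≤ No (Q ⊓ Ce K) :=
    (le_centralizer_iff.1 (inf_le_right : Q ⊓ Ce K ≤ Ce K)).trans (centralizer_le_normalizer _)
  set R := O2 (No (Q ⊓ Ce K)) with hR
  have KR : K ≤ No R := le_normalizer_pCoreOf_of_le KN
  have RK : R ≤ No K := inv R (isPGroup_pCoreOf _) (le_normalizer_pCoreOf_of_le UN)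
  rcases sm.simple (K ⊓ R) inf_le_left (le_normalizer_inf le_normalizer KR) with h | h
  · have : ⁅K, R⁆ ≤ K ⊓ R := le_inf (commutator_le_left' RK) (commutator_le_right' KR)
    rw [h, le_bot_iff, commutator_eq_bot_iff_le_centralizer] at this
    exact K2 ((isPGroup_pCoreOf _).to_le ((ch _ q0 h0).le_pCoreOf KN this))
  · exact K2 ((isPGroup_pCoreOf _).to_le (h.ge.trans inf_le_right))

end H59.DpcA
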