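/- Tools for Landazuri-Seitz type bounds: eigenspaces of abelian subgroups, Heisenberg bound. -/
import Cfsg.Agent.Base

set_option autoImplicit false

namespace H59

open Module

variable {A G M : Type*} [Group A] [Group G] [AddCommGroup M] [Module ℂ M]

/-- the `χ`-eigenspace of a representation -/
def eigSub (ρ : Representation ℂ A M) (χ : A →* ℂˣ) : Submodule ℂ M where
  carrier := {v | ∀ a, ρ a v = (χ a : ℂ) • v}
  add_mem' := fun {x y} hx hy a => by rw [map_add, hx a, hy a, smul_add]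
  zero_mem' := fun a => by simp
  smul_mem' := fun c x hx a => by rw [map_smul, hx a, smul_comm]

theorem mem_eigSub {ρ : Representation ℂ A M} {χ : A →* ℂˣ} {v : M} :
    v ∈ eigSub ρ χ ↔ ∀ a, ρ a v = (χ a : ℂ) • v := Iff.rfl

theorem mem_eigSub_one {ρ : Representation ℂ A M} {v : M} :
    v ∈ eigSub ρ 1 ↔ ∀ a, ρ a v = v := by simp [mem_eigSub]

theorem sum_char_eq_zero [Fintype A] {χ : A →* ℂˣ} (hχ : χ ≠ 1) : ∑ a, (χ a : ℂ) = 0 :=
  sum_hom_units_eq_zero ((Units.coeHom ℂ).comp χ) fun h => hχ (by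
    ext a
    exact DFunLike.congr_fun h a)

variable [FiniteDimensional ℂ M]

theorem card_mul_finrank_eigSub [Fintype A] (ρ : Representation ℂ A M) (χ : A →* ℂˣ) :
    (Nat.card A : ℂ) * finrank ℂ (eigSub ρ χ) = ∑ a, (χ a⁻¹ : ℂ) * ρ.character a := by
  let ρ' : Representation ℂ A M :=
    { toFun := fun a => (χ a⁻¹ : ℂ) • ρ a
      map_one' := by simp
      map_mul' := fun a b => by
        simp only [mul_inv_rev, map_mul, Units.val_mul, smul_mul_assoc, mul_smul_comm, smul_smul] }
  have h0 : (Nat.card A : ℂ) ≠ 0 := by exact_mod_cast Nat.card_pos.ne'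
  have := invertibleOfNonzero h0
  have h1 : ρ'.invariants = eigSub ρ χ := by
    ext v
    refine forall_congr' fun a => ?_
    change (χ a⁻¹ : ℂ) • ρ a v = v ↔ _
    rw [map_inv, Units.val_inv_eq_inv_val, inv_smul_eq_iff₀ (χ a).ne_zero]
  rw [← h1, ← ρ'.card_inv_mul_sum_char_eq_finrank, mul_inv_cancel_left₀ h0]
  refine Finset.sum_congr rfl fun a _ => ?_
  simp [Representation.character, ρ']

theorem finrank_eq_of_char_const [Finite A] (ρ : Representation ℂ A M) {χ : A →* ℂˣ} (hχ : χ ≠ 1)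
    (hc : ∀ a b, a ≠ 1 → b ≠ 1 → ρ.character a = ρ.character b) :
    finrank ℂ M = finrank ℂ (eigSub ρ 1) + (Nat.card A - 1) * finrank ℂ (eigSub ρ χ) := by
  classical
  have := Fintype.ofFinite A
  obtain ⟨b, hb⟩ : ∃ b : A, b ≠ 1 := by
    by_contra! h
    exact hχ (by ext a; simp [h a])
  have h0 : (Nat.card A : ℂ) ≠ 0 := by exact_mod_cast Nat.card_pos.ne'
  have key : ∀ ψ : A →* ℂˣ, ∑ a, (ψ a⁻¹ : ℂ) * ρ.character a =
      finrank ℂ M + ((∑ a, (ψ a⁻¹ : ℂ)) - 1) * ρ.character b := by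
    intro ψ
    rw [← Finset.add_sum_erase _ _ (Finset.mem_univ 1), ← Finset.add_sum_erase _ _ (Finset.mem_univ 1),
      Finset.sum_congr rfl fun a ha => by rw [hc a b (Finset.ne_of_mem_erase ha) hb],
      ← Finset.sum_mul]
    simp
  have h1 := card_mul_finrank_eigSub ρ 1
  have h2 := card_mul_finrank_eigSub ρ χ
  have h3 : ∑ a, (χ a⁻¹ : ℂ) = 0 := by
    rw [← sum_char_eq_zero hχ]
    exact Equiv.sum_comp (Equiv.inv A) fun a => (χ a : ℂ)
  rw [key] at h1 h2
  rw [h3] at h2
  simp only [MonoidHom.one_apply, Units.val_one, Finset.sum_const, Finset.card_univ, nsmul_eq_mul,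
    mul_one, Fintype.card_eq_nat_card] at h1
  have h4 : 1 ≤ Nat.card A := Nat.card_pos
  apply Nat.cast_injective (R := ℂ)
  push_cast [h4]
  apply mul_left_cancel₀ h0
  linear_combination -h1 - (Nat.card A - 1 : ℂ) * h2

omit [FiniteDimensional ℂ M] in
theorem char_eq_zero_of_conj (ρ : Representation ℂ G M) {y y' t : G} {c : ℂ} (hc : c ≠ 1)
    (ht : ρ t = c • 1) (h : y' * y * y'⁻¹ = y * t) : ρ.character y = 0 := by
  have h1 := ρ.char_conj y y'
  rw [h, Representation.character, map_mul, ht, mul_smul_comm, mul_one, map_smul, smul_eq_mul] at h1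
  have : (c - 1) * ρ.character y = 0 := by rw [sub_mul, one_mul, sub_eq_zero]; exact h1
  exact (mul_eq_zero.1 this).resolve_left (sub_ne_zero.2 hc)

theorem card_le_finrank_sq (ρ : Representation ℂ G M) (hM : 0 < finrank ℂ M) {I : Type*} [Finite I]
    (s : I → G) (h : ∀ i j, i ≠ j → ρ.character ((s i)⁻¹ * s j) = 0) :
    Nat.card I ≤ finrank ℂ M ^ 2 := by
  classical
  have := Fintype.ofFinite I
  have h1 : LinearIndependent ℂ fun i => ρ (s i) := by
    rw [Fintype.linearIndependent_iff]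
    intro c hc i
    have h2 := congrArg (fun f => LinearMap.trace ℂ M (ρ (s i)⁻¹ * f)) hc
    simp only [Finset.mul_sum, mul_smul_comm, ← map_mul, map_sum, map_smul, mul_zero, map_zero,
      smul_eq_mul] at h2
    rw [Finset.sum_eq_single i (fun j _ hj => by
      rw [show LinearMap.trace ℂ M (ρ ((s i)⁻¹ * s j)) = 0 from h i j hj.symm, mul_zero])
      (by simp)] at h2
    simpa [hM.ne'] using h2
  have h3 := h1.fintype_card_le_finrank
  rwa [Module.finrank_linearMap, ← sq, Fintype.card_eq_nat_card] at h3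

theorem exists_fixed_of_char_eq_zero [Finite A] (ρ : Representation ℂ A M) (hM : 0 < finrank ℂ M)
    (h : ∀ a, a ≠ 1 → ρ.character a = 0) : ∃ v, v ≠ 0 ∧ ∀ a, ρ a v = v := by
  classical
  have := Fintype.ofFinite A
  have h1 := card_mul_finrank_eigSub ρ 1
  rw [Finset.sum_eq_single 1 (fun a _ ha => by rw [h a ha, mul_zero]) (by simp)] at h1
  have h2 : eigSub ρ 1 ≠ ⊥ := by
    intro h0
    rw [h0, finrank_bot] at h1
    have h3 : (finrank ℂ M : ℂ) = 0 := by simpa using h1.symm
    exact hM.ne' (by exact_mod_cast h3)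
  obtain ⟨v, hv, hv0⟩ := Submodule.exists_mem_ne_zero_of_ne_bot h2
  exact ⟨v, hv0, mem_eigSub_one.1 hv⟩

omit [FiniteDimensional ℂ M] in
theorem exists_char_ne_one {A : Type*} [CommGroup A] [Finite A] [Nontrivial A] :
    ∃ χ : A →* ℂˣ, χ ≠ 1 := by
  obtain ⟨a, ha⟩ := exists_ne (1 : A)
  have : NeZero (Monoid.exponent A) := ⟨Monoid.exponent_ne_zero_of_finite⟩
  obtain ⟨χ, hχ⟩ := CommGroup.exists_apply_ne_one_of_hasEnoughRootsOfUnity A ℂ ha
  exact ⟨χ, fun h => hχ (by simp [h])⟩

/-- an irreducible representation of degree at least two is not trivial on a generating set -/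
theorem exists_ne_one_of_irreducible (ρ : Representation ℂ G M) [ρ.IsIrreducible]
    (hM : 2 ≤ finrank ℂ M) : ∃ g, ρ g ≠ 1 := by
  by_contra! h
  obtain ⟨v, hv⟩ := finrank_pos_iff_exists_ne_zero.1 (show 0 < finrank ℂ M by omega)
  let W : Subrepresentation ρ := ⟨Submodule.span ℂ {v}, fun g x hx => by simpa [h g] using hx⟩
  rcases eq_bot_or_eq_top W with h1 | h1
  · have : v ∈ W.toSubmodule := Submodule.mem_span_singleton_self v
    rw [h1] at this
    exact hv this
  · have h2 : Submodule.span ℂ {v} = ⊤ := congrArg Subrepresentation.toSubmodule h1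
    have := finrank_span_singleton (K := ℂ) hv
    rw [h2, finrank_top] at this
    omega

end H59
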