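/- The Landazuri-Seitz bound for special unitary groups. -/
import Cfsg.Agent.Base
import Cfsg.Agent.H59.AutCor
import Cfsg.Agent.H59.RepHeis
import Cfsg.Agent.H59.SU

set_option autoImplicit false

namespace H59

open Module

universe u v

variable {F : Type*} [Field F] {σ : F →+* F}

/-- elements of trace zero -/
def tz (σ : F →+* F) : AddSubgroup F where
  carrier := {c | c + σ c = 0}
  add_mem' := fun {a b} ha hb => by
    simp only [Set.mem_ofPred_eq, map_add] at ha hb ⊢
    linear_combination ha + hb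
  zero_mem' := by simp
  neg_mem' := fun {a} ha => by
    simp only [Set.mem_ofPred_eq, map_neg] at ha ⊢
    linear_combination -ha

section

variable {V : Type*} [AddCommGroup V] [Module F V] {B : V →ₛₗ[σ] V →ₗ[F] F}
  [FiniteDimensional F V]

/-- the transvection group parametrised by the elements of trace zero -/
def IsHerm.tvHom (h : IsHerm B) {e : V} (he : B e e = 0) : Multiplicative (tz σ) →* sisom B where
  toFun c := ⟨qref B e c.toAdd.1 (by rw [he, mul_zero, add_zero]; exact c.toAdd.2),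
    axisGrp_le_sisom he (h.qref_mem_axisGrp _ _ _)⟩
  map_one' := by ext x; simp [qref_apply]
  map_mul' a b := by
    ext x
    simp only [qref_apply, toAdd_mul, AddSubgroup.coe_add, Subgroup.coe_mul, LinearEquiv.mul_apply,
      map_add, form_smul_right, he]
    module

theorem IsHerm.tvHom_apply (h : IsHerm B) {e : V} (he : B e e = 0) (c : Multiplicative (tz σ))
    (x : V) : (h.tvHom he c).1 x = x + (c.toAdd.1 * B e x) • e :=
  qref_apply _ _ (by rw [he, mul_zero, add_zero]; exact c.toAdd.2) _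

theorem IsHerm.tvHom_mem (h : IsHerm B) {e : V} (he : B e e = 0) (c : Multiplicative (tz σ)) :
    (h.tvHom he c).1 ∈ axisGrp B e :=
  h.qref_mem_axisGrp _ _ (by rw [he, mul_zero, add_zero]; exact c.toAdd.2)

theorem IsHerm.exists_tvHom_eq (h : IsHerm B) {e : V} (he : B e e = 0) {t : sisom B}
    (ht : t.1 ∈ axisGrp B e) : ∃ c, h.tvHom he c = t := by
  obtain ⟨c, hc, hx⟩ := (h.mem_axisGrp_isotropic he).1 ht
  exact ⟨Multiplicative.ofAdd ⟨c, hc⟩, by ext x; rw [h.tvHom_apply, hx]; rfl⟩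

theorem IsHerm.tvHom_injective (h : IsHerm B) {e : V} (he0 : e ≠ 0) (he : B e e = 0) :
    Function.Injective (h.tvHom he) := by
  rw [injective_iff_map_eq_one]
  intro c hc
  obtain ⟨f, hef, -⟩ := h.exists_partner he he0
  have := h.tvHom_apply he c f
  rw [hc, hef] at this
  ext
  simpa [he0] using this

omit [FiniteDimensional F V] in
theorem IsHerm.exists_conj_eq [Finite F] (h : IsHerm B) {e : V} (he : B e e = 0)
    {t t' : V ≃ₗ[F] V} (ht : t ∈ axisGrp B e) (ht' : t' ∈ axisGrp B e) (h1 : t ≠ 1) (h1' : t' ≠ 1) :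
    ∃ s : F, s ≠ 0 ∧ ∀ k ∈ isom B, k e = s • e → k * t * k⁻¹ = t' := by
  obtain ⟨c, hc, hx⟩ := (h.mem_axisGrp_isotropic he).1 ht
  obtain ⟨c', hc', hx'⟩ := (h.mem_axisGrp_isotropic he).1 ht'
  have h0 : c ≠ 0 := by rintro rfl; exact h1 (by ext x; simp [hx])
  have h0' : c' ≠ 0 := by rintro rfl; exact h1' (by ext x; simp [hx'])
  obtain ⟨s, hs⟩ := exists_norm_eq' h.ne_id h.invol (μ := c' / c) (by
    rw [map_div₀, show σ c' = -c' by linear_combination hc', show σ c = -c by linear_combination hc,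
      neg_div_neg_eq])
  refine ⟨s, by rintro rfl; simp [eq_comm, h0, h0'] at hs, fun k hk hke => ?_⟩
  ext x
  obtain ⟨x, rfl⟩ := k.surjective x
  have h2 := hk e x
  rw [hke, form_smul_left] at h2
  simp only [LinearEquiv.mul_apply, LinearEquiv.coe_inv, LinearEquiv.symm_apply_apply, hx, hx',
    map_add, map_smul, hke, smul_smul, ← h2]
  congr 2
  rw [eq_div_iff h0] at hs
  linear_combination B e (k x) * hs

variable {M : Type*} [AddCommGroup M] [Module ℂ M]

/-- the character is constant on the non-identity elements of every transvection group -/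
def CharConst (ρ : Representation ℂ (sisom B) M) : Prop :=
  ∀ e, B e e = 0 → ∀ t t' : sisom B, t.1 ∈ axisGrp B e → t'.1 ∈ axisGrp B e → t ≠ 1 → t' ≠ 1 →
    ρ.character t = ρ.character t'

theorem IsHerm.charConst [Finite F] (h : IsHerm B) (hV : 3 ≤ finrank F V)
    (ρ : Representation ℂ (sisom B) M) : CharConst ρ := by
  intro e he t t' ht ht' h1 h1'
  have he0 : e ≠ 0 := by
    rintro rfl
    obtain ⟨-, c, hc⟩ := ht
    exact h1 (by ext x; simp [hc])
  obtain ⟨s, hs, hk⟩ := h.exists_conj_eq he ht ht' (fun h => h1 (Subtype.ext h))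
    (fun h => h1' (Subtype.ext h))
  obtain ⟨g, hg, hge⟩ := h.exists_sisom_isotropic hV he0 (smul_ne_zero hs he0) he (by simp [he])
  rw [← ρ.char_conj t ⟨g, hg⟩]
  congr 1
  exact Subtype.ext (hk g hg.1 hge)

variable [FiniteDimensional ℂ M] [Finite F]

theorem IsHyp.exists_heis {e f : V} (H : IsHyp B e f) {ρ : Representation ℂ (sisom B) M}
    (hc : CharConst ρ) (hnt : ∃ t : sisom B, t.1 ∈ axisGrp B e ∧ ρ t ≠ 1) :
    ∃ χ : Multiplicative (tz σ) →* ℂˣ, χ ≠ 1 ∧
      0 < finrank ℂ (eigSub (ρ.comp (H.herm.tvHom H.ee)) χ) ∧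
      finrank ℂ M = finrank ℂ (eigSub (ρ.comp (H.herm.tvHom H.ee)) 1) +
        (Nat.card (tz σ) - 1) * finrank ℂ (eigSub (ρ.comp (H.herm.tvHom H.ee)) χ) ∧
      ∃ ρ' : Representation ℂ ((unipRad B e).subgroupOf (sisom B))
          (eigSub (ρ.comp (H.herm.tvHom H.ee)) χ),
        (∀ y v, (ρ' y v : M) = ρ y v) ∧ ∀ y, H.cu y.1.1 ≠ 0 → ρ'.character y = 0 := by
  have : Nontrivial (tz σ) := by
    obtain ⟨δ, hδ0, hδ⟩ := exists_trace_zero_ne_zero H.herm.ne_id H.herm.invol
    exact ⟨⟨δ, hδ⟩, 0, fun h => hδ0 (congrArg Subtype.val h)⟩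
  obtain ⟨χ, hχ⟩ := exists_char_ne_one (A := Multiplicative (tz σ))
  have hinj := H.herm.tvHom_injective H.e_ne H.ee
  have h1 := finrank_eq_of_char_const (ρ.comp (H.herm.tvHom H.ee)) hχ fun a b ha hb =>
    hc e H.ee _ _ (H.herm.tvHom_mem H.ee a) (H.herm.tvHom_mem H.ee b)
      (fun h => ha (hinj (h.trans (map_one _).symm))) (fun h => hb (hinj (h.trans (map_one _).symm)))
  refine ⟨χ, hχ, ?_, h1, ?_⟩
  · by_contra h0
    rw [show finrank ℂ (eigSub (ρ.comp (H.herm.tvHom H.ee)) χ) = 0 by omega, mul_zero,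
      add_zero] at h1
    have h2 := Submodule.eq_top_of_finrank_eq h1.symm
    obtain ⟨t, ht, ht1⟩ := hnt
    obtain ⟨c, rfl⟩ := H.herm.exists_tvHom_eq H.ee ht
    apply ht1
    ext v
    exact mem_eigSub_one.1 (h2 ▸ Submodule.mem_top : v ∈ eigSub (ρ.comp (H.herm.tvHom H.ee)) 1) c
  have hT : ∀ c, (H.herm.tvHom H.ee c).1 ∈ unipRad B e := fun c =>
    axisGrp_le_unipRad H.ee (H.herm.tvHom_mem H.ee c)
  have hTu : ∀ c, H.cu (H.herm.tvHom H.ee c).1 = 0 := fun c =>
    (H.mem_axisGrp_iff (hT c)).1 (H.herm.tvHom_mem H.ee c)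
  have hcomm : ∀ (y : sisom B), y.1 ∈ unipRad B e → ∀ c,
      H.herm.tvHom H.ee c * y = y * H.herm.tvHom H.ee c := fun y hy c =>
    Subtype.ext ((H.commute_iff (hT c) hy).2 (by simp [hTu]))
  refine ⟨Representation.subrepresentation (ρ.comp (Subgroup.subtype _)) _ fun y v hv c => ?_,
    fun _ _ => rfl, fun y hy => ?_⟩
  · change ρ (H.herm.tvHom H.ee c) (ρ y.1 v) = (χ c : ℂ) • ρ y.1 v
    rw [← Module.End.mul_apply, ← map_mul, hcomm y.1 y.2, map_mul, Module.End.mul_apply, ← map_smul]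
    exact congrArg _ (hv c)
  · obtain ⟨c, hc⟩ : ∃ c, χ c ≠ 1 := by
      by_contra! h
      exact hχ (MonoidHom.ext h)
    obtain ⟨w, hw, -⟩ := (H.herm.isHerm_hypForm H.ee H.ef).exists_ne_zero_ne_zero hy hy
    replace hw : B (H.cu y.1.1) w ≠ 0 := hw
    obtain ⟨s, hs⟩ := exists_sub_eq_of_trace_zero H.herm.ne_id H.herm.invol c.toAdd.2
    obtain ⟨y', hy', hy'u⟩ := H.exists_cu ((s / B (H.cu y.1.1) w) • w)
    refine char_eq_zero_of_conj _ (y' := ⟨y', hy'⟩) (t := ⟨H.herm.tvHom H.ee c, hT c⟩) (c := χ c)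
      (by simpa using hc) ?_ ?_
    · ext v
      exact v.2 c
    · rw [mul_inv_eq_iff_eq_mul]
      refine Subtype.ext (Subtype.ext ?_)
      have hy2 : y.1.1 ∈ unipRad B e := y.2
      have h3 : H.ca (H.herm.tvHom H.ee c).1 = -c.toAdd.1 :=
        H.ca_eq (u := 0) (by simp [H.herm.tvHom_apply, H.ef])
      have h4 : B (H.cu y.1.1) (H.cu y'.1) = s := by
        rw [hy'u, Submodule.coe_smul, form_smul_right, div_mul_cancel₀ _ hw]
      refine H.ext (Subgroup.mul_mem _ hy' hy2)
        (Subgroup.mul_mem _ (Subgroup.mul_mem _ hy2 (hT c)) hy') ?_ ?_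
      · simp only [Subgroup.coe_mul, H.cu_mul hy' hy2, H.cu_mul (Subgroup.mul_mem _ hy2 (hT c)) hy',
          H.cu_mul hy2 (hT c), hTu]
        abel
      · simp only [Subgroup.coe_mul, H.ca_mul hy' hy2, H.ca_mul (Subgroup.mul_mem _ hy2 (hT c)) hy',
          H.ca_mul hy2 (hT c), H.cu_mul hy2 (hT c), hTu, h3, add_zero, h4, Submodule.coe_zero,
          map_zero, ← H.herm.symm (H.cu y.1.1 : V) (H.cu y'.1)]
        linear_combination -hs

theorem IsHyp.exists_good_pair {e f : V} (H : IsHyp B e f) {ρ : Representation ℂ (sisom B) M}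
    (hc : CharConst ρ) (hnt : ∃ t : sisom B, t.1 ∈ axisGrp B e ∧ ρ t ≠ 1) {x : hypPerp B e f}
    (hx0 : x ≠ 0) (hx : B x x = 0) :
    ∃ y, B y y = 0 ∧ B e y = 0 ∧ y ∉ Submodule.span F {e} ∧ ∃ v : M,
      (∀ t : sisom B, t.1 ∈ axisGrp B y → ρ t v = v) ∧
      ∃ t : sisom B, t.1 ∈ axisGrp B e ∧ ρ t v ≠ v := by
  classical
  have := Fintype.ofFinite F
  obtain ⟨χ, hχ, hpos, -, ρ', hρ', h0⟩ := H.exists_heis hc hnt
  let E : Subgroup ((unipRad B e).subgroupOf (sisom B)) :=
    { carrier := {g | ∃ z : F, g.1.1 f = f - z • x.1}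
      mul_mem' := by
        rintro a b ⟨z, hz⟩ ⟨z', hz'⟩
        refine ⟨z + z', ?_⟩
        have h1 := H.cu_eq (u := z • x) (a := 0) (by simpa using hz)
        have h2 := H.ca_eq (u := z • x) (a := 0) (by simpa using hz)
        have h3 := H.cu_eq (u := z' • x) (a := 0) (by simpa using hz')
        have h4 := H.ca_eq (u := z' • x) (a := 0) (by simpa using hz')
        have := H.mul_apply_f (show a.1.1 ∈ unipRad B e from a.2) (show b.1.1 ∈ unipRad B e from b.2)
        rw [h1, h2, h3, h4] at this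
        simpa [hx, add_smul] using this
      one_mem' := ⟨0, by simp⟩
      inv_mem' := by
        rintro a ⟨z, hz⟩
        refine ⟨-z, ?_⟩
        have h1 := H.cu_eq (u := z • x) (a := 0) (by simpa using hz)
        have h5 := H.apply_eq (show a.1.1 ∈ unipRad B e from a.2) x
        rw [h1] at h5
        simp only [Subgroup.coe_inv, LinearEquiv.coe_inv, LinearEquiv.symm_apply_eq, map_sub,
          map_smul, hz, h5]
        simp [hx, IsHyp.ew] }
  obtain ⟨v, hv0, hv⟩ := exists_fixed_of_char_eq_zero (ρ'.comp E.subtype) hpos fun a ha => by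
    refine h0 a.1 fun h' => ha ?_
    obtain ⟨z, hz⟩ := a.2
    have h2 := H.ca_eq (u := z • x) (a := 0) (by simpa using hz)
    refine Subtype.ext (Subtype.ext (Subtype.ext (H.ext a.1.2 (Subgroup.one_mem _) ?_ ?_)))
    · rw [h']; exact (H.cu_eq (u := 0) (a := 0) (by simp)).symm
    · rw [h2]; exact (H.ca_eq (u := 0) (a := 0) (by simp)).symm
  by_contra! hcon
  obtain ⟨δ, hδ0, hδ⟩ := exists_trace_zero_ne_zero H.herm.ne_id H.herm.invol
  have hxe := H.we x
  have hex := IsHyp.ew x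
  have hxf := H.wf x
  have hδ' : σ δ = -δ := by linear_combination hδ
  have hneg : ∀ c : tz σ, σ c.1 = -c.1 := fun c => by
    have h : c.1 + σ c.1 = 0 := c.2
    linear_combination h
  have hfix : ∀ c : tz σ, σ (c.1 / δ) = c.1 / δ := fun c => by
    rw [map_div₀, hδ', hneg, neg_div_neg_eq]
  let m : tz σ → tz σ → tz σ := fun c' c => ⟨c'.1 / δ * c.1, by
    change _ + σ _ = 0
    rw [map_mul, hfix, ← mul_add, (c.2 : c.1 + σ c.1 = 0), mul_zero]⟩
  have key : ∀ c' : tz σ, ∑ c : tz σ, (χ (Multiplicative.ofAdd (m c' c)) : ℂ) •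
      ρ (H.herm.tvHom hx (Multiplicative.ofAdd c)) v = 0 := by
    intro c'
    obtain ⟨a, ha⟩ := exists_norm_eq' H.herm.ne_id H.herm.invol (hfix c')
    have hy : B (a • e + x) (a • e + x) = 0 := by simp [H.ee, hx, hxe, hex]
    have h1 : ∀ c : tz σ, ρ (H.herm.tvHom hy (Multiplicative.ofAdd c)) v =
        (χ (Multiplicative.ofAdd (m c' c)) : ℂ) • ρ (H.herm.tvHom hx (Multiplicative.ofAdd c)) v := by
      intro c
      obtain ⟨g, hg, hgu, hga⟩ := H.exists_cu_ca ((-(c.1 * σ a)) • x) (a := 0) (by simp [hx])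
      have h2 : H.herm.tvHom hy (Multiplicative.ofAdd c) = H.herm.tvHom hx (Multiplicative.ofAdd c) *
          H.herm.tvHom H.ee (Multiplicative.ofAdd (m c' c)) * g := by
        ext w
        have h3 : σ c.1 = -c.1 := hneg c
        simp only [Subgroup.coe_mul, LinearEquiv.mul_apply, IsHerm.tvHom_apply, H.apply_eq hg, hgu,
          hga, toAdd_ofAdd, m, Submodule.coe_smul, map_add, map_sub, LinearMap.add_apply,
          form_smul_left, form_smul_right, H.ee, hx, hxe, hex, map_neg, map_mul, H.herm.invol, h3,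
          ← ha]
        module
      have h4 : ρ g v = v := by
        have := congrArg Subtype.val (hv ⟨⟨g, hg⟩, -(c.1 * σ a), by
          rw [H.apply_f hg, hgu, hga]; simp⟩)
        exact (hρ' ⟨g, hg⟩ v).symm.trans this
      rw [h2, map_mul, map_mul, Module.End.mul_apply, Module.End.mul_apply, h4, ← map_smul]
      exact congrArg _ (v.2 _)
    set w := ∑ c : tz σ, ρ (H.herm.tvHom hy (Multiplicative.ofAdd c)) v with hw
    have h5 : ∀ t : sisom B, t.1 ∈ axisGrp B (a • e + x) → ρ t w = w := by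
      intro t ht
      obtain ⟨d, rfl⟩ := H.herm.exists_tvHom_eq hy ht
      rw [hw, map_sum]
      simp only [← Module.End.mul_apply, ← map_mul]
      exact Equiv.sum_comp (Equiv.addLeft d.toAdd)
        fun c => ρ (H.herm.tvHom hy (Multiplicative.ofAdd c)) v
    have h6 := hcon (a • e + x) hy (by simp [H.ee, hex]) (fun h' => by
      obtain ⟨b, hb⟩ := Submodule.mem_span_singleton.1 h'
      have := congrArg H.proj hb
      simp [H.proj_e, H.proj_coe, hx0.symm] at this) w h5
    obtain ⟨c, hc⟩ : ∃ c, χ c ≠ 1 := by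
      by_contra! h
      exact hχ (MonoidHom.ext h)
    have h7 : ρ (H.herm.tvHom H.ee c) w = (χ c : ℂ) • w := by
      rw [hw, map_sum, Finset.smul_sum]
      refine Finset.sum_congr rfl fun d _ => ?_
      have h8 : H.herm.tvHom H.ee c * H.herm.tvHom hy (Multiplicative.ofAdd d) =
          H.herm.tvHom hy (Multiplicative.ofAdd d) * H.herm.tvHom H.ee c := by
        ext w
        simp only [Subgroup.coe_mul, LinearEquiv.mul_apply, IsHerm.tvHom_apply, map_add,
          LinearMap.add_apply, form_smul_left, form_smul_right, H.ee, hxe, hex]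
        module
      rw [← Module.End.mul_apply, ← map_mul, h8, map_mul, Module.End.mul_apply, ← map_smul]
      exact congrArg _ (v.2 c)
    rw [h6 _ (H.herm.tvHom_mem H.ee c)] at h7
    have h9 : ((χ c : ℂ) - 1) • w = 0 := by rw [sub_smul, ← h7, one_smul, sub_self]
    rw [← Finset.sum_congr rfl fun c _ => h1 c]
    exact (smul_eq_zero.1 h9).resolve_left (sub_ne_zero.2 (by simpa using hc))
  have h10 := Finset.sum_eq_zero (s := Finset.univ) fun c' _ => key c'
  rw [Finset.sum_comm, Finset.sum_eq_single 0 (fun c _ hc0 => ?_) (by simp)] at h10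
  · have h11 : ∀ c', m c' 0 = 0 := fun c' => Subtype.ext (by simp [m])
    simp only [h11, ofAdd_zero, map_one, Units.val_one, one_smul, Module.End.one_apply,
      Finset.sum_const, Finset.card_univ] at h10
    rw [← Nat.cast_smul_eq_nsmul ℂ] at h10
    exact hv0 (Subtype.ext ((smul_eq_zero.1 h10).resolve_left (by simp)))
  · rw [← Finset.sum_smul]
    have h12 : Function.Bijective fun c' => Multiplicative.ofAdd (m c' c) := by
      refine Multiplicative.ofAdd.bijective.comp (f := fun c' => m c' c)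
        (Finite.injective_iff_bijective.1 fun a b hab => Subtype.ext ?_)
      have h13 : a.1 / δ * c.1 = b.1 / δ * c.1 := congrArg (fun z => z.1) hab
      have h14 : c.1 ≠ 0 := fun h => hc0 (Subtype.ext h)
      field_simp at h13
      exact h13
    rw [h12.sum_comp fun a => (χ a : ℂ), sum_char_eq_zero hχ, zero_smul]

end

/-- the Landazuri-Seitz bound -/
def lsD (q : ℕ) : ℕ → ℕ
  | 0 => 0
  | 1 => 0
  | n + 2 => (q - 1) * q ^ n + lsD q n

theorem lsD_odd {q : ℕ} (hq : 1 ≤ q) (k : ℕ) : (q + 1) * lsD q (2 * k + 1) + q = q ^ (2 * k + 1) := by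
  obtain ⟨r, rfl⟩ := Nat.exists_eq_add_of_le' hq
  induction k with
  | zero => simp [lsD]
  | succ k ih =>
    rw [show 2 * (k + 1) + 1 = 2 * k + 1 + 2 by ring, lsD, mul_add, add_assoc, ih]
    simp only [Nat.add_sub_cancel]
    ring

theorem lsD_even {q : ℕ} (hq : 1 ≤ q) (k : ℕ) : (q + 1) * lsD q (2 * k) + 1 = q ^ (2 * k) := by
  obtain ⟨r, rfl⟩ := Nat.exists_eq_add_of_le' hq
  induction k with
  | zero => simp [lsD]
  | succ k ih =>
    rw [show 2 * (k + 1) = 2 * k + 2 by ring, lsD, mul_add, add_assoc, ih]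
    simp only [Nat.add_sub_cancel]
    ring

theorem ls_bound [Fintype F] {q : ℕ} (hF : Fintype.card F = q ^ 2) (n : ℕ) :
    ∀ {V : Type u} [AddCommGroup V] [Module F V] [FiniteDimensional F V]
      {B : V →ₛₗ[frob hF] V →ₗ[F] F}, IsHerm B → finrank F V = n →
      ∀ {M : Type v} [AddCommGroup M] [Module ℂ M] [FiniteDimensional ℂ M]
        (ρ : Representation ℂ (sisom B) M), CharConst ρ →
        (∃ e, B e e = 0 ∧ ∃ t : sisom B, t.1 ∈ axisGrp B e ∧ ρ t ≠ 1) → lsD q n ≤ finrank ℂ M := by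
  induction n using Nat.twoStepInduction with
  | zero => intros; exact Nat.zero_le _
  | one => intros; exact Nat.zero_le _
  | more n ih _ =>
    intro V _ _ _ B h hn M _ _ _ ρ hc ⟨e, he, hnt⟩
    have hcard : Nat.card (tz (frob hF)) = q := card_trace_eq hF (c := 0) (by
      rw [zero_pow (by have := two_le_q hF; omega)])
    have step : ∀ {e f : V} (H : IsHyp B e f), (∃ t : sisom B, t.1 ∈ axisGrp B e ∧ ρ t ≠ 1) →
        (q - 1) * q ^ n + finrank ℂ (eigSub (ρ.comp (H.herm.tvHom H.ee)) 1) ≤ finrank ℂ M := by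
      intro e f H hnt
      obtain ⟨χ, -, hpos, h1, ρ', -, h0⟩ := H.exists_heis hc hnt
      choose E hE hE' using H.exists_cu
      have : Finite (hypPerp B e f) := Module.finite_of_finite F
      have h2 := card_le_finrank_sq ρ' hpos (fun u => ⟨E u, hE u⟩) fun i j hij => h0 _ fun h' => by
        have h3 := H.cu_mul (hE i) (Subgroup.mul_mem _ (Subgroup.inv_mem _ (hE i)) (hE j))
        rw [mul_inv_cancel_left, hE', hE'] at h3
        change H.cu ((E i).1⁻¹ * (E j).1) = 0 at h'
        rw [h', add_zero] at h3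
        exact hij h3.symm
      have h4 := h.finrank_hypPerp H.ee H.ef
      rw [Module.natCard_eq_pow_finrank (K := F), Nat.card_eq_fintype_card, hF,
        show finrank F (hypPerp B e f) = n by omega, ← pow_mul, mul_comm, pow_mul] at h2
      rw [h1, hcard, add_comm]
      exact Nat.add_le_add_left (Nat.mul_le_mul_left _ ((Nat.pow_le_pow_iff_left two_ne_zero).1 h2)) _
    have he0 : e ≠ 0 := by
      rintro rfl
      obtain ⟨t, ⟨-, c, hc⟩, ht1⟩ := hnt
      exact ht1 (by rw [show t = 1 by ext x; simp [hc], map_one])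
    obtain ⟨f, hef, hf⟩ := h.exists_partner he he0
    have H : IsHyp B e f := ⟨h, he, hf, hef⟩
    by_cases hn2 : n < 2
    · refine le_trans ?_ (step H hnt)
      have : lsD q n = 0 := by interval_cases n <;> rfl
      simp [lsD, this]
    have h4 := h.finrank_hypPerp H.ee H.ef
    obtain ⟨x, -, hx0, hx⟩ := (h.isHerm_hypForm he hef).exists_isotropic_mem (W := ⊤)
      (by simp; omega)
    obtain ⟨y, hy, hey, hye, v, hv, t, ht, htv⟩ := H.exists_good_pair hc hnt hx0 hx
    have hy0 : y ≠ 0 := by rintro rfl; simp at hye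
    obtain ⟨f', hf1, hf2, hf3⟩ := h.exists_partner_perp hy hye (mem_perp_singleton.2 hey)
    have H' : IsHyp B y f' := ⟨h, hy, hf3, hf2⟩
    have hnt' : ∃ t : sisom B, t.1 ∈ axisGrp B y ∧ ρ t ≠ 1 := by
      obtain ⟨g, hg, hge⟩ := h.exists_sisom_isotropic (by omega) he0 hy0 he hy
      obtain ⟨t, ht, ht1⟩ := hnt
      refine ⟨⟨g, hg⟩ * t * ⟨g, hg⟩⁻¹, hge ▸ conj_mem_axisGrp hg.1 ht, fun h' => ht1 ?_⟩
      have : t = ⟨g, hg⟩⁻¹ * (⟨g, hg⟩ * t * ⟨g, hg⟩⁻¹) * ⟨g, hg⟩ := by group
      rw [this, map_mul, map_mul, h', mul_one, ← map_mul, inv_mul_cancel, map_one]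
    refine le_trans (Nat.add_le_add_left ?_ _) (step H' hnt')
    have hW := h.disjoint_span_hyp hy (f := f') (by simp [hf2])
    let St : Subgroup (sisom B) := (stabSub (Submodule.span F {y})).subgroupOf (sisom B)
    have hSt : ∀ g : sisom B, g ∈ St ↔ ∃ a : F, a • y = g.1 y := fun g => by
      rw [Subgroup.mem_subgroupOf, mem_stabSub_iff_mapsTo, ← Submodule.mem_span_singleton]
      refine ⟨fun h' => h' y (Submodule.mem_span_singleton_self y), fun h' x hx => ?_⟩
      obtain ⟨b, rfl⟩ := Submodule.mem_span_singleton.1 hx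
      rw [map_smul]
      exact Submodule.smul_mem _ _ h'
    let ρ' : Representation ℂ St (eigSub (ρ.comp (H'.herm.tvHom H'.ee)) 1) :=
      Representation.subrepresentation (ρ.comp St.subtype) _ fun g w hw => mem_eigSub_one.2 fun c => by
        obtain ⟨a, ha⟩ := (hSt _).1 (St.inv_mem g.2)
        have ha0 : a ≠ 0 := by
          rintro rfl
          rw [zero_smul, eq_comm, LinearEquiv.map_eq_zero_iff] at ha
          exact hy0 ha
        have h5 := conj_mem_axisGrp (g.1⁻¹).2.1 (h.tvHom_mem hy c)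
        rw [← ha, axisGrp_smul _ ha0] at h5
        obtain ⟨d, hd⟩ := h.exists_tvHom_eq hy (t := g.1⁻¹ * h.tvHom hy c * g.1⁻¹⁻¹) h5
        change ρ (h.tvHom hy c) (ρ g.1 w) = ρ g.1 w
        have h6 : h.tvHom hy c * g.1 = g.1 * h.tvHom hy d := by rw [hd]; group
        rw [← Module.End.mul_apply, ← map_mul, h6, map_mul, Module.End.mul_apply]
        exact congrArg _ (mem_eigSub_one.1 hw d)
    have hfix : ∀ k : isom (hypForm B y f'), ∀ x ∈ Submodule.span F {y, f'},
        (h.extPerp hW k).1 x = x := fun k => (h.mem_range_extPerp hW _).1 ⟨_, rfl⟩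
    let ι₀ : sisom (hypForm B y f') →* sisom B :=
      (((isom B).subtype.comp (h.extPerp hW)).comp (Subgroup.inclusion sisom_le_isom)).codRestrict _
        fun g => ⟨(h.extPerp hW _).2, (h.det_extPerp hW _).trans g.2.2⟩
    have hι₀ : ∀ g (w : hypPerp B y f'), (ι₀ g).1 w = g.1 w := fun g w =>
      sumHom_apply_right (h.isCompl_perp hW) (1, g.1) w
    have hιy : ∀ g, (ι₀ g).1 y = y := fun g => hfix _ y (Submodule.subset_span (by simp))
    have hιf : ∀ g, (ι₀ g).1 f' = f' := fun g => hfix _ f' (Submodule.subset_span (by simp))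
    have hιT : ∀ (z : hypPerp B y f') (g : sisom (hypForm B y f')) (c : F),
        (∀ w, g.1 w = w + (c * hypForm B y f' z w) • z) →
        ∀ w, (ι₀ g).1 w = w + (c * B z w) • (z : V) := by
      intro z g c hc w
      have h7 : B z (H'.proj w) = B z w := by simp [H'.coe_proj, H'.we, H'.wf]
      conv_lhs => rw [H'.decomp w, map_add, map_add, map_smul, map_smul, hιy, hιf, hι₀, hc]
      rw [Submodule.coe_add, ← add_assoc, ← H'.decomp w, ← h7]
      rfl
    let ι : sisom (hypForm B y f') →* St := ι₀.codRestrict _ fun g =>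
      (hSt _).2 ⟨1, by rw [hιy, one_smul]⟩
    have hW' := h.isHerm_hypForm hy hf2
    have h8 := h.finrank_hypPerp hy hf2
    refine ih hW' (by omega) (ρ'.comp ι) (fun z hz s s' hs hs' h1 h1' => ?_) ?_
    · have hz0 : z ≠ 0 := by
        rintro rfl
        obtain ⟨-, c, hc⟩ := hs
        exact h1 (by ext x; simp [hc])
      have hinj : Function.Injective ι₀ := fun a b hab => by
        ext w
        rw [← hι₀, ← hι₀, hab]
      obtain ⟨r, hr, hk⟩ := h.exists_conj_eq (e := z) hz (t := (ι₀ s).1) (t' := (ι₀ s').1)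
        ⟨(ι₀ s).2.1, hs.2.imp (hιT z s)⟩ ⟨(ι₀ s').2.1, hs'.2.imp (hιT z s')⟩
        (fun h' => h1 (hinj ((Subtype.ext h').trans (map_one _).symm)))
        (fun h' => h1' (hinj ((Subtype.ext h').trans (map_one _).symm)))
      obtain ⟨k, hk1, hk2⟩ := hW'.witt_one hz0 (smul_ne_zero hr hz0) (w := r • z)
        (by rw [hz, form_smul_left, form_smul_right, hz]; simp)
      obtain ⟨a, -, l, hl, hly, -, hlw⟩ := h.exists_levi' hy hf3 hf2 hk1
      change ρ'.character (ι s) = ρ'.character (ι s')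
      rw [← ρ'.char_conj (ι s) ⟨⟨l, hl⟩, (hSt _).2 ⟨a, hly.symm⟩⟩]
      congr 1
      exact Subtype.ext (Subtype.ext (hk l hl.1 (by rw [hlw, hk2]; rfl)))
    · let z : hypPerp B y f' := ⟨e, mem_perp_pair.2 ⟨h.eq_zero_comm.1 hey,
        h.eq_zero_comm.1 (mem_perp_singleton.1 hf1)⟩⟩
      obtain ⟨c, rfl⟩ := h.exists_tvHom_eq he ht
      refine ⟨z, he, hW'.tvHom (e := z) he c, hW'.tvHom_mem _ c, fun h' => htv ?_⟩
      have h9 : ι₀ (hW'.tvHom (e := z) he c) = h.tvHom he c := by
        ext w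
        rw [hιT z _ _ (hW'.tvHom_apply (e := z) he c), h.tvHom_apply]
      have h10 := congrArg (fun φ => (φ ⟨v, mem_eigSub_one.2 fun d => hv _ (h.tvHom_mem hy d)⟩).1) h'
      rw [← h9]
      exact h10

theorem ls_bound_SU [Fintype F] {q n : ℕ} (hF : Fintype.card F = q ^ 2) (hn : 3 ≤ n)
    (h32 : ¬ (n = 3 ∧ q = 2)) {M : Type v} [AddCommGroup M] [Module ℂ M] [FiniteDimensional ℂ M]
    (ρ : Representation ℂ (Cfsg.SU n F q) M) (hρ : ∃ g, ρ g ≠ 1) : lsD q n ≤ finrank ℂ M := by
  have h := isHerm_uForm hF n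
  refine ls_bound hF n h (by simp) (ρ.comp (suEquiv hF n).symm.toMonoidHom)
    (h.charConst (by simpa using hn) _) ?_
  by_contra! hcon
  obtain ⟨g, hg⟩ := hρ
  obtain ⟨⟨g, hg'⟩, rfl⟩ := (suEquiv hF n).symm.surjective g
  apply hg
  have h1 : tgrp (uForm hF n) ≤ (ρ.comp (suEquiv hF n).symm.toMonoidHom).toHomUnits.ker.map
      (sisom _).subtype := by
    refine (Subgroup.closure_le _).2 ?_
    rintro x ⟨e, he, hx⟩
    refine ⟨⟨x, axisGrp_le_sisom he hx⟩, ?_, rfl⟩
    exact Units.ext (hcon e he ⟨x, axisGrp_le_sisom he hx⟩ hx)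
  obtain ⟨g', hg1, rfl⟩ := h1 ((tgrp_uForm hF h32).symm ▸ hg')
  exact congrArg Units.val hg1

end H59
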