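/- D8 tower: outer involutions of `L₅(2)` and `U₅(2)` (jobs IL and IU). -/
import Cfsg.Agent.H49.D8Spec
import Cfsg.Agent.H59.AutMat
import Cfsg.Agent.H57.PslAutTwo
import Cfsg.Agent.H57.SLCard
import Cfsg.Agent.H55.Basic

set_option autoImplicit false

namespace H59.D8
open Cfsg Matrix Subgroup H49.D8
open scoped MatrixGroups

universe u

theorem exists_conj_zpow {H : Type*} [Group H] [Finite H] {p : ℕ} [hp : Fact p.Prime]
    (h : ¬ p ^ 2 ∣ Nat.card H) {x y : H} (hx : orderOf x = p) (hy : orderOf y = p) :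
    ∃ (g : H) (k : ℤ), x = g * y ^ k * g⁻¹ := by
  obtain ⟨P, hP⟩ := (IsPGroup.of_card (n := 1) (G := zpowers x)
    (by rw [Nat.card_zpowers, hx, pow_one])).exists_le_sylow
  obtain ⟨Q, hQ⟩ := (IsPGroup.of_card (n := 1) (G := zpowers y)
    (by rw [Nat.card_zpowers, hy, pow_one])).exists_le_sylow
  obtain ⟨g, rfl⟩ := MulAction.exists_smul_eq H Q P
  obtain ⟨n, hn⟩ := IsPGroup.iff_card.1 Q.2
  have h1 : n ≤ 1 := by_contra fun r =>
    h ((pow_dvd_pow p (by omega)).trans (hn ▸ card_subgroup_dvd_card _))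
  have h2 : zpowers y = Q := eq_of_le_of_card_ge hQ (by
    rw [hn, Nat.card_zpowers, hy]; simpa using Nat.pow_le_pow_right hp.out.pos h1)
  obtain ⟨z, hz, e⟩ := hP (mem_zpowers x)
  obtain ⟨k, rfl⟩ := h2.ge hz
  exact ⟨g, k, e.symm⟩

theorem setup {G : Type u} [Group G] {X : Subgroup G} {t : G} (a : AS X t) (o : orderOf t = 2)
    (n : t ∉ X) {H : Type*} [Group H] (e : X ≃* H) : ∃ β : MulAut H, (∀ y, β ≠ MulAut.conj y) ∧
      ∀ x : G, x * t = t * x → Odd (orderOf x) → ∃ y : H, orderOf y = orderOf x ∧ β y = y := by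
  have := a.normal
  refine ⟨(e.symm.trans (MulAut.conjNormal t)).trans e, fun y hy => n ?_, fun x hx ho => ?_⟩
  · have : ((e.symm y : X) : G)⁻¹ * t ∈ H1.Gold.cen X := fun z hz => by
      have h1 := congrArg (fun b : MulAut H => ((e.symm (b (e ⟨z, hz⟩)) : X) : G)) hy
      simp only [MulEquiv.trans_apply, MulEquiv.symm_apply_apply, MulAut.conjNormal_apply,
        MulAut.conj_apply, map_mul, map_inv, coe_mul, coe_inv] at h1
      rw [mul_assoc, eq_inv_mul_iff_mul_eq, ← mul_assoc, ← mul_assoc, ← h1, inv_mul_cancel_right]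
    rw [a.cen, mem_bot, inv_mul_eq_one] at this
    exact this ▸ (e.symm y).2
  have hX : x ∈ X := by
    obtain ⟨b, hb, _, ⟨k, rfl⟩, rfl⟩ := mem_sup_of_normal_left.1 (a.sup.ge (mem_top x))
    rw [← QuotientGroup.eq_one_iff, ← orderOf_eq_one_iff]
    refine Nat.eq_one_of_dvd_coprimes (Nat.coprime_two_left.2 ho) (orderOf_dvd_of_pow_eq_one ?_)
      (orderOf_map_dvd (QuotientGroup.mk' X) _)
    rw [QuotientGroup.mk_mul, (QuotientGroup.eq_one_iff b).2 hb, one_mul, ← QuotientGroup.mk_pow,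
      ← zpow_natCast, ← _root_.zpow_mul, mul_comm, _root_.zpow_mul, zpow_natCast, ← o,
      pow_orderOf_eq_one, _root_.one_zpow, QuotientGroup.mk_one]
  refine ⟨e ⟨x, hX⟩, by rw [MulEquiv.orderOf_eq, orderOf_mk], ?_⟩
  simp only [MulEquiv.trans_apply, MulEquiv.symm_apply_apply, EmbeddingLike.apply_eq_iff_eq]
  exact Subtype.ext (by rw [MulAut.conjNormal_apply, ← hx, mul_inv_cancel_right])

theorem mk_inj {H : Type*} [Group H] (h : center H = ⊥) :
    Function.Injective (QuotientGroup.mk' (center H)) := by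
  rwa [← MonoidHom.ker_eq_bot_iff, QuotientGroup.ker_mk']

theorem exists_toGL {F : Type*} [Field F] {n : ℕ} (g : GL (Fin n) F)
    (h : (g : Matrix (Fin n) (Fin n) F).det = 1) :
    ∃ c : SL(n, F), Matrix.SpecialLinearGroup.toGL c = g := ⟨⟨g, h⟩, Units.ext rfl⟩

theorem conj_aux {H : Type*} [Group H] {s c : H} (k : ℤ) (h : s ^ 15 = 1) :
    c * s ^ 5 * c⁻¹ * (c * (s ^ 3) ^ k * c⁻¹) = c * (s ^ 3) ^ k * c⁻¹ * (c * s ^ 5 * c⁻¹) ∧
      (c * s ^ 5 * c⁻¹) ^ 3 = 1 :=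
  ⟨by group, by rw [conj_pow, ← pow_mul, h, mul_one, mul_inv_cancel]⟩

theorem trace_su {F : Type*} [Field F] {n q : ℕ} (c z : SU n F q) :
    (c * z * c⁻¹).1.1.trace = z.1.1.trace := by
  rw [show (c * z * c⁻¹).1.1 = (c * z).1.1 * (c⁻¹).1.1 from rfl, trace_mul_comm,
    show (c⁻¹).1.1 * (c * z).1.1 = (c⁻¹ * (c * z)).1.1 from rfl, inv_mul_cancel_left]

/-- An element of order seven. -/
def m7 : Matrix (Fin 5) (Fin 5) (ZMod 2) :=
  !![0, 0, 1, 0, 0; 1, 0, 1, 0, 0; 0, 1, 0, 0, 0; 0, 0, 0, 1, 0; 0, 0, 0, 0, 1]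

theorem m7_pow : m7 ^ 7 = 1 := by decide +kernel

/-- An element of order seven of `SL₅(2)`. -/
def x7 : SL(5, ZMod 2) := ⟨m7, (by decide : ∀ a : ZMod 2, a ^ 7 = 1 → a = 1) _
  (by rw [← det_pow, m7_pow, det_one])⟩

theorem jobIL : JobIL.{u} := by
  rintro G _ _ X t a o n ⟨F, _, _, hF, ⟨e⟩⟩ h7
  have : Fact (Nat.Prime 7) := ⟨by norm_num⟩
  obtain ⟨β, h1, h2⟩ := setup a o n (e.trans (H55.pslCongr
    (FiniteField.ringEquivOfCardEq (K' := ZMod 2) (by rw [hF, ZMod.card]))))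
  obtain ⟨x, hx⟩ := exists_prime_orderOf_dvd_card' 7 h7
  rw [← orderOf_coe] at hx
  obtain ⟨y, hy, e1⟩ := h2 x (mem_centralizer_singleton_iff.1 x.2) (by rw [hx]; decide)
  obtain ⟨s, rfl⟩ := QuotientGroup.mk_surjective y
  have hc := mk_inj (H := SL(5, ZMod 2)) (eq_bot_iff.2 fun z hz => by
    obtain ⟨r, hr, e⟩ := Matrix.SpecialLinearGroup.mem_center_iff.1 hz
    rw [(by decide : ∀ a : ZMod 2, a ^ Fintype.card (Fin 5) = 1 → a = 1) r hr, map_one] at e
    exact Subtype.ext e.symm)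
  have hs : orderOf s = 7 := (orderOf_injective _ hc s).symm.trans (hy.trans hx)
  have h7' : x7 ^ 7 = 1 := Subtype.ext m7_pow
  obtain ⟨g, σ, rfl | ⟨-, rfl⟩⟩ := H57.psl_aut β <;> rw [Subsingleton.elim σ 1, map_one, mul_one] at *
  · obtain ⟨c, rfl⟩ := exists_toGL g
      ((by decide : ∀ a : ZMod 2, a ≠ 0 → a = 1) _ (Matrix.GeneralLinearGroup.det_ne_zero g))
    exact h1 _ (H57.pslDiag_toGL c)
  have e2 : (s : Matrix (Fin 5) (Fin 5) (ZMod 2)).trace =
      ((s⁻¹ : SL(5, ZMod 2)) : Matrix (Fin 5) (Fin 5) (ZMod 2)).trace := by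
    have e0 : H57.slDiag _ _ g (H57.slGraph _ _ s) = s := hc e1
    conv_lhs => rw [← e0]
    rw [H57.slDiag_coe, trace_units_conj, H57.slGraph_coe, trace_transpose]
  obtain ⟨c, k, rfl⟩ := exists_conj_zpow (p := 7) (by
    rw [H57.card_sl_fin_eq, ZMod.card]; decide) hs
    (orderOf_eq_prime h7' fun e => absurd (congrArg Subtype.val e : m7 = 1) (by decide))
  have tr : ∀ z : SL(5, ZMod 2), ((c * z * c⁻¹ : SL(5, ZMod 2)) : Matrix (Fin 5) (Fin 5) (ZMod 2)).trace =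
      (z : Matrix (Fin 5) (Fin 5) (ZMod 2)).trace := fun z => by
    rw [Matrix.SpecialLinearGroup.coe_mul, trace_mul_comm, ← Matrix.SpecialLinearGroup.coe_mul,
      inv_mul_cancel_left]
  obtain ⟨j, hj⟩ := Int.eq_ofNat_of_zero_le (Int.emod_nonneg k (b := (7 : ℕ)) (by norm_num))
  have j7 : j < 7 := by have := Int.emod_lt_of_pos k (b := (7 : ℕ)) (by norm_num); omega
  rw [zpow_eq_zpow_emod' k h7', hj, zpow_natCast] at e2 hs
  rw [conj_inv, tr, tr, inv_eq_of_mul_eq_one_right (b := x7 ^ (7 - j))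
    (by rw [← pow_add, Nat.add_sub_cancel' j7.le, h7'])] at e2
  rw [(by decide +kernel : ∀ j < 7, (m7 ^ j).trace = (m7 ^ (7 - j)).trace → j = 0) j j7 e2] at hs
  simp at hs

section
variable {F : Type} [Field F] [Fintype F]

theorem unit_iff (hF : Fintype.card F = 2 ^ 2) (A : SL(5, F)) : A ∈ SU 5 F 2 ↔
    (A : Matrix (Fin 5) (Fin 5) F)ᵀ * (A : Matrix (Fin 5) (Fin 5) F).map (H59.frob hF) = 1 := by
  have h : ∀ u v : Fin 5 → F, hermForm 5 F 2 (A.1 *ᵥ u) (A.1 *ᵥ v) =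
      u ⬝ᵥ ((A.1ᵀ * A.1.map (H59.frob hF)) *ᵥ (H59.frob hF ∘ v)) := fun u v => by
    change (A.1 *ᵥ u) ⬝ᵥ (H59.frob hF ∘ (A.1 *ᵥ v)) = _
    rw [show H59.frob hF ∘ (A.1 *ᵥ v) = A.1.map (H59.frob hF) *ᵥ (H59.frob hF ∘ v) from
      funext fun k => RingHom.map_mulVec _ _ _ k, dotProduct_comm, dotProduct_mulVec,
      ← mulVec_transpose, mulVec_mulVec, dotProduct_comm]
  refine ⟨fun hA => ?_, fun hA u v => (h u v).trans (by rw [hA, one_mulVec]; rfl)⟩
  ext i j
  have := (h (Pi.single i 1) (Pi.single j 1)).symm.trans (hA _ _)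
  rw [show H59.frob hF ∘ (Pi.single j 1 : Fin 5 → F) = Pi.single j 1 from funext fun k => by
    by_cases e : k = j <;> simp [e]] at this
  simpa [hermForm, Pi.single_apply, one_apply, eq_comm] using this

/-- The permutation matrix of a five-cycle. -/
def m5 (F : Type) [Field F] : Matrix (Fin 5) (Fin 5) F :=
  !![0, 1, 0, 0, 0; 0, 0, 1, 0, 0; 0, 0, 0, 1, 0; 0, 0, 0, 0, 1; 1, 0, 0, 0, 0]

omit [Fintype F] in
theorem circ {z : Matrix (Fin 5) (Fin 5) F} (h : z * m5 F = m5 F * z) : ∃ a b c d e : F,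
    z = !![a, b, c, d, e; e, a, b, c, d; d, e, a, b, c; c, d, e, a, b; b, c, d, e, a] := by
  have h1 : ∀ i j : Fin 5, z (i + 1) (j + 1) = z i j := fun i j => by
    have := congrFun (congrFun h i) (j + 1)
    fin_cases i <;> fin_cases j <;> simpa [m5, mul_apply, Fin.sum_univ_five] using this.symm
  have h2 : ∀ (n : ℕ) (i j : Fin 5), z (i + n • 1) (j + n • 1) = z i j := fun n i j => by
    induction n with
    | zero => simp
    | succ n ih => rw [succ_nsmul, ← add_assoc, ← add_assoc, h1, ih]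
  refine ⟨z 0 0, z 0 1, z 0 2, z 0 3, z 0 4, ?_⟩
  ext i j
  have := h2 i 0 (j - i)
  fin_cases i <;> fin_cases j <;> exact this

theorem eq_one_of_circ (hF : Fintype.card F = 2 ^ 2) {τ : RingAut F} (hτ : τ ≠ 1) {z : SU 5 F 2}
    (h : z.1.1 * m5 F = m5 F * z.1.1) (h3 : z ^ 3 = 1) (ht : τ z.1.1.trace = z.1.1.trace) :
    z = 1 := by
  have c2 : (2 : F) = 0 := by
    have := FiniteField.cast_card_eq_zero F
    rw [hF] at this
    exact pow_eq_zero_iff two_ne_zero |>.1 (by exact_mod_cast this)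
  have c4 : ∀ x : F, x ^ 4 = x := fun x => by simpa [hF] using FiniteField.pow_card x
  have h1 := (unit_iff hF z.1).1 z.2
  have h4 : z.1.1 * z.1.1 * z.1.1 = 1 := by
    rw [← pow_three']; exact congrArg (fun w : SU 5 F 2 => w.1.1) h3
  have h2 : z.1.1.map (H59.frob hF) = (z.1.1 * z.1.1)ᵀ := by
    have := congrArg ((z.1.1 * z.1.1)ᵀ * ·) h1
    rwa [← mul_assoc, ← transpose_mul, ← mul_assoc, h4, transpose_one, one_mul, mul_one] at this
  have hd := z.1.2
  obtain ⟨a, b, c, d, e, hz⟩ := circ h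
  refine H59.su_ext (hz.trans ?_)
  rw [hz] at h2 h4 ht hd
  have sq : ∀ x y : F, x ^ 2 = y ^ 2 → x = y := fun x y r => by rw [← c4 x, ← c4 y]; grind
  have f1 := congrFun (congrFun h2 0) 1
  have f2 := congrFun (congrFun h2 0) 2
  have f3 := congrFun (congrFun h2 0) 3
  simp [H59.frob] at f1 f2 f3
  obtain rfl : b = c := sq _ _ (by linear_combination f1 + (a * e + b * d) * c2)
  obtain rfl : b = e := sq _ _ (by linear_combination f2 + (a * d + b * b) * c2)
  obtain rfl : d = b := sq _ _ (by linear_combination f3 + (a * b + b * d) * c2)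
  have g1 := congrFun (congrFun h4 0) 0
  have g2 := congrFun (congrFun h4 0) 1
  simp [mul_apply, Fin.sum_univ_five] at g1 g2
  have a3 : a ^ 3 = 1 := by
    linear_combination g1 + 4 * g2 - (6 * a ^ 2 * d + 24 * a * d ^ 2 + 32 * d ^ 3) * c2
  have ta : τ a = a := by
    have : a + a + a + a + a = a := by linear_combination 2 * a * c2
    simpa only [trace, Fin.sum_univ_five, diag_apply, of_apply, cons_val, this] using ht
  obtain rfl : a = 1 := by
    by_contra a1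
    have a2 : a ^ 2 + a + 1 = 0 :=
      mul_left_cancel₀ (sub_ne_zero.2 a1) (by linear_combination a3)
    refine hτ (RingEquiv.ext fun x => ?_)
    have : x * ((x - 1) * ((x - a) * (x - a ^ 2))) = 0 := by
      linear_combination c4 x - x ^ 3 * a2 + x ^ 2 * a * a2 - x * a3
    simp only [mul_eq_zero, sub_eq_zero] at this
    rcases this with rfl | rfl | rfl | rfl <;> simp [ta]
  have : d = 0 := by
    have : !![(1 : F), d, d, d, d; d, 1, d, d, d; d, d, 1, d, d; d, d, d, 1, d; d, d, d, d, 1].det =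
        (1 - d) ^ 4 * (1 + 4 * d) := by
      simp [det_succ_row_zero, Fin.sum_univ_succ, Fin.succAbove]; ring
    rw [hd, c4] at this
    linear_combination this + (2 * d - 2 * d ^ 2) * c2
  subst this
  ext i j
  fin_cases i <;> fin_cases j <;> rfl

theorem exists_y0 (hF : Fintype.card F = 2 ^ 2) : ∃ y : SU 5 F 2, y.1.1 = m5 F ∧ orderOf y = 5 := by
  have : Fact (Nat.Prime 5) := ⟨by norm_num⟩
  have p5 : m5 F ^ 5 = 1 := by
    ext i j
    fin_cases i <;> fin_cases j <;> simp [m5, pow_succ]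
  refine ⟨⟨⟨m5 F, by simp [m5, det_succ_row_zero, Fin.sum_univ_succ, Fin.succAbove]⟩,
    (unit_iff hF _).2 ?_⟩, rfl, orderOf_eq_prime (H59.su_ext p5) fun e => ?_⟩
  · ext i j
    fin_cases i <;> fin_cases j <;> simp [m5, mul_apply, Fin.sum_univ_five]
  · simpa [m5] using congrArg (fun w : SU 5 F 2 => w.1.1 0 0) e

end

theorem jobIU : JobIU.{u} := by
  rintro G _ _ X t a o n ⟨F, _, _, hF, ⟨e⟩⟩ x hx h15
  replace hF : Fintype.card F = 2 ^ 2 := hF
  have : Fact (Nat.Prime 5) := ⟨by norm_num⟩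
  obtain ⟨β, h1, h2⟩ := setup a o n e
  obtain ⟨y, hy, e1⟩ := h2 x hx (by rw [h15]; decide)
  obtain ⟨s, rfl⟩ := QuotientGroup.mk_surjective y
  have hc := mk_inj (H := SU 5 F 2) (card_eq_one.1 (by rw [H59.card_center_SU hF (by norm_num)]; rfl))
  have hs : orderOf s = 15 := (orderOf_injective _ hc s).symm.trans (hy.trans h15)
  obtain ⟨g, τ, rfl⟩ := H59.psu_aut hF (by norm_num) (by norm_num) β
  have hτ : τ ≠ 1 := by
    rintro rfl
    obtain ⟨c, hc⟩ : g * H59.guScalar hF 5 (H59.guDet hF 5 g) ∈ (H59.suToGU 5 F 2).range := by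
      rw [H59.range_suToGU, ← H59.ker_guDet hF, MonoidHom.mem_ker, map_mul, H59.guDet_guScalar,
        ← pow_succ', show 5 + 1 = (2 + 1) * 2 from rfl, pow_mul, ← H59.card_normOne hF,
        pow_card_eq_one', one_pow]
    refine h1 (QuotientGroup.mk c) ?_
    rw [map_one, mul_one, ← H59.psuDiag_suToGU, H59.psuDiag_eq_iff hF (by norm_num)]
    exact ⟨_, hc.symm⟩
  have e2 : H59.suDiag 5 F 2 g (H59.suField 5 F 2 τ (s ^ 5)) = s ^ 5 := by
    have e0 : H59.suDiag 5 F 2 g (H59.suField 5 F 2 τ s) = s := hc e1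
    rw [map_pow, map_pow, e0]
  have e3 : τ (s ^ 5).1.1.trace = (s ^ 5).1.1.trace := by
    conv_rhs => rw [← e2, H59.suDiag_coe, trace_units_conj, H59.suField_coe]
    exact AddMonoidHom.map_trace (τ : F →+ F) _
  obtain ⟨y0, hy0, o5⟩ := exists_y0 hF
  obtain ⟨c, k, hk⟩ := exists_conj_zpow (p := 5) (y := s ^ 3) (by
      have := H59.card_SU hF (n := 5) (by norm_num)
      rw [show H59.ordGU 2 5 = (2 + 1) * 13685760 by decide] at this
      rw [Nat.eq_of_mul_eq_mul_left (by norm_num) this]; norm_num) o5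
    (by rw [orderOf_pow' _ (by norm_num), hs]; rfl)
  obtain ⟨h4, h5⟩ := conj_aux (c := c) k (hs ▸ pow_orderOf_eq_one s)
  rw [← hk] at h4
  have h3 : c * s ^ 5 * c⁻¹ = 1 :=
    eq_one_of_circ hF hτ (hy0 ▸ congrArg (fun w : SU 5 F 2 => w.1.1) h4) h5 (by rwa [trace_su])
  have := orderOf_dvd_of_pow_eq_one (conj_eq_one_iff.1 h3)
  rw [hs] at this
  omega

end H59.D8
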