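import Cfsg.Agent.H59.UMFE1

/-! STD-UM, slot FE: every automorphism of `P` extends to `X`. -/

set_option autoImplicit false
set_option linter.unusedSectionVars false

namespace H59.UM

open H64.SG (Cz Cs Ns IsO2 mem_Cz)
open H67 H67.UA Module Matrix
open H67.SA (la St cm cI mem_cI mem_St_of_finite cm_eq_one)
open H67.GA (PP QQ ZZ)

variable {n : ℕ} {K : Type} [Field K] [StarRing K] [CharP K 2] [Finite K] [hp : Par n K]

/-- An additive `F`-valued function whose increments under `P` are `F`-linear is `tr h(·, y)`. -/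
theorem exists_tr_eq (ψ : WW n K →+ K) (h0 : ∀ w, star (ψ w) = ψ w)
    (h : ∀ p ∈ PP (XU n K), ∃ y : Vn n K, ∀ w, ψ (pr (ac p w.1)) = ψ w + tr (hf y w.1)) :
    ∃ y : WW n K, ∀ w, ψ w = tr (hf y.1 w.1) := by
  have := hp.five
  have h1 := v1 hp.five
  have h2 := v2 hp.five
  have hl : ∀ r, star r = r → ∀ w, ψ (r • w) = r * ψ w := fun r hr => by
    let a : WW n K := ⟨ev 1, ev_mem (by omega) (by omega)⟩
    let b : WW n K := ⟨ev 2, ev_mem (by omega) (by omega)⟩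
    have k1 : ∀ w : WW n K, w ≠ 0 → Iso w.1 → ψ (r • w) + r * ψ w = ψ (r • a) + r * ψ a := fun w w0 hw => by
      obtain ⟨g, g0, g1⟩ := w2 ⟨iso0, hw, hf_symm (W_u w)⟩ (li_u w0)
      obtain ⟨y, hy⟩ := h g g0
      have e1 := hy a
      have e2 := hy (r • a)
      rw [Submodule.coe_smul, ac_smul, map_smul, hf_smul_right] at e2
      rw [g1, pr_coe] at e1 e2
      rw [e1, e2]
      simp only [tr, star_mul', hr]
      linear_combination r * (hf y a.1 + star (hf y a.1)) * two0 K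
    have pp : Pp a.1 b.1 := ⟨by rw [Iso, hf_evv, if_neg (by omega)],
      by rw [Iso, hf_evv, if_neg (by omega)], by rw [hf_evv, if_neg (by omega)]⟩
    have e1 := k1 b (fun e => ev_ne 2 (congrArg Subtype.val e)) pp.r
    have e2 := k1 (a + b) (fun e => by
      have := congrFun (congrArg Subtype.val e) 1
      simp [a, b, ev_apply, Fin.ext_iff, m1 hp.five, m2 hp.five] at this) pp.iso_add
    rw [smul_add, map_add, map_add] at e2
    have e3 : ψ (r • a) + r * ψ a = 0 := by linear_combination e2 - e1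
    intro w
    rw [← pr_coe w]
    refine span iso0 (fun x => ψ (r • pr x) = r * ψ (pr x)) (fun x hx => ?_)
      (fun x y _ _ e1 e2 => by rw [map_add, smul_add, map_add, map_add, e1, e2, mul_add]) _ (W_u w)
    by_cases x0 : pr x = 0
    · simp [x0]
    linear_combination k1 _ x0 ((hf_pr hx.symm.p hx.symm.p).trans hx.r) + e3 - r * ψ (pr x) * two0 K
  obtain ⟨η, hη⟩ := exists_tr (star_one K)
  have hη' : star η = η + 1 := by linear_combination hη - η * two0 K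
  have hs : ∀ (a : K) w, ψ (a • w) = (a + tr a * η) * ψ w + tr a * ψ (η • w) := fun a w => by
    rw [← hl _ (star_tr a), ← hl (a + tr a * η) (by
      rw [star_add, star_mul', star_tr, hη', tr]; linear_combination star a * two0 K), ← map_add,
      smul_smul, ← add_smul]
    congr 2
    linear_combination -(tr a * η) * two0 K
  let l : Vn n K →ₗ[K] K :=
    { toFun := fun x => ψ (η • pr x) + star η * ψ (pr x)
      map_add' := fun x y => by simp only [map_add, smul_add]; ring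
      map_smul' := fun a x => by
        rw [LinearMap.map_smul, smul_smul, hs (η * a), hs a]
        simp only [RingHom.id_apply, smul_eq_mul, tr, star_mul', hη']
        linear_combination ((η ^ 2 * a + η ^ 2 * star a + η * a + η * star a) * ψ (pr x) +
          (η * a + η * star a + star a) * ψ (η • pr x)) * two0 K }
  have hy : ∀ x, l x = hf x fun i => star (l (ev i.rev)) := fun x => by
    conv_lhs => rw [pi_eq_sum_univ' x, map_sum]
    simp [hf, ev]
  have y0 : hf (fun i => star (l (ev i.rev))) (ev 0) = 0 := hf_symm (by rw [← hy]; simp [l, pr_u])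
  refine ⟨pr fun i => star (l (ev i.rev)), fun w => ?_⟩
  rw [← pr_coe w, hf_pr y0 (W_u w), ← star_hf, ← hy, pr_coe]
  simp only [l, LinearMap.coe_mk, AddHom.coe_mk, pr_coe, tr, star_add, star_mul', star_star, h0, hη',
    star_one]
  linear_combination -(ψ (η • w) + η * ψ w + 2 * ψ w) * two0 K

theorem grp1 {G : Type*} [Group G] {p r q z z' : G} (h : r * (z * q) * r⁻¹ = z' * (p * q * p⁻¹))
    (hz : z * r = r * z) (h2 : z * z = 1) (h3 : z * z' * p = p * (z * z')) :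
    cm (p⁻¹ * r) q = z * z' := by
  have h1 : r * q * r⁻¹ = z * z' * p * q * p⁻¹ := by
    rw [mul_assoc (z * z'), mul_assoc (z * z'), mul_assoc z, ← h, ← mul_assoc r, ← hz, ← mul_assoc,
      ← mul_assoc, ← mul_assoc, h2, one_mul]
  calc _ = p⁻¹ * (r * q * r⁻¹) * p * q⁻¹ := by rw [cm]; group
    _ = _ := by rw [h1, h3]; group

variable [FV n K]

theorem Tc_inj {c d : K} (hc : star c = c) (hd : star d = d)
    (e : Tc c (ev 0 : Vn n K) = Tc d (ev 0)) : c = d := by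
  have := ac_Tc (n := n) iso0 hc (ev (la n))
  rw [e, ac_Tc iso0 hd, hfL0, add_right_inj] at this
  simpa using (smul_left_injective K (ev_ne 0) this).symm

variable [GA.FO (XU n K)] [GA.FB (XU n K)] [GA.FA (XU n K)]

theorem eq_of_center {a b : XU n K} (ha : a ∈ PP (XU n K)) (hb : b ∈ PP (XU n K))
    (h : a * b⁻¹ ∈ Subgroup.center (XU n K)) : a = b :=
  mul_inv_eq_one.1 (Subgroup.mem_bot.1 (GA.FB.Pc (X := XU n K) ▸
    Subgroup.mem_inf.2 ⟨mul_mem ha (inv_mem hb), h⟩))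

theorem Z_comm {z p : XU n K} (hz : z ∈ ZZ (XU n K)) (h : p ∈ PP (XU n K)) : z * p = p * z :=
  GA.PP_le_Cs h z hz

theorem inner_of [GA.FP (XU n K)] (θ : MulAut (PP (XU n K)))
    (h : ∀ q : PP (XU n K), q.1 ∈ QQ (XU n K) → (θ q).1 * q.1⁻¹ ∈ ZZ (XU n K)) :
    ∃ s : XU n K, ∀ p : PP (XU n K), s * p * s⁻¹ = θ p := by
  have hQ : ∀ q : PP (XU n K), q.1 ∈ QQ (XU n K) → (θ q).1 ∈ QQ (XU n K) := fun q hq => by
    simpa using mul_mem (GA.ZZ_le_QQ (h q hq)) hq
  have hx : ∀ q : PP (XU n K), q.1 ∈ QQ (XU n K) → cx (θ q).1 = cx q.1 := fun q hq =>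
    (mul_inv_mem_Z (hQ q hq) hq).1 (h q hq)
  have hZ : ∀ z : PP (XU n K), z.1 ∈ ZZ (XU n K) → θ z = z := fun z hz => by
    obtain ⟨a, ha, b, hb, e⟩ := exists_cm hz
    obtain rfl : z = cm ⟨a, GA.QQ_le_PP ha⟩ ⟨b, GA.QQ_le_PP hb⟩ := Subtype.ext e
    have := cm_Q (hQ ⟨a, GA.QQ_le_PP ha⟩ ha) (hQ ⟨b, GA.QQ_le_PP hb⟩ hb)
    rw [hx _ ha, hx _ hb, ← cm_Q ha hb] at this
    rw [cm, map_mul, map_mul, map_mul, map_inv, map_inv]
    exact Subtype.ext this
  choose E hE hE' using exists_QP (n := n) (K := K)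
  choose ψ h0 hψ using fun w => (FV.mem_Z _).1 (h (E w) (hE w))
  have k1 : ∀ q : PP (XU n K), q.1 ∈ QQ (XU n K) → (θ q).1 = Tc (ψ (cx q.1)) (ev 0) * q.1 := fun q hq => by
    have h1 := (mul_inv_mem_Z hq (hE (cx q.1))).2 (hE' _).symm
    have h2 := congrArg Subtype.val (hZ (q * (E (cx q.1))⁻¹) h1)
    rw [map_mul, map_inv, Subgroup.coe_mul, Subgroup.coe_inv, mul_inv_eq_iff_eq_mul] at h2
    rw [← hψ, h2, Z_comm (z := (q * (E (cx q.1))⁻¹).1) h1 (θ _).2, Subgroup.coe_mul, Subgroup.coe_inv,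
      ← mul_assoc, mul_assoc _ _⁻¹ q.1, ← inv_mul_eq_iff_eq_mul]
    have h3 := Z_comm h1 (E (cx q.1)).2
    rw [inv_mul_cancel_right] at h3
    rw [← mul_assoc, ← mul_assoc, inv_mul_cancel, one_mul, eq_inv_mul_iff_mul_eq, ← mul_assoc]
    rwa [← mul_assoc, eq_comm] at h3
  have tz : ∀ w, Tc (ψ w) (ev 0) ∈ ZZ (XU n K) := fun w => (FV.mem_Z _).2 ⟨_, h0 w, rfl⟩
  have add : ∀ v w, ψ (v + w) = ψ v + ψ w := fun v w => by
    have h1 := k1 (E v * E w) (mul_mem (hE v) (hE w))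
    rw [map_mul, Subgroup.coe_mul, Subgroup.coe_mul, k1 _ (hE v), k1 _ (hE w), cx_mul (hE v) (hE w),
      hE', hE', mul_assoc, ← mul_assoc (E v).1, ← Z_comm (tz w) (E v).2, mul_assoc, ← mul_assoc,
      mul_left_inj, ← Tc_add iso0 (h0 v) (h0 w)] at h1
    exact (Tc_inj (by rw [star_add, h0, h0]) (h0 _) h1).symm
  obtain ⟨y, hy⟩ := exists_tr_eq (AddMonoidHom.mk' ψ add) h0 fun p hp => by
    have k2 : ∀ q : PP (XU n K), q.1 ∈ QQ (XU n K) → cm (p⁻¹ * (θ ⟨p, hp⟩).1) q.1 =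
        Tc (ψ (cx q.1)) (ev 0) * Tc (ψ (pr (ac p (cx q.1).1))) (ev 0) := fun q hq => by
      have h1 := k1 ⟨p * q.1 * p⁻¹, GA.QQ_le_PP (conj_memQ hp hq).1⟩ (conj_memQ hp hq).1
      rw [show (⟨p * q.1 * p⁻¹, GA.QQ_le_PP (conj_memQ hp hq).1⟩ : PP (XU n K)) =
        (⟨p, hp⟩ : PP (XU n K)) * q * (⟨p, hp⟩ : PP (XU n K))⁻¹ from rfl, map_mul, map_mul, map_inv,
        Subgroup.coe_mul, Subgroup.coe_mul, Subgroup.coe_inv, k1 q hq] at h1
      rw [← (conj_memQ hp hq).2]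
      exact grp1 h1 (Z_comm (tz _) (θ _).2) (Tc_mul_self iso0 (h0 _)) (Z_comm (mul_mem (tz _) (tz _)) hp)
    have k3 := mul_mem (inv_mem hp) (θ ⟨p, hp⟩).2
    generalize p⁻¹ * (θ ⟨p, hp⟩).1 = c at k2 k3
    obtain ⟨g, hg, e⟩ := mem_cI.1 (GA.FA.n2 (MulAut.conj c) (fun q hq => by
      have := k2 ⟨q, GA.QQ_le_PP hq⟩ hq
      exact (show cm c q ∈ _ from this ▸ mul_mem (tz _) (tz _))) fun z hz => by
      rw [MulAut.conj_apply, ← Z_comm hz k3, mul_inv_cancel_right])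
    obtain rfl := eq_of_center k3 (GA.QQ_le_PP hg) (GA.conj_eq_one.1 (by
      rw [map_mul, map_inv, e, mul_inv_cancel]))
    refine ⟨(cx c).1, fun w => ?_⟩
    have h1 := k2 _ (hE w)
    rw [cm_Q hg (hE w), hE', ← Tc_add iso0 (h0 _) (h0 _)] at h1
    have h2 := Tc_inj (star_tr _) (by rw [star_add, h0, h0]) h1
    change ψ _ = ψ w + _
    linear_combination -h2 - ψ w * two0 K
  have k4 : ∀ q : PP (XU n K), q.1 ∈ QQ (XU n K) → θ q = E y * q * (E y)⁻¹ := fun q hq => by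
    have h1 := cm_Q (hE y) hq
    rw [hE', ← hy, cm, mul_inv_eq_iff_eq_mul] at h1
    exact Subtype.ext ((k1 q hq).trans h1.symm)
  have k5 : ∀ p : PP (XU n K), (MulAut.conj (E y)⁻¹ * θ) p * p⁻¹ ∈ (ZZ (XU n K)).subgroupOf _ := fun p => by
    generalize hδ : MulAut.conj (E y)⁻¹ * θ = δ
    have h1 : ∀ q : PP (XU n K), q.1 ∈ QQ (XU n K) → δ q = q := fun q hq => by
      rw [← hδ, MulAut.mul_apply, k4 q hq, MulAut.conj_apply]; group
    obtain ⟨m, hm, e⟩ := GA.exists_of_Cs_Qk GA.rg1 (g := (δ p * p⁻¹).1) fun q hq => by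
      obtain ⟨q, rfl⟩ : ∃ q' : PP (XU n K), q'.1 = q := ⟨⟨q, GA.QQ_le_PP hq⟩, rfl⟩
      have h3 := (conj_memQ (p⁻¹).2 hq).1
      rw [← Subgroup.coe_inv, ← Subgroup.coe_mul, ← Subgroup.coe_mul] at h3
      have h2 := h1 _ h3
      rw [map_mul, map_mul, h1 _ hq, inv_inv, map_inv] at h2
      rw [← Subgroup.coe_mul, ← Subgroup.coe_mul, Subtype.coe_inj, ← mul_assoc, mul_inv_eq_iff_eq_mul,
        mul_assoc, mul_assoc, ← mul_assoc p⁻¹, ← h2]
      group
    rw [Subgroup.mem_subgroupOf, eq_of_center (δ p * p⁻¹).2 (GA.ZZ_le_PP hm) e]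
    exact hm
  have k6 := GA.hom_eq_of_central' (Y := PP (XU n K)) (Subgroup.map_injective
    (Subgroup.subtype_injective _) (by
      rw [Subgroup.map_subtype_commutator, ← MonoidHom.range_eq_map, Subgroup.range_subtype]
      exact le_antisymm (Subgroup.commutator_le.2 fun a ha b hb =>
        mul_mem (mul_mem (mul_mem ha hb) (inv_mem ha)) (inv_mem hb)) GA.FP.pfP))
    (MulAut.conj (E y)⁻¹ * θ).toMonoidHom (MonoidHom.id _)
    (fun a b => Subtype.ext (Z_comm (k5 a) b.2)) fun a b => Subtype.ext (Z_comm (k5 a) (Subtype.prop _))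
  refine ⟨E y, fun p => ?_⟩
  have h1 : (E y)⁻¹ * θ p * (E y)⁻¹⁻¹ = p := congrArg (fun f => f p) k6
  rw [← Subgroup.coe_inv, ← Subgroup.coe_mul, ← Subgroup.coe_mul]
  nth_rw 1 [← h1]
  group

theorem jobFE : JobFE := fun n K _ _ _ _ _ B _ _ hQ h => ⟨fun θ => by
  haveI := B
  obtain ⟨β, hβ, h1⟩ := h θ
  let β' : MulAut (PP (XU n K)) :=
    { toFun := fun p => ⟨β⁻¹ p.1, (inv_mem hβ _).1 p.2⟩
      invFun := fun p => ⟨β p.1, (hβ _).1 p.2⟩
      left_inv := fun p => Subtype.ext (MulAut.apply_inv_self _ β _)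
      right_inv := fun p => Subtype.ext (MulAut.inv_apply_self _ β _)
      map_mul' := fun a b => Subtype.ext (map_mul β⁻¹ _ _) }
  obtain ⟨s, hs⟩ := inner_of (β' * θ) fun q hq => by
    have := aut_Z hQ β' (z := θ q * (β'⁻¹ q)⁻¹) (h1 q hq)
    rwa [map_mul, map_inv, MulAut.apply_inv_self] at this
  exact ⟨β * MulAut.conj s, fun p => by
    rw [MulAut.mul_apply, MulAut.conj_apply, hs]; exact MulAut.apply_inv_self _ β _⟩⟩

end H59.UM
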