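import Cfsg.Agent.H26.DP0ASpec
import Cfsg.Agent.H14.Rel

/-! Tower DP0-A, job W4: the base group of the wreathed configuration. -/

set_option autoImplicit false

namespace H59.DP0AW4

open Subgroup Cfsg H98 H48.DP H57.DPC H48.DP2 H26.DA
open scoped commutatorElement

universe u

variable {G : Type u} [Group G] [Finite G]

theorem three {a b c : G} (ha : orderOf a = 3) (hb : orderOf b = 3) (hc : orderOf c = 3)
    (h1 : Commute a b) (h2 : Commute a c) (h3 : Commute b c)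
    (hi : ∀ u ∈ zpowers a, ∀ v ∈ zpowers b, ∀ w ∈ zpowers c, u * v * w = 1 → u = 1 ∧ v = 1) :
    IsElementaryAbelian 3 (zpowers a ⊔ zpowers b ⊔ zpowers c) ∧
      Nat.card (zpowers a ⊔ zpowers b ⊔ zpowers c : Subgroup G) = 27 := by
  have cz : ∀ {s t : G}, Commute s t → ∀ (u : zpowers s) (v : zpowers t), Commute (u : G) v := by
    rintro s t h ⟨_, i, rfl⟩ ⟨_, j, rfl⟩
    exact h.zpow_zpow i j
  let f := (zpowers a).subtype.noncommCoprod (zpowers b).subtype (cz h1)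
  let F := f.noncommCoprod (zpowers c).subtype fun p w => (cz h2 p.1 w).mul_left (cz h3 p.2 w)
  have hr : F.range = zpowers a ⊔ zpowers b ⊔ zpowers c := by
    have h4 : f.range = zpowers a ⊔ zpowers b :=
      (MonoidHom.noncommCoprod_range _ _ _).trans (by rw [range_subtype, range_subtype])
    exact (MonoidHom.noncommCoprod_range _ _ _).trans (by rw [h4, range_subtype])
  have hF : Function.Injective F := (injective_iff_map_eq_one F).2 fun p hp => by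
    have e : (p.1.1 : G) * p.1.2 * p.2 = 1 := hp
    obtain ⟨e1, e2⟩ := hi _ p.1.1.2 _ p.1.2.2 _ p.2.2 e
    rw [e1, e2, one_mul, one_mul] at e
    exact Prod.ext (Prod.ext (Subtype.ext e1) (Subtype.ext e2)) (Subtype.ext e)
  have p3 : ∀ {s : G}, orderOf s = 3 → ∀ u : zpowers s, u ^ 3 = 1 := fun {s} h u => by
    rw [← h, ← Nat.card_zpowers]; exact pow_card_eq_one'
  rw [← hr]
  refine ⟨⟨⟨⟨?_⟩⟩, ?_⟩, ?_⟩
  · rintro ⟨_, p, rfl⟩ ⟨_, q, rfl⟩
    refine Subtype.ext ?_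
    change F p * F q = F q * F p
    rw [← map_mul, ← map_mul]
    exact congrArg F (Prod.ext (Prod.ext (Subtype.ext (cz (Commute.refl a) _ _))
      (Subtype.ext (cz (Commute.refl b) _ _))) (Subtype.ext (cz (Commute.refl c) _ _)))
  · rintro _ ⟨p, rfl⟩
    rw [← map_pow, show p ^ 3 = 1 from Prod.ext (Prod.ext (p3 ha _) (p3 hb _)) (p3 hc _), map_one]
  · rw [← Nat.card_congr (MonoidHom.ofInjective hF).toEquiv, Nat.card_prod, Nat.card_prod,
      Nat.card_zpowers, Nat.card_zpowers, Nat.card_zpowers, ha, hb, hc]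

theorem part {P K : Subgroup G} {y z a : G} (h : Wa P K y z a) {w : G} (hw : w ∈ P)
    (hn : w ∈ No K) (h3 : w ^ 3 = 1) : ∃ l ∈ zpowers a, l⁻¹ * w ∈ Ce K := by
  have cm := (h.str.cm K h.comp).2
  have cen : ∀ x ∈ K, x ∈ Ce K → x = 1 := fun x h1 h2 => mem_bot.1 (cm.sm.cen ▸ ⟨h1, h2⟩)
  obtain ⟨l, hl, hc⟩ := cm.inn w hn
  obtain ⟨c, rfl⟩ : ∃ c, w = l * c := ⟨l⁻¹ * w, by group⟩
  rw [inv_mul_cancel_left] at hc
  obtain ⟨d, hd⟩ : ∃ d, z = a * d := ⟨a⁻¹ * z, by group⟩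
  have h4 : d ∈ Ce K := by have := h.zc; rwa [hd, inv_mul_cancel_left] at this
  have h5 := mem_centralizer_singleton_iff.1 (h.cz hw)
  refine ⟨l, h.ca l hl (cen _ (K.pow_mem hl 3) ?_) ?_, by rwa [inv_mul_cancel_left]⟩
  · rw [(show Commute l c from hc l hl).mul_pow] at h3
    exact eq_inv_of_mul_eq_one_left h3 ▸ inv_mem (pow_mem hc 3)
  · have h6 : a⁻¹ * (l * a * l⁻¹) = d * (c * d * c⁻¹)⁻¹ := by
      have e1 : l * (c * d * c⁻¹) = c * d * c⁻¹ * l :=
        mul_mem (mul_mem hc h4) (inv_mem hc) l hl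
      have e2 : a * c = c * a := hc a h.aK
      calc a⁻¹ * (l * a * l⁻¹) = a⁻¹ * l * a * (c * d * c⁻¹) * (l * (c * d * c⁻¹))⁻¹ := by group
        _ = a⁻¹ * (l * (a * c) * d) * c⁻¹ * l⁻¹ * (c * d * c⁻¹)⁻¹ := by rw [e1]; group
        _ = a⁻¹ * (l * c * z) * c⁻¹ * l⁻¹ * (c * d * c⁻¹)⁻¹ := by rw [e2, hd]; group
        _ = d * (c * d * c⁻¹)⁻¹ := by rw [h5, hd]; group
    have h7 := cen _ (mul_mem (inv_mem h.aK) (mul_mem (mul_mem hl h.aK) (inv_mem hl)))
      (h6 ▸ mul_mem h4 (inv_mem (mul_mem (mul_mem hc h4) (inv_mem hc))))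
    exact mul_inv_eq_iff_eq_mul.1 (inv_mul_eq_one.1 h7).symm

theorem part' {P K : Subgroup G} {y z a : G} (h : Wa P K y z a) {w g : G} (hw : w ∈ P) (hg : g ∈ P)
    (hn : w ∈ No (cj g K)) (h3 : w ^ 3 = 1) :
    ∃ l ∈ zpowers (g * a * g⁻¹), l⁻¹ * w ∈ Ce (cj g K) := by
  obtain ⟨_, ⟨i, rfl⟩, hc⟩ := part h (w := g⁻¹ * w * g) (mul_mem (mul_mem (inv_mem hg) hw) hg)
    (cj_eq_self_iff.1 (by rw [← cj_cj, ← cj_cj, cj_eq_self hn, cj_inv_cj]))
    (by have := conj_pow (i := 3) (a := g⁻¹) (b := w); rw [inv_inv] at this; rw [this, h3]; group)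
  refine ⟨_, ⟨i, rfl⟩, ?_⟩
  rw [Ce, ← cj_centralizer, mem_cj]
  convert hc using 1
  simp only [conj_zpow]
  group

theorem jobW4 : JobW4.{u} := by
  intro G _ _ P K y z a h
  have cm := (h.str.cm K h.comp).2
  have y3 : y ^ 3 = 1 := h.y3 ▸ pow_orderOf_eq_one y
  have cp : ∀ g : G, H14.CP (cj g K) ⊤ := fun g =>
    (H14.cp_iff.2 h.comp).cj_of_mem_normalizer (le_normalizer (mem_top g))
  have dc : ∀ g k : G, g⁻¹ * k ∉ No K → cj g K ≤ Ce (cj k K) := fun g k hn =>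
    commutator_eq_bot_iff_le_centralizer.1 (((cp g).eq_or_commute (cp k)).resolve_left fun e =>
      hn (cj_eq_self_iff.1 (by rw [← cj_cj, ← e, cj_inv_cj])))
  have n1 : y⁻¹ ∉ No K := fun e => h.yK (by simpa using e)
  have yy : y * y = y⁻¹ := eq_inv_of_mul_eq_one_left (by rw [← y3, pow_succ, sq])
  have c21 := dc y 1 (by rwa [mul_one])
  have c31 := dc (y * y) 1 (by rw [yy]; simpa using h.yK)
  have c32 := dc (y * y) y (by simpa using n1)
  rw [cj_one] at c21 c31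
  have c12 : K ≤ Ce (cj y K) := le_centralizer_iff.1 c21
  have c13 : K ≤ Ce (cj (y * y) K) := le_centralizer_iff.1 c31
  have c23 : cj y K ≤ Ce (cj (y * y) K) := le_centralizer_iff.1 c32
  have z1 : zpowers a ≤ K := zpowers_le.2 h.aK
  have z2 : ∀ g : G, zpowers (g * a * g⁻¹) ≤ cj g K := fun g => zpowers_le.2 (conj_mem_cj h.aK)
  have o2 : ∀ g : G, orderOf (g * a * g⁻¹) = 3 := fun g =>
    ((MulAut.conj g).orderOf_eq a).trans h.a3
  obtain ⟨e1, e2⟩ := three h.a3 (o2 y) (o2 (y * y)) (c21 (conj_mem_cj h.aK) a h.aK)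
    (c31 (conj_mem_cj h.aK) a h.aK) (c32 (conj_mem_cj h.aK) _ (conj_mem_cj h.aK))
    fun u hu v hv w hw e => by
      have h1 : u = 1 := mem_bot.1 (cm.sm.cen ▸ ⟨z1 hu, by
        rw [mul_assoc] at e
        exact eq_inv_of_mul_eq_one_left e ▸
          (Ce K).inv_mem (mul_mem (c21 (z2 _ hv)) (c31 (z2 _ hw)))⟩)
      rw [h1, one_mul] at e
      have h2 : v ∈ cj y (K ⊓ Ce K) := by
        rw [cj_inf, Ce, cj_centralizer]
        exact ⟨z2 _ hv, eq_inv_of_mul_eq_one_left e ▸ (Ce (cj y K)).inv_mem (c32 (z2 _ hw))⟩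
      rw [cm.sm.cen, cj_bot] at h2
      exact ⟨h1, mem_bot.1 h2⟩
  refine ⟨h, ⟨e1, e2.ge⟩, e2.le, fun w hw hn h3 => ?_⟩
  obtain ⟨u, hu, k1⟩ := part h.toWa hw hn h3
  obtain ⟨v, hv, k2⟩ := part' h.toWa hw h.yP (h.thr w hw hn).1 h3
  obtain ⟨t, ht, k3⟩ := part' h.toWa hw (mul_mem h.yP h.yP) (h.thr w hw hn).2 h3
  have hb : u * v * t ∈ H26.DA.Bs y a :=
    mul_mem (mem_sup_left (mul_mem (mem_sup_left hu) (mem_sup_right hv))) (mem_sup_right ht)
  have cw : ∀ {s : G}, s * (s⁻¹ * w) = s⁻¹ * w * s → Commute s w := fun {s} e => by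
    change s * w = w * s
    calc s * w = s * (s * (s⁻¹ * w)) := by group
      _ = w * s := by rw [e]; group
  have cb : Commute (u * v * t) w :=
    ((cw (k1 u (z1 hu))).mul_left (cw (k2 v (z2 _ hv)))).mul_left (cw (k3 t (z2 _ ht)))
  have uv : u * v = v * u := c21 (z2 _ hv) u (z1 hu)
  have tb : u * v * t = t * (u * v) :=
    (mul_mem (c13 (z1 hu)) (c23 (z2 _ hv)) t (z2 _ ht)).symm
  have := h.cc ((u * v * t)⁻¹ * w) (by rw [cb.inv_left.mul_pow, inv_pow, e1.2 _ hb, h3]; group)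
    (by
      have := mul_mem (inv_mem (mul_mem (c21 (z2 _ hv)) (c31 (z2 _ ht)))) k1
      convert this using 1; group)
    (by
      have := mul_mem (inv_mem (mul_mem (c12 (z1 hu)) (c32 (z2 _ ht)))) k2
      convert this using 1; rw [uv]; group)
    (by
      have := mul_mem (inv_mem (mul_mem (c13 (z1 hu)) (c23 (z2 _ hv)))) k3
      convert this using 1; rw [tb]; group)
  exact inv_mul_eq_one.1 this ▸ hb

end H59.DP0AW4
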