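import Cfsg.Agent.H59.U5Spec
import Cfsg.Agent.H59.Levi
import Cfsg.Agent.H59.Simple

/-! STD-UM, slot FW: Witt's theorem and generation for `X = SU_(n+1)(q)`. -/

set_option autoImplicit false
set_option linter.unusedSectionVars false

namespace H59.UM5

open H67

open H67 H59.UV Module Matrix
open H67.SA (la)

variable {n : ℕ} {K : Type} [Field K] [StarRing K]

variable (n K) in
/-- the form `hf` with the arguments swapped -/
def BB : Vn n K →ₛₗ[starRingEnd K] Vn n K →ₗ[K] K :=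
  LinearMap.mk₂'ₛₗ (starRingEnd K) (RingHom.id K) (fun x y => hf y x)
    (fun _ _ _ => hf_add_right _ _ _) (fun _ _ _ => hf_smul_right _ _ _)
    (fun _ _ _ => hf_add_left _ _ _) (fun _ _ _ => hf_smul_left _ _ _)

theorem BB_apply (x y : Vn n K) : BB n K x y = hf y x := rfl

variable (n K) in
theorem herm [hf' : Hf K] : IsHerm (BB n K) where
  ne_id e := by
    obtain ⟨a, ha⟩ := hf'.ne
    exact ha (congrArg (fun f : K →+* K => f a) e)
  invol a := star_star a
  symm x y := star_hf y x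
  nondeg x hx := eq_of_hf fun z => by rw [hf_zero_left]; exact hf_symm (hx z)

theorem finrank_Vn : finrank K (Vn n K) = n + 1 := by simp

theorem li_iff {u v : Vn n K} : Li u v ↔ LinearIndependent K ![u, v] :=
  LinearIndependent.pair_iff.symm

theorem li3_iff {u v w : Vn n K} : Li3 u v w ↔ LinearIndependent K ![u, v, w] := by
  rw [Fintype.linearIndependent_iff]
  refine ⟨fun h g hg => ?_, fun h a b c e => ?_⟩
  · obtain ⟨h0, h1, h2⟩ := h (g 0) (g 1) (g 2) (by simpa [Fin.sum_univ_three] using hg)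
    intro i; fin_cases i <;> assumption
  · have := h ![a, b, c] (by simpa [Fin.sum_univ_three] using e)
    exact ⟨this 0, this 1, this 2⟩

variable [CharP K 2]

variable (n K) in
/-- `X` acting on `V` -/
def lin : XU n K →* (Vn n K ≃ₗ[K] Vn n K) where
  toFun g :=
    { toFun := ac g
      invFun := ac g⁻¹
      map_add' := ac_add g
      map_smul' := ac_smul g
      left_inv := ac_inv_ac g
      right_inv := ac_ac_inv g }
  map_one' := LinearEquiv.ext ac_one
  map_mul' g h := LinearEquiv.ext (ac_mul g h)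

theorem lin_apply (g : XU n K) (v : Vn n K) : lin n K g v = ac g v := rfl

theorem lin_inj : Function.Injective (lin n K) := fun _ _ e =>
  ac_ext fun v => congrArg (fun f : Vn n K ≃ₗ[K] Vn n K => f v) e

theorem lin_mem (g : XU n K) : lin n K g ∈ sisom (BB n K) := by
  refine ⟨fun x y => hf_ac g y x, Units.ext ?_⟩
  have : (lin n K g : Vn n K →ₗ[K] Vn n K) = toLin' (mt g) := LinearMap.ext fun _ => rfl
  rw [LinearEquiv.coe_det, this, LinearMap.det_toLin', mt_det]; rfl

theorem exists_lin {g : Vn n K ≃ₗ[K] Vn n K} (hg : g ∈ sisom (BB n K)) : ∃ x, lin n K x = g := by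
  have h1 : ∀ v, LinearMap.toMatrix' (g : Vn n K →ₗ[K] Vn n K) *ᵥ v = g v := fun v => by
    rw [← toLin'_apply, toLin'_toMatrix']; rfl
  obtain ⟨x, hx⟩ := exists_X (LinearMap.toMatrix' (g : Vn n K →ₗ[K] Vn n K)) (by
    rw [LinearMap.det_toMatrix', ← LinearEquiv.coe_det, (mem_sisom.1 hg).2]; rfl)
    fun x y => by rw [h1, h1]; exact hg.1 y x
  exact ⟨x, LinearEquiv.ext fun v => by rw [lin_apply, ac, hx, h1]⟩

theorem exists_ac {g : Vn n K ≃ₗ[K] Vn n K} (hg : g ∈ sisom (BB n K)) :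
    ∃ x : XU n K, ∀ v, ac x v = g v := by
  obtain ⟨x, rfl⟩ := exists_lin hg
  exact ⟨x, fun _ => rfl⟩

section Witt

variable [Hf K]

/-- Witt's lemma, with a non-isotropic vector perpendicular to the source -/
theorem witt_src {ι : Type} [Finite ι] {v w : ι → Vn n K} (hv : LinearIndependent K v)
    (hw : LinearIndependent K w) (h : ∀ i j, hf (v i) (v j) = hf (w i) (w j)) {p : Vn n K}
    (hp : ¬ Iso p) (hpv : ∀ i, hf p (v i) = 0) : ∃ g : XU n K, ∀ i, ac g (v i) = w i := by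
  obtain ⟨g, hg, h1⟩ := (herm n K).witt_family_sisom hv hw (fun i j => h j i) hp
    fun i => hf_symm (hpv i)
  obtain ⟨x, hx⟩ := exists_ac hg
  exact ⟨x, fun i => (hx _).trans (h1 i)⟩

theorem exists_tr {c : K} (hc : star c = c) : ∃ a, tr a = c :=
  exists_trace_eq (herm 0 K).ne_id (herm 0 K).invol hc

theorem exists_nm [Finite K] {c : K} (hc : star c = c) : ∃ a, nm a = c := by
  obtain ⟨a, ha⟩ := exists_norm_eq' (herm 0 K).ne_id (herm 0 K).invol hc
  exact ⟨a, (mul_comm _ _).trans ha⟩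

theorem eq_zero_of_tr {a : K} (h : ∀ b, tr (b * a) = 0) : a = 0 := by
  by_contra h0
  obtain ⟨b, hb⟩ := exists_tr (star_one K)
  have := h (b / a)
  rw [div_mul_cancel₀ _ h0, hb] at this
  exact one_ne_zero this

theorem dual {u x : Vn n K} (h : ∀ y, hf y u = 0 → tr (hf y x) = 0) : ∃ a : K, x = a • u := by
  have h1 : x ∈ perp (BB n K) (perp (BB n K) (Submodule.span K {u})) := fun y hy =>
    hf_symm (eq_zero_of_tr fun b => by
      rw [← hf_smul_left]
      exact h _ (by rw [hf_smul_left, show hf y u = 0 from mem_perp_singleton.1 hy, mul_zero]))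
  rw [(herm n K).perp_perp] at h1
  obtain ⟨a, ha⟩ := Submodule.mem_span_singleton.1 h1
  exact ⟨a, ha.symm⟩

end Witt

theorem v1 (h : n = 4) : ((1 : Fin (n + 1)) : ℕ) = 1 := by
  rw [Fin.val_one', Nat.mod_eq_of_lt (by omega)]

theorem v2 (h : n = 4) : ((2 : Fin (n + 1)) : ℕ) = 2 := by
  rw [Fin.coe_ofNat_eq_mod, Nat.mod_eq_of_lt (by omega)]

theorem m1 (h : n = 4) : 1 % (n + 1) = 1 := Nat.mod_eq_of_lt (by omega)
theorem m2 (h : n = 4) : 2 % (n + 1) = 2 := Nat.mod_eq_of_lt (by omega)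

variable [hp : Par n K]

theorem hf_evv (i j : Fin (n + 1)) :
    hf (ev i : Vn n K) (ev j) = if i.val + j.val = n then 1 else 0 := by
  rw [hf_ev]
  refine if_congr ?_ rfl rfl
  rw [Fin.ext_iff, Fin.val_rev]; omega

theorem rev0 : (0 : Fin (n + 1)).rev = la n := by simp

theorem iso0 : Iso (ev 0 : Vn n K) := by
  have := hp.five
  rw [Iso, hf_evv, if_neg (by simp; omega)]

theorem isoL : Iso (ev (la n) : Vn n K) := by
  have := hp.five
  rw [Iso, hf_evv, if_neg (by simp; omega)]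

theorem hf0L : hf (ev 0 : Vn n K) (ev (la n)) = 1 := by rw [hf_evv, if_pos (by simp)]
theorem hfL0 : hf (ev (la n) : Vn n K) (ev 0) = 1 := by rw [hf_evv, if_pos (by simp)]

theorem li_ev {ι : Type} {f : ι → Fin (n + 1)} (hf : Function.Injective f) :
    LinearIndependent K fun i => (ev (f i) : Vn n K) := by
  have := (Pi.basisFun K (Fin (n + 1))).linearIndependent.comp f hf
  convert this using 2 with i
  simp [ev]

/-- a non-isotropic vector supported on `2, 2'` -/
theorem exists_p : ∃ p : Vn n K, ¬ Iso p ∧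
    ∀ i : Fin (n + 1), i.val ≠ 2 → i.val + 2 ≠ n → hf p (ev i) = 0 := by
  have := hp.five
  have h2 := v2 hp.five
  refine ⟨ev 2, fun h => ?_, fun i h1 h3 => ?_⟩
  · rw [Iso, hf_evv, if_pos (by omega)] at h
    exact one_ne_zero h
  · rw [hf_evv, if_neg (by omega)]

theorem w1 {v : Vn n K} (h0 : v ≠ 0) (hv : Iso v) : ∃ g : XU n K, ac g (ev 0) = v := by
  have := hp.five
  obtain ⟨g, hg, h⟩ := (herm n K).exists_sisom_isotropic (by rw [finrank_Vn]; omega) (ev_ne 0) h0
    iso0 hv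
  obtain ⟨x, hx⟩ := exists_ac hg
  exact ⟨x, (hx _).trans h⟩

theorem w2 {u v : Vn n K} (h : Pp u v) (hl : Li u v) :
    ∃ g : XU n K, ac g (ev 0) = u ∧ ac g (ev 1) = v := by
  have := hp.five
  have h1 := m1 hp.five
  obtain ⟨p, p1, p2⟩ := exists_p (n := n) (K := K)
  have hf' : Function.Injective ![(0 : Fin (n + 1)), 1] := fun i j e => by
    fin_cases i <;> fin_cases j <;> simp_all [Fin.ext_iff]
  obtain ⟨g, hg⟩ := witt_src (li_ev hf') (li_iff.1 hl) (fun i j => by
    fin_cases i <;> fin_cases j <;> simp [hf_evv, h1, h.l, h.r, h.p, h.symm.p] <;> omega) p1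
    fun i => by fin_cases i <;> exact p2 _ (by simp [h1]) (by simp [h1]; omega)
  exact ⟨g, hg 0, hg 1⟩

theorem wh {u v : Vn n K} (hu : Iso u) (hv : Iso v) (h : hf u v ≠ 0) :
    ∃ g : XU n K, ac g (ev 0) = u ∧ ac g (star (hf u v) • ev (la n)) = v := by
  have := hp.five
  have h1 : BB n K (ev 0) (star (hf u v) • ev (la n)) = BB n K u v := by
    rw [BB_apply, hf_smul_left, hfL0, mul_one, star_hf, BB_apply]
  obtain ⟨g, hg, e1, e2⟩ := (herm n K).exists_sisom_hyp (by rw [finrank_Vn]; omega) iso0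
    ((isoL.smul _).trans hv.symm) hu (by rw [h1]; exact fun e => h (hf_symm e)) h1
  obtain ⟨x, hx⟩ := exists_ac hg
  exact ⟨x, (hx _).trans e1, (hx _).trans e2⟩

omit [CharP K 2] hp in
theorem li3_of {u v w : Vn n K} (h : Pp u v) (h' : Pp u w) (h0 : u ≠ 0) (h1 : hf v w ≠ 0) :
    Li3 u v w := fun a b c e => by
  have e1 := congrArg (fun x => hf x w) e
  have e2 := congrArg (fun x => hf x v) e
  simp only [hf_add_left, hf_smul_left, h.p, h.r, h'.p, h'.r, hf_zero_left, mul_zero, zero_add,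
    add_zero, mul_eq_zero, h1, or_false] at e1 e2
  obtain rfl := e2.resolve_right fun e => h1 (hf_symm e)
  subst e1
  simpa [h0] using e

theorem wh1 {u v w : Vn n K} (h : Pp u v) (h' : Pp u w) (h0 : u ≠ 0) (hvw : hf v w ≠ 0) :
    ∃ g : XU n K, ac g (ev 0) = u ∧ ac g (ev 1) = v ∧
      ac g (star (hf v w) • ev (1 : Fin (n + 1)).rev) = w := by
  have := hp.five
  have h1 := v1 hp.five
  obtain ⟨p, p1, p2⟩ := exists_p (n := n) (K := K)
  have a1 : Pp (ev 0 : Vn n K) (ev 1) := ⟨iso0, by rw [Iso, hf_evv, if_neg (by omega)],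
    by rw [hf_evv, if_neg (by simp [m1 this]; omega)]⟩
  have a2 : Pp (ev 0 : Vn n K) (ev (Fin.rev 1)) := ⟨iso0,
    by rw [Iso, hf_evv, if_neg (by rw [Fin.val_rev]; omega)],
    by rw [hf_evv, if_neg (by simp [m1 this]; omega)]⟩
  have a3 : Pp (ev 0 : Vn n K) (star (hf v w) • ev (Fin.rev 1)) := by simpa using a2.smul 1 _
  have a4 : hf (ev 1 : Vn n K) (star (hf v w) • ev (Fin.rev 1)) = hf v w := by
    rw [hf_smul_right, star_star, hf_evv, if_pos (by rw [Fin.val_rev]; omega), mul_one]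
  have a5 : hf (star (hf v w) • ev (Fin.rev 1)) (ev 1 : Vn n K) = hf w v := by
    rw [← star_hf, a4, star_hf]
  obtain ⟨g, hg⟩ := witt_src (li3_iff.1 (li3_of a1 a3 (ev_ne 0) (a4.trans_ne hvw)))
    (li3_iff.1 (li3_of h h' h0 hvw)) (fun i j => by
    fin_cases i <;> fin_cases j <;> simp [h.l, h.r, h.p, h.symm.p, h'.r, h'.p, h'.symm.p, a1.l, a1.r,
      a1.p, a1.symm.p, a3.r, a3.p, a3.symm.p, a4, a5]) p1 fun i => by
    fin_cases i
    · exact p2 _ (by simp) (by simp; omega)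
    · exact p2 _ (by omega) (by omega)
    · exact (hf_smul_right _ _ _).trans (by
        rw [p2 _ (by rw [Fin.val_rev]; omega) (by rw [Fin.val_rev]; omega), mul_zero])
  exact ⟨g, hg 0, hg 1, hg 2⟩

variable [Finite K]

theorem span {u : Vn n K} (hu : Iso u) (P : Vn n K → Prop) (h1 : ∀ x, Pp u x → P x)
    (h2 : ∀ x y, hf x u = 0 → hf y u = 0 → P x → P y → P (x + y)) (x : Vn n K) (hx : hf x u = 0) :
    P x := by
  by_cases hx0 : Iso x
  · exact h1 x ⟨hu, hx0, hf_symm hx⟩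
  have := hp.five
  obtain ⟨p, hp1, hp0⟩ := (herm n K).exists_self_ne_zero_perp_of_lt
    (W := Submodule.span K (Set.range ![u, x])) (by
      have := finrank_range_le_card (R := K) ![u, x]
      rw [Set.finrank, Fintype.card_fin] at this
      rw [finrank_Vn]; omega)
  rw [Matrix.range_cons_cons_empty, mem_perp_pair] at hp1
  obtain ⟨a, ha⟩ := (herm n K).exists_smul_norm_eq hp0 (c := hf x x) (star_hf x x)
  obtain ⟨η, hη⟩ := exists_tr (star_one K)
  have b1 : hf (a • p) u = 0 := by rw [hf_smul_left, show hf p u = 0 from hp1.1, mul_zero]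
  have b2 : hf (a • p) x = 0 := by rw [hf_smul_left, show hf p x = 0 from hp1.2, mul_zero]
  change hf _ _ = _ at ha
  generalize a • p = y at ha b1 b2
  have c1 : hf (η • (x + y)) u = 0 := by rw [hf_smul_left, hf_add_left, hx, b1]; simp
  have c2 : hf (x + η • (x + y)) u = 0 := by rw [hf_add_left, hx, c1, add_zero]
  have := h2 _ _ c2 c1 (h1 _ ⟨hu, ?_, hf_symm c2⟩) (h1 _ ⟨hu, ?_, hf_symm c1⟩)
  · rwa [add_assoc, v_add_self, add_zero] at this
  all_goals simp only [Iso, hf_add_left, hf_add_right, hf_smul_left, hf_smul_right, ha, b2, hf_symm b2]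
  · linear_combination hf x x * hη + (1 + η * star η) * hf x x * two0 K
  · linear_combination (η * star η) * hf x x * two0 K

omit hp in
theorem Tc_eq_TT [Hf K] {c : K} (hc : star c = c) (u : Vn n K) : ∃ a : K, Tc c u = TT (a • u) := by
  obtain ⟨a, rfl⟩ := exists_nm hc
  exact ⟨a, by rw [TT, Tc_smul, mul_one]⟩

omit [StarRing K] hp [Finite K] in
theorem fix_of {c d : K} (h : c + d = 0) : d = c := by linear_combination h - c * two0 K

theorem genT (H : Subgroup (XU n K)) (hH : ∀ v, Iso v → TT v ∈ H) : H = ⊤ := by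
  have := hp.five
  have h1 : tgrp (BB n K) ≤ H.map (lin n K) := (Subgroup.closure_le _).2 fun t ⟨p, hp, ht⟩ => by
    obtain ⟨c, hc, ht⟩ := ((herm n K).mem_axisGrp_isotropic hp).1 ht
    obtain ⟨a, ha⟩ := Tc_eq_TT (fix_of hc) p
    exact ⟨_, hH _ (Iso.smul hp a), LinearEquiv.ext fun v => by
      rw [ht, ← ha, lin_apply, ac_Tc hp (fix_of hc), BB_apply]⟩
  rw [(herm n K).tgrp_eq_sisom (.inl (by rw [finrank_Vn]; omega))] at h1
  exact top_unique fun g _ => (Subgroup.mem_map_iff_mem lin_inj).1 (h1 (lin_mem g))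

theorem EE_mem {u : Vn n K} (hu : Iso u) (H : Subgroup (XU n K)) (hH : ∀ v, Pp u v → TT v ∈ H)
    {x : Vn n K} {c : K} (h : Ok u x c) : EE u x c ∈ H := by
  have h0 : ∀ {x c d}, Ok u x c → Ok u x d → EE u x c ∈ H → EE u x d ∈ H := fun {x c d} hc hd e => by
    have h1 : star (c + d) = c + d := tr_eq_zero.1 (by
      have := hc.tr; have := hd.tr
      simp only [tr, star_add] at *
      linear_combination this + ‹c + star c = _› + hf x x * two0 K)
    obtain ⟨a, ha⟩ := Tc_eq_TT h1 u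
    have h2 := mul_mem e (ha ▸ hH _ (by simpa using Pp.smul ⟨hu, hu, hu⟩ 1 a))
    rw [EE_mul hc (ok_zero hu h1)] at h2
    simpa [← add_assoc, CharTwo.add_self_eq_zero] using h2
  refine span hu (fun x => ∀ c, Ok u x c → EE u x c ∈ H) (fun x hx c hc => h0 hx.ok hc ?_)
    (fun x y hx hy e1 e2 c hc => ?_) x h.perp c h
  · rw [show EE u x 0 = _ from qq_eq_TT hx]
    exact mul_mem (mul_mem (hH _ ⟨hu, hx.iso_add, by rw [hf_add_right, hu, hx.p, add_zero]⟩)
      (hH _ ⟨hu, hu, hu⟩)) (hH _ hx)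
  · obtain ⟨a, ha⟩ := exists_tr (star_hf x x)
    obtain ⟨b, hb⟩ := exists_tr (star_hf y y)
    have o1 : Ok u x a := ⟨hu, hx, ha⟩
    have o2 : Ok u y b := ⟨hu, hy, hb⟩
    exact h0 (o1.add o2) hc (EE_mul o1 o2 ▸ mul_mem (e1 a o1) (e2 b o2))

omit hp [Finite K] in
/-- an element of `Q` that moves `f` to `y` -/
theorem exists_EE {u f y : Vn n K} (hu : Iso u) (hf0 : Iso f) (hy : Iso y) (h1 : hf f u = 1)
    (h2 : hf y u = 1) : ∃ x c, Ok u x c ∧ hf x f = 0 ∧ ac (EE u x c) f = y := by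
  have h3 : hf u f = 1 := by rw [← star_hf, h1, star_one]
  have h4 : hf u y = 1 := by rw [← star_hf, h2, star_one]
  have h5 : hf (y + f + hf y f • u) f = 0 := by
    simp only [hf_add_left, hf_smul_left, hf0, h3]; linear_combination hf y f * two0 K
  have o : Ok u (y + f + hf y f • u) (hf y f) := ⟨hu, by
    simp only [hf_add_left, hf_smul_left, hu, h1, h2]; linear_combination two0 K, by
    simp only [tr, hf_add_left, hf_add_right, hf_smul_left, hf_smul_right, hu, hf0, hy, h1, h2, h3, h4,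
      star_hf]
    linear_combination -(hf y f + hf f y) * two0 K⟩
  refine ⟨_, _, o, h5, ?_⟩
  rw [ac_EE o, hf_symm h5, h1]
  ext i
  simp only [Pi.add_apply, Pi.smul_apply, smul_eq_mul]
  linear_combination (f i + hf y f * u i) * two0 K

/-- the Levi subgroup is generated by transvections -/
theorem levi_mem (hq : ∃ r : K, star r = r ∧ r ≠ 0 ∧ r ≠ 1) {u f : Vn n K} (hu : Iso u) (hf0 : Iso f) (h1 : hf f u = 1)
    (H : Subgroup (XU n K)) (hH : ∀ v, Pp u v → hf v f = 0 → TT v ∈ H) {l : XU n K} (e1 : ac l u = u)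
    (e2 : ac l f = f) : l ∈ H := by
  have := hp.five
  have hh := herm n K
  have hW := hh.disjoint_span_hyp (e := u) (f := f) hu (by simp [BB_apply, h1])
  obtain ⟨k, hk⟩ := (hh.mem_range_extPerp hW ⟨_, (lin_mem l).1⟩).2 fun x hx => by
    obtain ⟨a, b, rfl⟩ := Submodule.mem_span_pair.1 hx
    simp only [map_add, map_smul, lin_apply, e1, e2]
  have hd := hh.det_extPerp hW k
  rw [hk] at hd
  have h2 : k.1 ∈ tgrp (hypForm (BB n K) u f) := by
    rw [(hh.isHerm_hypForm hu h1).tgrp_eq_sisom (.inr hq)]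
    exact ⟨k.2, hd.symm.trans (lin_mem l).2⟩
  have h3 : tgrp (hypForm (BB n K) u f) ≤ ((H.map (lin n K)).comap
      ((isom _).subtype.comp (hh.extPerp hW))).map (isom _).subtype :=
    (Subgroup.closure_le _).2 fun t ⟨p, hp, ht⟩ => by
      obtain ⟨c, hc, ht'⟩ := ((hh.isHerm_hypForm hu h1).mem_axisGrp_isotropic hp).1 ht
      obtain ⟨a, ha⟩ := Tc_eq_TT (fix_of hc) p.1
      have hp' := mem_perp_pair.1 p.2
      have hp : Iso p.1 := hp
      refine ⟨⟨t, ht.1⟩, ⟨_, hH (a • p.1) (by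
        simpa using Pp.smul ⟨hu, hp, hf_symm hp'.1⟩ 1 a) (by
        rw [hf_smul_left, show hf p.1 f = 0 from hp'.2, mul_zero]), LinearEquiv.ext fun v => ?_⟩, rfl⟩
      obtain ⟨x, hx, y, hy, rfl⟩ := Submodule.mem_sup.1
        ((hh.isCompl_perp hW).sup_eq_top ▸ Submodule.mem_top : v ∈ _)
      have b1 := sumHom_apply_left (hh.isCompl_perp hW) (1, t) ⟨x, hx⟩
      have b2 := sumHom_apply_right (hh.isCompl_perp hW) (1, t) ⟨y, hy⟩
      change _ = sumHom (hh.isCompl_perp hW) (1, t) (x + y)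
      rw [map_add, map_add, b1, b2, ht', ← ha, lin_apply, lin_apply, ac_Tc hp (fix_of hc),
        ac_Tc hp (fix_of hc), hf_symm (p.2 x hx)]
      simp [show hypForm (BB n K) u f p ⟨y, hy⟩ = hf y p.1 from rfl]
  obtain ⟨k', hk', e⟩ := h3 h2
  obtain rfl : k' = k := Subtype.ext e
  exact (Subgroup.mem_map_iff_mem lin_inj).1 (by simpa [hk] using hk')

omit hp in
theorem exists_r (hq : 4 ≤ qK K) : ∃ r : K, star r = r ∧ r ≠ 0 ∧ r ≠ 1 := by
  by_contra h
  push Not at h
  have : Nat.card (selfAdjoint K) ≤ Nat.card Bool := Nat.card_le_card_of_injective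
    (fun a => open Classical in decide (a.1 = 0)) fun a b e => Subtype.ext (by
      by_cases h0 : a.1 = 0
      · simpa [h0, eq_comm] using e
      · have h1 : b.1 ≠ 0 := by simpa [h0] using e
        rw [h a.1 a.2 h0, h b.1 b.2 h1])
  rw [Nat.card_eq_fintype_card (α := Bool), Fintype.card_bool] at this
  exact absurd (hq.trans this) (by omega)

theorem genP (hq : 4 ≤ qK K) (H : Subgroup (XU n K)) (hH : ∀ v, Pp (ev 0) v → TT v ∈ H) {g : XU n K}
    (hg : ac g (ev 0) = ev 0) : g ∈ H := by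
  obtain ⟨x, c, o, -, e⟩ := exists_EE iso0 isoL (isoL.ac g) hfL0 (by rw [← hg, hf_ac, hfL0])
  have h1 := EE_mem iso0 H hH o
  have h2 : (EE (ev 0) x c)⁻¹ * g ∈ H := levi_mem (exists_r hq) iso0 isoL hfL0 H (fun v hv _ => hH v hv)
    (by rw [ac_mul, hg]; exact ac_inj (EE (ev 0) x c) (by rw [ac_ac_inv, ac_EE_self o]))
    (by rw [ac_mul, ← e, ac_inv_ac])
  simpa using mul_mem h1 h2

theorem rootT [FV n K] {v : Vn n K} (h0 : v ≠ 0) (hv : Iso v) : GA.Root (TT v) := by
  obtain ⟨g, rfl⟩ := w1 h0 hv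
  exact ⟨g, TT (ev 0), (FV.mem_Z _).2 ⟨1, star_one K, rfl⟩,
    fun e => one_ne_zero (Tc_eq_one (ev_ne 0) iso0 (star_one K) e), (Tc_conj iso0 (star_one K) g).symm⟩

theorem jobFW : JobFW := fun n K _ _ _ _ _ _ _ =>
  { witt := fun _ v w hv hw h ⟨p, hp, hpw⟩ => by
      obtain ⟨g, hg⟩ := witt_src hw hv (fun i j => (h i j).symm) hp hpw
      exact ⟨g⁻¹, fun i => by rw [← hg, ac_inv_ac]⟩
    w1 := fun _ => w1
    w2 := fun _ _ => w2
    wh := fun _ _ => wh
    wh1 := fun _ _ _ => wh1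
    span := fun _ => span
    dual := fun _ _ _ => dual
    rootT := fun _ => rootT
    genT := genT
    genP := fun hq H hH _ hg => genP hq H hH hg }

end H59.UM5
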