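import Cfsg.Agent.H67.SPIII

/-! STD-SP chapter III (row S3129), slot `MU1`: the model `SU_(2k+1)(q)`. -/

set_option autoImplicit false
set_option linter.unusedSectionVars false

namespace H59.S3MU1

open Matrix Subgroup H67 H67.SP
open H67.UA hiding Par sg
open H67.SA (la cm)

section Ins

variable {n : ℕ} {K : Type} [Field K] [StarRing K] [CharP K 2]

theorem rev_mid (hn : Odd n) : (mid n).rev = mid n := Fin.ext (by
  obtain ⟨m, hm⟩ := hn
  simp only [Fin.val_rev, mid]; omega)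

theorem det_row {R : Type} [CommRing R] {m : ℕ} (p : Fin (m + 1))
    (M : Matrix (Fin (m + 1)) (Fin (m + 1)) R) (h : ∀ j, M p j = if j = p then 1 else 0) :
    M.det = (M.submatrix p.succAbove p.succAbove).det := by
  rw [det_succ_row M p, Finset.sum_eq_single p (fun j _ hj => by simp [h, hj]) (by simp), h, if_pos rfl,
    ← two_mul, pow_mul]
  simp

@[simp] theorem iv_mid (v : Vn n K) : iv v (mid n) = 0 := by simp [iv]
@[simp] theorem iv_sa (v : Vn n K) (i : Fin (n + 1)) : iv v ((mid n).succAbove i) = v i := by simp [iv]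
@[simp] theorem rm_iv (v : Vn n K) : (mid n).removeNth (iv v) = v := by simp [iv]
theorem rm_mid : (mid n).removeNth (ev (mid n) : Vn (n + 1) K) = 0 := funext fun i => by
  simp [Fin.removeNth, ev_apply]

theorem vext {a b : Vn (n + 1) K} (h1 : a (mid n) = b (mid n))
    (h2 : ∀ i, a ((mid n).succAbove i) = b ((mid n).succAbove i)) : a = b := funext fun j => by
  rcases Fin.eq_self_or_eq_succAbove (mid n) j with rfl | ⟨i, rfl⟩
  exacts [h1, h2 i]

theorem iv_add (v w : Vn n K) : iv (v + w) = iv v + iv w := vext (by simp) (by simp)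
theorem iv_smul (a : K) (v : Vn n K) : iv (a • v) = a • iv v := vext (by simp) (by simp)
@[simp] theorem iv_zero : iv (0 : Vn n K) = 0 := vext (by simp) (by simp)
theorem iv_ev (i : Fin (n + 1)) : iv (ev i : Vn n K) = ev ((mid n).succAbove i) :=
  vext (by simp [ev_apply]) (by simp [ev_apply])
theorem iv_inj {v w : Vn n K} (h : iv v = iv w) : v = w := by rw [← rm_iv v, h, rm_iv]

theorem dec (z : Vn (n + 1) K) : z = z (mid n) • ev (mid n) + iv ((mid n).removeNth z) :=
  vext (by simp [ev_apply]) (by simp [ev_apply, Fin.removeNth])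

theorem ext_mi {g h : XU (n + 1) K} (h1 : ac g (ev (mid n)) = ac h (ev (mid n)))
    (h2 : ∀ i, ac g (iv (ev i)) = ac h (iv (ev i))) : g = h :=
  X_ext (Matrix.ext fun i j => by
    rw [← ac_ev, ← ac_ev]
    rcases Fin.eq_self_or_eq_succAbove (mid n) j with rfl | ⟨k, rfl⟩
    · rw [h1]
    · rw [← iv_ev, h2])

variable (hn : Odd n)
include hn

theorem hf_mid (w w' : Vn (n + 1) K) : hf w w' = w (mid n) * star (w' (mid n)) +
    hf (n := n) ((mid n).removeNth w) ((mid n).removeNth w') := by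
  rw [hf, Fin.sum_univ_succAbove _ (mid n), rev_mid hn]
  simp only [hf, Fin.removeNth, Fin.rev_succAbove, rev_mid hn]

theorem hf_iv (v w : Vn n K) : hf (iv v) (iv w) = hf v w := by simp [hf_mid hn]
theorem hf_m (z : Vn (n + 1) K) : hf z (ev (mid n)) = z (mid n) := by rw [hf_ev_right, rev_mid hn]
theorem hf_im (v : Vn n K) : hf (iv v) (ev (mid n)) = 0 := by simp [hf_m hn]
theorem hf_mi (v : Vn n K) : hf (ev (mid n)) (iv v) = 0 := hf_symm (hf_im hn v)
theorem hf_mm : hf (ev (mid n) : Vn (n + 1) K) (ev (mid n)) = 1 := by simp [hf_m hn, ev_apply]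

theorem ins_ex : ∃ j, IsIns n K j := by
  let L : XU n K → Vn (n + 1) K →ₗ[K] Vn (n + 1) K := fun g =>
    { toFun := fun w => (mid n).insertNth (w (mid n)) (ac g ((mid n).removeNth w))
      map_add' := fun a b => by rw [← Fin.insertNth_add, ← ac_add]; rfl
      map_smul' := fun c a => (Fin.insertNth_eq_iff.2 ⟨by simp, funext fun i => by
        rw [show (mid n).removeNth (c • a) = c • (mid n).removeNth a from rfl, ac_smul]
        simp [Fin.removeNth]⟩) }
  have hL : ∀ g w, L g w = (mid n).insertNth (w (mid n)) (ac g ((mid n).removeNth w)) :=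
    fun _ _ => rfl
  have hd : ∀ g, (LinearMap.toMatrix' (L g)).det = 1 := fun g => by
    rw [det_row (mid n) _ fun j => by
      rw [LinearMap.toMatrix'_apply, hL, Fin.insertNth_apply_same, Pi.single_apply]; simp [eq_comm],
      ← mt_det g]
    congr 1
    ext i j
    rw [submatrix_apply, LinearMap.toMatrix'_apply, hL, Fin.insertNth_apply_succAbove, ← ac_ev]
    congr 2
    exact iv_inj (vext (by simp) fun k => by simp [Fin.removeNth, ev_apply, Pi.single_apply])
  choose j hj using fun g => exists_X (LinearMap.toMatrix' (L g)) (hd g) fun x y => by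
    simp only [LinearMap.toMatrix'_mulVec, hf_mid hn, hL, Fin.insertNth_apply_same,
      Fin.removeNth_insertNth, hf_ac]
  have k : ∀ g w, ac (j g) w = L g w := fun g w => by rw [ac, hj, LinearMap.toMatrix'_mulVec]
  refine ⟨MonoidHom.mk' j fun a b => ac_ext fun w => by
    simp only [ac_mul, k, hL, Fin.insertNth_apply_same, Fin.removeNth_insertNth], fun g => ⟨?_, fun v => ?_⟩⟩
  · refine (k g _).trans ((hL _ _).trans (Fin.insertNth_eq_iff.2 ⟨rfl, ?_⟩))
    rw [rm_mid, ac_zero]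
  · refine (k g _).trans ?_
    simp only [hL, iv, Fin.insertNth_apply_same, Fin.removeNth_insertNth]

theorem isIns : IsIns n K (ins n K) := by
  rw [ins, dif_pos (ins_ex hn)]; exact (ins_ex hn).choose_spec

theorem ac_m (g : XU n K) : ac (ins n K g) (ev (mid n)) = ev (mid n) := (isIns hn g).1
theorem ac_i (g : XU n K) (v : Vn n K) : ac (ins n K g) (iv v) = iv (ac g v) := (isIns hn g).2 v

theorem ins_inj : Function.Injective (ins n K) := fun g h e =>
  ac_ext fun v => iv_inj (by rw [← ac_i hn, ← ac_i hn, e])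

theorem ins_rng (g : XU (n + 1) K) (h : ac g (ev (mid n)) = ev (mid n)) : ∃ y, ins n K y = g := by
  have k : ∀ z, ac g z (mid n) = z (mid n) := fun z => by
    rw [← hf_m hn (ac g z), ← hf_m hn z]
    conv_lhs => rw [← h]
    rw [hf_ac]
  have a : ∀ v, ac g (iv v) = iv ((mt g).submatrix (mid n).succAbove (mid n).succAbove *ᵥ v) := fun v =>
    vext (by rw [k]; simp) fun i => by
      rw [iv_sa, ac, mulVec, dotProduct, Fin.sum_univ_succAbove _ (mid n)]
      simp [mulVec, dotProduct]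
  obtain ⟨y, hy⟩ := exists_X ((mt g).submatrix (mid n).succAbove (mid n).succAbove)
    (by rw [← det_row (mid n) _ fun j => by rw [← ac_ev, k, ev_apply]; simp [eq_comm], mt_det])
    fun x y => by rw [← hf_iv hn, ← a, ← a, hf_ac, hf_iv hn]
  exact ⟨y, ext_mi (by rw [ac_m hn, h]) fun i => by rw [ac_i hn, a, ac, hy]⟩

theorem ok_iv {u x : Vn n K} {c : K} (h : Ok u x c) : Ok (iv u) (iv x) c :=
  ⟨by rw [Iso, hf_iv hn, h.iso], by rw [hf_iv hn, h.perp], by rw [hf_iv hn, h.tr]⟩

theorem ins_EE {u x : Vn n K} {c : K} (h : Ok u x c) : ins n K (EE u x c) = EE (iv u) (iv x) c :=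
  ext_mi (by rw [ac_m hn, ac_EE_fix (ok_iv hn h) (hf_mi hn _) (hf_mi hn _)]) fun i => by
    rw [ac_i hn, ac_EE h, ac_EE (ok_iv hn h)]
    simp only [iv_add, iv_smul, hf_iv hn]

end Ins

section Bc

variable {m : ℕ} {K K' : Type} [Field K] [StarRing K] [CharP K 2] [Field K'] [StarRing K'] [CharP K' 2]
  (φ : K →+* K') (h : ∀ a, star (φ a) = φ (star a))

theorem vx_add (v w : Vn m K) : vx φ (v + w) = vx φ v + vx φ w := funext fun _ => map_add φ _ _
theorem vx_smul (a : K) (v : Vn m K) : vx φ (a • v) = φ a • vx φ v := funext fun _ => map_mul φ _ _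
@[simp] theorem vx_zero : vx φ (0 : Vn m K) = 0 := funext fun _ => map_zero φ
theorem vx_ev (i : Fin (m + 1)) : vx φ (ev i : Vn m K) = ev i := funext fun j => by
  simp only [vx, ev_apply]; split_ifs <;> simp
theorem vx_iv (v : Vn m K) : vx φ (iv v) = iv (vx φ v) := vext (by simp [vx]) (by simp [vx])

theorem ac_bc (g : XU m K) (v : Vn m K) : ac (bc φ h g) (vx φ v) = vx φ (ac g v) := funext fun i => by
  simp [ac, mt_bc, vx, mulVec, dotProduct]

include h in
theorem hf_vx (v w : Vn m K) : hf (vx φ v) (vx φ w) = φ (hf v w) := by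
  simp [hf, vx, h]

include h in
theorem ok_vx {u x : Vn m K} {c : K} (o : Ok u x c) : Ok (vx φ u) (vx φ x) (φ c) :=
  ⟨by rw [Iso, hf_vx φ h, o.iso, map_zero], by rw [hf_vx φ h, o.perp, map_zero],
    by rw [hf_vx φ h, ← o.tr, tr, tr, h, map_add]⟩

theorem bc_EE {u x : Vn m K} {c : K} (o : Ok u x c) :
    bc φ h (EE u x c) = EE (vx φ u) (vx φ x) (φ c) :=
  X_ext (Matrix.ext fun i j => by
    rw [← ac_ev, ← ac_ev, ← vx_ev φ j, ac_bc, ac_EE o, ac_EE (ok_vx φ h o)]
    simp only [vx_add, vx_smul, hf_vx φ h, map_mul])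

theorem bc_ins (hn : Odd m) (g : XU m K) : bc φ h (ins m K g) = ins m K' (bc φ h g) :=
  ext_mi (by rw [ac_m hn, ← vx_ev φ, ac_bc, ac_m hn]) fun i => by
    rw [ac_i hn, ← vx_ev φ, ← vx_iv, ac_bc, ac_bc, ac_i hn, vx_iv]

end Bc

theorem key {m : ℕ} {K : Type} [Field K] [StarRing K] [CharP K 2] {U V M : Vn m K} {η : K}
    (se : star η = η + 1) (p : Pp U V) (mU : hf M U = 0) (mV : hf M V = 0) (mm : hf M M = 1) :
    EE (U + V) M η * EE U M η * EE V M η * (Tc 1 U * Tc 1 V) = EE U ((η + 1) • V) 0 := by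
  have o : ∀ W : Vn m K, Iso W → hf M W = 0 → Ok W M η := fun W h1 h2 =>
    ⟨h1, h2, by rw [mm, tr, se, ← add_assoc, CharTwo.add_self_eq_zero, zero_add]⟩
  have o2 : Ok U ((η + 1) • V) 0 := by simpa using (p.smul 1 (η + 1)).ok
  refine ac_ext fun y => ?_
  simp only [ac_mul, ac_EE (o _ p.l mU), ac_EE (o _ p.r mV),
    ac_EE (o _ p.iso_add (by rw [hf_add_right, mU, mV, add_zero])), ac_Tc p.l (star_one K),
    ac_Tc p.r (star_one K), ac_EE o2, hf_add_left, hf_add_right, hf_smul_left, hf_smul_right, p.p,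
    p.symm.p, show hf U U = 0 from p.l, show hf V V = 0 from p.r, mU, mV, mm, hf_symm mU, hf_symm mV,
    star_add, se, star_one, mul_zero, add_zero, mul_one, one_mul, zero_add, zero_mul, zero_smul]
  ext i
  simp only [Pi.add_apply, Pi.smul_apply, smul_eq_mul]
  generalize hf y U = a
  generalize hf y V = b
  generalize hf y M = c
  linear_combination ((a + b) * M i + (a + c + η * a) * U i + (b + c + η * b) * V i) * two0 K

theorem jobMU1 : JobMU1 := by
  intro pn n F _ _ _ _ _ p b K _ _ _ _ x δ η et h mu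
  have hn := p.odd
  have hs := x.st (Or.inr h)
  have se : star η = η + 1 := by rw [h, et.sg]
  have o : ∀ v : Vn n K, Iso v → Ok (iv v) (ev (mid n)) η := fun v hv =>
    ⟨by rw [Iso, hf_iv hn, hv], hf_mi hn v, by
      rw [hf_mm hn, tr, se, ← add_assoc, CharTwo.add_self_eq_zero, zero_add]⟩
  have iso : ∀ v : Vn n F, Iso (vx x.φ v) := fun v => by rw [Iso, hf_vx _ hs, FV.iso v, map_zero]
  have cj : ∀ (y : XU n K) (v : Vn n K), Iso v →
      ins n K y * EE (iv v) (ev (mid n)) η * (ins n K y)⁻¹ = EE (iv (ac y v)) (ev (mid n)) η :=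
    fun y v hv => by rw [EE_conj (o v hv), ac_i hn, ac_m hn]
  have mv : ∀ v : Vn n K, Iso v → ac (EE (iv v) (ev (mid n)) η) (ev (mid n)) = ev (mid n) + iv v :=
    fun v hv => by rw [ac_EE_perp (o v hv) (hf_mi hn v), hf_mm hn, one_smul]
  have hi : ∀ v w : Vn n K, hf (ev (mid n) + iv v) (ev (mid n) + iv w) = 1 + hf v w := fun v w => by
    rw [hf_add_left, hf_add_right, hf_add_right, hf_mm hn, hf_mi hn, hf_im hn, hf_iv hn]; simp
  have ee : ∀ (u y : Vn n F) (c : F), hf y u = 0 → ((bc x.φ hs).comp (ins n F)) (EE u y c) =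
      EE (iv (vx x.φ u)) (iv (vx x.φ y)) (x.φ c) := fun u y c hy => by
    rw [MonoidHom.comp_apply, bc_ins _ _ hn, bc_EE _ _ (FV.ok u y c hy), ins_EE hn (ok_vx _ hs (FV.ok u y c hy))]
  have et1 : ∀ v : Vn n F, ((bc x.φ hs).comp (ins n F)) (Tc 1 v) = Tc 1 (iv (vx x.φ v)) := fun v => by
    rw [ee _ _ _ (hf_zero_left _)]; simp
  have isoi : ∀ v : Vn n F, Iso (iv (vx x.φ v)) := fun v => (o _ (iso v)).iso
  have pi : ∀ u v : Vn n F, hf u v = 0 → hf (iv (vx x.φ u)) (iv (vx x.φ v)) = 0 := fun u v huv => by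
    rw [hf_iv hn, hf_vx _ hs, huv, map_zero]
  refine
    { isIns := isIns hn
      inj := ins_inj hn
      rng := ins_rng hn
      sq := bc_ins _ _ hn
      r1 := ⟨⟨by simp [TU], fun g v => ?_⟩, fun u v huv => ?_⟩
      tsq := fun v => ?_
      sg := fun u v huv => ?_
      cj := cj
      mv := mv
      nb := fun z => ⟨fun ⟨h1, _, h3⟩ => ?_, ?_⟩
      hi := hi
      trans := fun z hz => ?_
      fi := fun y => bc_ins (x.σ : K →+* K) (x.sf (Or.inr h)) hn y
      ft := fun v => ?_ }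
  · rw [MonoidHom.comp_apply, bc_ins _ _ hn, TU, cj _ _ (iso v), ac_bc]; rfl
  · have pp : Pp (iv (vx x.φ v)) (iv (vx x.φ u)) := ⟨isoi v, isoi u, pi v u (hf_symm huv)⟩
    rw [one_smul, qq, ee _ _ _ (hf_symm huv), cm, TU, TU, EE_conj (o _ (iso v)), mv _ (iso u),
      ac_EE_fix (o _ (iso u)) pp.p (hf_im hn _), mul_inv_eq_iff_eq_mul, map_zero, ← qq, qq_comm, qq,
      EE_mul pp.ok (o _ (iso v)), hf_mi hn, add_comm (iv _)]
    simp
  · rw [TU, EE_mul (o _ (iso v)) (o _ (iso v)), et1, hf_mm hn, v_add_self, CharTwo.add_self_eq_zero,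
      zero_add]
  · have pp : Pp (vx x.φ u) (vx x.φ v) := ⟨iso u, iso v, by rw [hf_vx _ hs, huv, map_zero]⟩
    have o2 : Ok (vx x.φ u) ((η + 1) • vx x.φ v) 0 := by simpa using (pp.smul 1 (η + 1)).ok
    rw [SP.sg, map_mul, et1, et1, SU0, ins_EE hn o2, TU, TU, TU, vx_add, iv_add, iv_smul]
    exact key se ⟨isoi u, isoi v, pi u v huv⟩ (hf_mi hn _) (hf_mi hn _) (hf_mm hn)
  · rw [hf_m hn] at h3
    have e := dec z
    rw [h3, one_smul] at e
    refine ⟨_, ?_, e⟩
    rw [e, hi] at h1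
    exact left_eq_add.1 h1.symm
  · rintro ⟨v, hv, rfl⟩
    refine ⟨by rw [hi, hv, add_zero], hf_mm hn, ?_⟩
    rw [hf_add_left, hf_mm hn, hf_im hn, add_zero]
  · have := mu.par'
    have := p.five
    exact (pn (n + 1) K (by omega)).2 _ _ (hf_mm hn) hz
  · show bc (x.σ : K →+* K) (x.sf (Or.inr h)) _ = ((bc x.φ hs).comp (ins n F)) (Tc 1 v) * _
    have e : vx (x.σ : K →+* K) (vx x.φ v) = vx x.φ v := funext fun i => (x.fix _).2 ⟨_, rfl⟩
    rw [et1, TU, bc_EE (x.σ : K →+* K) (x.sf (Or.inr h)) (o _ (iso v)), vx_iv, vx_ev, e,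
      EE_mul (ok_zero (isoi v) (star_one K)) (o _ (iso v)), zero_add, hf_zero_right, add_zero,
      RingHom.coe_coe, et.sg, add_comm η]

end H59.S3MU1
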