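/- Tower QE, job QE-U3: components in fixed points of involutory automorphisms of `U_3(2^n)`, `U_3(3)`. -/
import Cfsg.Agent.H59.U3Inv
import Cfsg.Agent.H36.QEKit
import Cfsg.Agent.H67.ChevLoc
import Cfsg.Agent.H33.SL2Unip
import Cfsg.Agent.H47.HigRing
import Cfsg.Agent.H29.Burnside
import Cfsg.Agent.S1057
import Cfsg.Agent.S2089

set_option autoImplicit false

namespace H59

open Matrix Cfsg H57 H58 H36.QE Subgroup H14
open H14.CO (cen1)

universe u

section Real

variable {F : Type*} [Field F] [Fintype F] {q : ℕ}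

/-- the real points of `SU_3` -/
noncomputable abbrev Rl (hF : Fintype.card F = q ^ 2) : Subgroup (SU 3 F q) :=
  Fix (suField 3 F q (frobAut hF))

theorem cen_cube (hF : Fintype.card F = q ^ 2) {z : SU 3 F q} (hz : z ∈ center (SU 3 F q)) :
    z ^ 3 = 1 ∧ suField 3 F q (frobAut hF) z = z⁻¹ := by
  constructor
  · have := congrArg Subtype.val (pow_card_eq_one' (x := (⟨z, hz⟩ : center (SU 3 F q))))
    rw [card_center_SU hF (by norm_num)] at this
    exact orderOf_dvd_iff_pow_eq_one.1 ((orderOf_dvd_iff_pow_eq_one.2 this).trans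
      (Nat.gcd_dvd_left _ _))
  · obtain ⟨a, ha⟩ := (mem_center_SU_iff hF (by norm_num) z).1 hz
    have h1 := su_unitary hF z
    rw [show (z.1 : Matrix (Fin 3) (Fin 3) F)ᵀ = z.1 by rw [ha]; simp] at h1
    exact eq_inv_of_mul_eq_one_right (su_ext h1)

theorem nonempty_rl_equiv (hF : Fintype.card F = q ^ 2) :
    ∃ e : Rl hF ≃* Fix (psuField 3 F q (frobAut hF)), ∀ s, (e s : PSU 3 F q) = (s : SU 3 F q) := by
  let f : Rl hF →* Fix (psuField 3 F q (frobAut hF)) :=
    ((QuotientGroup.mk' _).comp (Rl hF).subtype).codRestrict _ fun s =>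
      (psuField_mk _ _).trans (congrArg _ s.2)
  refine ⟨MulEquiv.ofBijective f ⟨(injective_iff_map_eq_one f).2 fun s hs => ?_, ?_⟩, fun _ => rfl⟩
  · obtain ⟨h1, h2⟩ := cen_cube hF ((QuotientGroup.eq_one_iff s.1).1 (congrArg Subtype.val hs))
    rw [show suField 3 F q (frobAut hF) s.1 = s.1 from s.2, eq_inv_iff_mul_eq_one] at h2
    rw [pow_three, h2, mul_one] at h1
    exact Subtype.ext h1
  · rintro ⟨x, hx⟩
    obtain ⟨s, rfl⟩ := QuotientGroup.mk_surjective x
    have h1 := QuotientGroup.eq.1 ((psuField_mk _ s).symm.trans hx).symm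
    obtain ⟨h2, h3⟩ := cen_cube hF h1
    set z := s⁻¹ * suField 3 F q (frobAut hF) s with hz
    refine ⟨⟨s * (z * z), ?_⟩, Subtype.ext (QuotientGroup.eq.2 ?_).symm⟩
    · rw [mem_Fix, map_mul, map_mul, h3, ← mul_inv_cancel_left s (suField 3 F q (frobAut hF) s), ← hz,
        mul_assoc, mul_inv_cancel_left, eq_inv_of_mul_eq_one_left (show z * z * z = 1 by
          rw [← h2, pow_three'])]
    · simpa using mul_mem h1 h1

theorem mem_rl (hF : Fintype.card F = q ^ 2) {s : SU 3 F q} : s ∈ Rl hF ↔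
    ∀ i j, frobAut hF ((s.1 : Matrix (Fin 3) (Fin 3) F) i j) =
      (s.1 : Matrix (Fin 3) (Fin 3) F) i j :=
  ⟨fun h i j => congrArg (fun x : SU 3 F q => (x.1 : Matrix (Fin 3) (Fin 3) F) i j) h,
    fun h => su_ext (Matrix.ext h)⟩

theorem solvable_fix_three (hF : Fintype.card F = 3 ^ 2) :
    Group.IsSolvable (Fix (psuField 3 F 3 (frobAut hF))) := by
  obtain ⟨e, -⟩ := nonempty_rl_equiv hF
  have := Fintype.ofFinite (fixedSub (frobAut hF))
  have h0 : Fintype.card (fixedSub (frobAut hF)) = 3 := by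
    rw [← Nat.card_eq_fintype_card, card_fixedSub_frob]
  have h1 : Nat.card (PSU 3 F 3) = 6048 := by
    have := card_PSU hF (n := 3) (by norm_num)
    rw [show ordGU 3 3 = 24192 by decide, show Nat.gcd 3 (3 + 1) = 1 by decide] at this
    omega
  have h2 : Nat.card (Rl hF) ∣ 11232 := by
    let f : Rl hF →* GL (Fin 3) F :=
      (GU 3 F 3).subtype.comp ((suToGU 3 F 3).comp (Rl hF).subtype)
    have hf : Function.Injective f :=
      Subtype.val_injective.comp (suToGU_injective.comp Subtype.val_injective)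
    have h3 : f.range ≤ (GeneralLinearGroup.map (fixedSub (frobAut hF)).subtype).range := by
      rintro _ ⟨s, rfl⟩
      exact (mem_range_map_iff _ _).2 fun i j =>
        ⟨⟨_, mem_fixedSub.2 ((mem_rl hF).1 s.2 i j)⟩, rfl⟩
    have h4 := (card_dvd_of_le h3).trans (card_range_dvd _)
    rw [card_GL_field, h0, ← Nat.card_congr (MonoidHom.ofInjective hf).toEquiv] at h4
    simpa [Fin.prod_univ_three] using h4
  refine H29.isSolvable_of_card_dvd_pow_mul_pow (a := 5) (b := 3) Nat.prime_two Nat.prime_three ?_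
  rw [Nat.card_congr e.toEquiv] at h2
  exact Nat.dvd_gcd h2 (h1 ▸ card_subgroup_dvd_card _)

end Real

section Two

/-- `SL_2` inside the orthogonal group of the sum of three squares in characteristic two -/
def rh {K : Type*} [CommRing K] (A : Matrix (Fin 2) (Fin 2) K) : Matrix (Fin 3) (Fin 3) K :=
  !![1 + A 0 1, 1 + A 0 0 + A 0 1, 1 + A 0 0;
    1 + A 0 1 + A 1 1, 1 + A 0 0 + A 0 1 + A 1 0 + A 1 1, 1 + A 0 0 + A 1 0;
    1 + A 1 1, 1 + A 1 0 + A 1 1, 1 + A 1 0]

variable {F : Type*} [Field F] [CharP F 2]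

theorem rh_mul (A B : Matrix (Fin 2) (Fin 2) F) : rh (A * B) = rh A * rh B := by
  ext i j
  fin_cases i <;> fin_cases j <;> simp [rh, mul_apply, Fin.sum_univ_three] <;> grind

theorem rh_det (A : Matrix (Fin 2) (Fin 2) F) : (rh A).det = A.det := by
  simp [rh, det_fin_three, det_fin_two]
  grind

theorem rh_orth {A : Matrix (Fin 2) (Fin 2) F} (h : A.det = 1) : (rh A)ᵀ * rh A = 1 := by
  rw [det_fin_two] at h
  ext i j
  fin_cases i <;> fin_cases j <;> simp [rh, mul_apply, Fin.sum_univ_three] <;> grind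

theorem eq_rh {M : Matrix (Fin 3) (Fin 3) F} (h : Mᵀ * M = 1) :
    M = rh !![1 + M 0 2, 1 + M 0 0; 1 + M 2 2, 1 + M 2 0] := by
  have h' : M * Mᵀ = 1 := mul_eq_one_comm.1 h
  have key : ∀ a b c : F, a * a + b * b + c * c = 1 → a + b + c = 1 := fun a b c e => by
    have : (a + b + c + 1) ^ 2 = 0 := by grind
    have := pow_eq_zero_iff two_ne_zero |>.1 this
    grind
  have c0 := key _ _ _ (by simpa [mul_apply, Fin.sum_univ_three] using congrFun (congrFun h 0) 0)
  have c2 := key _ _ _ (by simpa [mul_apply, Fin.sum_univ_three] using congrFun (congrFun h 2) 2)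
  have r0 := key _ _ _ (by simpa [mul_apply, Fin.sum_univ_three] using congrFun (congrFun h' 0) 0)
  have r1 := key _ _ _ (by simpa [mul_apply, Fin.sum_univ_three] using congrFun (congrFun h' 1) 1)
  have r2 := key _ _ _ (by simpa [mul_apply, Fin.sum_univ_three] using congrFun (congrFun h' 2) 2)
  ext i j
  fin_cases i <;> fin_cases j <;> simp [rh] <;> grind

variable [Fintype F] {q : ℕ}

theorem nonempty_sl_equiv_rl (hF : Fintype.card F = q ^ 2) :
    Nonempty (SpecialLinearGroup (Fin 2) (fixedSub (frobAut hF)) ≃* Rl hF) := by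
  let φ := (fixedSub (frobAut hF)).subtype
  have hd : ∀ A : SpecialLinearGroup (Fin 2) (fixedSub (frobAut hF)), (A.1.map φ).det = 1 :=
    fun A => (SpecialLinearGroup.map φ A).2
  have hr : ∀ A : Matrix (Fin 2) (Fin 2) (fixedSub (frobAut hF)),
      (rh (A.map φ)).map (frobAut hF) = rh (A.map φ) := fun A => by
    have : ∀ i j, frobAut hF (A i j) = A i j := fun i j => mem_fixedSub.1 (A i j).2
    ext i j
    fin_cases i <;> fin_cases j <;> simp [rh, φ, this]
  let f : SpecialLinearGroup (Fin 2) (fixedSub (frobAut hF)) →* Rl hF := MonoidHom.mk'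
    (fun A => ⟨mkSU hF (rh (A.1.map φ)) ((rh_det _).trans (hd A)) (by rw [hr, rh_orth (hd A)]),
      su_ext (hr _)⟩) fun A B => Subtype.ext (su_ext (by
        change rh ((A.1 * B.1).map φ) = rh _ * rh _
        rw [Matrix.map_mul, rh_mul]))
  refine ⟨MulEquiv.ofBijective f ⟨fun A B h => ?_, fun s => ?_⟩⟩
  · have h1 : rh (A.1.map φ) = rh (B.1.map φ) :=
      congrArg (fun s : Rl hF => (s.1.1 : Matrix (Fin 3) (Fin 3) F)) h
    have e0 := congrFun (congrFun h1 0) 2
    have e1 := congrFun (congrFun h1 0) 0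
    have e2 := congrFun (congrFun h1 2) 2
    have e3 := congrFun (congrFun h1 2) 0
    simp [rh, φ] at e0 e1 e2 e3
    ext i j
    fin_cases i <;> fin_cases j <;> simp [e0, e1, e2, e3]
  · have h1 := su_unitary hF s.1
    rw [show (s.1.1 : Matrix (Fin 3) (Fin 3) F).map (frobAut hF) = s.1.1 from
      Matrix.ext ((mem_rl hF).1 s.2)] at h1
    have h2 := eq_rh h1
    let a : Fin 3 → Fin 3 → fixedSub (frobAut hF) := fun i j =>
      1 + ⟨_, mem_fixedSub.2 ((mem_rl hF).1 s.2 i j)⟩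
    have h3 : (!![a 0 2, a 0 0; a 2 2, a 2 0]).map φ = !![1 + s.1.1.1 0 2, 1 + s.1.1.1 0 0;
        1 + s.1.1.1 2 2, 1 + s.1.1.1 2 0] := by
      ext i j
      fin_cases i <;> fin_cases j <;> rfl
    refine ⟨⟨!![a 0 2, a 0 0; a 2 2, a 2 0], φ.injective ?_⟩, Subtype.ext (su_ext ?_)⟩
    · rw [φ.map_det, RingHom.mapMatrix_apply, h3, ← rh_det, ← h2, map_one]
      exact s.1.1.2
    · change rh (Matrix.map _ φ) = _
      rw [h3, ← h2]

omit [Fintype F] in
theorem one_sl_two [Finite F] : H36.QE.One (Matrix.SpecialLinearGroup (Fin 2) F) := fun x y hx hy => by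
  obtain ⟨b, hb, h1⟩ := H33.exists_isConj_uS_of_orderOf 2 (g := x)
    (orderOf_eq_prime ((pow_two x).trans hx.2) hx.1)
  obtain ⟨c, hc, h2⟩ := H33.exists_isConj_uS_of_orderOf 2 (g := y)
    (orderOf_eq_prime ((pow_two y).trans hy.2) hy.1)
  obtain ⟨r, hr⟩ := H47.exists_mul_self (b * c)
  exact h1.trans (((H33.isConj_uS_iff hb hc).2 ⟨r, hr.symm⟩).trans h2.symm)

theorem exists_sw (hF : Fintype.card F = q ^ 2) : ∃ x c : SU 3 F q, c ∈ Rl hF ∧ c ≠ 1 ∧ c * c = 1 ∧
    suField 3 F q (frobAut hF) x = x * c ∧ x * c = c * x := by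
  obtain ⟨β, hβ⟩ := exists_trace_eq (frob_ne_id hF) (frob_frob hF) (c := 1) (map_one _)
  have h1 : frobAut hF β = 1 + β := by
    change frob hF β = _
    grind
  refine ⟨mkSU hF !![1 + β, β, 1; β, 1 + β, 1; 1, 1, 1] ?_ ?_,
    mkSU hF !![0, 1, 0; 1, 0, 0; 0, 0, 1] ?_ ?_, (mem_rl hF).2 fun i j => ?_, fun h => ?_,
    su_ext ?_, su_ext ?_, su_ext ?_⟩
  · simp [det_fin_three]
    grind
  · ext i j
    fin_cases i <;> fin_cases j <;> simp [mul_apply, Fin.sum_univ_three, h1] <;> grind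
  · simp [det_fin_three]
    grind
  · ext i j
    fin_cases i <;> fin_cases j <;> simp [mul_apply, Fin.sum_univ_three]
  · fin_cases i <;> fin_cases j <;> simp [mkSU]
  · simpa [mkSU] using congrArg (fun x : SU 3 F q => (x.1 : Matrix (Fin 3) (Fin 3) F) 0 0) h
  · change (!![0, 1, 0; 1, 0, 0; 0, 0, 1] : Matrix _ _ F) * !![0, 1, 0; 1, 0, 0; 0, 0, 1] = 1
    ext i j
    fin_cases i <;> fin_cases j <;> simp [mul_apply, Fin.sum_univ_three]
  · change (!![1 + β, β, 1; β, 1 + β, 1; 1, 1, 1]).map (frobAut hF) =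
      !![1 + β, β, 1; β, 1 + β, 1; 1, 1, 1] * !![0, 1, 0; 1, 0, 0; 0, 0, 1]
    have h2 : 1 + (1 + β) = β := by grind
    ext i j
    fin_cases i <;> fin_cases j <;> simp [mul_apply, Fin.sum_univ_three, h1, h2]
  · change !![1 + β, β, 1; β, 1 + β, 1; 1, 1, 1] * !![0, 1, 0; 1, 0, 0; 0, 0, 1] =
      !![0, 1, 0; 1, 0, 0; 0, 0, 1] * !![1 + β, β, 1; β, 1 + β, 1; 1, 1, 1]
    ext i j
    fin_cases i <;> fin_cases j <;> simp [mul_apply, Fin.sum_univ_three]

theorem pv_even (hF : Fintype.card F = q ^ 2) (hq : 4 ≤ q) (h2 : 2 ∣ q)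
    (hc : ∀ s : PSU 3 F q, CO.Inv s → H98.CharP 2 (cen1 s)) (L : Subgroup (PSU 3 F q))
    (hL : CP L (Fix (psuField 3 F q (frobAut hF)))) : PV.{u} (psuField 3 F q (frobAut hF)) L := by
  obtain ⟨e, he⟩ := nonempty_rl_equiv hF
  obtain ⟨e'⟩ := nonempty_sl_equiv_rl hF
  have hs := H47.sl_simple (K := fixedSub (frobAut hF)) (by rwa [card_fixedSub_frob])
  have hs' := (e'.trans e).symm.isSimpleGroup
  obtain rfl : L = Fix (psuField 3 F q (frobAut hF)) := by
    refine hL.1.eq_or_exists_normal.resolve_right fun ⟨N, h1, h3, h4⟩ => ?_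
    rcases ((normal_subgroupOf_iff_le_normalizer h3.le).2 h4).eq_bot_or_eq_top with h | h
    · rw [subgroupOf_eq_bot, disjoint_iff, inf_of_le_left h3.le] at h
      exact hL.ne_bot (le_bot_iff.1 (h ▸ h1))
    · exact h3.not_ge (subgroupOf_eq_top.1 h)
  have hg : Odd (Nat.gcd 3 (q + 1)) := Odd.of_dvd_nat (by decide) (Nat.gcd_dvd_left _ _)
  refine ⟨pv_zl hc ((pow_two _).symm.trans (psuField_frob_sq hF 3)) hL, ?_, .inl ⟨?_, .inl
    (noCov_of_cyc (Cfsg.Agent.S2089.result 3 q hF le_rfl (by omega) (by simp)) hg)⟩⟩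
  · have := Fintype.ofFinite (fixedSub (frobAut hF))
    have h1 := card_PSU hF (n := 3) (by norm_num)
    rw [← card_mul_index (Fix (psuField 3 F q (frobAut hF))), ← Nat.card_congr (e'.trans e).toEquiv,
      card_sl_two, ← Nat.card_eq_fintype_card, card_fixedSub_frob] at h1
    have h3 : 0 < (q + 1) * (q * (q ^ 2 - 1)) := by
      have : 1 < q ^ 2 := Nat.one_lt_pow two_ne_zero (by omega)
      have : 0 < q ^ 2 - 1 := by omega
      positivity
    have h4 : Nat.gcd 3 (q + 1) * (Fix (psuField 3 F q (frobAut hF))).index = q ^ 2 * (q ^ 3 + 1) := by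
      apply Nat.eq_of_mul_eq_mul_left h3
      rw [mul_left_comm, mul_assoc, h1]
      simp [ordGU, Finset.prod_range_succ, show ¬ Even 1 by decide]
      ring
    refine (Nat.Coprime.pow_left 2 (Nat.coprime_two_left.2 hg)).dvd_of_dvd_mul_left ?_
    rw [h4]
    exact (pow_dvd_pow_of_dvd h2 2).mul_right _
  · obtain ⟨x, c, h1, h3, h4, h5, h6⟩ := exists_sw hF
    refine ⟨x, e ⟨c, h1⟩, c1_of_one (one_sl_two.congr (e'.trans e))
      (inv_congr e ⟨fun h => h3 (congrArg Subtype.val h), Subtype.ext h4⟩), ?_, ?_⟩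
    · rw [he, psuField_mk, h5, QuotientGroup.mk_mul, inv_mul_cancel_left]
    · rw [he, ← QuotientGroup.mk_mul, ← QuotientGroup.mk_mul, h6]

end Two

theorem kv_psu3 {F : Type} [Field F] [Fintype F] {q : ℕ} (hF : Fintype.card F = q ^ 2) (hq : q ≠ 2)
    (h : IsChevSimple 2 (PSU 3 F q)) (H : (∀ s : PSU 3 F q, CO.Inv s → H98.CharP 2 (cen1 s)) →
      ∀ L, CP L (Fix (psuField 3 F q (frobAut hF))) → PV.{u} (psuField 3 F q (frobAut hF)) L) :
    KV.{u} (PSU 3 F q) := by
  have hc : ∀ s : PSU 3 F q, CO.Inv s → H98.CharP 2 (cen1 s) := fun s hs =>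
    H67.charP_centralizer_of_locCharP (H67.locCharP_of_chevSimple_two h fun K _ _ hK =>
      Cfsg.Agent.S1057.result (ZMod.card 2) hK) (orderOf_eq_prime ((pow_two s).trans hs.2) hs.1)
  refine KV.of_reps fun a h1 h2 => ?_
  rcases psu3_inv hF hq h1 with ⟨s, hs, rfl⟩ | h3
  · exact ⟨_, IsConj.refl _, fun L hL => absurd hL (kv_inner (hc _ ⟨fun h => h2 (by rw [h, map_one]),
      by rw [← QuotientGroup.mk_mul, hs]; rfl⟩))⟩
  · exact ⟨_, h3.symm, H hc⟩

theorem jobQEU3 : H36.QE.JobU3.{u} := by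
  rintro S _ _ _ - (⟨F, _, _, n, hn, hF, ⟨e⟩⟩ | ⟨F, _, _, hF, ⟨e⟩⟩)
  · have h4 : 4 ≤ 2 ^ n := (by norm_num : 4 = 2 ^ 2) ▸ Nat.pow_le_pow_right two_pos hn
    have : CharP F 2 := charP_of_card_eq_prime_pow (hF.trans (pow_mul 2 n 2).symm)
    exact KV.congr e (kv_psu3 hF (by omega) (.inl (.inr (.inr (.inl ⟨F, _, _, this, 3, _, hF, le_rfl,
      by omega, ⟨MulEquiv.refl _⟩⟩)))) (pv_even hF h4 (dvd_pow_self 2 (by omega))))
  · exact KV.congr e (kv_psu3 (q := 3) hF (by omega) (.inr (.inl ⟨rfl, .inr (.inl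
      ⟨F, _, _, hF, ⟨MulEquiv.refl _⟩⟩)⟩)) fun _ L hL =>
        absurd hL (not_cp_of_solvable (solvable_fix_three hF)))

end H59
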