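import Cfsg.Agent.H59.QEA8a
import Cfsg.Agent.H55.Basic
import Cfsg.Agent.S0256
import Cfsg.Agent.S0247

/-! Tower QE, job `JobA8`. -/

set_option autoImplicit false

namespace H59.A8

open Cfsg Subgroup H14 H98 H36.QE Equiv Equiv.Perm
open H14.CO (cen cen1 nor cm Tw mem_cen mem_cen1)

universe u v

abbrev E8 := Fin 6 ⊕ Fin 2

abbrev B8 := alternatingGroup E8

/-- the transposition of the two extra points -/
def s0 : Perm E8 := swap (.inr 0) (.inr 1)

/-- the isomorphism of the sign group with the symmetric group on two points -/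
def tau : ℤˣ →* Perm (Fin 2) := MonoidHom.mk' (fun u => if u = 1 then 1 else swap 0 1) (by decide)

theorem sign_tau : ∀ u, sign (tau u) = u := by decide

theorem tau_sign : ∀ w : Perm (Fin 2), tau (sign w) = w := by decide

/-- `S_6` in `A_8` -/
def Phi : Perm (Fin 6) →* B8 :=
  ((sumCongrHom _ _).comp ((MonoidHom.id _).prod (tau.comp sign))).codRestrict _ fun u => by
    rw [mem_alternatingGroup]
    change sign (Perm.sumCongr u (tau (sign u))) = 1
    rw [sign_sumCongr, sign_tau, Int.units_mul_self]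

theorem coe_Phi (u : Perm (Fin 6)) : (Phi u : Perm E8) = Perm.sumCongr u (tau (sign u)) := rfl

theorem Phi_inj : Function.Injective Phi := fun _ _ e =>
  congrArg Prod.fst (sumCongrHom_injective (congrArg Subtype.val e))

theorem fix_s0 : H36.QE.Fix (MulAut.conjNormal s0) = Phi.range := by
  ext x
  rw [fix_iff]
  constructor
  · intro h
    obtain ⟨⟨p, q⟩, e⟩ := mem_sumCongrHom_range_of_perm_mapsTo_inl (σ := (x : Perm E8)) (by
      rintro _ ⟨i, rfl⟩
      have h1 : s0 (x.1 (.inl i)) = x.1 (.inl i) := by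
        rw [← Perm.mul_apply, h, Perm.mul_apply, s0, swap_apply_of_ne_of_ne (by simp) (by simp)]
      generalize x.1 (.inl i) = y at h1
      revert y
      decide)
    refine ⟨p, Subtype.ext ?_⟩
    have h2 : sign (Perm.sumCongr p q) = 1 := (congrArg sign e).trans x.2
    rw [sign_sumCongr, mul_eq_one_iff_eq_inv, Int.units_inv_eq_self] at h2
    rw [coe_Phi, h2, tau_sign]
    exact e
  · rintro ⟨p, rfl⟩
    rw [coe_Phi, s0, ← Perm.sumCongr_one_swap, sumCongr_mul, sumCongr_mul, one_mul, mul_one]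
    generalize tau (sign p) = w
    congr 1
    revert w
    decide

theorem comm_le {S : Type*} [Group S] (φ : Perm (Fin 6) →* S) :
    ⁅φ.range, φ.range⁆ ≤ (φ.comp (alternatingGroup (Fin 6)).subtype).range := by
  refine commutator_le.2 ?_
  rintro _ ⟨p, rfl⟩ _ ⟨q, rfl⟩
  exact ⟨⟨p * q * p⁻¹ * q⁻¹, by simp [mul_comm, mul_left_comm]⟩, map_commutatorElement φ p q⟩

theorem range_le {S : Type*} [Group S] (φ : Perm (Fin 6) →* S) :
    (φ.comp (alternatingGroup (Fin 6)).subtype).range ≤ φ.range := by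
  rintro _ ⟨p, rfl⟩
  exact ⟨p, rfl⟩

theorem not_dvd_range {S : Type*} [Group S] (φ : Perm (Fin 6) →* S) :
    ¬ 2 ^ (4 + 1) ∣ Nat.card φ.range := fun h => by
  have := h.trans (card_range_dvd φ)
  rw [Nat.card_perm, Nat.card_fin] at this
  revert this
  decide

instance simpleA6 : IsSimpleGroup A6 := alternatingGroup.isSimpleGroup (by simp)

instance simpleB8 : IsSimpleGroup B8 := alternatingGroup.isSimpleGroup (by simp)

theorem dvd_B8 : 2 ^ 6 ∣ Nat.card B8 := by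
  have : Nontrivial E8 := ⟨.inr 0, .inr 1, by simp⟩
  have := two_mul_nat_card_alternatingGroup (α := E8)
  rw [Nat.card_perm, show Nat.card E8 = 8 by simp, show Nat.factorial 8 = 2 * (2 ^ 6 * 315) by decide]
    at this
  exact ⟨315, Nat.eq_of_mul_eq_mul_left two_pos this⟩

/-- a double transposition -/
def c6 : A6 := ⟨swap 0 1 * swap 2 3, mem_alternatingGroup.2 (by decide)⟩

theorem inv_c6 : CO.Inv c6 := ⟨fun e => absurd (congrArg Subtype.val e) (by decide),
  Subtype.ext (by decide)⟩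

theorem Phi_c6 : (Phi c6 : Perm E8) = swap (.inl 0) (.inl 1) * swap (.inl 2) (.inl 3) :=
  Equiv.ext (by decide)

theorem aut_B8 (a : MulAut B8) : ∃ σ : Perm E8, MulAut.conjNormal σ = a :=
  H86.exists_conjNormal_eq (by simp) a (H86.isThreeCycle_aut (by simp) a)

theorem conj_coe (g : B8) : MulAut.conj g = MulAut.conjNormal (g : Perm E8) :=
  MulEquiv.ext fun _ => rfl

theorem sign_s0 : sign s0 = -1 := sign_swap (by simp)

theorem pv_s0 (hz : center B8 = ⊥) (hl : ∀ s : B8, CO.Inv s → CharP 2 (cen1 s)) {L : Subgroup B8}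
    (hL : CP L (H36.QE.Fix (MulAut.conjNormal s0))) : PV.{v} (MulAut.conjNormal s0) L := by
  have ha : (MulAut.conjNormal s0 : MulAut B8) * MulAut.conjNormal s0 = 1 := by
    rw [← map_mul, s0, swap_mul_self, map_one]
  have hψ : Function.Injective (Phi.comp (alternatingGroup (Fin 6)).subtype) :=
    Phi_inj.comp Subtype.val_injective
  have hE := H63.Qe.cp_eq _ (comm_le Phi) (range_le Phi) (fix_s0 ▸ hL)
  have h4 := dt (s := swap (.inl 0 : E8) (.inl 1)) (t := swap (.inl 2) (.inl 3))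
    ⟨_, _, by simp, rfl⟩ ⟨_, _, by simp, rfl⟩ (by decide) (by decide)
  refine ⟨pv_zl hl ha hL, H58.QE.four_dvd_index dvd_B8 (fix_s0 ▸ not_dvd_range Phi) le_rfl,
    .inr ⟨H63.Qe.al_of hz hl ha (fun g e => ?_) (fun b => ?_) hL,
      ep_of_exp (fun g hg => order_le (by simp) hg) dvd_B8 (by norm_num),
      ⟨Phi c6, hE ▸ ⟨c6, rfl⟩, ?_, lift4_dt (by simp) (by simp) (by simp) (by simp) (by simp) (by simp)
        Phi_c6⟩, hE ▸ nc_A6.congr (MonoidHom.ofInjective hψ), fun x hx => ?_⟩⟩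
  · rw [conj_coe] at e
    have := sign_s0
    rw [← H86.conjNormal_injective (by simp) e, show sign g.1 = 1 from g.2] at this
    exact absurd this (by decide)
  · obtain ⟨σ, rfl⟩ := aut_B8 b
    rcases Int.units_eq_one_or (sign σ) with h | h
    · exact ⟨⟨σ, h⟩, .inl (conj_coe ⟨σ, h⟩).symm⟩
    · refine ⟨⟨σ * s0, by rw [mem_alternatingGroup, map_mul, h, sign_s0]; rfl⟩, .inr ?_⟩
      rw [conj_coe, map_mul, mul_assoc, ha, mul_one]
  · rw [← map_mul]
    exact (congrArg Phi (congrArg Subtype.val inv_c6.2)).trans (map_one _)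
  · subst hE
    refine ⟨MonoidHom.ofInjective hψ c6, (c1_of_one one_A6 inv_c6).congr _, ?_⟩
    have e : ((x⁻¹ * MulAut.conjNormal s0 x : B8) : Perm E8) =
        swap (x.1⁻¹ (.inr 0)) (x.1⁻¹ (.inr 1)) * s0 := by
      rw [swap_apply_apply, inv_inv, Subgroup.coe_mul, MulAut.conjNormal_apply, s0, swap_inv,
        Subgroup.coe_inv]
      group
    have h5 := dt (s := swap (x.1⁻¹ (.inr 0)) (x.1⁻¹ (.inr 1))) (t := s0)
      ⟨_, _, by simp, rfl⟩ ⟨_, _, by simp, rfl⟩ (e ▸ congrArg Subtype.val hx.2)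
      (e ▸ fun h => hx.1 (Subtype.ext h))
    refine alternatingGroup.isConj_of (isConj_iff_cycleType_eq.2 ?_) (by rw [e, h5.2]; simp)
    rw [e, h5.1, ← h4.1, ← Phi_c6]
    rfl

theorem kv_B8 (hz : center B8 = ⊥) (hl : ∀ s : B8, CO.Inv s → CharP 2 (cen1 s)) : KV.{v} B8 := by
  refine KV.of_reps fun a h1 h2 => ?_
  by_cases hex : ∃ L, CP L (H36.QE.Fix a)
  swap
  · exact ⟨a, IsConj.refl _, fun L hL => (hex ⟨L, hL⟩).elim⟩
  obtain ⟨L, hL⟩ := hex
  obtain ⟨σ, rfl⟩ := aut_B8 a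
  have h5 : σ * σ = 1 := H86.conjNormal_injective (by simp) (by rw [map_mul, h1, map_one])
  have h6 := support_small (by simp) h5 hL
  obtain ⟨k, -, h7, -⟩ := H76.AR.ct_inv h5
  have h8 : σ.support.card ≠ 0 := fun e => h2 (by rw [card_support_eq_zero.1 e, map_one])
  rw [show Fintype.card E8 = 8 by simp] at h6
  obtain ⟨p, q, h9, rfl⟩ := card_support_eq_two.1 (by omega : σ.support.card = 2)
  exact ⟨_, MulAut.conjNormal.map_isConj (isConj_swap h9 (by simp)), fun L hL => pv_s0 hz hl hL⟩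

section L5

open Matrix H57 H58

abbrev M5 := Matrix (Fin 5) (Fin 5) (ZMod 2)

abbrev S5 := SpecialLinearGroup (Fin 5) (ZMod 2)

abbrev L5 := ProjectiveSpecialLinearGroup (Fin 5) (ZMod 2)

/-- an invertible matrix over the field with two elements -/
def mkS (A B : M5) (h : A * B = 1) : S5 := ⟨A, by
  have h1 := congrArg det h
  rw [det_mul, det_one] at h1
  revert h1
  generalize A.det = a, B.det = b
  revert a b
  decide⟩

theorem gr_eq {F : Type} [Field F] {n : ℕ} {s t : SpecialLinearGroup (Fin n) F} (h : s.1ᵀ * t.1 = 1) :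
    slGraph _ _ s = t := Subtype.ext <| by
  refine left_inv_eq_right_inv (a := s.1ᵀ) ?_ h
  change (s⁻¹).1ᵀ * _ = _
  rw [← transpose_mul, show s.1 * (s⁻¹).1 = 1 from congrArg Subtype.val (mul_inv_cancel s),
    transpose_one]

def pM : M5 := !![0,1,0,0,0; 1,0,0,0,0; 0,0,1,0,0; 0,0,0,1,0; 0,0,0,0,1]

def rM : M5 := !![0,0,1,0,0; 0,0,0,1,0; 1,0,0,0,0; 0,1,0,0,0; 0,0,0,0,1]

def cM : M5 := !![0,1,0,0,0; 1,0,0,0,0; 0,0,0,1,0; 0,0,1,0,0; 0,0,0,0,1]

def xM : M5 := !![0,0,0,1,1; 0,0,1,0,1; 0,1,1,1,1; 1,0,1,1,1; 1,1,1,1,1]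

def pS : S5 := mkS pM pM (by decide)

def rS : S5 := mkS rM rM (by decide)

def cS : S5 := mkS cM cM (by decide)

def xS : S5 := mkS xM (cM * xMᵀ) (by decide)

theorem gr_p : slGraph _ _ pS = pS := gr_eq (by decide)

theorem gr_r : slGraph _ _ rS = rS := gr_eq (by decide)

theorem gr_x : slGraph _ _ xS = xS * cS := gr_eq (show xMᵀ * (xM * cM) = 1 by decide)

theorem pr_eq : pS * rS = cS * (rS * pS) := Subtype.ext (show pM * rM = cM * (rM * pM) by decide)

theorem cc_eq : cS * cS = 1 := Subtype.ext (show cM * cM = 1 by decide)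

theorem xc_eq : xS * cS = cS * xS := Subtype.ext (show xM * cM = cM * xM by decide)

/-- the projection -/
def mk5 : S5 →* L5 := QuotientGroup.mk' _

theorem gr_mk (s : S5) : pslGraph (Fin 5) (ZMod 2) (mk5 s) = mk5 (slGraph _ _ s) := rfl

theorem c_ne : mk5 cS ≠ 1 := fun h => by
  obtain ⟨r, -, e⟩ := Matrix.SpecialLinearGroup.mem_center_iff.1 ((QuotientGroup.eq_one_iff cS).1 h)
  exact zero_ne_one (α := ZMod 2) (congrFun (congrFun e 0) 1)

theorem diag_inn (g : GL (Fin 5) (ZMod 2)) : pslDiag _ _ g ∈ Inn L5 :=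
  pslDiag_mem_inn_iff.2 ⟨1, Subsingleton.elim _ _⟩

theorem fix_gr (hz : center L5 = ⊥) : ∃ φ : Perm (Fin 6) →* L5, Function.Injective φ ∧
    H36.QE.Fix (pslGraph (Fin 5) (ZMod 2)) = φ.range := by
  obtain ⟨e1⟩ := (gd_psl (F := ZMod 2) (n := 5) (by norm_num)).cent isEps_one pslR_graph
  obtain ⟨e2⟩ := isom_equiv_proj (isEps_one (n := 5) (K := ZMod 2)).1
  obtain ⟨e3⟩ := isom_equiv_sp_of_odd (isEps_one (n := 5) (K := ZMod 2)).1 isSymm_one (m := 2) (by simp)
  obtain ⟨e4⟩ := Cfsg.Agent.S0247.result (ZMod.card 2)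
  have hi : Function.Injective (MulAut.conj : L5 →* MulAut L5) :=
    (injective_iff_map_eq_one _).2 fun _ => H63.Qe.conj_eq_one hz
  have h1 : (H36.QE.Fix (pslGraph (Fin 5) (ZMod 2))).map MulAut.conj =
      inndiagPSL 5 (ZMod 2) ⊓ centralizer {pslGraph (Fin 5) (ZMod 2)} := by
    have key : ∀ g : L5, MulAut.conj g ∈ centralizer {pslGraph (Fin 5) (ZMod 2)} ↔
        g ∈ H36.QE.Fix (pslGraph (Fin 5) (ZMod 2)) := fun g => by
      rw [mem_centralizer_singleton_iff, H63.Qe.conj_mul_aut, mul_left_inj, hi.eq_iff, mem_Fix, eq_comm]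
    rw [inndiagPSL_eq_range]
    refine le_antisymm ?_ ?_
    · rintro _ ⟨g, hg, rfl⟩
      refine ⟨?_, (key g).2 hg⟩
      obtain ⟨s, rfl⟩ := QuotientGroup.mk_surjective g
      exact ⟨_, pslDiag_toGL s⟩
    · rintro _ ⟨⟨g, rfl⟩, h⟩
      obtain ⟨u, e⟩ := diag_inn g
      exact ⟨u, (key u).1 (e ▸ h), e⟩
  let e := (((equivMapOfInjective _ _ hi).trans (MulEquiv.subgroupCongr h1)).trans
    (e1.trans (e2.symm.trans (e3.trans e4)))).symm
  refine ⟨(Subgroup.subtype _).comp e.toMonoidHom, Subtype.val_injective.comp e.injective, ?_⟩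
  rw [MonoidHom.range_comp, MonoidHom.range_eq_top.2 e.surjective, ← MonoidHom.range_eq_map,
    range_subtype]

theorem dvd_L5 : 2 ^ 6 ∣ Nat.card L5 := by
  refine H58.QE.dvd_psl (f := 1) le_rfl (Nat.card_zmod 2) ?_
  rw [card_sl_fin_eq, ZMod.card]
  exact Dvd.dvd.mul_right (by norm_num) _

theorem loc_L5 : ∀ s : L5, CO.Inv s → CharP 2 (cen1 s) :=
  H58.QE.loc_psl (F := ZMod 2) (n := 5) (by decide) (by norm_num) (by norm_num)

theorem pv_gr (hz : center L5 = ⊥) (h1 : pslGraph (Fin 5) (ZMod 2) * pslGraph (Fin 5) (ZMod 2) = 1)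
    {L : Subgroup L5} (hL : CP L (H36.QE.Fix (pslGraph (Fin 5) (ZMod 2)))) :
    PV.{v} (pslGraph (Fin 5) (ZMod 2)) L := by
  obtain ⟨φ, hφ, hF⟩ := fix_gr hz
  have hψ : Function.Injective (φ.comp (alternatingGroup (Fin 6)).subtype) :=
    hφ.comp Subtype.val_injective
  obtain ⟨c, hc⟩ : mk5 cS ∈ (φ.comp (alternatingGroup (Fin 6)).subtype).range := by
    refine comm_le φ ?_
    have := commutator_mem_commutator
      (show mk5 pS ∈ H36.QE.Fix (pslGraph (Fin 5) (ZMod 2)) by rw [mem_Fix, gr_mk, gr_p])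
      (show mk5 rS ∈ H36.QE.Fix (pslGraph (Fin 5) (ZMod 2)) by rw [mem_Fix, gr_mk, gr_r])
    rwa [commutatorElement_def, ← map_mul, pr_eq, map_mul, map_mul, ← mul_assoc, mul_inv_cancel_right,
      mul_inv_cancel_right, hF] at this
  refine ⟨pv_zl loc_L5 h1 hL,
    H58.QE.four_dvd_index dvd_L5 (by rw [hF]; exact not_dvd_range φ) le_rfl,
    .inl ⟨H63.Qe.sw_of hψ (by rw [hF]; exact comm_le φ) (by rw [hF]; exact range_le φ) (c := c)
      (c1_of_one one_A6 ⟨fun h => c_ne (by rw [← hc, h, map_one]), hψ (by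
        rw [map_mul, hc, ← map_mul, cc_eq, map_one, map_one])⟩) (x := mk5 xS) ?_ ?_ hL,
    .inl (noCov_of_cyc (Cfsg.Agent.S2086.result (ZMod.card 2) 5 (by norm_num) (by norm_num)
      (by simp)) (by decide))⟩⟩
  · rw [hc, gr_mk, gr_x, map_mul, inv_mul_cancel_left]
  · rw [hc, ← map_mul, xc_eq, map_mul]

theorem conj_gr {F : Type} [Field F] [Finite F] {J : GL (Fin 5) F} (h1 : pslGr J * pslGr J = 1)
    (h2 : pslGr J ≠ 1) : IsConj (pslGr J) (pslGraph (Fin 5) F) := by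
  rw [← show pslGr (1 : GL (Fin 5) F) = pslGraph (Fin 5) F by simp [pslGr]]
  exact H58.QE.isConj_of_under ((gd_psl (F := F) (n := 5) (by norm_num)).odd (m := 2) rfl
    ((isGraphAutClassPSL_iff (by norm_num)).2 ⟨_, rfl⟩) (orderOf_pslGr (J := 1) (by simp) isEps_one)
    ((isGraphAutClassPSL_iff (by norm_num)).2 ⟨_, rfl⟩) (orderOf_eq_prime (by rw [sq, h1]) h2)).2

theorem kv_L5 (hz : center L5 = ⊥) : KV.{v} L5 := by
  have hσ := H58.QE.ringAut_eq_one (F := ZMod 2) (by rw [ZMod.card]; exact Nat.prime_two)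
  refine KV.of_reps fun a h1 h2 => ?_
  obtain ⟨g, rfl⟩ | ⟨σ, h5, -⟩ | ⟨-, J, rfl⟩ | ⟨-, σ, h5, -⟩ := H58.QE.reps (by norm_num) h1
  · obtain ⟨u, e⟩ := diag_inn g
    rw [← e] at h1 h2 ⊢
    exact ⟨_, IsConj.refl _, fun L hL => (kv_inner (loc_L5 u (inv_of_conj hz h1 h2)) hL).elim⟩
  · exact absurd (hσ σ) h5
  · exact ⟨_, conj_gr h1 h2, fun L hL => pv_gr hz (H58.QE.sq_of_conj (conj_gr h1 h2) h1) hL⟩
  · exact absurd (hσ σ) h5

end L5

theorem center_congr {S T : Type*} [Group S] [Group T] (e : S ≃* T) (h : center S = ⊥) :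
    center T = ⊥ := eq_bot_iff.2 fun t ht => by
  have : e.symm t ∈ center S := mem_center_iff.2 fun g => e.injective (by
    simpa using mem_center_iff.1 ht (e g))
  rw [h, mem_bot] at this
  exact mem_bot.2 (e.symm.injective (this.trans (map_one _).symm))

theorem jobA8 : JobA8.{u} := by
  intro S _ _ _ hc h
  have hz := H58.QE.center_bot hc
  obtain ⟨F, _, _, h2, ⟨e⟩⟩ | ⟨F, _, _, h2, ⟨e⟩⟩ | ⟨⟨e⟩⟩ := h
  · obtain ⟨e1⟩ := Cfsg.Agent.S0256.result h2
    let e2 : alternatingGroup (Fin 8) ≃* B8 := (finSumFinEquiv (m := 6) (n := 2)).symm.altCongrHom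
    exact KV.congr (e.trans (e1.trans e2)) (kv_B8 (center_congr (e.trans (e1.trans e2)) hz)
      (H58.QE.loc2 (.inl ⟨F, inferInstance, inferInstance,
        charP_of_card_eq_prime_pow (f := 1) h2, 4, by norm_num, by norm_num, ⟨(e1.trans e2).symm⟩⟩)))
  · let e1 := e.trans (H55.pslCongr (ZMod.ringEquivOfPrime F Nat.prime_two h2).symm)
    exact KV.congr e1 (kv_L5 (center_congr e1 hz))
  · exact KV.congr e kv_A6

end H59.A8
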