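import Cfsg.Agent.H47.P4Sp

/-! Blueprint `LOCAL3C.md`, section `PSp₄(q)`: computations in `SL₂(F)`. -/

set_option autoImplicit false

namespace H59.P4

open H47.P4C

variable {F : Type*} [Field F] {A B : SL2 F} {s : F}

/-- `A = ± 1` -/
def pm (A : SL2 F) : Prop := A = 1 ∨ A = -1

theorem det2 (A : SL2 F) : A 0 0 * A 1 1 - A 0 1 * A 1 0 = 1 := by
  have := A.2
  rwa [Matrix.det_fin_two] at this

theorem mul_ap (A B : SL2 F) (i j : Fin 2) : (A * B) i j = A i 0 * B 0 j + A i 1 * B 1 j := by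
  rw [Matrix.SpecialLinearGroup.coe_mul, Matrix.mul_apply, Fin.sum_univ_two]

theorem neg_ap (A : SL2 F) (i j : Fin 2) : (-A) i j = -A i j := rfl

theorem ext2 (h1 : A 0 0 = B 0 0) (h2 : A 0 1 = B 0 1) (h3 : A 1 0 = B 1 0) (h4 : A 1 1 = B 1 1) :
    A = B := by
  ext i j
  fin_cases i <;> fin_cases j <;> assumption

theorem ent (h : A = B) : A 0 0 = B 0 0 ∧ A 0 1 = B 0 1 ∧ A 1 0 = B 1 0 ∧ A 1 1 = B 1 1 :=
  h ▸ ⟨rfl, rfl, rfl, rfl⟩

theorem one_ap : (1 : SL2 F) 0 0 = 1 ∧ (1 : SL2 F) 0 1 = 0 ∧ (1 : SL2 F) 1 0 = 0 ∧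
    (1 : SL2 F) 1 1 = 1 := by simp

theorem w_ap : (wM : SL2 F) 0 0 = 0 ∧ (wM : SL2 F) 0 1 = 1 ∧ (wM : SL2 F) 1 0 = -1 ∧
    (wM : SL2 F) 1 1 = 0 := ⟨rfl, rfl, rfl, rfl⟩

theorem u_ap (s : F) : uM s 0 0 = 1 ∧ uM s 0 1 = s ∧ uM s 1 0 = 0 ∧ uM s 1 1 = 1 :=
  ⟨rfl, rfl, rfl, rfl⟩

theorem pm_of (h1 : A 0 1 = 0) (h2 : A 1 0 = 0) (h3 : A 0 0 = A 1 1) : pm A := by
  have := det2 A
  rw [h1, ← h3, zero_mul, sub_zero] at this
  rcases mul_self_eq_one_iff.1 this with e | e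
  · exact Or.inl (ext2 (by simpa using e) (by simpa using h1) (by simpa using h2)
      (by simpa [← h3] using e))
  · exact Or.inr (ext2 (by simpa [neg_ap] using e) (by simpa [neg_ap] using h1)
      (by simpa [neg_ap] using h2) (by simpa [neg_ap, ← h3] using e))

theorem pm.ap (h : pm A) : A 0 1 = 0 := by rcases h with rfl | rfl <;> simp [neg_ap]

theorem pm.sq (h : pm A) : A * A = 1 := by rcases h with rfl | rfl <;> simp

theorem pm.comm (h : pm A) (B : SL2 F) : A * B = B * A := by rcases h with rfl | rfl <;> simp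

theorem pm_of_central (h : ∀ B, A * B = B * A) : pm A := by
  obtain ⟨a1, a2, -, -⟩ := ent (h (uM 1))
  obtain ⟨b1, -, -, -⟩ := ent (h wM)
  simp only [mul_ap, u_ap, w_ap] at a1 a2 b1
  exact pm_of (by linear_combination -b1 + a1) (by linear_combination -a1) (by linear_combination a2)

theorem one_ne_neg (h2 : (2 : F) ≠ 0) : (1 : SL2 F) ≠ -1 := fun e => h2 (by
  have := (ent e).1
  simp only [neg_ap, one_ap] at this
  linear_combination this)

theorem pm_of_sq (h2 : (2 : F) ≠ 0) (h : A * A = 1) : pm A := by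
  obtain ⟨a1, a2, a3, a4⟩ := ent h
  simp only [mul_ap, one_ap] at a1 a2 a3 a4
  have d := det2 A
  have t : A 0 0 + A 1 1 ≠ 0 := fun e => h2 (by linear_combination -a1 - d + A 0 0 * e)
  exact pm_of ((mul_eq_zero.1 (show A 0 1 * (A 0 0 + A 1 1) = 0 by linear_combination a2)).resolve_right t)
    ((mul_eq_zero.1 (show A 1 0 * (A 0 0 + A 1 1) = 0 by linear_combination a3)).resolve_right t)
    (sub_eq_zero.1 ((mul_eq_zero.1 (show (A 0 0 - A 1 1) * (A 0 0 + A 1 1) = 0 by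
      linear_combination a1 - a4)).resolve_right t))

theorem w_sq : (wM : SL2 F) * wM = -1 := ext2 (by simp [mul_ap, w_ap, neg_ap])
  (by simp [mul_ap, w_ap, neg_ap]) (by simp [mul_ap, w_ap, neg_ap]) (by simp [mul_ap, w_ap, neg_ap])

theorem w_inv : (wM : SL2 F)⁻¹ = -wM := inv_eq_of_mul_eq_one_right (by rw [mul_neg, w_sq, neg_neg])

theorem not_pm_of_sq (h2 : (2 : F) ≠ 0) (h : A * A = -1) : ¬ pm A := fun e =>
  one_ne_neg h2 (e.sq.symm.trans h)

theorem j_facts (h3 : (3 : F) = 0) : jM h3 * jM h3 = -1 ∧ wM * jM h3 = -(jM h3 * wM) := by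
  have j : jM h3 0 0 = 1 ∧ jM h3 0 1 = 1 ∧ jM h3 1 0 = 1 ∧ jM h3 1 1 = -1 := ⟨rfl, rfl, rfl, rfl⟩
  refine ⟨ext2 ?_ ?_ ?_ ?_, ext2 ?_ ?_ ?_ ?_⟩ <;> simp only [mul_ap, w_ap, neg_ap, j, one_ap] <;>
    first | ring1 | linear_combination h3

theorem conj_w [Fintype F] (hq : Fintype.card F % 4 = 3) (h : A * A = -1) :
    ∃ P : SL2 F, P * wM * P⁻¹ = A := by
  have hn : ¬ IsSquare (-1 : F) := fun e => FiniteField.isSquare_neg_one_iff.1 e hq
  obtain ⟨a1, a2, a3, a4⟩ := ent h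
  simp only [mul_ap, one_ap, neg_ap] at a1 a2 a3 a4
  have hb : A 0 1 ≠ 0 := fun e => hn ⟨A 0 0, by rw [e] at a1; linear_combination -a1⟩
  have hd : A 1 1 = -A 0 0 := by
    have : A 0 1 * (A 1 1 + A 0 0) = 0 := by linear_combination a2
    exact eq_neg_of_add_eq_zero_left ((mul_eq_zero.1 this).resolve_left hb)
  obtain ⟨u, x, e⟩ := FiniteField.exists_root_sum_quadratic (f := Polynomial.X ^ 2)
    (g := Polynomial.X ^ 2 - Polynomial.C (A 0 1)) (Polynomial.degree_X_pow 2)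
    (Polynomial.degree_X_pow_sub_C (by norm_num) _) (by omega)
  simp only [Polynomial.eval_pow, Polynomial.eval_X, Polynomial.eval_sub, Polynomial.eval_C] at e
  obtain ⟨y, hy⟩ : ∃ y, A 0 1 * y + A 0 0 * x = u := ⟨(u - A 0 0 * x) / A 0 1, by field_simp; ring⟩
  subst hy
  obtain ⟨P, p1, p2, p3, p4⟩ : ∃ P : SL2 F, P 0 0 = x ∧ P 0 1 = -(A 0 0 * x + A 0 1 * y) ∧
      P 1 0 = y ∧ P 1 1 = -(A 1 0 * x + A 1 1 * y) := by
    refine ⟨⟨!![x, -(A 0 0 * x + A 0 1 * y); y, -(A 1 0 * x + A 1 1 * y)], ?_⟩, rfl, rfl, rfl, rfl⟩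
    rw [Matrix.det_fin_two_of, hd]
    apply mul_left_cancel₀ hb
    linear_combination e - x ^ 2 * a1
  refine ⟨P, mul_inv_eq_iff_eq_mul.2 (ext2 ?_ ?_ ?_ ?_)⟩ <;>
    simp only [mul_ap, w_ap, p1, p2, p3, p4]
  · ring
  · linear_combination x * a1 + y * a2
  · ring
  · linear_combination x * a3 + y * a4

theorem comm_w (h : A * wM = wM * A) : A 1 0 = -A 0 1 ∧ A 1 1 = A 0 0 := by
  obtain ⟨a1, a2, -, -⟩ := ent h
  simp only [mul_ap, w_ap] at a1 a2
  exact ⟨by linear_combination -a1, by linear_combination -a2⟩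

theorem comm_of_w (h : A * wM = wM * A) (h' : B * wM = wM * B) : A * B = B * A := by
  obtain ⟨a1, a2⟩ := comm_w h
  obtain ⟨b1, b2⟩ := comm_w h'
  refine ext2 ?_ ?_ ?_ ?_ <;> simp only [mul_ap, a1, a2, b1, b2] <;> ring

theorem anti_sq (h : A * wM = -(wM * A)) : A * A = -1 := by
  obtain ⟨a1, a2, -, -⟩ := ent h
  have d := det2 A
  simp only [mul_ap, w_ap, neg_ap] at a1 a2
  have b1 : A 1 0 = A 0 1 := by linear_combination a1
  have b2 : A 1 1 = -A 0 0 := by linear_combination a2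
  rw [b1, b2] at d
  refine ext2 ?_ ?_ ?_ ?_ <;> simp only [mul_ap, neg_ap, one_ap, b1, b2] <;>
    first | ring1 | linear_combination -d

theorem pm_of_pow (h3 : (3 : F) = 0) (k : ℕ) : ∀ A : SL2 F, A * wM = wM * A → pm (A ^ 3 ^ k) →
    pm A := by
  induction k with
  | zero => exact fun A _ h => by simpa using h
  | succ k ih =>
    intro A h e
    rw [pow_succ', pow_mul] at e
    have h1 := (ih _ (Commute.pow_left h 3) e).ap
    obtain ⟨a1, a2⟩ := comm_w h
    simp only [pow_three, mul_ap, a1, a2] at h1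
    have h2 : A 0 1 = 0 := pow_eq_zero_iff (n := 3) (by norm_num) |>.1
      (by linear_combination -h1 + A 0 0 ^ 2 * A 0 1 * h3)
    exact pm_of h2 (by rw [a1, h2, neg_zero]) a2.symm

theorem cen_u (hs : s ≠ 0) (h : B * uM s = uM s * B) : ∃ r, B = uM r ∨ B = -uM r := by
  obtain ⟨a1, a2, -, -⟩ := ent h
  have d := det2 B
  simp only [mul_ap, u_ap] at a1 a2
  have b1 : B 1 0 = 0 := (mul_eq_zero.1 (show s * B 1 0 = 0 by linear_combination -a1)).resolve_left hs
  have b2 : B 1 1 = B 0 0 := mul_left_cancel₀ hs (by linear_combination -a2)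
  rw [b1, b2, mul_zero, sub_zero] at d
  rcases mul_self_eq_one_iff.1 d with e | e
  · exact ⟨B 0 1, Or.inl (ext2 e rfl b1 (b2.trans e))⟩
  · exact ⟨-B 0 1, Or.inr (ext2 e (neg_neg _).symm (b1.trans neg_zero.symm) (b2.trans e))⟩

theorem no_inv [Fintype F] (hq : Fintype.card F % 4 = 3) (hs : s ≠ 0) :
    B * uM s ≠ uM (-s) * B := fun h => by
  obtain ⟨a1, a2, -, -⟩ := ent h
  have d := det2 B
  simp only [mul_ap, u_ap] at a1 a2
  have b1 : B 1 0 = 0 := (mul_eq_zero.1 (show s * B 1 0 = 0 by linear_combination a1)).resolve_left hs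
  have b2 : B 1 1 = -B 0 0 := mul_left_cancel₀ hs (by linear_combination a2)
  rw [b1, b2] at d
  exact FiniteField.isSquare_neg_one_iff.1 ⟨B 0 0, by linear_combination d⟩ hq

theorem u_cube (h3 : (3 : F) = 0) (s : F) : uM s ^ 3 = 1 := by
  rw [pow_three, uM_mul, uM_mul, show s + (s + s) = 0 by linear_combination s * h3, uM_zero]

theorem two_ne (h3 : (3 : F) = 0) : (2 : F) ≠ 0 := fun e => one_ne_zero (α := F)
  (by linear_combination h3 - e)

/-- `uM 1` centralises no element of order `4` modulo the centre. -/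
theorem u_not (h3 : (3 : F) = 0) (h : A * A = -1) : ¬ pm (A⁻¹ * (uM 1 * A * (uM 1)⁻¹)) := by
  rintro (e | e)
  · rw [inv_mul_eq_one, eq_mul_inv_iff_mul_eq] at e
    obtain ⟨r, rfl | rfl⟩ := cen_u one_ne_zero e
    · exact two_ne h3 (by
        have := (ent h).1
        simp only [mul_ap, u_ap, neg_ap, one_ap] at this
        linear_combination this)
    · exact two_ne h3 (by
        have := (ent h).1
        simp only [mul_ap, u_ap, neg_ap, one_ap] at this
        linear_combination this)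
  · have e1 : A⁻¹ * uM 1 * A⁻¹⁻¹ = -uM 1 := by
      rw [inv_inv, ← neg_one_mul, ← e]; group
    have := congrArg (· ^ 3) e1
    simp only [conj_pow, u_cube h3, mul_one, mul_inv_cancel] at this
    rw [Odd.neg_pow (by decide), u_cube h3] at this
    exact one_ne_neg (two_ne h3) this

end H59.P4
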