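import Cfsg.Agent.H48.DNASpec
import Cfsg.Agent.H61.DicksonField

/-! Chapter alpha, job T4a: an element of order three of `L₂(7)` normalises an element of order
seven. -/

set_option autoImplicit false

namespace H59.DP0NT4a

open Subgroup Cfsg H98 H48.DP H57.DPC H48.DP2

universe u

theorem fact7 : Fact (Nat.Prime 7) := ⟨by norm_num⟩

attribute [local instance] fact7

theorem simple7 : IsSimpleGroup P7 :=
  Matrix.ProjectiveSpecialLinearGroup.rank_two_simple (F := ZMod 7) (by simp)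

theorem card7 : Nat.card P7 = 168 := by
  have := H61.gcd_mul_card_psl_two (k := ZMod 7)
  rw [Nat.card_zmod] at this
  have e : Nat.gcd 2 (7 - 1) = 2 := by norm_num
  rw [e] at this
  change 2 * Nat.card P7 = _ at this
  omega

theorem pair : ∃ s w : P7, s ≠ 1 ∧ s ^ 7 = 1 ∧ orderOf w = 3 ∧ w * s * w⁻¹ = s ^ 4 := by
  let s : Matrix.SpecialLinearGroup (Fin 2) (ZMod 7) := ⟨!![1, 1; 0, 1], by decide⟩
  let w : Matrix.SpecialLinearGroup (Fin 2) (ZMod 7) := ⟨!![2, 0; 0, 4], by decide⟩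
  have h1 : s ^ 7 = 1 := by decide
  have h2 : w ^ 3 = 1 := by decide
  have h3 : w * s = s ^ 4 * w := by decide
  have h4 : w * s ≠ s * w := by decide
  have : Fact (Nat.Prime 3) := ⟨Nat.prime_three⟩
  refine ⟨s, w, fun e => h4 (mem_center_iff.1 ((QuotientGroup.eq_one_iff s).1 e) w), ?_,
    orderOf_eq_prime ?_ fun e => h4 (mem_center_iff.1 ((QuotientGroup.eq_one_iff w).1 e) s).symm,
    mul_inv_eq_iff_eq_mul.2 ?_⟩
  · rw [← QuotientGroup.mk_pow, h1, QuotientGroup.mk_one]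
  · rw [← QuotientGroup.mk_pow, h2, QuotientGroup.mk_one]
  · rw [← QuotientGroup.mk_pow, ← QuotientGroup.mk_mul, ← QuotientGroup.mk_mul, h3]

theorem model (y : P7) (hy : orderOf y = 3) :
    ∃ s : P7, s ≠ 1 ∧ s ^ 7 = 1 ∧ (y * s * y⁻¹ = s ^ 2 ∨ y * s * y⁻¹ = s ^ 4) := by
  classical
  obtain ⟨s, w, s1, s7, w3, e⟩ := pair
  have : Fact (Nat.Prime 3) := ⟨Nat.prime_three⟩
  have hS : IsSyl 3 (zpowers w) ⊤ := isSyl_of_not_dvd_relIndex le_top
    (isPGroup_zpowers (k := 1) (by rw [pow_one, ← w3, pow_orderOf_eq_one])) (by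
      have := (zpowers w).card_mul_index
      rw [Nat.card_zpowers, w3, card7] at this
      rw [relIndex_top_right]
      omega)
  obtain ⟨g, -, hg⟩ := hS.exists_cj_le
    (isPGroup_zpowers (k := 1) (by rw [pow_one, ← hy, pow_orderOf_eq_one])) (le_top (a := zpowers y))
  obtain ⟨i, hi, k⟩ := Finset.mem_image.1
    (mem_zpowers_iff_mem_range_orderOf.1 (hg (conj_mem_cj (mem_zpowers y))))
  rw [w3, Finset.mem_range] at hi
  have c : ∀ n : ℕ, (g⁻¹ * s * g) ^ n = g⁻¹ * s ^ n * g := fun n => by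
    simpa using conj_pow (i := n) (a := g⁻¹) (b := s)
  have d : y * (g⁻¹ * s * g) * y⁻¹ = g⁻¹ * (w ^ i * s * (w ^ i)⁻¹) * g := by rw [k]; group
  refine ⟨g⁻¹ * s * g, fun h => s1 (by
    rw [show s = g * (g⁻¹ * s * g) * g⁻¹ by group, h]; group), by rw [c, s7]; group, ?_⟩
  rw [d, c, c]
  interval_cases i
  · have : y = 1 := by simpa using k.symm
    rw [this, orderOf_one] at hy
    omega
  · right; rw [pow_one, e]
  · left
    congr 2
    calc w ^ 2 * s * (w ^ 2)⁻¹ = w * (w * s * w⁻¹) * w⁻¹ := by rw [sq]; group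
      _ = s ^ (7 * 2 + 2) := by rw [e, ← conj_pow, e, ← pow_mul]
      _ = s ^ 2 := by rw [pow_add, pow_mul, s7, one_pow, one_mul]

theorem job : JT4a.{u} := by
  rintro - X _ _ L y ⟨e⟩ hy h3
  obtain ⟨s, s1, s7, h⟩ := model (e ⟨y, hy⟩) (by rw [e.orderOf_eq, ← h3]; exact (orderOf_mk _ _))
  obtain ⟨s, rfl⟩ := e.surjective s
  have := simple7
  have : IsSimpleGroup L := e.isSimpleGroup
  refine ⟨s, s.2, congrArg Subtype.val (e.injective (a₁ := s ^ 7) (a₂ := 1) (by simpa using s7)),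
    h.imp (fun k => ?_) fun k => ?_, fun N hs hN => ?_⟩
  · exact congrArg Subtype.val
      (e.injective (a₁ := ⟨y, hy⟩ * s * ⟨y, hy⟩⁻¹) (a₂ := s ^ 2) (by simpa using k))
  · exact congrArg Subtype.val
      (e.injective (a₁ := ⟨y, hy⟩ * s * ⟨y, hy⟩⁻¹) (a₂ := s ^ 4) (by simpa using k))
  · have hn : (N.subgroupOf L).Normal :=
      ⟨fun n h g => conj_mem_of_mem_normalizer (G := X) (H := N) (x := n) (hN g.2) h⟩
    have := hn.eq_bot_or_eq_top.resolve_left fun k => s1 (by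
      rw [mem_bot.1 (k ▸ hs : s ∈ (⊥ : Subgroup L)), map_one])
    exact (this ▸ mem_top _ : (⟨y, hy⟩ : L) ∈ N.subgroupOf L)

end H59.DP0NT4a
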