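import Cfsg.Agent.H53.KUSpec

/-! Tower KU (S2196), slot B2b: the good vectors form a subspace. -/

set_option autoImplicit false

namespace H59.KuB2b

open Cfsg H59 H53.WU H53.KU Module

variable {S : KS}

theorem omap {x : S.V} (h : S.O x) {k : S.G} (hk : k ∈ S.K) : S.O (k.1 x) := by
  refine ⟨h.1.map k, fun t ht => ?_⟩
  have h1 := HS.conj_Zs k⁻¹ ht
  rw [show (k⁻¹).1 (k.1 x) = x from k.1.symm_apply_apply x] at h1
  have := S.K.mul_mem (S.K.mul_mem hk (h.2 h1)) (S.K.inv_mem hk)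
  simpa [mul_assoc] using this

theorem osmul {x : S.V} (h : S.O x) {c : S.F} (hc : c ≠ 0) : S.O (c • x) :=
  ⟨⟨smul_ne_zero hc h.1.1, by simp [h.1.2]⟩, by rw [HS.Zs_smul x hc]; exact h.2⟩

theorem otv {x : S.V} (h : S.O x) {c : S.F} (hc : c + frob S.hF c = 0) :
    ∃ k ∈ S.K, ∀ y, k.1 y = y + (c * S.B x y) • x :=
  ⟨S.h.tvHom h.1.2 (Multiplicative.ofAdd ⟨c, hc⟩), h.2 (S.h.tvHom_mem h.1.2 _),
    fun y => S.h.tvHom_apply h.1.2 _ y⟩

theorem oadd {x y : S.V} (hx : S.O x) (hy : S.O y) (h0 : S.B x y ≠ 0)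
    (h : S.B x y + frob S.hF (S.B x y) = 0) : S.O (y + x) := by
  obtain ⟨k, hk, e⟩ := otv hx (c := (S.B x y)⁻¹) (by
    rw [map_inv₀, eq_neg_of_add_eq_zero_right h, inv_neg, add_neg_cancel])
  have := omap hy hk
  rwa [e, inv_mul_cancel₀ h0, one_smul] at this

theorem exists_tz (S : KS) (d : S.F) : ∃ b : S.F, b + frob S.hF b = 0 ∧ b ≠ 0 ∧ b ≠ d := by
  classical
  by_contra! h
  have h1 : Nat.card (tz (frob S.hF)) ≤ Nat.card ({0, d} : Finset S.F) :=
    Nat.card_le_card_of_injective (fun c => ⟨c.1, by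
      by_cases e : c.1 = 0
      · simp [e]
      · simp [h c.1 c.2 e]⟩) fun a b e => Subtype.ext (congrArg (·.1) e)
  rw [S.toHS.card_tz, Nat.card_eq_fintype_card, Fintype.card_coe] at h1
  have := Finset.card_le_two (a := (0 : S.F)) (b := d)
  have := S.hq
  omega

/-- The good vectors. -/
def Gd (E : Submodule S.F S.V) (w : S.V) : Prop :=
  w ∈ perp S.B E ∧ ∀ a ∈ E, a ≠ 0 → S.B a a + S.B w w = 0 → S.O (a + w)

theorem B_add {E : Submodule S.F S.V} {a a' w w' : S.V} (ha : a ∈ E) (ha' : a' ∈ E) (hw : w ∈ perp S.B E)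
    (hw' : w' ∈ perp S.B E) : S.B (a + w) (a' + w') = S.B a a' + S.B w w' := by
  simp [hw' a ha, S.h.eq_zero_comm.1 (hw a' ha')]

theorem jobB2b : JobB2b := by
  intro S E hSp hC h3 hD hE hT
  obtain ⟨b, bE, hb⟩ := S.h.exists_orthonormal_mem 3 hD h3
  obtain ⟨c, hc⟩ := exists_norm_eq' S.h.ne_id S.h.invol (μ := (-1 : S.F)) (by simp)
  have e0 : S.B (b 0 + c • b 1) (b 0 + c • b 1) = 0 := by
    simp only [map_add, LinearMap.add_apply, form_smul_left, form_smul_right, hb]
    simp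
    linear_combination hc
  obtain ⟨f, ef, ff, s, t, hf⟩ := S.h.exists_isotropic_partner e0 (d := b 0) (by
    simp only [map_add, LinearMap.add_apply, form_smul_left, hb]; simp)
  have eE : b 0 + c • b 1 ∈ E := E.add_mem (bE 0) (E.smul_mem _ (bE 1))
  have fE : f ∈ E := hf ▸ E.add_mem (E.smul_mem _ eE) (E.smul_mem _ (bE 0))
  have eu : S.B (b 0 + c • b 1) (b 2) = 0 := by
    simp only [map_add, LinearMap.add_apply, form_smul_left, hb]; simp
  have fu : S.B f (b 2) = 0 := by
    rw [hf]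
    simp only [map_add, LinearMap.add_apply, form_smul_left, hb]; simp
  have uu : S.B (b 2) (b 2) = 1 := by simp [hb]
  have uE := bE 2
  generalize b 0 + c • b 1 = e at e0 ef eE eu
  generalize b 2 = u at eu fu uu uE
  clear hf hb bE hc
  have fe : S.B f e = 1 := by rw [← S.h.symm, ef, map_one]
  have ue := S.h.eq_zero_comm.1 eu
  have uf := S.h.eq_zero_comm.1 fu
  have one : ∀ a ∈ E, ∀ w ∈ perp S.B E, a ≠ 0 → S.O (a + w) → Gd E w := fun a ha w hw a0 h =>
    ⟨hw, fun a' ha' a0' h' => by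
      have h1 := h.1.2
      rw [B_add ha ha hw hw] at h1
      obtain ⟨k, hk, k1, k2⟩ := hT a ha a' ha' a0 a0' (by linear_combination h1 - h')
      have := omap h hk
      rwa [map_add, k1, k2 w hw] at this⟩
  have ex : ∀ w : S.V, ∃ s : S.F, S.B (f + s • e) (f + s • e) + S.B w w = 0 := fun w => by
    obtain ⟨s, hs⟩ := exists_trace_eq S.h.ne_id S.h.invol (c := -S.B w w) (by rw [map_neg, S.h.symm])
    refine ⟨s, ?_⟩
    simp only [map_add, LinearMap.add_apply, form_smul_left, form_smul_right, e0, ef, ff, fe]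
    linear_combination hs
  have fs : ∀ s : S.F, f + s • e ∈ E := fun s => E.add_mem fE (E.smul_mem _ eE)
  have f0 : ∀ s : S.F, f + s • e ≠ 0 := fun s h => by
    have := congrArg (S.B e) h
    simp [ef, e0] at this
  have exO : ∀ w, Gd E w → ∃ a ∈ E, a ≠ 0 ∧ S.O (a + w) := fun w hw => by
    obtain ⟨s, hs⟩ := ex w
    exact ⟨_, fs s, f0 s, hw.2 _ (fs s) (f0 s) hs⟩
  let W : Submodule S.F S.V :=
    { carrier := {w | Gd E w}
      zero_mem' := ⟨zero_mem _, fun a ha a0 h => by simpa using hE a ha ⟨a0, by simpa using h⟩⟩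
      smul_mem' := fun c w hw => by
        by_cases c0 : c = 0
        · subst c0
          exact ⟨by simp, fun a ha a0 h => by simpa using hE a ha ⟨a0, by simpa using h⟩⟩
        obtain ⟨a, ha, a0, h⟩ := exO w hw
        exact one _ (E.smul_mem c ha) _ (Submodule.smul_mem _ c hw.1) (smul_ne_zero c0 a0)
          (by simpa using osmul h c0)
      add_mem' := fun {w w'} hw hw' => by
        obtain ⟨s, hs⟩ := ex w
        obtain ⟨β, b1, b2, b3⟩ := exists_tz S (S.B w w')
        obtain ⟨z, hz⟩ := S.h.exists_smul_norm_eq (v := u) (by simp [uu]) (c := -S.B w' w')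
          (by rw [map_neg, S.h.symm])
        have aE : (β - S.B w w') • e + z • u ∈ E := E.add_mem (E.smul_mem _ eE) (E.smul_mem _ uE)
        have a0 : (β - S.B w w') • e + z • u ≠ 0 := fun h => by
          have := congrArg (S.B f) h
          simp only [map_add, form_smul_right, fe, fu, map_zero] at this
          exact b3 (by linear_combination this)
        have h1 := hw.2 _ (fs s) (f0 s) hs
        have h2 := hw'.2 _ aE a0 (by
          simp only [map_add, LinearMap.add_apply, form_smul_left, form_smul_right, e0, eu, ue] at hz ⊢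
          linear_combination hz)
        have h4 : S.B (f + s • e + w) ((β - S.B w w') • e + z • u + w') = β := by
          rw [B_add (fs s) aE hw.1 hw'.1]
          simp only [map_add, LinearMap.add_apply, form_smul_left, form_smul_right, e0, eu, fe, fu]
          ring
        have h5 := oadd h1 h2 (by rwa [h4]) (by rwa [h4])
        refine one _ (E.add_mem aE (fs s)) _ (add_mem hw.1 hw'.1) (fun h => ?_) (by convert h5 using 1; abel)
        have := congrArg (S.B e) h
        simp [ef, e0, eu] at this }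
  have dec : ∀ v : S.V, ∃ a ∈ E, ∃ w ∈ perp S.B E, a + w = v := fun v =>
    Submodule.mem_sup.1 ((S.h.isCompl_perp hD).sup_eq_top.ge (Submodule.mem_top (x := v)))
  obtain ⟨d, d0, hd⟩ := exists_trace_zero_ne_zero S.h.ne_id S.h.invol
  have e1 : e ≠ 0 := fun h => by simp [h] at ef
  have all : ∀ y, S.O y → y ∈ E ⊔ W := by
    refine hC _ ⟨e, hE e eE ⟨e1, e0⟩, Submodule.mem_sup_left eE⟩ fun x y _ hy hx hxy => ?_
    obtain ⟨a, ha, w, hw, rfl⟩ := dec y
    refine Submodule.add_mem_sup ha ?_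
    by_cases a0 : a = 0
    swap
    · exact one a ha w hw a0 hy
    subst a0
    obtain ⟨a1, ha1, w1, hw1, rfl⟩ := Submodule.mem_sup.1 hx
    obtain ⟨a2, ha2, a0, h⟩ := exO w1 hw1
    rw [B_add ha1 E.zero_mem hw1.1 hw, map_zero, zero_add] at hxy
    obtain ⟨k, hk, hk'⟩ := otv h hd
    have h1 := omap hy hk
    rw [hk', B_add ha2 E.zero_mem hw1.1 hw, map_zero, zero_add] at h1
    have h2 : w + (d * S.B w1 w) • w1 ∈ W := one _ (E.smul_mem (d * S.B w1 w) ha2) _
      (add_mem hw (Submodule.smul_mem _ _ hw1.1)) (smul_ne_zero (mul_ne_zero d0 hxy) a0)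
      (by convert h1 using 1; module)
    exact (W.add_mem_iff_left (W.smul_mem _ hw1)).1 h2
  have top : ∀ w ∈ perp S.B E, Gd E w := fun w hw => by
    have : w ∈ E ⊔ W := (Submodule.span_le.2 all) (hSp.ge (Submodule.mem_top (x := w)))
    obtain ⟨a, ha, w', hw', rfl⟩ := Submodule.mem_sup.1 this
    have : a = 0 := Submodule.disjoint_def.1 hD a ha (((perp S.B E).add_mem_iff_left hw'.1).1 hw)
    subst this
    rw [zero_add]
    exact hw'
  have key : ∀ a ∈ E, ∀ w ∈ perp S.B E, a ≠ 0 → S.B (a + w) (a + w) = 0 → S.O (a + w) :=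
    fun a ha w hw a0 h => (top w hw).2 a ha a0 (by rwa [B_add ha ha hw hw] at h)
  intro v hv
  obtain ⟨a, ha, w, hw, rfl⟩ := dec v
  by_cases a0 : a = 0
  swap
  · exact key a ha w hw a0 hv.2
  subst a0
  rw [zero_add] at hv ⊢
  obtain ⟨y, hy⟩ : ∃ y, S.B y w ≠ 0 := by
    by_contra! h
    exact hv.1 (S.h.nondeg' w h)
  obtain ⟨a, ha, w', hw', rfl⟩ := dec y
  obtain ⟨a', ha', a0, h⟩ := exO w' (top w' hw')
  obtain ⟨k, hk, hk'⟩ := otv h hd
  have h0 : S.B (a' + w') w ≠ 0 := by simpa [hw a ha, hw a' ha'] using hy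
  have h1 : S.O (k.1 w) := by
    have h2 := (hv.map k).2
    have e : k.1 w = (d * S.B (a' + w') w) • a' + (w + (d * S.B (a' + w') w) • w') := by
      rw [hk']; module
    rw [e] at h2 ⊢
    exact key _ (E.smul_mem _ ha') _ (add_mem hw (Submodule.smul_mem _ _ hw'))
      (smul_ne_zero (mul_ne_zero d0 h0) a0) h2
  have := omap h1 (S.K.inv_mem hk)
  rwa [show (k⁻¹).1 (k.1 w) = w from k.1.symm_apply_apply w] at this

end H59.KuB2b
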