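import Cfsg.Agent.H67.SPSpec
import Cfsg.Agent.H72.UMFV
import Cfsg.Agent.H86.SPIDef

/-! STD-SP (row S3129), slot `FV`: elements and subgroups of `Sp_(n+1)(q)` in terms of vectors. -/

set_option autoImplicit false
set_option linter.unusedSectionVars false

namespace H59.SPV

open Matrix Subgroup H67 H67.SP
open H67.UA hiding Par FV JobFV
open H67.SA (la)
open H86.SPI (ok pp hf_self hf_comm)

theorem mem_cl {G : Type*} [Group G] [Finite G] {S : Set G} (h1 : (1 : G) ∈ S)
    (hm : ∀ a ∈ S, ∀ b ∈ S, a * b ∈ S) (g : G) : g ∈ closure S ↔ g ∈ S :=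
  ⟨fun h => by
    rw [← mem_toSubmonoid, closure_toSubmonoid_of_finite] at h
    exact Submonoid.closure_induction (fun _ h => h) h1 (fun a b _ _ ha hb => hm a ha b hb) h,
    fun h => subset_closure h⟩

variable {n : ℕ} {F : Type} [Field F] [StarRing F] [TrivialStar F] [CharP F 2] [Finite F]

theorem tr0 (a : F) : tr a = 0 := tr_eq_zero.2 (star_trivial a)

theorem dd (g h : XU n F) (v : Vn n F) :
    ac (g * h) v + v = (ac g (ac h v) + ac h v) + (ac h v + v) := by
  rw [ac_mul, add_assoc, ← add_assoc (ac h v), v_add_self, zero_add]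

theorem back (h : XU n F) (v : Vn n F) : ac h v = (ac h v + v) + v := by
  rw [add_assoc, v_add_self, add_zero]

theorem isom (M : Matrix (Fin (n + 1)) (Fin (n + 1)) F) (h : ∀ x y, hf (M *ᵥ x) (M *ᵥ y) = hf x y) :
    ∃ g : XU n F, mt g = M := by
  refine exists_X M (sq_inj ?_) h
  have h1 : (M.submatrix Fin.revPerm Fin.revPerm)ᵀ * M = 1 := Matrix.ext fun i j => by
    have := h (ev j) (ev i.rev)
    simp only [hf_ev, Fin.rev_inj] at this
    rw [one_apply, ← this, mul_apply, hf]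
    simp [ev, mul_comm]
  have h2 := congrArg det h1
  rw [det_mul, det_transpose, det_submatrix_equiv_self, det_one, ← sq] at h2
  rw [h2, one_pow]

theorem diag (d : Fin (n + 1) → F) (h : ∀ i, d i * d i.rev = 1) :
    ∃ g : XU n F, mt g = diagonal d ∧ Odd (orderOf g) ∧ ∀ v i, ac g v i = d i * v i := by
  obtain ⟨g, hg⟩ := isom (diagonal d) fun x y => Finset.sum_congr rfl fun i _ => by
    rw [mulVec_diagonal, mulVec_diagonal, star_trivial, star_trivial]
    linear_combination x i * y i.rev * h i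
  refine ⟨g, hg, ?_, fun v i => by rw [ac, hg, mulVec_diagonal]⟩
  have := Fintype.ofFinite F
  obtain ⟨f, -, hf⟩ := FiniteField.card F 2
  have o : Odd (Fintype.card F - 1) := Nat.Even.sub_odd Fintype.card_pos
    (hf ▸ even_two.pow_of_ne_zero f.ne_zero) odd_one
  refine o.of_dvd_nat (orderOf_dvd_of_pow_eq_one (X_ext ?_))
  have : ∀ N, mt (g ^ N) = diagonal (d ^ N) := fun N => by
    rw [← diagonal_pow, ← hg]; rfl
  rw [this, mt_one, ← diagonal_one]
  exact congrArg diagonal (funext fun i =>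
    FiniteField.pow_card_sub_one_eq_one _ (left_ne_zero_of_mul_eq_one (h i)))

theorem chain (m : ℕ) (W : ℕ → Submodule F (Vn n F)) (h1 : Monotone W) (h2 : W 0 = ⊥)
    (h3 : W m = ⊤) : ∃ R : Subgroup (XU n F),
      IsPGroup 2 R ∧ ∀ g, g ∈ R ↔ ∀ j, ∀ v ∈ W (j + 1), ac g v + v ∈ W j := by
  have k := mem_cl (S := {g : XU n F | ∀ j, ∀ v ∈ W (j + 1), ac g v + v ∈ W j})
    (fun j v _ => by simp) fun a ha b hb j v hv => by
      rw [dd]
      exact add_mem (ha j _ (back b v ▸ add_mem (h1 j.le_succ (hb j v hv)) hv)) (hb j v hv)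
  refine ⟨_, fun g => ⟨m, Subtype.ext (X_ext ?_)⟩, k⟩
  have hg := (k g.1).1 g.2
  have k1 : ∀ j, ∀ v ∈ W j, (mt g.1 + 1) ^ j *ᵥ v = 0 := fun j => by
    induction j with
    | zero => intro v hv; rw [h2, Submodule.mem_bot] at hv; simp [hv]
    | succ j ih =>
      intro v hv
      rw [pow_succ, ← mulVec_mulVec, add_mulVec, one_mulVec]
      exact ih _ (hg j v hv)
  have k2 : (mt g.1 + 1) ^ m = 0 := Matrix.ext fun i j => by
    simpa [ev] using congrFun (k1 m (ev j) (h3 ▸ Submodule.mem_top)) i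
  have k3 := add_pow_char_pow_of_commute 2 m (Commute.one_right (mt g.1))
  rw [pow_eq_zero_of_le Nat.lt_two_pow_self.le k2, one_pow] at k3
  exact (eq_neg_of_add_eq_zero_left k3.symm).trans (CharTwo.neg_eq _)

variable [p : Par n F]

include p in
theorem rev_mid : (mid n).rev = mid n := Fin.ext (by
  obtain ⟨m, hm⟩ := p.odd
  simp only [Fin.val_rev, mid]; omega)

theorem hf_mid (w w' : Vn (n + 1) F) : hf w w' = w (mid n) * w' (mid n) +
    hf (n := n) ((mid n).removeNth w) ((mid n).removeNth w') := by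
  rw [hf, Fin.sum_univ_succAbove _ (mid n), rev_mid (F := F), star_trivial]
  simp only [hf, Fin.removeNth, Fin.rev_succAbove, rev_mid (F := F)]

theorem ins_ex : ∃ j, IsIns n F j := by
  let L : XU n F → Vn (n + 1) F →ₗ[F] Vn (n + 1) F := fun g =>
    { toFun := fun w => (mid n).insertNth (w (mid n)) (ac g ((mid n).removeNth w))
      map_add' := fun a b => by rw [← Fin.insertNth_add, ← ac_add]; rfl
      map_smul' := fun c a => (Fin.insertNth_eq_iff.2 ⟨by simp, funext fun i => by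
        rw [show (mid n).removeNth (c • a) = c • (mid n).removeNth a from rfl, ac_smul]
        simp [Fin.removeNth]⟩) }
  have hL : ∀ g w, L g w = (mid n).insertNth (w (mid n)) (ac g ((mid n).removeNth w)) :=
    fun _ _ => rfl
  choose j hj using fun g => isom (LinearMap.toMatrix' (L g)) fun x y => by
    simp only [LinearMap.toMatrix'_mulVec, hf_mid, hL, Fin.insertNth_apply_same,
      Fin.removeNth_insertNth, hf_ac]
  have k : ∀ g w, ac (j g) w = L g w := fun g w => by rw [ac, hj, LinearMap.toMatrix'_mulVec]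
  refine ⟨MonoidHom.mk' j fun a b => ac_ext fun w => by
    simp only [ac_mul, k, hL, Fin.insertNth_apply_same, Fin.removeNth_insertNth], fun g => ⟨?_, fun v => ?_⟩⟩
  · refine (k g _).trans ((hL _ _).trans (Fin.insertNth_eq_iff.2 ⟨rfl, ?_⟩))
    rw [show (mid n).removeNth (ev (mid n) : Vn (n + 1) F) = 0 from funext fun i => by
      simp [Fin.removeNth, ev_apply], ac_zero]
  · refine (k g _).trans ?_
    simp only [hL, iv, Fin.insertNth_apply_same, Fin.removeNth_insertNth]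

include p in
theorem v1 : (1 : Fin (n + 1)).val = 1 := by
  have := p.five
  rw [Fin.val_one', Nat.mod_eq_of_lt (by omega)]

theorem w0 {k : ℕ} (h : 1 ≤ k) : Wk k (ev 0 : Vn n F) := wk_ev h
theorem w1 {k : ℕ} (h : 2 ≤ k) : Wk k (ev 1 : Vn n F) := wk_ev (by rw [v1 (F := F)]; omega)

theorem mem_Qv (u : Vn n F) (g : XU n F) : g ∈ Qv u ↔ ∃ x c, hf x u = 0 ∧ g = EE u x c :=
  mem_cl (by exact ⟨0, 0, by simp, by simp⟩) (by
    rintro _ ⟨x, c, h, rfl⟩ _ ⟨y, d, h', rfl⟩
    exact ⟨_, _, by rw [hf_add_left, h, h', add_zero], EE_mul (ok h c) (ok h' d)⟩) g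

theorem wk_e0 {k : ℕ} (hk : k < n) {x : Vn n F} (h : Wk (n - k) x) : hf x (ev 0) = 0 :=
  h.perp (w0 le_rfl) (by omega)

theorem zu_eq (a b : F) : zu (n := n) a b = EE (ev 0) (b • ev 1) a := by
  have := p.five
  rw [zu, EE_mul (ok (by simp) a) (ok (((w1 le_rfl).smul b).perp (w0 le_rfl) (by omega)) 0)]
  simp

theorem mem_Zl (u : Vn n F) (g : XU n F) : g ∈ Zl u ↔ ∃ c, g = Tc c u :=
  mem_cl (by exact ⟨0, by simp⟩) (by
    rintro _ ⟨c, rfl⟩ _ ⟨d, rfl⟩
    exact ⟨_, (Tc_add (hf_self u) (star_trivial c) (star_trivial d)).symm⟩) g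

theorem mem_Zs (u v : Vn n F) (h : hf u v = 0) (g : XU n F) :
    g ∈ Zs u v ↔ ∃ c : F, g = qq (c • v) u :=
  have k : ∀ c : F, Pp u (c • v) := fun c => pp (by rw [hf_smul_right, h, mul_zero])
  mem_cl (by exact ⟨0, by simp⟩) (by
    rintro _ ⟨c, rfl⟩ _ ⟨d, rfl⟩
    exact ⟨c + d, by
      rw [add_smul, qq_add (k c) (k d) (by rw [hf_smul_left, hf_smul_right, hf_self]; simp)]⟩) g

theorem mem_M (j : ℕ) (g : XU n F) : g ∈ Mk n F j ↔ ∀ v, Wk j (ac g v + v) :=
  mem_cl (fun v => by rw [ac_one, v_add_self]; exact fun _ _ => rfl)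
    (fun a ha b hb v => by rw [dd]; exact (ha _).add (hb v)) g

theorem Qk_eq {j : ℕ} (hj : 2 * j ≤ n + 1) : Qk n F j = GA.Qk (XU n F) j := by
  rw [← closure_eq (GA.Qk (XU n F) j), Qk]
  congr 1
  ext g
  exact (H72.FV.mem_Qk' hj g).symm

theorem mem_M2 (g : XU n F) : g ∈ Mk n F 2 ↔ ∃ a b c, g = zu a b * Tc c (ev 1) := by
  have := p.five
  have h4 : 2 * 2 ≤ n + 1 := by omega
  have o : ∀ a b : F, Ok (ev 0 : Vn n F) (b • ev 1) a := fun a b =>
    ok (((w1 le_rfl).smul b).perp (w0 le_rfl) (by omega)) a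
  have k : ∀ a b c : F, zu a b * Tc c (ev 1) ∈ GA.Mk (XU n F) 2 := fun a b c => zu_eq (n := n) a b ▸
    mul_mem (H72.FV.EE_M h4 _ _ _ (o a b) (w0 (by omega)) ((w1 le_rfl).smul b))
      (H72.FV.EE_M h4 _ _ _ (ok (by simp) c) (w1 le_rfl) fun _ _ => rfl)
  rw [mem_M, ← H72.FV.mem_M h4]
  refine ⟨fun hg => ⟨ac g (ev (Fin.rev 0)) 0, ac g (ev (Fin.rev 0)) 1, ac g (ev (Fin.rev 1)) 1,
    Mk_ext h4 hg (k _ _ _) fun i j hi hj => ?_⟩, by rintro ⟨a, b, c, rfl⟩; exact k a b c⟩
  have s : ac g (ev (Fin.rev 1)) 0 = ac g (ev (Fin.rev 0)) 1 := by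
    have := hf_ac_left g (ev (Fin.rev 1)) (ev (Fin.rev 0))
    rwa [inv_eq_of_mul_eq_one_right (Subtype.ext (SA.sq_Mk h4 (mem_Mk.1 hg))), hf_comm (ev _),
      hf_ev_right, hf_ev_right, Fin.rev_rev, Fin.rev_rev] at this
  have e : ∀ i : Fin (n + 1), i.val < 2 → i = 0 ∨ i = 1 := fun i hi => by
    rw [Fin.ext_iff, Fin.ext_iff, v1 (F := F), Fin.val_zero]; omega
  have n1 : (0 : Fin (n + 1)) ≠ 1 := by rw [Ne, Fin.ext_iff, v1 (F := F)]; simp
  have n2 : ∀ i j : Fin (n + 1), i.val < 2 → j.val < 2 → i ≠ j.rev := fun i j hi hj => by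
    rw [Ne, Fin.ext_iff, Fin.val_rev]; omega
  have l0 : (0 : Fin (n + 1)).val < 2 := by simp
  have l1 : (1 : Fin (n + 1)).val < 2 := by rw [v1 (F := F)]; omega
  rw [zu_eq, ac_mul, ac_Tc (hf_self _) (star_trivial _), ac_EE (o _ _)]
  rcases e i hi with rfl | rfl <;> rcases e j hj with rfl | rfl <;>
    simp [-Fin.rev_zero, hf_smul_right, hf_ev_right, ev_apply, n1, n1.symm,
      n2 _ _ l0 l0, n2 _ _ l0 l1, n2 _ _ l1 l0, n2 _ _ l1 l1, (n2 _ _ l1 l0).symm,
      (n2 _ _ l1 l1).symm, s]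

theorem jobFV : JobFV := fun n F _ _ _ _ _ p => by
  have := p.five
  have r0 : (la n).rev = 0 := Fin.rev_last n
  have e01 : hf (ev 0 : Vn n F) (ev 1) = 0 := (w0 le_rfl).perp (w1 le_rfl) (by omega)
  exact
  { iso := hf_self
    ok := fun _ _ c h => ok h c
    pp := fun _ _ => pp
    q0_add := H86.SPI.q0_add
    q0_smul := H86.SPI.q0_smul
    q0_W := fun x h => Finset.sum_eq_zero fun i hi => by
      obtain ⟨m, hm⟩ := p.odd
      have := (Finset.mem_filter.1 hi).2
      rw [h i.rev (by rw [Fin.val_rev]; simp only [kk] at *; omega), mul_zero]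
    q0_ev := H86.SPI.q0_ev
    mem_Qv := mem_Qv
    mem_QQ := fun g => (mem_Qv _ g).trans ⟨fun ⟨x, c, h, e⟩ => ⟨x + x 0 • ev 0, c,
      ⟨by rw [hf_add_left, h, hf_smul_left, hf_self, mul_zero, add_zero], by
        simp [hf_ev_right, ev_apply, CharTwo.add_self_eq_zero]⟩, by rw [EE_shift, tr0, add_zero, e]⟩,
      fun ⟨x, c, h, e⟩ => ⟨x, c, h.1, e⟩⟩
    mem_Zl := mem_Zl
    mem_Zs := mem_Zs
    mem_ZU := fun g => by
      have k := mem_cl (S := {g : XU n F | ∃ a b, g = zu a b}) ⟨0, 0, by simp [zu]⟩ (by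
        rintro _ ⟨a, b, rfl⟩ _ ⟨a', b', rfl⟩
        have o : ∀ a b : F, Ok (ev 0 : Vn n F) (b • ev 1) a := fun a b =>
          ok (by rw [hf_smul_left, hf_comm, e01, mul_zero]) a
        exact ⟨a + a', b + b', by
          rw [zu_eq, zu_eq, zu_eq, EE_mul (o _ _) (o _ _), hf_smul_left, hf_smul_right, hf_self, add_smul]
          simp⟩)
      refine ⟨fun h => (k g).1 ((sup_le (fun z hz => ?_) fun z hz => ?_ : _ ≤ Subgroup.closure _) h), ?_⟩
      · obtain ⟨c, rfl⟩ := (mem_Zl _ z).1 hz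
        exact subset_closure ⟨c, 0, by simp⟩
      · obtain ⟨c, rfl⟩ := (mem_Zs _ _ e01 z).1 hz
        exact subset_closure ⟨0, c, by simp⟩
      · rintro ⟨a, b, rfl⟩
        exact mul_mem_sup (subset_closure ⟨a, rfl⟩) (subset_closure ⟨b, rfl⟩)
    mem_U := fun g => mem_cl (fun j v _ => by rw [ac_one, v_add_self]; exact fun _ _ => rfl) (fun a ha b hb j v hv => by
      rw [dd]
      exact (ha j _ (back b v ▸ ((hb j v hv).mono j.le_succ).add hv)).add (hb j v hv)) g
    mem_M := mem_M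
    mem_M2 := mem_M2
    mem_Qk := fun j hj g => Qk_eq (F := F) hj ▸ H72.FV.mem_Qk' hj g
    mem_Qd := mem_cl (by exact ⟨0, 0, fun _ _ => rfl, by simp⟩) (by
      rintro _ ⟨x, c, h, rfl⟩ _ ⟨y, d, h', rfl⟩
      exact ⟨_, _, h.add h', EE_mul (ok (wk_e0 (by omega) h) c) (ok (wk_e0 (by omega) h') d)⟩)
    wk_perp := fun _ => H72.FV.wk_perp
    gen_Q := fun j hj A h => Qk_eq (F := F) hj ▸ H72.FV.gen_Q hj A fun u x c _ => h u x c
    EE_Q := fun j hj u x c hu hx => Qk_eq (F := F) hj ▸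
      H72.FV.EE_Q hj u x c (ok (hx.perp hu (by omega)) c) hu hx
    Q_one := by
      rw [Qk_eq (by omega)]
      refine le_antisymm (H72.FV.gen_Q (by omega) _ fun u x c o hu _ => ?_) ((closure_le _).2 ?_)
      · have e : u = u 0 • ev 0 := funext fun i => by
          by_cases r : i = 0
          · simp [r, ev_apply]
          · simp [ev_apply, r, hu i (Nat.pos_of_ne_zero fun e => r (Fin.ext e))]
        rw [e, EE_smul]
        refine subset_closure ⟨_, _, ?_, rfl⟩
        rw [hf_smul_left, ← hf_smul_right, ← e, o.perp]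
      · rintro _ ⟨x, c, h, rfl⟩
        refine H72.FV.EE_Q (by omega) _ x c (ok h c) (w0 le_rfl) fun i hi => ?_
        obtain rfl : i = (0 : Fin (n + 1)).rev := Fin.ext (by rw [Fin.val_rev]; simp; omega)
        rw [← hf_ev_right x, h]
    diag := diag
    tor := fun l l0 => by
      have n0 : (0 : Fin (n + 1)) ≠ la n := by rw [Ne, Fin.ext_iff]; simp; omega
      obtain ⟨g, g1, g2, g3⟩ := diag (n := n) (fun i => if i = 0 then l else if i = la n then l⁻¹ else 1)
        fun i => by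
          simp only [Fin.rev_eq_iff, r0, Fin.rev_zero]
          split_ifs with h1 h2 <;> simp_all
      rw [SP.hT, ← g1, mk_mt]
      refine ⟨g2, funext fun i => ?_, funext fun i => ?_, fun y hy => funext fun i => ?_⟩ <;> rw [g3]
      · by_cases h : i = 0 <;> simp [h, ev_apply]
      · by_cases h : i = la n <;> simp [h, ev_apply, n0.symm]
      · have h1 := hy.1
        have h2 := hy.2
        rw [hf_ev_right] at h1 h2
        split_ifs with a b
        · rw [a, ← r0, h2, mul_zero]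
        · rw [b, show la n = Fin.rev 0 from (Fin.rev_zero n).symm, h1, mul_zero]
        · rw [one_mul]
    perm := fun π h => (H72.FV.perm π h).imp fun _ h => h.2
    isom := isom
    chain := chain
    ins := ins_ex }

end H59.SPV
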