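/- Job TW of blueprints/A12.md. -/
import Cfsg.Agent.H51.A12Spec

set_option autoImplicit false

namespace H59.A12TW

open Cfsg Subgroup Function Equiv H51.X12 H20.X16.BV H14 H98 H1.Gold H31.S2
open H20.X16 (BV pw pw_xor map_pw)
open H20.AF (P12 t0)
open H20.AR (Cen)

universe u

/-- `a` permutes the labels by `σ`. -/
def D (a : Perm P12) (σ : Perm (Fin 6)) : Prop :=
  ∃ I : Finset (Fin 6), Even I.card ∧ a = ep0 I * la0 σ

theorem lb_eval (I : Finset (Fin 6)) (σ : Perm (Fin 6)) (i : Fin 6) :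
    (lb ((ep0 I * la0 σ) (lb.symm (i, 0)))).1 = σ i := by
  simp [ep0, la0, Perm.mul_apply, permCongr_apply]

theorem D.uniq {a : Perm P12} {σ τ : Perm (Fin 6)} (h : D a σ) (h' : D a τ) : σ = τ := by
  obtain ⟨I, -, e⟩ := h
  obtain ⟨J, -, e'⟩ := h'
  ext i
  rw [← lb_eval I σ i, ← lb_eval J τ i, ← e, ← e']

theorem even_symmDiff : ∀ I J : Finset (Fin 6), Even I.card → Even J.card →
    Even (symmDiff I J).card := by
  decide +kernel

theorem D.mul (wm : WM) {a b : Perm P12} {σ τ : Perm (Fin 6)} (h : D a σ) (h' : D b τ) :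
    D (a * b) (σ * τ) := by
  obtain ⟨I, hI, rfl⟩ := h
  obtain ⟨J, hJ, rfl⟩ := h'
  have hJ' : Even (J.map σ.toEmbedding).card := by rwa [Finset.card_map]
  refine ⟨symmDiff I (J.map σ.toEmbedding), even_symmDiff _ _ hI hJ', ?_⟩
  rw [wm.wr.mul _ _ hI hJ', ← wm.wr.act σ J hJ, map_mul]
  group

theorem jobTW : JobTW.{u} := by
  intro ps wm G _ _ φ N p yw
  classical
  have hC : ∀ n : N, p n ∈ Cen t0 := fun n => yw.range ▸ ⟨n, rfl⟩
  have ex : ∀ a ∈ Cen t0, ∃ σ, D a σ := fun a ha => by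
    obtain ⟨σ, I, hI, e⟩ := (wm.wr.mem a).1 ha
    exact ⟨σ, I, hI, e⟩
  -- the sign, as a Boolean
  let s : Perm P12 → Bool := fun a => decide (∃ σ, D a σ ∧ Perm.sign σ ≠ 1)
  have sD : ∀ a σ, D a σ → s a = decide (Perm.sign σ ≠ 1) := fun a σ h => by
    simp only [s, decide_eq_decide]
    exact ⟨fun ⟨τ, h', e⟩ => h'.uniq h ▸ e, fun e => ⟨σ, h, e⟩⟩
  have sm : ∀ a ∈ Cen t0, ∀ b ∈ Cen t0, s (a * b) = xor (s a) (s b) := fun a ha b hb => by
    obtain ⟨σ, h⟩ := ex a ha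
    obtain ⟨τ, h'⟩ := ex b hb
    rw [sD _ _ (h.mul wm h'), sD _ _ h, sD _ _ h', map_mul]
    rcases Int.units_eq_one_or (Perm.sign σ) with k | k <;>
      rcases Int.units_eq_one_or (Perm.sign τ) with l | l <;> simp [k, l]
  have sp : ∀ x, s (psi x) = H51.X12.lam x := fun x => by
    obtain ⟨σ, h⟩ := ex _ (ps.le x)
    rw [sD _ _ h]
    obtain ⟨I, -, e⟩ := h
    have := wm.lam x σ I e
    cases hl : H51.X12.lam x
    · simp [this.1 hl]
    · have h1 : Perm.sign σ ≠ 1 := fun k => by rw [this.2 k] at hl; cases hl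
      simp [h1]
  have tC : t0 ∈ Cen t0 := ps.t ▸ ps.le tM
  have t2 : t0 * t0 = 1 := by
    rw [← ps.t, ← map_mul, show tM * tM = 1 by decide +kernel, map_one]
  have st : s t0 = false := by rw [← ps.t, sp]; decide +kernel
  have s1 : s 1 = false := by rw [← map_one psi, sp]; decide +kernel
  have cm : ∀ a ∈ Cen t0, a * t0 = t0 * a := fun a ha =>
    mem_centralizer_singleton_iff.1 (mem_inf.1 ha).2
  let p' : N →* Perm P12 := MonoidHom.mk' (fun n => p n * pw (s (p n)) t0) fun m n => by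
    rw [map_mul, sm _ (hC m) _ (hC n), pw_xor t2, mul_assoc, mul_assoc, ← mul_assoc (p n),
      ← mul_assoc _ (p n)]
    congr 2
    cases s (p m)
    · simp [pw]
    · exact cm _ (hC n)
  have p'v : ∀ n, p' n = p n * pw (s (p n)) t0 := fun _ => rfl
  have mE : E.map (φ.comp tw) = E.map φ := by
    have f : ∀ x : M, x ∈ E → tw x = x := by decide +kernel
    ext g
    exact ⟨fun ⟨x, hx, e⟩ => ⟨x, hx, by rw [← e, MonoidHom.comp_apply, f x hx]⟩,
      fun ⟨x, hx, e⟩ => ⟨x, hx, by rw [← e, MonoidHom.comp_apply, f x hx]⟩⟩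
  refine ⟨p', by rw [mE]; exact yw.eq, le_antisymm ?_ fun a ha => ?_, ?_, fun m h => ?_⟩
  · rintro _ ⟨n, rfl⟩
    rw [p'v]
    refine mul_mem (hC n) ?_
    cases s (p n)
    · exact one_mem _
    · exact tC
  · cases hs : s a
    · obtain ⟨n, rfl⟩ : a ∈ p.range := yw.range ▸ ha
      exact ⟨n, by rw [p'v, hs]; exact mul_one _⟩
    · obtain ⟨n, e⟩ : a * t0 ∈ p.range := yw.range ▸ mul_mem ha tC
      refine ⟨n, ?_⟩
      rw [p'v, e, sm _ ha _ tC, hs, st]
      show a * t0 * t0 = a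
      rw [mul_assoc, t2, mul_one]
  · have : p'.ker = p.ker := by
      ext n
      rw [MonoidHom.mem_ker, MonoidHom.mem_ker, p'v]
      refine ⟨fun e => ?_, fun e => by rw [e, s1]; exact mul_one _⟩
      cases hs : s (p n)
      · rw [hs] at e; exact (mul_one _).symm.trans e
      · rw [hs] at e
        have e' : p n = t0 := by
          have e2 : p n * t0 = 1 := e
          rw [← t2] at e2
          exact mul_right_cancel e2
        rw [e', st] at hs; cases hs
    rw [this]; exact yw.ker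
  · have e : p ⟨φ (tw m), h⟩ = psi (tw m) := yw.val (tw m) h
    show p ⟨φ (tw m), h⟩ * pw (s (p ⟨φ (tw m), h⟩)) t0 = psi m
    rw [e, sp, ← ps.t, ← map_pw, ← map_mul]
    exact congrArg psi (tw_tw m)

end H59.A12TW
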