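import Cfsg.Agent.H63.A8Def
import Cfsg.Agent.H67.SAInd

/-! A8S, slot WD: the group `W` (`2⁶` or `4³`). -/

set_option autoImplicit false

namespace H59.A8WD

open H64.SG (Cz Cs Ns Inv2)
open H67.SA H63.A8

universe u

section El

variable {E : Type*} [CommGroup E]

/-- The homomorphism `Z/2 → E` of an element of order at most `2`. -/
def h2 (g : E) (hg : g * g = 1) : Multiplicative (ZMod 2) →* E :=
  MonoidHom.mk' (fun i => if i = 1 then 1 else g) (by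
    intro i j
    have hi : ∀ k : Multiplicative (ZMod 2), k = 1 ∨ k = Multiplicative.ofAdd 1 := by decide
    have h1 : (Multiplicative.ofAdd (1 : ZMod 2)) ≠ 1 := by decide
    have h11 : (Multiplicative.ofAdd (1 : ZMod 2)) * Multiplicative.ofAdd 1 = 1 := by decide
    rcases hi i with rfl | rfl <;> rcases hi j with rfl | rfl <;> simp [h1, h11, hg])

theorem h2_gen (g : E) (hg : g * g = 1) : h2 g hg (Multiplicative.ofAdd 1) = g := by
  have h1 : (Multiplicative.ofAdd (1 : ZMod 2)) ≠ 1 := by decide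
  simp [h2, h1]

/-- Independent triples. -/
def Ind3 (a b c : E) : Prop := a ≠ 1 ∧ b ≠ 1 ∧ a ≠ b ∧ c ≠ 1 ∧ c ≠ a ∧ c ≠ b ∧ c ≠ a * b

theorem exists_third (h8 : Nat.card E = 8) (a b : E) :
    ∃ c, c ≠ 1 ∧ c ≠ a ∧ c ≠ b ∧ c ≠ a * b := by
  classical
  by_contra hc
  push Not at hc
  have : Finite E := Nat.finite_of_card_ne_zero (by rw [h8]; norm_num)
  have hs : Function.Surjective (![1, a, b, a * b] : Fin 4 → E) := by
    intro c
    by_cases h1 : c = 1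
    · exact ⟨0, by simp [h1]⟩
    by_cases h2 : c = a
    · exact ⟨1, by simp [h2]⟩
    by_cases h3 : c = b
    · exact ⟨2, by simp [h3]⟩
    exact ⟨3, by simp [hc c h1 h2 h3]⟩
  have := Nat.card_le_card_of_surjective _ hs
  rw [h8] at this
  simp at this

theorem exists_iso (h8 : Nat.card E = 8) (hs : ∀ g : E, g * g = 1) {a b c : E} (h : Ind3 a b c) :
    ∃ φ : (Multiplicative (ZMod 2) × Multiplicative (ZMod 2) × Multiplicative (ZMod 2)) ≃* E,
      φ (Multiplicative.ofAdd 1, 1, 1) = a ∧ φ (1, Multiplicative.ofAdd 1, 1) = b := by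
  have : Finite E := Nat.finite_of_card_ne_zero (by rw [h8]; norm_num)
  let f := (h2 a (hs a)).coprod ((h2 b (hs b)).coprod (h2 c (hs c)))
  obtain ⟨h1, h2', h3, h4, h5, h6, h7⟩ := h
  have inv : ∀ g k : E, g * k = 1 → g = k := fun g k hk => by
    have := hs k
    rw [← hk] at this
    exact (mul_right_cancel this).symm
  have hinj : Function.Injective f := by
    rw [injective_iff_map_eq_one]
    rintro ⟨i, j, k⟩ hf
    have hi : ∀ k : Multiplicative (ZMod 2), k = 1 ∨ k = Multiplicative.ofAdd 1 := by decide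
    simp only [f, MonoidHom.coprod_apply] at hf
    rcases hi i with rfl | rfl <;> rcases hi j with rfl | rfl <;> rcases hi k with rfl | rfl <;>
      simp only [map_one, h2_gen, one_mul, mul_one] at hf
    · rfl
    · exact absurd hf h4
    · exact absurd hf h2'
    · exact absurd (inv _ _ hf).symm h6
    · exact absurd hf h1
    · exact absurd (inv _ _ hf).symm h5
    · exact absurd (inv _ _ hf) h3
    · exact absurd (inv _ _ (by rw [mul_assoc]; exact hf)).symm h7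
  have hb : Function.Bijective f := by
    rw [Nat.bijective_iff_injective_and_card]
    refine ⟨hinj, ?_⟩
    rw [h8]
    simp
  refine ⟨MulEquiv.ofBijective f hb, ?_, ?_⟩
  · simp [f, h2_gen]
  · simp [f, h2_gen]

theorem exists_aut (h8 : Nat.card E = 8) (hs : ∀ g : E, g * g = 1) {a b a' b' : E}
    (ha : a ≠ 1) (hb : b ≠ 1) (hab : a ≠ b) (ha' : a' ≠ 1) (hb' : b' ≠ 1) (hab' : a' ≠ b') :
    ∃ θ : MulAut E, θ a = a' ∧ θ b = b' := by
  obtain ⟨c, hc⟩ := exists_third h8 a b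
  obtain ⟨c', hc'⟩ := exists_third h8 a' b'
  obtain ⟨φ, h1, h2⟩ := exists_iso h8 hs (show Ind3 a b c from ⟨ha, hb, hab, hc⟩)
  obtain ⟨ψ, h3, h4⟩ := exists_iso h8 hs (show Ind3 a' b' c' from ⟨ha', hb', hab', hc'⟩)
  refine ⟨φ.symm.trans ψ, ?_, ?_⟩
  · rw [← h1, ← h3]; simp
  · rw [← h2, ← h4]; simp

end El

section Abs

variable {G : Type*} [Group G]

theorem no_q16 {H : Type*} [Group H] {τ a b c : H} (hc : ∀ g, g * τ = τ * g) (ht : τ * τ = 1)
    (ha : a * a = τ) (hb : b * b = τ) (hcc : c * c = τ) (hab : a * b * (a * b) = τ)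
    (hac : a * c * (a * c) = τ) (hbc : b * c * (b * c) = τ)
    (habc : a * b * c * (a * b * c) = τ) : τ = 1 := by
  have key : ∀ g : H, g * g = τ → g * c * (g * c) = τ → c * g = g * c * τ := fun g h1 h2 => by
    have h3 : c * g * c = g := by
      apply mul_left_cancel (a := g)
      rw [h1, ← h2]; group
    calc c * g = c * g * c * c * τ := by rw [mul_assoc (c * g) c c, hcc, mul_assoc, ht, mul_one]
      _ = g * c * τ := by rw [h3]
  have h1 := key a ha hac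
  have h2 := key b hb hbc
  have h3 := key (a * b) hab habc
  have h4 : c * (a * b) = a * b * c := by
    calc c * (a * b) = a * c * (τ * b) := by rw [← mul_assoc, h1, mul_assoc (a * c)]
      _ = a * (c * b) * τ := by rw [← hc b]; group
      _ = a * b * c * (τ * τ) := by rw [h2]; group
      _ = a * b * c := by rw [ht, mul_one]
  rw [h4] at h3
  simpa using h3

/-- The abstract configuration. -/
structure Ctx (V P : Subgroup G) (t : G) : Prop where
  tt : t * t = 1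
  tV : t ∉ V
  tc : ∀ v ∈ V, v * t = t * v
  ab : ∀ u ∈ V, ∀ v ∈ V, u * v = v * u
  sq : ∀ v ∈ V, v * v = 1
  ker : ∀ g, g * t = t * g → (∀ v ∈ V, g * v = v * g) → g ∈ V ∨ t * g ∈ V
  pt : ∀ p ∈ P, p * t = t * p
  pv : ∀ p ∈ P, ∀ v ∈ V, p * v * p⁻¹ ∈ V
  tr2 : ∀ a ∈ V, ∀ b ∈ V, ∀ a' ∈ V, ∀ b' ∈ V, a ≠ 1 → b ≠ 1 → a ≠ b → a' ≠ 1 → b' ≠ 1 → a' ≠ b' →
    ∃ p ∈ P, p * a * p⁻¹ = a' ∧ p * b * p⁻¹ = b'
  third : ∀ a ∈ V, ∀ b ∈ V, ∃ c ∈ V, c ≠ 1 ∧ c ≠ a ∧ c ≠ b ∧ c ≠ a * b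
  tr : ∀ v ∈ V, ∃ w, (∀ u ∈ V, w * u = u * w) ∧ w * t * w⁻¹ = t * v

/-- `w` centralises `V` and translates `t` by `v`. -/
def D (V : Subgroup G) (t w v : G) : Prop :=
  (∀ u ∈ V, w * u = u * w) ∧ v ∈ V ∧ w * t * w⁻¹ = t * v

variable {V P : Subgroup G} {t : G}

theorem D.mul {w w' v v' : G} (h : D V t w v) (h' : D V t w' v') : D V t (w * w') (v * v') := by
  refine ⟨fun u hu => ?_, V.mul_mem h.2.1 h'.2.1, ?_⟩
  · rw [mul_assoc, h'.1 u hu, ← mul_assoc, h.1 u hu, mul_assoc]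
  · calc w * w' * t * (w * w')⁻¹ = w * (w' * t * w'⁻¹) * w⁻¹ := by group
      _ = w * t * w⁻¹ * (w * v' * w⁻¹) := by rw [h'.2.2]; group
      _ = t * (v * v') := by rw [h.2.2, h.1 v' h'.2.1]; group

theorem D.uniq {w v v' : G} (h : D V t w v) (h' : D V t w v') : v = v' :=
  mul_left_cancel (h.2.2.symm.trans h'.2.2)

theorem Ctx.inv_eq (X : Ctx V P t) {v : G} (hv : v ∈ V) : v⁻¹ = v :=
  inv_eq_of_mul_eq_one_right (X.sq v hv)

theorem Ctx.tinv (X : Ctx V P t) : t⁻¹ = t := inv_eq_of_mul_eq_one_right X.tt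

theorem D.inv (X : Ctx V P t) {w v : G} (h : D V t w v) : D V t w⁻¹ v := by
  have hc : ∀ u ∈ V, w⁻¹ * u = u * w⁻¹ := fun u hu => by
    calc w⁻¹ * u = w⁻¹ * (u * w) * w⁻¹ := by group
      _ = u * w⁻¹ := by rw [← h.1 u hu]; group
  refine ⟨hc, h.2.1, ?_⟩
  calc w⁻¹ * t * w⁻¹⁻¹ = w⁻¹ * t * (v * v) * w := by rw [X.sq v h.2.1]; group
    _ = w⁻¹ * (t * v) * (v * w) := by group
    _ = w⁻¹ * (w * t * w⁻¹) * (w * v) := by rw [h.2.2, h.1 v h.2.1]
    _ = t * v := by group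

theorem Ctx.dV (X : Ctx V P t) {k : G} (hk : k ∈ V) : D V t k 1 :=
  ⟨X.ab k hk, V.one_mem, by rw [X.tc k hk]; group⟩

theorem Ctx.dt (X : Ctx V P t) : D V t t 1 :=
  ⟨fun u hu => (X.tc u hu).symm, V.one_mem, by group⟩

theorem D.one (X : Ctx V P t) {w : G} (h : D V t w 1) : w ∈ V ∨ t * w ∈ V :=
  X.ker w (by
    calc w * t = w * t * w⁻¹ * w := by group
      _ = t * w := by rw [h.2.2, mul_one]) h.1

theorem D.conj (X : Ctx V P t) {w v p : G} (h : D V t w v) (hp : p ∈ P) :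
    D V t (p * w * p⁻¹) (p * v * p⁻¹) := by
  refine ⟨fun u hu => ?_, X.pv p hp v h.2.1, ?_⟩
  · have h1 := h.1 _ (X.pv p⁻¹ (P.inv_mem hp) u hu)
    calc p * w * p⁻¹ * u = p * (w * (p⁻¹ * u * p⁻¹⁻¹)) * p⁻¹ := by group
      _ = u * (p * w * p⁻¹) := by rw [h1]; group
  · have h1 := X.pt p hp
    calc p * w * p⁻¹ * t * (p * w * p⁻¹)⁻¹ = p * w * p⁻¹ * (t * p) * w⁻¹ * p⁻¹ := by group
      _ = p * (w * t * w⁻¹) * p⁻¹ := by rw [← h1]; group
      _ = (p * t) * v * p⁻¹ := by rw [h.2.2]; group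
      _ = t * (p * v * p⁻¹) := by rw [h1]; group

theorem D.sq_V (X : Ctx V P t) {w v k : G} (h : D V t w v) (hk : k ∈ V) :
    w * k * (w * k) = w * w := by
  calc w * k * (w * k) = w * (k * w) * k := by group
    _ = w * w * (k * k) := by rw [← h.1 k hk]; group
    _ = w * w := by rw [X.sq k hk, mul_one]

theorem D.tw (X : Ctx V P t) {w v : G} (h : D V t w v) : t * w * t = w * v := by
  have h1 := (h.inv X).2.2
  calc t * w * t = w * (w⁻¹ * t * w⁻¹⁻¹) * t := by group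
    _ = w * (t * (v * t)) := by rw [h1]; group
    _ = w * (t * t) * v := by rw [X.tc v h.2.1]; group
    _ = w * v := by rw [X.tt, mul_one]

theorem D.sq_t (X : Ctx V P t) {w v : G} (h : D V t w v) : w * t * (w * t) = w * w * v := by
  calc w * t * (w * t) = w * (t * w * t) := by group
    _ = w * w * v := by rw [h.tw X]; group

/-- The two cosets over `v`. -/
theorem D.two (X : Ctx V P t) {w w' v : G} (h : D V t w v) (h' : D V t w' v) :
    (w⁻¹ * w' ∈ V ∧ w' * w' = w * w) ∨ w' * w' = w * w * v := by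
  have h1 : D V t (w⁻¹ * w') 1 := by
    have := (h.inv X).mul h'
    rwa [X.sq v h.2.1] at this
  rcases h1.one X with h2 | h2
  · refine Or.inl ⟨h2, ?_⟩
    rw [← h.sq_V X h2]; group
  · right
    have h3 : w' = w * t * (t * (w⁻¹ * w')) := by
      rw [mul_assoc w, ← mul_assoc t t, X.tt]; group
    have h4 := (h.mul X.dt).sq_V X h2
    rw [← h3, h.sq_t X] at h4
    exact h4

theorem Ctx.ex (X : Ctx V P t) {v : G} (hv : v ∈ V) : ∃ w, D V t w v := by
  obtain ⟨w, h1, h2⟩ := X.tr v hv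
  exact ⟨w, h1, hv, h2⟩

theorem Ctx.tr1 (X : Ctx V P t) {a b : G} (ha : a ∈ V) (hb : b ∈ V) (ha1 : a ≠ 1) (hb1 : b ≠ 1) :
    ∃ p ∈ P, p * a * p⁻¹ = b := by
  obtain ⟨c, hc, c1, c2, -⟩ := X.third a ha a ha
  obtain ⟨d, hd, d1, d2, -⟩ := X.third b hb b hb
  obtain ⟨p, hp, h, -⟩ := X.tr2 a ha c hc b hb d hd ha1 c1 c2.symm hb1 d1 d2.symm
  exact ⟨p, hp, h⟩

/-- `Wh` -/
def Wh (X : Ctx V P t) : Subgroup G where
  carrier := {w | ∃ v, D V t w v}
  one_mem' := ⟨1, X.dV V.one_mem⟩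
  mul_mem' := fun ⟨_, h⟩ ⟨_, h'⟩ => ⟨_, h.mul h'⟩
  inv_mem' := fun ⟨_, h⟩ => ⟨_, h.inv X⟩

theorem Ctx.ne_mul (X : Ctx V P t) {a b : G} (hb : b ∈ V) (h : a ≠ b) : a * b ≠ 1 := fun h1 =>
  h (by rw [← X.inv_eq hb]; exact eq_inv_of_mul_eq_one_left h1)

theorem D.sq_mem (X : Ctx V P t) {w v : G} (h : D V t w v) : w * w ∈ V := by
  by_contra hw
  have hv : v ≠ 1 := by
    rintro rfl
    rcases (X.dV V.one_mem).two X h with h1 | h1
    · exact hw (by rw [h1.2, mul_one]; exact V.one_mem)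
    · exact hw (by rw [h1, mul_one, mul_one]; exact V.one_mem)
  have all : ∀ w' v', D V t w' v' → v' ≠ 1 → t * (w' * w') ∈ V := fun w' v' h' hv' => by
    have h1 : D V t (w' * w') 1 := by
      have := h'.mul h'
      rwa [X.sq v' h'.2.1] at this
    refine (h1.one X).resolve_left fun h2 => hw ?_
    obtain ⟨p, hp, e⟩ := X.tr1 h'.2.1 h.2.1 hv' hv
    have h3 := h'.conj X hp
    rw [e] at h3
    have h4 : p * w' * p⁻¹ * (p * w' * p⁻¹) ∈ V := by
      have := X.pv p hp _ h2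
      convert this using 1
      group
    rcases h3.two X h with h5 | h5
    · rw [h5.2]; exact h4
    · rw [h5]; exact V.mul_mem h4 h.2.1
  have : (V.subgroupOf (Wh X)).Normal := ⟨fun k hk g => by
    obtain ⟨v', hg⟩ := g.2
    rw [Subgroup.mem_subgroupOf] at hk ⊢
    simp only [Subgroup.coe_mul, Subgroup.coe_inv]
    rw [hg.1 _ hk, mul_inv_cancel_right]
    exact hk⟩
  let π := QuotientGroup.mk' (V.subgroupOf (Wh X))
  let τ : Wh X := ⟨t, 1, X.dt⟩
  have hsq : ∀ (g : Wh X) (v' : G), D V t g v' → v' ≠ 1 → π g * π g = π τ := fun g v' hg hv' => by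
    rw [← map_mul]
    symm
    refine QuotientGroup.eq.2 ?_
    rw [Subgroup.mem_subgroupOf]
    simp only [Subgroup.coe_mul, Subgroup.coe_inv, τ]
    rw [X.tinv]
    exact all _ _ hg hv'
  obtain ⟨b, hb, b1, b2, -⟩ := X.third v h.2.1 v h.2.1
  obtain ⟨c, hc, c1, c2, c3, c4⟩ := X.third v h.2.1 b hb
  obtain ⟨wb, db⟩ := X.ex hb
  obtain ⟨wc, dc⟩ := X.ex hc
  let A : Wh X := ⟨w, v, h⟩
  let B : Wh X := ⟨wb, b, db⟩
  let C : Wh X := ⟨wc, c, dc⟩
  have hτ : π τ = 1 := by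
    refine no_q16 (a := π A) (b := π B) (c := π C) ?_ ?_ (hsq A v h hv) (hsq B b db b1)
      (hsq C c dc c1) ?_ ?_ ?_ ?_
    · intro g
      obtain ⟨g, rfl⟩ := QuotientGroup.mk'_surjective _ g
      obtain ⟨v', hg⟩ := g.2
      rw [← map_mul, ← map_mul]
      refine QuotientGroup.eq.2 ?_
      rw [Subgroup.mem_subgroupOf]
      simp only [Subgroup.coe_mul, Subgroup.coe_inv, τ]
      have h1 := (hg.inv X).2.2
      have h2 : ((g : G) * t)⁻¹ * (t * g) = t⁻¹ * ((g : G)⁻¹ * t * (g : G)⁻¹⁻¹) := by group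
      rw [h2, h1, inv_mul_cancel_left]
      exact hg.2.1
    · rw [← map_mul]
      have : τ * τ = 1 := Subtype.ext X.tt
      rw [this, map_one]
    · rw [← map_mul]; exact hsq (A * B) _ (h.mul db) (X.ne_mul hb b2.symm)
    · rw [← map_mul]; exact hsq (A * C) _ (h.mul dc) (X.ne_mul hc c2.symm)
    · rw [← map_mul]; exact hsq (B * C) _ (db.mul dc) (X.ne_mul hc c3.symm)
    · rw [← map_mul, ← map_mul]
      exact hsq (A * B * C) _ ((h.mul db).mul dc) (X.ne_mul hc c4.symm)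
  exact X.tV (Subgroup.mem_subgroupOf.1 ((QuotientGroup.eq_one_iff τ).1 hτ))

theorem D.sq_or (X : Ctx V P t) {w v : G} (h : D V t w v) (hv : v ≠ 1) :
    w * w = 1 ∨ w * w = v := by
  by_contra hc
  push Not at hc
  have hy := h.sq_mem X
  obtain ⟨y, hy', y1, y2, y3, y4⟩ := X.third v h.2.1 _ hy
  obtain ⟨p, hp, e1, e2⟩ := X.tr2 v h.2.1 _ hy v h.2.1 y hy' hv hc.1 hc.2.symm hv y1 y2.symm
  have h3 := h.conj X hp
  rw [e1] at h3
  have h4 : p * w * p⁻¹ * (p * w * p⁻¹) = y := by rw [← e2]; group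
  rcases h.two X h3 with h5 | h5
  · exact y3 (h4.symm.trans h5.2)
  · exact y4 (by rw [← h4, h5, X.ab _ hy _ h.2.1])

/-- The elements of `W` over `v`; `r` is trivial or the identity. -/
def S (V : Subgroup G) (t : G) (r : G →* G) (w v : G) : Prop :=
  D V t w v ∧ w * w = r v ∧ (v = 1 → w ∈ V)

variable {r : G →* G}

theorem S.coset (X : Ctx V P t) {w w' v : G} (h : S V t r w v) (h' : S V t r w' v) :
    w⁻¹ * w' ∈ V := by
  by_cases hv : v = 1
  · exact V.mul_mem (V.inv_mem (h.2.2 hv)) (h'.2.2 hv)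
  rcases h.1.two X h'.1 with h1 | h1
  · exact h1.1
  · rw [h.2.1, h'.2.1] at h1
    exact absurd (by simpa using h1) hv

theorem Ctx.sV (X : Ctx V P t) {k : G} (hk : k ∈ V) : S V t r k 1 :=
  ⟨X.dV hk, by rw [X.sq k hk, map_one], fun _ => hk⟩

theorem S.mulV (X : Ctx V P t) {w v k : G} (h : S V t r w v) (hk : k ∈ V) : S V t r (w * k) v :=
  ⟨by simpa using h.1.mul (X.dV hk), by rw [h.1.sq_V X hk, h.2.1],
    fun hv => V.mul_mem (h.2.2 hv) hk⟩

theorem S.conj (X : Ctx V P t) (hr : r = 1 ∨ r = MonoidHom.id G) {w v p : G} (h : S V t r w v)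
    (hp : p ∈ P) : S V t r (p * w * p⁻¹) (p * v * p⁻¹) := by
  refine ⟨h.1.conj X hp, ?_, fun hv => X.pv p hp w (h.2.2 ?_)⟩
  · have : p * w * p⁻¹ * (p * w * p⁻¹) = p * (w * w) * p⁻¹ := by group
    rw [this, h.2.1]
    rcases hr with rfl | rfl <;> simp
  · simpa [mul_inv_eq_iff_eq_mul] using hv

theorem Ctx.exS (X : Ctx V P t) (hr : r = 1 ∨ r = MonoidHom.id G) {v : G} (hv : v ∈ V) :
    ∃ w, S V t r w v := by
  by_cases h1 : v = 1
  · exact ⟨1, by rw [h1]; exact X.sV V.one_mem⟩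
  obtain ⟨w, h⟩ := X.ex hv
  have ht : D V t (w * t) v := by simpa using h.mul X.dt
  have h2 := h.sq_t X
  rcases h.sq_or X h1 with h3 | h3 <;> rcases hr with rfl | rfl
  · exact ⟨w, h, by simpa using h3, fun e => absurd e h1⟩
  · exact ⟨w * t, ht, by rw [h2, h3]; simp, fun e => absurd e h1⟩
  · exact ⟨w * t, ht, by rw [h2, h3, X.sq v hv]; simp, fun e => absurd e h1⟩
  · exact ⟨w, h, by simpa using h3, fun e => absurd e h1⟩

theorem Ctx.exr (X : Ctx V P t) : ∃ r : G →* G, (r = 1 ∨ r = MonoidHom.id G) ∧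
    ∃ a b wa wb, a ≠ 1 ∧ b ≠ 1 ∧ a ≠ b ∧ S V t r wa a ∧ S V t r wb b ∧
      S V t r (wa * wb) (a * b) := by
  obtain ⟨a, ha, a1, -⟩ := X.third 1 V.one_mem 1 V.one_mem
  obtain ⟨b, hb, b1, b2, -⟩ := X.third a ha a ha
  obtain ⟨wa, sa⟩ := X.exS (Or.inl rfl) ha
  obtain ⟨wb, sb⟩ := X.exS (Or.inl rfl) hb
  have hab := X.ne_mul hb b2.symm
  have d := sa.1.mul sb.1
  rcases d.sq_or X hab with h | h
  · exact ⟨1, Or.inl rfl, a, b, wa, wb, a1, b1, b2.symm, sa, sb, d, by simpa using h,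
      fun e => absurd e hab⟩
  · refine ⟨MonoidHom.id G, Or.inr rfl, a, b, wa * t, wb * t, a1, b1, b2.symm,
      ⟨by simpa using sa.1.mul X.dt, by rw [sa.1.sq_t X, sa.2.1]; simp, fun e => absurd e a1⟩,
      ⟨by simpa using sb.1.mul X.dt, by rw [sb.1.sq_t X, sb.2.1]; simp, fun e => absurd e b1⟩, ?_⟩
    have e : wa * t * (wb * t) = wa * wb * b := by
      calc wa * t * (wb * t) = wa * (t * wb * t) := by group
        _ = wa * wb * b := by rw [sb.1.tw X]; group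
    rw [e]
    exact S.mulV X ⟨d, by simpa using h, fun e => absurd e hab⟩ hb

theorem Ctx.main (X : Ctx V P t) : ∃ W : Subgroup G, V ≤ W ∧ W ≤ Cs W ∧ P ≤ Ns W ∧
    (∀ v ∈ V, ∃ w ∈ W, w * t * w⁻¹ = t * v) ∧ (∀ w ∈ W, ∃ v ∈ V, w * t * w⁻¹ = t * v) ∧
    (∀ w ∈ W, w ∈ Cz t → w ∈ V) ∧
    ((∀ w ∈ W, w * w = 1) ∨ ∀ w ∈ W, w * t * w⁻¹ = t * (w * w)) := by
  obtain ⟨r, hr, a, b, wa, wb, a1, b1, ab, sa, sb, sab⟩ := X.exr
  have hmul : ∀ w v w' v', S V t r w v → S V t r w' v' → S V t r (w * w') (v * v') := by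
    intro w v w' v' h h'
    by_cases hv' : v' = 1
    · rw [hv', mul_one]
      exact h.mulV X (h'.2.2 hv')
    by_cases hv : v = 1
    · rw [hv, one_mul, ← h'.1.1 w (h.2.2 hv)]
      exact h'.mulV X (h.2.2 hv)
    by_cases hvv : v = v'
    · subst hvv
      rw [X.sq v h.1.2.1]
      refine X.sV ?_
      have := V.mul_mem (h.1.sq_mem X) (h.coset X h')
      convert this using 1
      group
    obtain ⟨p, hp, e1, e2⟩ := X.tr2 a sa.1.2.1 b sb.1.2.1 v h.1.2.1 v' h'.1.2.1 a1 b1 ab hv hv' hvv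
    have s1 := sa.conj X hr hp
    have s2 := sb.conj X hr hp
    have s3 := sab.conj X hr hp
    have e3 : p * (a * b) * p⁻¹ = v * v' := by rw [← e1, ← e2]; group
    rw [e1] at s1
    rw [e2] at s2
    rw [e3] at s3
    have k1 := s1.coset X h
    have k2 := s2.coset X h'
    have s4 := s3.mulV X (V.mul_mem k1 k2)
    have c := s2.1.1 _ k1
    convert s4 using 1
    calc w * w' = p * wa * p⁻¹ * ((p * wa * p⁻¹)⁻¹ * w * (p * wb * p⁻¹)) *
          ((p * wb * p⁻¹)⁻¹ * w') := by group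
      _ = _ := by rw [← c]; group
  have hinv : ∀ w v, S V t r w v → S V t r w⁻¹ v := by
    intro w v h
    refine ⟨h.1.inv X, ?_, fun hv => V.inv_mem (h.2.2 hv)⟩
    rw [← mul_inv_rev, h.2.1, ← map_inv, X.inv_eq h.1.2.1]
  let W : Subgroup G :=
    { carrier := {w | ∃ v, S V t r w v}
      one_mem' := ⟨1, X.sV V.one_mem⟩
      mul_mem' := fun ⟨_, h⟩ ⟨_, h'⟩ => ⟨_, hmul _ _ _ _ h h'⟩
      inv_mem' := fun ⟨_, h⟩ => ⟨_, hinv _ _ h⟩ }
  refine ⟨W, fun k hk => ⟨1, X.sV hk⟩, ?_, ?_, ?_, ?_, ?_, ?_⟩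
  · rintro w' ⟨v', h'⟩
    rw [Subgroup.mem_centralizer_iff]
    rintro w ⟨v, h⟩
    have h1 := (hmul _ _ _ _ h h').2.1
    rw [map_mul, ← h.2.1, ← h'.2.1] at h1
    apply mul_left_cancel (a := w)
    apply mul_right_cancel (b := w')
    calc w * (w * w') * w' = w * w * (w' * w') := by group
      _ = _ := by rw [← h1]; group
  · intro p hp
    rw [Subgroup.mem_normalizer_iff]
    intro w
    constructor
    · rintro ⟨v, h⟩
      exact ⟨_, h.conj X hr hp⟩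
    · rintro ⟨v, h⟩
      have := h.conj X hr (P.inv_mem hp)
      refine ⟨p⁻¹ * v * p⁻¹⁻¹, ?_⟩
      convert this using 1
      group
  · intro v hv
    obtain ⟨w, h⟩ := X.exS hr hv
    exact ⟨w, ⟨v, h⟩, h.1.2.2⟩
  · rintro w ⟨v, h⟩
    exact ⟨v, h.1.2.1, h.1.2.2⟩
  · rintro w ⟨v, h⟩ hw
    refine h.2.2 ?_
    have h1 := h.1.2.2
    rw [Subgroup.mem_centralizer_singleton_iff.1 hw, mul_inv_cancel_right] at h1
    simpa using h1
  · rcases hr with rfl | rfl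
    · left
      rintro w ⟨v, h⟩
      simpa using h.2.1
    · right
      rintro w ⟨v, h⟩
      rw [h.2.1]
      exact h.1.2.2

end Abs

theorem jobWD (A : J8FA) (Q : J8FQ) (Y : J8FY) : J8WD.{u} := by
  intro n F _ _ _ hp G _ _ e t h T
  have A := A n F hp
  have Q := Q n F hp
  have Y := Y n F hp
  have hn := hp.two_le
  have inj : Function.Injective e := by
    rw [← MonoidHom.ker_eq_bot_iff, ← le_bot_iff, ← Q.cen]
    exact h.ker
  have ct : ∀ s, e s * t = t * e s := fun s =>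
    Subgroup.mem_centralizer_iff.1 h.cen (e s) ⟨s, rfl⟩
  have hab : ∀ u ∈ Er n F, ∀ v ∈ Er n F, u * v = v * u := fun u hu v hv =>
    Subgroup.mem_centralizer_iff.1 (Row_le_Cs 0 hv) u hu
  let : CommGroup (Er n F) :=
    { (inferInstance : Group (Er n F)) with mul_comm := fun a b => Subtype.ext (hab _ a.2 _ b.2) }
  have h8 : Nat.card (Er n F) = 8 := by rw [card_Er, hp.two, hp.three]; norm_num
  have hs : ∀ g : Er n F, g * g = 1 := fun g => Subtype.ext (sq_Row g.2)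
  have X : Ctx ((Er n F).map e) ((Pr n F).map e) t := by
    refine ⟨h.inv.1, ?_, ?_, ?_, ?_, ?_, ?_, ?_, ?_, ?_, ?_⟩
    · rintro ⟨v, -, hv⟩
      have : v ∈ Subgroup.center (SLn n F) := Subgroup.mem_center_iff.2 fun s => inj (by
        rw [map_mul, map_mul, hv, ct])
      rw [Q.cen, Subgroup.mem_bot] at this
      exact h.inv.2 (by rw [← hv, this, map_one])
    · rintro _ ⟨v, -, rfl⟩
      exact ct v
    · rintro _ ⟨u, hu, rfl⟩ _ ⟨v, hv, rfl⟩
      rw [← map_mul, ← map_mul, hab u hu v hv]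
    · rintro _ ⟨v, hv, rfl⟩
      rw [← map_mul, sq_Row hv, map_one]
    · intro g hg hc
      have hg' : g ∈ Cz t := Subgroup.mem_centralizer_singleton_iff.2 hg
      obtain ⟨β, hβ⟩ := exists_ind hn h.ker (h.cz hg')
      have hf : ∀ u ∈ Ml n F 1, β u = u := fun u hu => inj (by
        rw [Ml_one] at hu
        rw [← hβ u, hc _ ⟨u, hu, rfl⟩, mul_inv_cancel_right])
      obtain ⟨ζ, hζ, rfl⟩ := mem_cI.1 (A.ctM 1 le_rfl (by omega) β hf)
      rw [Ml_one] at hζ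
      have h1 : g * (e ζ)⁻¹ ∈ Cz t := (Cz t).mul_mem hg' ((Cz t).inv_mem
        (Subgroup.mem_centralizer_singleton_iff.2 (ct ζ)))
      rcases h.ck _ h1 (ind_conj_iff.1 hβ) with h2 | h2
      · exact Or.inl ⟨ζ, hζ, (mul_inv_eq_one.1 h2).symm⟩
      · refine Or.inr ⟨ζ, hζ, ?_⟩
        rw [mul_inv_eq_iff_eq_mul.1 h2, ← mul_assoc, h.inv.1, one_mul]
    · rintro _ ⟨v, -, rfl⟩
      exact ct v
    · rintro _ ⟨p, hp', rfl⟩ _ ⟨v, hv, rfl⟩
      exact ⟨p * v * p⁻¹, (Subgroup.mem_normalizer_iff.1 (Pr_le_Ns hp') v).1 hv, by simp⟩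
    · rintro _ ⟨a, ha, rfl⟩ _ ⟨b, hb, rfl⟩ _ ⟨a', ha', rfl⟩ _ ⟨b', hb', rfl⟩ h1 h2 h3 h4 h5 h6
      have n1 : ∀ {c : SLn n F} (hc : c ∈ Er n F), e c ≠ 1 → (⟨c, hc⟩ : Er n F) ≠ 1 :=
        fun hc h1 h2 => h1 ((congrArg e (congrArg Subtype.val h2)).trans (map_one e))
      have n2 : ∀ {c d : SLn n F} (hc : c ∈ Er n F) (hd : d ∈ Er n F), e c ≠ e d →
          (⟨c, hc⟩ : Er n F) ≠ ⟨d, hd⟩ :=
        fun hc hd h1 h2 => h1 (congrArg e (congrArg Subtype.val h2))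
      obtain ⟨θ, e1, e2⟩ := exists_aut h8 hs (n1 ha h1) (n1 hb h2) (n2 ha hb h3) (n1 ha' h4)
        (n1 hb' h5) (n2 ha' hb' h6)
      obtain ⟨p, hp', hθ⟩ := Y.gl3 θ
      refine ⟨e p, ⟨p, hp', rfl⟩, ?_, ?_⟩
      · have := hθ ⟨a, ha⟩
        rw [e1] at this
        rw [← map_mul, ← map_inv, ← map_mul]
        exact congrArg e this.symm
      · have := hθ ⟨b, hb⟩
        rw [e2] at this
        rw [← map_mul, ← map_inv, ← map_mul]
        exact congrArg e this.symm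
    · rintro _ ⟨a, ha, rfl⟩ _ ⟨b, hb, rfl⟩
      obtain ⟨c, c1, c2, c3, c4⟩ := exists_third h8 ⟨a, ha⟩ ⟨b, hb⟩
      refine ⟨e c, ⟨c, c.2, rfl⟩, fun h => c1 (Subtype.ext (inj (by simpa using h))),
        fun h => c2 (Subtype.ext (inj h)), fun h => c3 (Subtype.ext (inj h)),
        fun h => c4 (Subtype.ext (inj (by rw [h, ← map_mul]; rfl)))⟩
    · rintro _ ⟨v, hv, rfl⟩
      obtain ⟨w, hw, e1⟩ := T v hv
      exact ⟨w, fun u hu => (Subgroup.mem_centralizer_iff.1 hw u hu).symm, e1⟩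
  obtain ⟨W, h1, h2, h3, h4, h5, h6, h7⟩ := X.main
  refine ⟨W, h1, h2, h3, fun v hv => h4 _ ⟨v, hv, rfl⟩, fun w hw => ?_, h6, h7⟩
  obtain ⟨_, ⟨v, hv, rfl⟩, e1⟩ := h5 w hw
  exact ⟨v, hv, e1⟩

end H59.A8WD
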