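import Cfsg.Agent.H20.DGSpec

/-! Tower DG, job F2: a two-point stabiliser has no third fixed point. -/

set_option autoImplicit false

namespace H59.DGF2

open Subgroup MulAction Cfsg H98 H20.DG

universe u v

theorem dvd_ncard {α β : Type*} [Finite α] (f : α → β) (S : Set α) (t : ℕ)
    (h : ∀ x ∈ S, {y | y ∈ S ∧ f y = f x}.ncard = t) : t ∣ S.ncard := by
  classical
  have hS := S.toFinite
  rw [Set.ncard_eq_toFinset_card S hS, Finset.card_eq_sum_card_image f]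
  refine Finset.dvd_sum fun b hb => ?_
  obtain ⟨x, hx, rfl⟩ := Finset.mem_image.1 hb
  rw [← h x (hS.mem_toFinset.1 hx), ← Set.ncard_coe_finset]
  exact dvd_of_eq (congrArg _ (by ext y; simp))

theorem jobF2 : JobF2.{u, v} := by
  intro G Ω _ _ _ _ p q A O hy ff a b c ha hb hc ab ac bc
  by_contra hn
  push Not at hn
  let f : Ω → Subgroup G := fun x => stabilizer G a ⊓ stabilizer G x
  have hf : ∀ g : G, g • a = a → ∀ x, f (g • x) = cj g (f x) := fun g hg x => by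
    simp only [f, cj_inf, cj_stab, hg]
  have h1 : ∀ x ∈ ({a}ᶜ : Set Ω), {y | y ∈ ({a}ᶜ : Set Ω) ∧ f y = f x}.ncard =
      {y | y ∈ ({a}ᶜ : Set Ω) ∧ f y = f b}.ncard := fun x hx => by
    obtain ⟨g, g1, rfl⟩ := ff.t2 a b a x ab (Ne.symm hx)
    rw [← Set.ncard_image_of_injective _ (MulAction.injective (β := Ω) g⁻¹)]
    congr 1
    ext y
    have g2 : g • y = a ↔ y = a := by
      conv_lhs => rw [← g1]
      exact (MulAction.injective g).eq_iff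
    constructor
    · rintro ⟨z, ⟨z1, z2⟩, rfl⟩
      obtain ⟨w, rfl⟩ : ∃ w, z = g • w := ⟨g⁻¹ • z, (smul_inv_smul g z).symm⟩
      rw [hf g g1, hf g g1, cj_inj] at z2
      simp only [inv_smul_smul] at g2 ⊢
      exact ⟨fun e => z1 (g2.2 e), z2⟩
    · rintro ⟨y1, y2⟩
      exact ⟨g • y, ⟨fun e => y1 (g2.1 e), by rw [hf g g1, hf g g1, y2]⟩, inv_smul_smul g y⟩
  have h2 := dvd_ncard f _ _ h1
  have h3 := dvd_ncard f (Oᶜ \ {a}) {y | y ∈ ({a}ᶜ : Set Ω) ∧ f y = f b}.ncard fun x hx => by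
    rw [← h1 x hx.2]
    congr 1
    ext y
    exact ⟨fun h => ⟨h.1.2, h.2⟩, fun h => ⟨⟨(ff.fix y).1 (le_trans
      (h.2 ▸ le_inf ((ff.fix a).2 ha) ((ff.fix x).2 hx.1) : A ≤ f y) inf_le_right), h.1⟩, h.2⟩⟩
  have h4 : f c = f b := by
    obtain ⟨g, g1, g2⟩ := ff.t2 a b a c ab ac
    have h8 : f b ≤ f c := fun h hh => ⟨hh.1, hn h hh.1 hh.2⟩
    refine (eq_of_le_of_card_ge h8 ?_).symm
    rw [← g2, hf g g1, card_cj]
  have h5 : 1 < {y | y ∈ ({a}ᶜ : Set Ω) ∧ f y = f b}.ncard :=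
    (Set.one_lt_ncard (Set.toFinite _)).2 ⟨b, ⟨ab.symm, rfl⟩, c, ⟨ac.symm, h4⟩, bc⟩
  have h6 := Set.ncard_add_ncard_compl O
  have h7 := Set.ncard_add_ncard_compl ({a} : Set Ω)
  rw [Set.ncard_sdiff_singleton_of_mem ha, ff.cardD] at h3
  rw [ff.cardO, ff.cardD] at h6
  rw [Set.ncard_singleton, ← h6] at h7
  obtain ⟨k, rfl⟩ : ∃ k, p = k + 1 := ⟨p - 1, by have := hy.three; omega⟩
  rw [show ({a}ᶜ : Set Ω).ncard = k * (k + 3) + 1 by nlinarith] at h2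
  have := Nat.le_of_dvd one_pos ((Nat.dvd_add_right (Dvd.dvd.mul_right h3 _)).1 h2)
  omega

end H59.DGF2
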