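import Cfsg.Agent.H14.FEKit
import Cfsg.Agent.H32.SHKit

/-! Tower FE, job Fin: a strongly closed vertex group leaves no edges. -/

set_option autoImplicit false

namespace H59.FEFin

open Cfsg Subgroup MulAction H14 H98 H1.Gold H31.S2 H14.GC H14.FE

universe u

theorem vs_ab {G : Type u} [Group G] [Finite G] {A S : Subgroup G} (mc : MC A) (cn : Cn A)
    (hS : IsPGroup 2 S) : ∀ a ∈ VS A S, ∀ b ∈ VS A S, a * b = b * a := by
  have h : ∀ x ∈ DS A S, ∀ y ∈ DS A S, x * y = y * x := by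
    rintro x ⟨x1, x2, B, hB, x3⟩ y ⟨y1, -, B', hB', y3⟩
    by_cases e : B = B'
    · subst e
      exact cn B hB (S ⊓ B) inf_le_right (hS.to_le inf_le_left) x ⟨x1, x3⟩ y ⟨y1, y3⟩ x2.2
    · exact mc.comm hB hB' e hS x3 y3 x1 y1
  intro a ha b hb
  have h1 : VS A S ≤ centralizer (DS A S) := (closure_le _).2 fun x hx y hy => h y hy x hx
  have h2 : VS A S ≤ centralizer {a} := (closure_le _).2 fun x hx =>
    mem_centralizer_singleton_iff.2 (h1 ha x hx)
  exact (mem_centralizer_singleton_iff.1 (h2 hb)).symm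

theorem jobFin : JobFin.{u} := by
  intro G _ _ A hs hna mc cn cs dir sc B B' hB hB' hn
  by_contra hne
  obtain ⟨S, hS, hC⟩ := cs.2 {B, B'} ⟨by rintro _ (rfl | rfl); exacts [hB, hB'], by
    rintro _ (rfl | rfl) _ (rfl | rfl)
    exacts [le_normalizer, hn, mc.toMN.sym hB hB' hn, le_normalizer]⟩
  have h1 := hC (Set.mem_insert _ _)
  have h2 := hC (Set.mem_insert_of_mem _ rfl)
  obtain ⟨d, hd, d2⟩ := exists_inv_two (hS.isPGroup.to_le inf_le_left) h1.2
  obtain ⟨e, he, e2⟩ := exists_inv_two (hS.isPGroup.to_le inf_le_left) h2.2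
  have hc := mc.comm hB hB' hne hS.isPGroup hd.2 he.2 hd.1 he.1
  have heB : e ∉ B := fun k => hne (mc.toMN.eq_of_mem hB hB' k he.2 e2)
  have h3 : d * e ≠ 1 := fun k => heB (eq_inv_of_mul_eq_one_right k ▸ inv_mem hd.2)
  have h4 : d * e * (d * e) = 1 := by
    calc d * e * (d * e) = d * (e * d) * e := by group
      _ = (d * d) * (e * e) := by rw [← hc]; group
      _ = 1 := by rw [d2.2, e2.2, mul_one]
  obtain ⟨n, -, h5⟩ := H32.SH.one_class hna hS (sc S hS) (vs_ab mc cn hS.isPGroup)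
    (fun k => d2.1 (mem_bot.1 (k ▸ subset_closure ⟨hd.1, d2, B, hB, hd.2⟩))) hd.1
    (mul_mem hd.1 he.1) d2.2 h4 d2.1 h3
  have h6 : d * e ∈ cj n B := h5 ▸ conj_mem_cj hd.2
  have h7 : cj n B ≠ B := fun k => heB (by
    have := B.mul_mem (B.inv_mem hd.2) (k ▸ h6 : d * e ∈ B)
    rwa [inv_mul_cancel_left] at this)
  refine dir _ (mc.clq hS.isPGroup) B h1 d ⟨hd.2, ?_⟩ d2
  have := mul_mem
    (le_sSup (s := CP A S \ {B}) ⟨mem_CP (vx_cj hB n) (mul_mem hd.1 he.1) h6 h3, h7⟩ h6)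
    (inv_mem (le_sSup (s := CP A S \ {B}) ⟨h2, fun k => hne k.symm⟩ he.2))
  rwa [mul_inv_cancel_right] at this

end H59.FEFin
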