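import Cfsg.Agent.H63.KgvSpec
import Cfsg.Agent.H28.GenChar

/-! Tower KGV: division by `p`. -/

set_option autoImplicit false

namespace H59.KgvPd

open Finset Cfsg H28 H63.Kgv ComplexConjugate

universe u

variable (p : ℕ) [hp : Fact p.Prime]

theorem ee_eq (c : ZMod p) : ee p c = ee p 1 ^ c.val := by
  rw [← AddChar.map_nsmul_eq_pow, nsmul_eq_mul, mul_one, ZMod.natCast_zmod_val]

theorem ee_pow : ee p 1 ^ p = 1 := by
  rw [← AddChar.map_nsmul_eq_pow, nsmul_eq_mul, mul_one, ZMod.natCast_self, AddChar.map_zero_eq_one]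

theorem ee_int (c : ZMod p) : IsIntegral ℤ (ee p c) := by
  rw [ee_eq]
  exact (IsIntegral.of_pow hp.out.pos (by rw [ee_pow]; exact isIntegral_one)).pow _

theorem dvd_of {m : ℤ} {v : ℂ} (hv : IsIntegral ℤ v) (h : (m : ℂ) = (ee p 1 - 1) * v) :
    (p : ℤ) ∣ m := by
  have h1 : IsIntegral ℤ (ee p 1 - 1) := (ee_int p 1).sub isIntegral_one
  obtain ⟨r, hr⟩ := exists_add_pow_prime_eq hp.out
    (⟨_, h1⟩ : integralClosure ℤ ℂ) (1 : integralClosure ℤ ℂ)
  have h2 := congrArg (fun x : integralClosure ℤ ℂ => (x : ℂ)) hr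
  simp only [SubmonoidClass.coe_pow, Subalgebra.coe_add, Subalgebra.coe_one, Subalgebra.coe_mul,
    SubringClass.coe_natCast, sub_add_cancel, ee_pow, one_pow, mul_one] at h2
  have hp0 : (p : ℂ) ≠ 0 := Nat.cast_ne_zero.2 hp.out.ne_zero
  have h3 : ((((m : ℚ) ^ p / p : ℚ)) : ℂ) = -((ee p 1 - 1) * r) * v ^ p := by
    push_cast
    rw [div_eq_iff hp0, h, mul_pow]
    linear_combination (-v ^ p) * h2
  have h4 : IsIntegral ℤ (((m : ℚ) ^ p / p : ℚ)) := by
    rw [← isIntegral_algebraMap_iff (algebraMap ℚ ℂ).injective]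
    change IsIntegral ℤ ((((m : ℚ) ^ p / p : ℚ)) : ℂ)
    rw [h3]
    exact (h1.mul r.2).neg.mul (hv.pow _)
  obtain ⟨z, hz⟩ := IsIntegrallyClosed.isIntegral_iff.1 h4
  have hq : (p : ℚ) ≠ 0 := Nat.cast_ne_zero.2 hp.out.ne_zero
  have h5 : m ^ p = p * z := by
    have : ((m ^ p : ℤ) : ℚ) = ((p * z : ℤ) : ℚ) := by
      push_cast
      rw [eq_intCast, eq_div_iff hq] at hz
      rw [← hz]; ring
    exact_mod_cast this
  exact (Nat.prime_iff_prime_int.1 hp.out).dvd_of_dvd_pow ⟨z, h5⟩

theorem sum_ee (c : ZMod p) : ∑ t : ZMod p, ee p (t * c) = if c = 0 then (p : ℂ) else 0 := by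
  have := AddChar.sum_mulShift c (ZMod.isPrimitive_stdAddChar p)
  rw [ZMod.card] at this
  simpa using this

theorem arith (m : ZMod p → ℤ) (a : ZMod p → ℂ) (ha : ∀ t, t ≠ 0 → IsIntegral ℤ (a t))
    (h : ∀ t, t ≠ 0 → p * a t = ∑ c : ZMod p, ee p (t * c) * m c) (j : ZMod p) :
    (p : ℤ) ∣ m j - m 0 := by
  have hp0 : (p : ℂ) ≠ 0 := Nat.cast_ne_zero.2 hp.out.ne_zero
  have hd : ∀ t : ZMod p, ∃ w, IsIntegral ℤ w ∧ ee p (t * -j) - 1 = (ee p 1 - 1) * w := by
    intro t
    refine ⟨∑ i ∈ range (t * -j).val, ee p 1 ^ i,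
      IsIntegral.sum _ fun i _ => (ee_int p 1).pow i, ?_⟩
    rw [mul_comm (ee p 1 - 1), geom_sum_mul, ← ee_eq]
  choose w hw1 hw2 using hd
  have hF : ∀ k : ZMod p, ∑ t : ZMod p, ee p (t * -k) * ∑ c : ZMod p, ee p (t * c) * m c =
      p * (m k : ℂ) := by
    intro k
    simp only [mul_sum]
    rw [sum_comm]
    have : ∀ c : ZMod p, ∑ t : ZMod p, ee p (t * -k) * (ee p (t * c) * m c) =
        if c = k then p * (m k : ℂ) else 0 := by
      intro c
      simp only [← mul_assoc, ← AddChar.map_add_eq_mul, ← mul_add]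
      rw [← sum_mul, sum_ee]
      by_cases e : c = k
      · subst e; simp
      · rw [if_neg (fun h => e (by linear_combination h)), if_neg e, zero_mul]
    rw [sum_congr rfl fun c _ => this c]
    simp
  refine dvd_of p (v := ∑ t ∈ univ.erase (0 : ZMod p), w t * a t)
    (IsIntegral.sum _ fun t ht => (hw1 t).mul (ha t (ne_of_mem_erase ht))) ?_
  apply mul_left_cancel₀ hp0
  push_cast
  rw [mul_sum, mul_sum, mul_sub, ← hF j, ← hF 0, ← sum_sub_distrib,
    ← add_sum_erase _ _ (mem_univ (0 : ZMod p))]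
  simp only [zero_mul, sub_self, zero_add, neg_zero, mul_zero, AddChar.map_zero_eq_one]
  refine sum_congr rfl fun t ht => ?_
  rw [← h t (ne_of_mem_erase ht)]
  linear_combination (p * a t) * hw2 t

theorem job : PdSt.{u} := by
  intro p _ E _ _ f hE hf ⟨Θ, hΘ, hs⟩
  have hp0 : (p : ℂ) ≠ 0 := Nat.cast_ne_zero.2 (Fact.out : p.Prime).ne_zero
  refine ⟨fun c => (p : ℂ)⁻¹ • (Θ c - Θ 0), fun c => ?_, fun t ht y => ?_⟩
  · refine isGeneralizedCharacter_iff.2 ⟨fun g h => ?_, fun ψ hψ => ?_⟩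
    · simp only [Pi.smul_apply, Pi.sub_apply, (hΘ c).isClassFunction g h,
        (hΘ 0).isClassFunction g h]
    · choose m hm using fun c => (hΘ c).classInner_int hψ.isCharacter.isGeneralizedCharacter
      have h1 : ∀ t, t ≠ 0 → p * classInner (f t) ψ = ∑ c : ZMod p, ee p (t * c) * m c := by
        intro t ht
        have : (p : ℂ) • f t = ∑ c : ZMod p, ee p (t * c) • Θ c := by
          funext y
          simpa using hs t ht y
        rw [← classInner_smul_left, this, classInner_sum_left]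
        simp only [classInner_smul_left, hm]
      have h2 : ∀ t, t ≠ 0 → IsIntegral ℤ (classInner (f t) ψ) := by
        intro t ht
        have a1 : IsIntegral ℤ (p * classInner (f t) ψ) := by
          rw [h1 t ht]
          exact IsIntegral.sum _ fun c _ => (ee_int p _).mul (isIntegral_algebraMap (x := m c))
        have a2 : IsIntegral ℤ ((Nat.card E : ℂ) * classInner (f t) ψ) := by
          have hc : (Nat.card E : ℂ) ≠ 0 := Nat.cast_ne_zero.2 Nat.card_pos.ne'
          rw [classInner, mul_inv_cancel_left₀ hc]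
          refine IsIntegral.sum _ fun y _ => (hf t ht y).mul ?_
          exact hψ.isCharacter.isGeneralizedCharacter.conj.isIntegral y
        have a3 : IsCoprime (p : ℤ) (Nat.card E : ℤ) :=
          Nat.isCoprime_iff_coprime.2 ((Nat.Prime.coprime_iff_not_dvd Fact.out).2 hE)
        obtain ⟨u, v, huv⟩ := a3
        have a4 : (u : ℂ) * p + v * Nat.card E = 1 := by exact_mod_cast huv
        have a5 : classInner (f t) ψ =
            u * (p * classInner (f t) ψ) + v * (Nat.card E * classInner (f t) ψ) := by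
          linear_combination (-classInner (f t) ψ) * a4
        rw [a5]
        exact ((isIntegral_algebraMap (x := u)).mul a1).add
          ((isIntegral_algebraMap (x := v)).mul a2)
      obtain ⟨z, hz⟩ := arith p m _ h2 h1 c
      refine ⟨z, ?_⟩
      have hz' : (m c : ℂ) - m 0 = p * z := by exact_mod_cast hz
      rw [classInner_smul_left, classInner_sub_left, hm, hm, hz', inv_mul_cancel_left₀ hp0]
  · apply mul_left_cancel₀ hp0
    have h0 : ∑ c : ZMod p, ee p (t * c) = 0 := by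
      simp only [mul_comm t]
      rw [sum_ee, if_neg ht]
    refine (hs t ht y).trans ?_
    rw [mul_sum]
    simp only [Pi.smul_apply, Pi.sub_apply, smul_eq_mul]
    have : ∀ c, (p : ℂ) * (ee p (t * c) * ((p : ℂ)⁻¹ * (Θ c y - Θ 0 y))) =
        ee p (t * c) * Θ c y - ee p (t * c) * Θ 0 y := fun c => by field_simp
    simp only [this, sum_sub_distrib, ← sum_mul, h0, zero_mul, sub_zero]

end H59.KgvPd
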