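/- Row S3226, job NS-O: 2-central involutions of `PΩ` are products of squares in their centralisers. -/
import Cfsg.Agent.H25.NSSpec
import Cfsg.Agent.H56.AutMain
import Cfsg.Agent.H58.QDisc

set_option autoImplicit false

namespace H59.NSO

open QuadraticMap Module H56 H25.NS
open scoped commutatorElement

variable {F V ι : Type*} [Field F] [AddCommGroup V] [Module F V] {Q : QuadraticForm F V}
  [DecidableEq ι] (b : Basis ι F V)

/-- `x` is diagonal with signs `ε` -/
def Dg (x : O Q) (ε : ι → ℤˣ) : Prop := ∀ i, x (b i) = ε i • b i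

variable {b}

omit [DecidableEq ι] in
theorem Dg.ext {x y : O Q} {ε : ι → ℤˣ} (hx : Dg b x ε) (hy : Dg b y ε) : x = y :=
  O.ext fun v => LinearMap.congr_fun (b.ext (f₁ := x.lin) (f₂ := y.lin) fun i =>
    (hx i).trans (hy i).symm) v

omit [DecidableEq ι] in
theorem dg_one : Dg b (1 : O Q) 1 := fun i => by simp

omit [DecidableEq ι] in
theorem Dg.mul {x y : O Q} {ε δ : ι → ℤˣ} (hx : Dg b x ε) (hy : Dg b y δ) : Dg b (x * y) (ε * δ) :=
  fun i => by
    rw [O.mul_apply, hy, Units.smul_def, map_zsmul, hx, Pi.mul_apply, mul_comm, mul_smul]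
    rfl

omit [DecidableEq ι] in
theorem Dg.mul_self {x : O Q} {ε : ι → ℤˣ} (hx : Dg b x ε) : x * x = 1 := by
  have := hx.mul hx
  rw [show ε * ε = 1 from funext fun i => Int.units_mul_self _] at this
  exact this.ext dg_one

omit [DecidableEq ι] in
theorem Dg.comm {x y : O Q} {ε δ : ι → ℤˣ} (hx : Dg b x ε) (hy : Dg b y δ) : x * y = y * x :=
  (hx.mul hy).ext (mul_comm δ ε ▸ hy.mul hx)

omit [DecidableEq ι] in
theorem Dg.repr {x : O Q} {ε : ι → ℤˣ} (hx : Dg b x ε) (v : V) (k : ι) :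
    b.repr (x v) k = ε k • b.repr v k := by
  classical
  refine LinearMap.congr_fun (b.ext (f₁ := b.coord k ∘ₗ x.lin) (f₂ := ε k • b.coord k) fun i => ?_) v
  by_cases h : i = k
  · subst h
    simp [hx i, Units.smul_def]
  · simp [hx i, Units.smul_def, h]

/-- an orthogonal basis with all norms one except possibly a non-square at `o` -/
structure OB (Q : QuadraticForm F V) (b : Basis ι F V) (o : ι) : Prop where
  orth : ∀ i j, i ≠ j → polar Q (b i) (b j) = 0
  one : ∀ i, i ≠ o → Q (b i) = 1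
  last : Q (b o) = 1 ∨ ¬ IsSquare (Q (b o))

variable {o : ι} (h : OB Q b o)
include h

omit [DecidableEq ι] in
theorem OB.ne (i : ι) : Q (b i) ≠ 0 := by
  by_cases hi : i = o
  · subst hi
    rcases h.last with e | e
    · simp [e]
    · exact fun e' => e (e' ▸ IsSquare.zero)
  · simp [h.one i hi]

theorem OB.dg_refl (i : ι) : Dg b (refl Q (b i)) (Pi.mulSingle i (-1)) := fun j => by
  by_cases e : j = i
  · subst e
    simp [refl_apply_self (h.ne j)]
  · simp [refl_apply_of_orth (h.orth i j (Ne.symm e)), e]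

variable [FiniteDimensional F V] (hQ : Q.polarBilin.Nondegenerate) (h2 : (2 : F) ≠ 0)
include hQ

/-- the product of two reflections of norm one -/
noncomputable def OB.e {i j : ι} (hi : Q (b i) = 1) (hj : Q (b j) = 1) : commutator (O Q) :=
  ⟨refl Q (b i) * refl Q (b j), refl_mul_refl_mem_commutator hQ (h.ne i) (h.ne j) (by rw [hi, hj])⟩

include h2

theorem OB.e_mem_aux {g : commutator (O Q)} {ε : ι → ℤˣ} (hg : Dg b g.1 ε) {i j k l m : ι}
    (hi : Q (b i) = 1) (hj : Q (b j) = 1) (hk : Q (b k) = 1) (hl : Q (b l) = 1) (hm : Q (b m) = 1)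
    (ij : i ≠ j) (lm : l ≠ m) (ik : i ≠ k) (jk : j ≠ k) (lk : l ≠ k) (mk : m ≠ k) (li : l ≠ i)
    (mi : m ≠ i) (e1 : ε i = ε j) (e2 : ε l = ε m) : h.e hQ hi hj ∈ SqC g := by
  have q : ∀ {i j : ι}, Q (b i) = 1 → Q (b j) = 1 → i ≠ j → Q (b i - b j) = 2 := fun hi hj ij => by
    rw [Q_sub, hi, hj, h.orth _ _ ij]; norm_num
  have c : ∀ {i j : ι}, ε i = ε j → refl Q (b i - b j) * g.1 = g.1 * refl Q (b i - b j) :=
    fun {i j} e => by
      rw [mul_refl, map_sub, hg, hg, ← e, ← smul_sub]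
      rcases Int.units_eq_one_or (ε i) with e | e <;> rw [e]
      · rw [one_smul]
      · rw [Units.neg_smul, one_smul, refl_neg]
  let y : commutator (O Q) := ⟨refl Q (b i - b j) * refl Q (b l - b m),
    refl_mul_refl_mem_commutator hQ (q hi hj ij ▸ h2) (q hl hm lm ▸ h2) (by
      rw [q hi hj ij, q hl hm lm])⟩
  have y1 : y.1 (b k) = b k := by
    rw [O.mul_apply, refl_apply_of_orth (v := b l - b m), refl_apply_of_orth] <;>
      simp [h.orth, *]
  have y2 : y.1 (b i) = b j := by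
    rw [O.mul_apply, refl_apply_of_orth (v := b l - b m) (by simp [h.orth, *]),
      refl_sub_apply (hi.trans hj.symm) (q hi hj ij ▸ h2)]
  have := comm_mem (u := g) (a := h.e hQ hi hk) (b := y)
    (Subtype.ext (((h.dg_refl i).mul (h.dg_refl k)).comm hg)) (Subtype.ext (by
      change _ * _ * g.1 = g.1 * (_ * _)
      rw [mul_assoc, c e2, ← mul_assoc, c e1, mul_assoc]))
  convert this using 1
  refine Subtype.ext ?_
  change refl Q (b i) * refl Q (b j) = refl Q (b i) * refl Q (b k) * y.1 *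
    (refl Q (b i) * refl Q (b k))⁻¹ * y.1⁻¹
  rw [mul_inv_rev, refl_inv, refl_inv, mul_assoc _ y.1, ← mul_assoc y.1, mul_refl y.1, y1,
    mul_assoc _ y.1, mul_refl y.1, y2]
  simp only [mul_assoc, mul_inv_cancel, mul_one]
  rw [← mul_assoc (refl Q (b k)), refl_mul_self, one_mul]

variable [Fintype ι] (h7 : 7 ≤ Fintype.card ι)
include h7

omit h hQ h2 [FiniteDimensional F V] in
theorem exists_three (i j k : ι) : ∃ x y z : ι, x ≠ y ∧ x ≠ z ∧ y ≠ z ∧
    ∀ t, t = x ∨ t = y ∨ t = z → t ≠ i ∧ t ≠ j ∧ t ≠ k := by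
  have : 2 < (({i, j, k} : Finset ι)ᶜ).card := by
    have := Finset.card_le_three (a := i) (b := j) (c := k)
    rw [Finset.card_compl]
    omega
  obtain ⟨x, y, z, hx, hy, hz, h1, h2, h3⟩ := Finset.two_lt_card_iff.1 this
  simp only [Finset.mem_compl, Finset.mem_insert, Finset.mem_singleton, not_or] at hx hy hz
  refine ⟨x, y, z, h1, h2, h3, ?_⟩
  rintro t (rfl | rfl | rfl) <;> assumption

theorem OB.e_mem {g : commutator (O Q)} {ε : ι → ℤˣ} (hg : Dg b g.1 ε) {i j : ι}
    (hi : Q (b i) = 1) (hj : Q (b j) = 1) (ij : i ≠ j) (e : ε i = ε j) : h.e hQ hi hj ∈ SqC g := by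
  obtain ⟨x, y, z, xy, xz, yz, H⟩ := exists_three h7 i j o
  obtain ⟨x1, x2, x3⟩ := H x (.inl rfl)
  obtain ⟨y1, y2, y3⟩ := H y (.inr (.inl rfl))
  obtain ⟨z1, z2, z3⟩ := H z (.inr (.inr rfl))
  obtain e' | e' | e' : ε x = ε y ∨ ε x = ε z ∨ ε y = ε z := by
    rcases Int.units_eq_one_or (ε x) with a | a <;> rcases Int.units_eq_one_or (ε y) with c | c <;>
      rcases Int.units_eq_one_or (ε z) with d | d <;> simp [a, c, d]
  · exact h.e_mem_aux hQ h2 hg hi hj (h.one z z3) (h.one x x3) (h.one y y3) ij xy z1.symm z2.symm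
      xz yz x1 y1 e e'
  · exact h.e_mem_aux hQ h2 hg hi hj (h.one y y3) (h.one x x3) (h.one z z3) ij xz y1.symm y2.symm
      xy yz.symm x1 z1 e e'
  · exact h.e_mem_aux hQ h2 hg hi hj (h.one x x3) (h.one y y3) (h.one z z3) ij yz x1.symm x2.symm
      xy.symm xz.symm y1 z1 e e'

theorem OB.mem_sqc {g : commutator (O Q)} {ε : ι → ℤˣ} (hg : Dg b g.1 ε) (n : ℕ) :
    ∀ (x : commutator (O Q)) (δ : ι → ℤˣ), Dg b x.1 δ → (∀ i, δ i = -1 → ε i = -1) →
      (Finset.univ.filter fun i => δ i = -1).card ≤ n → x ∈ SqC g := by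
  have one : ∀ (x : commutator (O Q)) (δ : ι → ℤˣ), Dg b x.1 δ → (∀ i, δ i ≠ -1) → x ∈ SqC g :=
    fun x δ hx hδ => by
      rw [show δ = 1 from funext fun i => (Int.units_eq_one_or _).resolve_right (hδ i)] at hx
      rw [show x = 1 from Subtype.ext (hx.ext dg_one)]
      exact one_mem _
  induction n with
  | zero =>
    intro x δ hx _ hn
    exact one x δ hx fun i hi => by
      simpa [hi] using Finset.eq_empty_iff_forall_notMem.1 (Finset.card_eq_zero.1 (Nat.le_zero.1 hn)) i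
  | succ n ih =>
    intro x δ hx hδ hn
    by_cases h1 : ∀ i, δ i ≠ -1
    · exact one x δ hx h1
    push Not at h1
    by_cases h3 : ∃ i j, i ≠ j ∧ δ i = -1 ∧ δ j = -1 ∧ Q (b i) = 1 ∧ Q (b j) = 1
    · obtain ⟨i, j, ij, a, c, hi, hj⟩ := h3
      have h4 : ∀ t, (Pi.mulSingle i (-1) * Pi.mulSingle j (-1) * δ : ι → ℤˣ) t = -1 →
          δ t = -1 ∧ t ≠ i := fun t ht => by
        by_cases e1 : t = i
        · simp [e1, ij, a] at ht
        by_cases e2 : t = j
        · simp [e2, ij.symm, c] at ht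
        exact ⟨by simpa [e1, e2] using ht, e1⟩
      have h5 := ih (h.e hQ hi hj * x) _ (((h.dg_refl i).mul (h.dg_refl j)).mul hx)
        (fun t ht => hδ t (h4 t ht).1) (by
          refine Nat.le_of_lt_succ (lt_of_lt_of_le (Finset.card_lt_card ⟨fun t ht => ?_, fun hs => ?_⟩) hn)
          · simpa using (h4 t (by simpa using ht)).1
          · exact (h4 i (by simpa using hs (show i ∈ _ by simpa using a))).2 rfl)
      exact (Subgroup.mul_mem_cancel_left _ (h.e_mem hQ h2 h7 hg hi hj ij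
        ((hδ i a).trans (hδ j c).symm))).1 h5
    exfalso
    obtain ⟨i, hi⟩ := h1
    by_cases h4 : ∃ j, j ≠ i ∧ δ j = -1
    · obtain ⟨j, ji, hj⟩ := h4
      have key : ∀ j, j ≠ o → δ j = -1 → δ o = -1 → False := fun j jo hj ho => by
        have h5 : ¬ IsSquare (Q (b o)) := h.last.resolve_left fun e =>
          h3 ⟨j, o, jo, hj, ho, h.one j jo, e⟩
        have h6 : δ = Pi.mulSingle j (-1) * Pi.mulSingle o (-1) := funext fun t => by
          by_cases e1 : t = j
          · simp [e1, jo, hj]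
          by_cases e2 : t = o
          · simp [e2, jo.symm, ho]
          simpa [e1, e2] using (Int.units_eq_one_or _).resolve_right fun ht =>
            h3 ⟨t, j, e1, ht, hj, h.one t e2, h.one j jo⟩
        have h8 := commutator_le_ker_spinor hQ x.2
        rw [h6] at hx
        rw [MonoidHom.mem_ker, hx.ext ((h.dg_refl j).mul (h.dg_refl o)), map_mul, spinor_refl,
          spinor_refl, h.one j jo, sqcl_one, one_mul, sqcl_eq_one_iff'] at h8
        exact h5 h8
      by_cases io : i = o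
      · exact key j (io ▸ ji) hj (io ▸ hi)
      by_cases jo : j = o
      · exact key i io hi (jo ▸ hj)
      exact h3 ⟨j, i, ji, hj, hi, h.one j jo, h.one i io⟩
    · have h6 : δ = Pi.mulSingle i (-1) := funext fun t => by
        by_cases e1 : t = i
        · simp [e1, hi]
        simpa [e1] using (Int.units_eq_one_or _).resolve_right fun ht => h4 ⟨t, e1, ht⟩
      have h8 := commutator_le_ker_dickson hQ x.2
      rw [h6] at hx
      rw [MonoidHom.mem_ker, hx.ext (h.dg_refl i), dickson_refl hQ (h.ne i)] at h8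
      exact absurd h8 (by decide)

theorem OB.ns [Finite F] : NS (commutator (O Q) ⧸ Subgroup.center (commutator (O Q))) := by
  have hV : 7 ≤ finrank F V := by rwa [finrank_eq_card_basis b]
  let R : Subgroup (commutator (O Q)) :=
    { carrier := {x | ∃ ε, Dg b x.1 ε}
      mul_mem' := fun ⟨_, hx⟩ ⟨_, hy⟩ => ⟨_, hx.mul hy⟩
      one_mem' := ⟨1, dg_one⟩
      inv_mem' := fun {x} ⟨ε, hx⟩ => ⟨ε, by
        rwa [Subgroup.coe_inv, inv_eq_of_mul_eq_one_right hx.mul_self]⟩ }
  refine ns_quot _ R (fun ⟨x, _, hx⟩ => ⟨1, Subtype.ext (Subtype.ext (by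
    simpa [pow_two] using hx.mul_self))⟩) fun g _ _ H => ⟨1, one_mem _, ?_⟩
  have c : ∀ i j, i ≠ o → j ≠ o →
      g.1 * (refl Q (b i) * refl Q (b j)) = refl Q (b i) * refl Q (b j) * g.1 := fun i j hi hj => by
    obtain ⟨z, hz, e⟩ := H (h.e hQ (h.one i hi) (h.one j hj)) ⟨_, (h.dg_refl i).mul (h.dg_refl j)⟩
    replace e : g.1 * (refl Q (b i) * refl Q (b j)) = z.1 * (refl Q (b i) * refl Q (b j) * g.1) :=
      congrArg Subtype.val e
    rcases (mem_center_commutator_iff hQ (by omega) z).1 hz with e' | e'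
    · rw [e, e', one_mul]
    exfalso
    let f : V →ₗ[F] (Fin 4 → F) := LinearMap.pi fun t =>
      Q.polarBilin (![b i, b j, g.1 (b i), g.1 (b j)] t)
    obtain ⟨v, hv, hv0⟩ := Submodule.exists_mem_ne_zero_of_ne_bot
      (LinearMap.ker_ne_bot_of_finrank_lt (f := f) (by simp; omega))
    rw [← mul_assoc, mul_refl g.1, mul_assoc, mul_refl g.1, e'] at e
    have e2 := congrArg (fun x : O Q => x (g.1⁻¹ v)) e
    simp only [O.mul_apply, O.apply_inv_apply, O.negOne_apply] at e2
    rw [refl_apply_of_orth (v := g.1 (b j)) (congrFun hv 3),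
      refl_apply_of_orth (v := g.1 (b i)) (congrFun hv 2),
      refl_apply_of_orth (v := b j) (congrFun hv 1), refl_apply_of_orth (v := b i) (congrFun hv 0),
      eq_neg_iff_add_eq_zero, ← two_smul F, smul_eq_zero] at e2
    exact e2.elim h2 hv0
  have d : ∀ i, ∃ e : ℤˣ, g.1 (b i) = e • b i := fun i => by
    have h1 : ∀ k, k ≠ i → b.repr (g.1 (b i)) k = 0 := fun k ki => by
      obtain ⟨j, _, _, -, -, -, H'⟩ := exists_three h7 i k o
      obtain ⟨j1, j2, j3⟩ := H' j (.inl rfl)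
      have key : ∀ a, a ≠ o → (Pi.mulSingle a (-1) * Pi.mulSingle j (-1) : ι → ℤˣ) i •
          b.repr (g.1 (b i)) k = (Pi.mulSingle a (-1) * Pi.mulSingle j (-1) : ι → ℤˣ) k •
          b.repr (g.1 (b i)) k := fun a ha => by
        have hd := (h.dg_refl a).mul (h.dg_refl j)
        rw [← hd.repr, ← O.mul_apply (_ * _), ← c a j ha j3, O.mul_apply g.1, hd i, Units.smul_def,
          Units.smul_def, map_zsmul, map_zsmul]
        rfl
      have : b.repr (g.1 (b i)) k = -b.repr (g.1 (b i)) k := by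
        by_cases io : i = o
        · simpa [ki.symm, j1.symm, j2.symm] using key k (io ▸ ki)
        · simpa [ki, j1.symm, j2.symm] using (key i io).symm
      rwa [eq_neg_iff_add_eq_zero, ← two_mul, mul_eq_zero, or_iff_right h2] at this
    have h3 : g.1 (b i) = b.repr (g.1 (b i)) i • b i := by
      conv_lhs => rw [← b.sum_repr (g.1 (b i))]
      exact Finset.sum_eq_single i (fun k _ hk => by rw [h1 k hk, zero_smul]) (by simp)
    have h4 := O.map_Q g.1 (b i)
    rw [h3, Q_smul, mul_eq_right₀ (h.ne i), mul_self_eq_one_iff] at h4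
    rcases h4 with e | e
    · exact ⟨1, by rw [h3, e]; simp⟩
    · exact ⟨-1, by rw [h3, e]; simp⟩
  choose ε hε using d
  rw [mul_one]
  exact h.mem_sqc hQ h2 h7 hε _ g ε hε (fun _ => id) le_rfl

omit h h7 in
theorem exists_ob [Finite F] (c : Basis ι F V) (o : ι) : ∃ b : Basis ι F V, OB Q b o := by
  have hc := H58.gram_ne_zero hQ c
  obtain ⟨d, hd0, hd1, hd⟩ : ∃ d : F, d ≠ 0 ∧ (d = 1 ∨ ¬ IsSquare d) ∧
      IsSquare (H58.gram Q c * (2 ^ Fintype.card ι * d)) := by
    by_cases hs : IsSquare (H58.gram Q c * 2 ^ Fintype.card ι)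
    · exact ⟨1, one_ne_zero, .inl rfl, by rwa [mul_one]⟩
    · exact ⟨_, mul_ne_zero hc (pow_ne_zero _ h2), .inr hs, _, (mul_assoc _ _ _).symm⟩
  let w : ι → F := Pi.mulSingle o d
  have hw : ∀ i, w i ≠ 0 := fun i => by by_cases e : i = o <;> simp [w, e, hd0]
  obtain ⟨g, hg⟩ := H58.exists_equiv_of_isSquare_gram h2 hQ (H58.wss_nondeg h2 hw)
    (by rw [finrank_eq_card_basis c, finrank_fintype_fun_eq_card]) c (Pi.basisFun F ι)
    (by rwa [H58.gram_wss, Fintype.prod_pi_mulSingle'])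
  have h1 : ∀ i, Q (g.symm (Pi.single i 1)) = w i := fun i => by
    rw [← hg, g.apply_symm_apply, weightedSumSquares_apply, Finset.sum_eq_single i] <;>
      simp +contextual
  refine ⟨(Pi.basisFun F ι).map g.symm, fun i j ij => ?_, fun i hi => ?_, ?_⟩
  · rw [← H58.polar_equiv g hg]
    simp [H58.polar_wss, Pi.single_apply, ij.symm]
  · simp [h1, w, hi]
  · simpa [h1, w] using hd1

end H59.NSO

namespace H59

open H25.NS

theorem jobO : JobO := by
  intro F _ _ ι _ _ Q q h2 hq hQ h7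
  obtain ⟨o⟩ : Nonempty ι := Fintype.card_pos_iff.1 (by omega)
  obtain ⟨b, hb⟩ := NSO.exists_ob hQ h2 (Pi.basisFun F ι) o
  exact (hb.ns hQ h2 h7).of_mulEquiv (H56.pOmegaEquiv Q hq)

theorem jobOodd : JobOodd := fun F _ _ m h2 hm =>
  jobO F _ (H58.qOdd m F) _ h2 (H58.coe_qOdd m F) (H58.qOdd_nondeg m h2) (by simp; omega)

theorem jobOplus : JobOplus := fun F _ _ m h2 hm =>
  jobO F _ (H58.qPlus m F) _ h2 (H58.coe_qPlus m F) (H58.qPlus_nondeg m F) (by simp; omega)

theorem jobOminus : JobOminus := fun F _ _ m a b h2 hm hab =>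
  jobO F _ (H58.qMinus m F a b) _ h2 (H58.coe_qMinus m F a b) (H58.qMinus_nondeg m hab)
    (by simp; omega)

end H59
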