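import Cfsg.Agent.H59.P4A
import Cfsg.Agent.H36.P4Tools
import Cfsg.Agent.H49.CenCore
import Cfsg.Agent.H12.LC5

/-! Blueprint `LOCAL3C.md`, job B3: the group `(PSL₂(q) × PSL₂(q)).2` inside `C(t) / ⟨t⟩`. -/

set_option autoImplicit false
set_option linter.unusedSectionVars false

namespace H59.P4

open Cfsg Subgroup H47.P4C H56.L3 H98

universe u v

variable {G : Type u} [Group G] {F : Type v} [Field F] {α : SL2 F →* G} {ν : G}

/-- the second factor -/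
abbrev bt (α : SL2 F →* G) (ν : G) : SL2 F →* G := (MulAut.conj ν).toMonoidHom.comp α

theorem bt_ap (B : SL2 F) : bt α ν B = ν * α B * ν⁻¹ := rfl

theorem memC {x g : G} : g ∈ Ce x ↔ g * x = x * g := mem_centralizer_singleton_iff

/-- Two commuting images of `SL₂(F)` interchanged by `ν`. -/
structure W1 (α : SL2 F →* G) (ν : G) : Prop where
  nn : ν * ν = 1
  comm : ∀ A B, α A * bt α ν B = bt α ν B * α A
  ker : ∀ A B, α A * bt α ν B = 1 → pm A ∧ pm B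

theorem a_mem (A : SL2 F) : α A ∈ H1 α ν := subset_closure (Or.inl ⟨A, rfl⟩)

theorem n_mem : ν ∈ H1 α ν := subset_closure (Or.inr rfl)

theorem b_mem (B : SL2 F) : bt α ν B ∈ H1 α ν :=
  mul_mem (mul_mem n_mem (a_mem B)) (inv_mem n_mem)

theorem map_H1 {X : Type*} [Group X] (f : G →* X) : (H1 α ν).map f = H1 (f.comp α) (f ν) := by
  rw [H1, H1, MonoidHom.map_closure, Set.image_union, Set.image_singleton, ← Set.range_comp]
  rfl

namespace W1

variable (h : W1 α ν)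
include h

theorem na (A : SL2 F) : ν * α A = bt α ν A * ν := by rw [bt_ap, inv_mul_cancel_right]

theorem nb (B : SL2 F) : ν * bt α ν B = α B * ν := by
  rw [bt_ap, inv_eq_of_mul_eq_one_right h.nn, ← mul_assoc, ← mul_assoc, h.nn, one_mul]

theorem mul (A B C D : SL2 F) :
    α A * bt α ν B * (α C * bt α ν D) = α (A * C) * bt α ν (B * D) := by
  rw [map_mul, map_mul, mul_assoc, ← mul_assoc (bt α ν B), ← h.comm]; group

theorem nmul (C D : SL2 F) : ν * (α C * bt α ν D) = α D * bt α ν C * ν := by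
  rw [← mul_assoc, h.na, mul_assoc, h.nb, ← mul_assoc, h.comm]

theorem mem {g : G} (hg : g ∈ H1 α ν) :
    ∃ A B, g = α A * bt α ν B ∨ g = α A * bt α ν B * ν := by
  induction hg using closure_induction with
  | mem x hx =>
    rcases hx with ⟨A, rfl⟩ | rfl
    · exact ⟨A, 1, Or.inl (by simp)⟩
    · exact ⟨1, 1, Or.inr (by simp)⟩
  | one => exact ⟨1, 1, Or.inl (by simp)⟩
  | mul x y _ _ hx hy =>
    obtain ⟨A, B, rfl | rfl⟩ := hx <;> obtain ⟨C, D, rfl | rfl⟩ := hy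
    · exact ⟨_, _, Or.inl (h.mul ..)⟩
    · exact ⟨_, _, Or.inr (by rw [← mul_assoc, h.mul])⟩
    · exact ⟨_, _, Or.inr (by rw [mul_assoc, h.nmul, ← mul_assoc, h.mul])⟩
    · exact ⟨_, _, Or.inl (by
        rw [mul_assoc, ← mul_assoc ν, h.nmul, mul_assoc _ ν, h.nn, mul_one, h.mul])⟩
  | inv x _ hx =>
    obtain ⟨A, B, rfl | rfl⟩ := hx
    · exact ⟨A⁻¹, B⁻¹, Or.inl (by rw [mul_inv_rev, ← map_inv, ← map_inv, h.comm])⟩
    · exact ⟨B⁻¹, A⁻¹, Or.inr (by
        rw [mul_inv_rev, inv_eq_of_mul_eq_one_right h.nn, ← h.nmul, mul_inv_rev, ← map_inv,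
          ← map_inv, h.comm])⟩

theorem cj_a (A B C : SL2 F) :
    α A * bt α ν B * α C * (α A * bt α ν B)⁻¹ = α (A * C * A⁻¹) := by
  rw [mul_assoc (α A), ← h.comm, map_mul, map_mul, map_inv]; group

theorem cj_b (A B C : SL2 F) :
    α A * bt α ν B * bt α ν C * (α A * bt α ν B)⁻¹ = bt α ν (B * C * B⁻¹) := by
  rw [mul_inv_eq_iff_eq_mul, ← mul_assoc, ← h.comm, mul_assoc, mul_assoc, ← map_mul, ← map_mul,
    inv_mul_cancel_right]

/-- Elements of `H₁` fix or interchange the factors. -/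
theorem cases {g : G} (hg : g ∈ H1 α ν) : (∃ A B, g = α A * bt α ν B) ∨
    ∃ A B, (∀ C, g * α C * g⁻¹ = bt α ν (B * C * B⁻¹)) ∧
      ∀ C, g * bt α ν C * g⁻¹ = α (A * C * A⁻¹) := by
  obtain ⟨A, B, rfl | rfl⟩ := h.mem hg
  · exact Or.inl ⟨A, B, rfl⟩
  · refine Or.inr ⟨A, B, fun C => ?_, fun C => ?_⟩
    · rw [← h.cj_b A B C, bt_ap C]; group
    · rw [← h.cj_a A B C, mul_assoc _ ν, h.nb]; group

theorem eq {A B C D : SL2 F} (e : α A * bt α ν B = α C * bt α ν D) :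
    pm (C⁻¹ * A) ∧ pm (D⁻¹ * B) := h.ker _ _ (by
  rw [← h.mul, e, h.mul, inv_mul_cancel, inv_mul_cancel, map_one, map_one, one_mul])

theorem ab {A B : SL2 F} (e : α A = bt α ν B) : pm A ∧ pm B := by
  have := h.eq (A := A) (B := 1) (C := 1) (D := B) (by simpa using e)
  rw [inv_one, one_mul, mul_one] at this
  refine ⟨this.1, ?_⟩
  rcases this.2 with e | e
  · exact Or.inl (inv_eq_one.1 e)
  · exact Or.inr (by rw [← inv_inv B, e]; simp)

end W1

theorem pm.cj {A : SL2 F} (B : SL2 F) (h : pm (B * A * B⁻¹)) : pm A := by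
  rcases h with e | e
  · exact Or.inl (by simpa using e)
  · exact Or.inr (by
      rw [show A = B⁻¹ * (B * A * B⁻¹) * B by group, e]; simp)

theorem sq_cj {A : SL2 F} (B : SL2 F) (h : A * A = -1) : B * A * B⁻¹ * (B * A * B⁻¹) = -1 := by
  rw [conj_mul, h]; simp

theorem fix_of_trans [Finite G] {T M : Subgroup G} {a d : G} (hT : T ≤ M) (hd : d ∈ M)
    (h3 : d ^ 3 = 1) (hc : ¬ 3 ∣ Nat.card T)
    (ht : ∀ m ∈ M, ∃ y ∈ T, y * a * y⁻¹ = m * a * m⁻¹) :
    ∃ m ∈ M, d * (m * a * m⁻¹) * d⁻¹ = m * a * m⁻¹ := by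
  have : Fact (Nat.Prime 3) := ⟨Nat.prime_three⟩
  have h1 : (Ce a ⊓ M).relIndex M = (Ce a ⊓ M).relIndex T := by
    refine (Nat.card_eq_of_bijective (quotientSubgroupOfEmbeddingOfLE (Ce a ⊓ M) hT)
      ⟨(quotientSubgroupOfEmbeddingOfLE _ hT).injective, fun q => ?_⟩).symm
    obtain ⟨m, rfl⟩ := QuotientGroup.mk_surjective q
    obtain ⟨y, hy, e⟩ := ht m m.2
    refine ⟨QuotientGroup.mk ⟨y, hy⟩, ?_⟩
    rw [quotientSubgroupOfEmbeddingOfLE_apply_mk, QuotientGroup.eq, mem_subgroupOf]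
    refine mem_inf.2 ⟨memC.2 ?_, mul_mem (inv_mem (hT hy)) m.2⟩
    change y⁻¹ * m * a = a * (y⁻¹ * m)
    rw [show y⁻¹ * m * a = y⁻¹ * (m * a * (m : G)⁻¹) * m by group, ← e]; group
  obtain ⟨P, hP⟩ := exists_isSyl 3 (Ce a ⊓ M)
  have h2 : IsSyl 3 P M := isSyl_of_not_dvd_relIndex (hP.le.trans inf_le_right) hP.isPGroup (by
    rw [← relIndex_mul_relIndex P (Ce a ⊓ M) M hP.le inf_le_right, h1]
    exact fun e => (Nat.prime_three.dvd_mul.1 e).elim hP.not_dvd_relIndex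
      fun e => hc (e.trans (relIndex_dvd_card _ _)))
  obtain ⟨g, hg, e⟩ := h2.exists_cj_le (isPGroup_zpowers (k := 1) (by rw [pow_one, h3]))
    (zpowers_le.2 hd)
  have h4 := memC.1 (hP.le (e (conj_mem_cj (mem_zpowers d)))).1
  refine ⟨g⁻¹, inv_mem hg, ?_⟩
  rw [show d * (g⁻¹ * a * g⁻¹⁻¹) * d⁻¹ = g⁻¹ * (g * d * g⁻¹ * a) * (g * d⁻¹) by group, h4]
  group

theorem top_of [Finite G] [Fintype F] (hq : Fintype.card F % 4 = 3) (h3 : (3 : F) = 0)
    (h : W1 α ν) (h1 : α (-1) = 1) (hC : Ce (α wM) ≤ H1 α ν)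
    (hF : ∀ g, g * α wM * g⁻¹ ∈ H1 α ν →
      ∃ A, A * A = -1 ∧ (g * α wM * g⁻¹ = α A ∨ g * α wM * g⁻¹ = bt α ν A))
    (hS : ∀ g, ∀ y ∈ H1 α ν, orderOf y = 3 → g * y * g⁻¹ ∈ H1 α ν → g ∈ H1 α ν) :
    H1 α ν = ⊤ := by
  have h2 := two_ne h3
  have h1' : bt α ν (-1) = 1 := by rw [bt_ap, h1]; simp
  have pa : ∀ {A}, pm A → α A = 1 := by rintro _ (rfl | rfl); exacts [map_one _, h1]
  have pb : ∀ {A}, pm A → bt α ν A = 1 := by rintro _ (rfl | rfl); exacts [map_one _, h1']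
  have ea : ∀ {A C}, pm (C⁻¹ * A) → α A = α C := fun e => by
    have := pa e; rwa [map_mul, map_inv, inv_mul_eq_one, eq_comm] at this
  have eb : ∀ {A C}, pm (C⁻¹ * A) → bt α ν A = bt α ν C := fun e => by
    have := pb e; rwa [map_mul, map_inv, inv_mul_eq_one, eq_comm] at this
  have oa : ∀ {A}, A * A = -1 → orderOf (α A) = 2 := fun {A} e =>
    orderOf_eq_prime (by rw [pow_two, ← map_mul, e, h1]) fun e' =>
      not_pm_of_sq h2 e (h.ker A 1 (by simpa using e')).1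
  have ca : ∀ {A}, A * A = -1 → ∃ m ∈ H1 α ν, m * α wM * m⁻¹ = α A := fun e => by
    obtain ⟨P, rfl⟩ := conj_w hq e
    exact ⟨α P, a_mem P, by simp⟩
  have cb : ∀ {A}, A * A = -1 → ∃ m ∈ H1 α ν, m * α wM * m⁻¹ = bt α ν A := fun e => by
    obtain ⟨m, hm, e⟩ := ca e
    exact ⟨ν * m, mul_mem n_mem hm, by rw [bt_ap, ← e]; group⟩
  have uf := H49.UF.of_class (oa w_sq) hC fun d hd hc => by
    obtain ⟨g, rfl⟩ := isConj_iff.1 hc
    obtain ⟨A, e, e' | e'⟩ := hF g hd <;> rw [e']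
    exacts [ca e, cb e]
  have da : ∀ {A}, A * A = -1 → IsConj (α wM) (α A) := fun e =>
    let ⟨m, _, e⟩ := ca e; isConj_iff.2 ⟨m, e⟩
  have db : ∀ {A}, A * A = -1 → IsConj (α wM) (bt α ν A) := fun e =>
    let ⟨m, _, e⟩ := cb e; isConj_iff.2 ⟨m, e⟩
  have a2 : α wM * α wM = 1 := by rw [← map_mul, w_sq, h1]
  have b2 : bt α ν wM * bt α ν wM = 1 := by rw [← map_mul, w_sq, h1']
  have c2 : α wM * bt α ν wM * (α wM * bt α ν wM) = 1 := by rw [h.mul, w_sq, h1, h1', one_mul]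
  obtain ⟨jj, wj⟩ := j_facts h3
  have wj' : α wM * α (jM h3) = α (jM h3) * α wM := by
    rw [← map_mul, wj, ← neg_one_mul, map_mul, h1, one_mul, map_mul]
  have inJ : ∀ {A}, α wM * α A = α A * α wM → α A ∈ Ce (α wM * bt α ν wM) := fun e =>
    memC.2 (by rw [← mul_assoc, ← e, mul_assoc, h.comm, mul_assoc])
  have memN : ∀ {x}, x ∈ zpowers (α wM * bt α ν wM) → x = 1 ∨ x = α wM * bt α ν wM := by
    rintro _ ⟨i, rfl⟩
    have e : (α wM * bt α ν wM) ^ (2 : ℤ) = 1 := by rw [zpow_two, c2]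
    rcases Int.even_or_odd' i with ⟨k, rfl | rfl⟩
    · left; simp only [zpow_mul, e, one_zpow]
    · right; simp only [zpow_add, zpow_mul, e, one_zpow, one_mul, zpow_one]
  have NM : zpowers (α wM * bt α ν wM) ≤ H1 α ν := zpowers_le.2 (mul_mem (a_mem _) (b_mem _))
  have hc : Ce (α wM * bt α ν wM) ≤ H1 α ν := fun k hk => by
    have := H36.P4.zstar_mod (J := Ce (α wM * bt α ν wM)) (N := zpowers (α wM * bt α ν wM))
      (Z := H1 α ν) (zpowers_le.2 (memC.2 rfl)) (fun g hg x hx => by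
        rcases memN hx with rfl | rfl
        · simp
        · rw [memC.1 hg, mul_inv_cancel_right]; exact mem_zpowers _) inferInstance
      (isPGroup_zpowers (k := 1) (by rw [pow_one, pow_two, c2])) NM
      (H12.LC.gen_four (H36.P4.OO_odd _) (oa w_sq) (oa jj) wj' (fun e => by
          have k := ((h.eq (A := wM) (B := 1) (C := jM h3) (D := 1) (by rw [e])).1.comm (jM h3))
          rw [mul_assoc, wj, mul_inv_cancel_left, mul_neg, inv_mul_cancel_left] at k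
          exact one_ne_neg h2 (mul_right_cancel (b := wM) (by rw [one_mul, neg_one_mul, k])))
        (H36.P4.OO_nrm (inJ rfl)) (H36.P4.OO_nrm (inJ wj'))
        (fun x _ e => uf.mem_of_commute (IsConj.refl _) (a_mem _) e.symm)
        (fun x _ e => uf.mem_of_commute (da jj) (a_mem _) e.symm)
        fun x _ e => uf.mem_of_commute (d := α (wM * jM h3)) (da (by
          rw [mul_assoc, ← mul_assoc (jM h3), ← neg_neg (jM h3 * wM), ← wj, neg_mul, mul_neg,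
            mul_assoc, jj, ← mul_assoc, w_sq]; simp)) (a_mem _) (by rw [map_mul]; exact e.symm))
      (inJ rfl) (fun e => by
        rcases memN e with e | e
        · exact not_pm_of_sq h2 w_sq (h.ker wM 1 (by simpa using e)).1
        · exact not_pm_of_sq h2 w_sq (h.ker 1 wM (by simpa using e)).2)
      (a2 ▸ one_mem _) (fun g hg e => ?_) hk
    · refine uf.uniq _ (IsConj.refl _) (a_mem _) k ?_
      have k2 := inv_mem (mul_mem (inv_mem (a_mem (ν := ν) wM)) this)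
      rwa [show ((α wM)⁻¹ * (α wM * k * (α wM)⁻¹ * k⁻¹))⁻¹ = k * α wM * k⁻¹ by group] at k2
    · have k1 : g ∈ H1 α ν := by
        refine uf.uniq _ (IsConj.refl _) (a_mem _) g (uf.uniq _ (IsConj.refl _) (a_mem _) _ ?_)
        have k2 := inv_mem (mul_mem (inv_mem (a_mem (ν := ν) wM)) (NM e))
        rwa [show ∀ s : G, ((α wM)⁻¹ * (α wM * s * (α wM)⁻¹ * s⁻¹))⁻¹ = s * α wM * s⁻¹ from
          fun s => by group] at k2
      have k2 : g * α wM * g⁻¹ * (g * bt α ν wM * g⁻¹) = α wM * bt α ν wM := by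
        rw [conj_mul, memC.1 hg, mul_inv_cancel_right]
      rcases h.cases k1 with ⟨A, B, rfl⟩ | ⟨A, B, e1, e2⟩
      · rw [h.cj_a, h.cj_b] at k2
        rw [h.cj_a, ea (h.eq k2).1, mul_inv_cancel]
        exact one_mem _
      · rw [e1, e2, ← h.comm] at k2
        rw [e1, eb (h.eq k2).2, inv_eq_of_mul_eq_one_right a2, ← h.comm]
        exact mem_zpowers _
  have cy : ∀ y ∈ H1 α ν, orderOf y = 2 → Commute y (α wM) → Ce y ≤ H1 α ν := by
    intro y hy o2 cm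
    rcases h.cases hy with ⟨A, B, rfl⟩ | ⟨A, B, e1, -⟩
    · have y2 := H83.mul_self_of_orderOf_two o2
      rw [h.mul] at y2
      obtain ⟨p1 | p1, p2 | p2⟩ := h.ker _ _ y2
      · rw [pa (pm_of_sq h2 p1), pb (pm_of_sq h2 p2)] at o2
        simp at o2
      · rw [pa (pm_of_sq h2 p1), one_mul]
        exact uf.cent_le (db p2) (b_mem _)
      · rw [pb (pm_of_sq h2 p2), mul_one]
        exact uf.cent_le (da p1) (a_mem _)
      · obtain ⟨P, rfl⟩ := conj_w hq p1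
        obtain ⟨Q, rfl⟩ := conj_w hq p2
        intro x hx
        have m1 : α P * bt α ν Q ∈ H1 α ν := mul_mem (a_mem _) (b_mem _)
        rw [← h.cj_a P Q, ← h.cj_b P Q, conj_mul] at hx
        generalize α P * bt α ν Q = m at m1 hx
        have := hc (memC.2 (show m⁻¹ * x * m * _ = _ * (m⁻¹ * x * m) by
          rw [show ∀ c : G, m⁻¹ * x * m * c = m⁻¹ * (x * (m * c * m⁻¹)) * m from fun c => by group,
            memC.1 hx]; group))
        rw [show x = m * (m⁻¹ * x * m) * m⁻¹ by group]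
        exact mul_mem (mul_mem m1 this) (inv_mem m1)
    · have := e1 wM
      rw [cm.eq, mul_inv_cancel_right] at this
      exact absurd (h.ab this).1 (not_pm_of_sq h2 w_sq)
  by_contra hne
  have odd : ∀ r ∉ H1 α ν, ∀ b, IsConj (α wM) b → b ∈ H1 α ν →
      ∃ ρ, IsConj (α wM) ρ ∧ ρ * α wM * ρ⁻¹ = r * b * r⁻¹ := fun r hr b hb hbM => by
    rcases uf.pair (r := r) (IsConj.refl _) (a_mem _) hb hbM with
      ⟨ρ, -, k1, k2⟩ | ⟨y, -, k1, k2, -, k3, k4, -⟩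
    · exact ⟨ρ, k1, k2⟩
    · exact absurd (uf.uniq b hb hbM r (cy y k2 k1 k3 (memC.2 k4.eq.symm))) hr
  obtain ⟨k, hk⟩ : ∃ k, k ∉ H1 α ν := by
    by_contra e
    exact hne (eq_top_iff.2 fun x _ => by_contra fun hx => e ⟨x, hx⟩)
  obtain ⟨r, hr, e⟩ := odd k hk _ (IsConj.refl _) (a_mem _)
  have rM : r ∉ H1 α ν := fun a => hk (uf.uniq _ (IsConj.refl _) (a_mem _) k
    (e ▸ mul_mem (mul_mem a (a_mem _)) (inv_mem a)))
  have ri : r⁻¹ = r := H83.inv_eq_of_orderOf_two (uf.inv r hr)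
  obtain ⟨m, hm, e1⟩ := fix_of_trans (T := H1 α ν ⊓ cj r (H1 α ν)) (a := α wM) inf_le_left
    (mul_mem (a_mem (uM 1)) (b_mem (uM 1)))
    (by rw [(show Commute _ _ from h.comm _ _).mul_pow, ← map_pow, ← map_pow, u_cube h3]; simp)
    (fun e => by
      have : Fact (Nat.Prime 3) := ⟨Nat.prime_three⟩
      obtain ⟨y, hy⟩ := exists_prime_orderOf_dvd_card' 3 e
      refine rM (ri ▸ hS r⁻¹ y y.2.1 ((orderOf_coe y).trans hy) ?_)
      rw [inv_inv]
      exact mem_cj.1 y.2.2)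
    fun m hm => by
      obtain ⟨ρ, k1, k2⟩ := odd r rM _ (isConj_iff.2 ⟨m, rfl⟩)
        (mul_mem (mul_mem hm (a_mem _)) (inv_mem hm))
      have ρi : ρ⁻¹ = ρ := H83.inv_eq_of_orderOf_two (uf.inv ρ k1)
      have e1 : r⁻¹ * ρ * α wM * (r⁻¹ * ρ)⁻¹ = m * α wM * m⁻¹ := by
        rw [show r⁻¹ * ρ * α wM * (r⁻¹ * ρ)⁻¹ = r⁻¹ * (ρ * α wM * ρ⁻¹) * r by group, k2]; group
      have m1 : r⁻¹ * ρ ∈ H1 α ν := uf.uniq _ (IsConj.refl _) (a_mem _) _
        (e1 ▸ mul_mem (mul_mem hm (a_mem _)) (inv_mem hm))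
      refine ⟨r⁻¹ * ρ, mem_inf.2 ⟨m1, mem_cj.2 ?_⟩, e1⟩
      have : r⁻¹ * (r⁻¹ * ρ) * r = (r⁻¹ * ρ)⁻¹ := by
        rw [mul_inv_rev, inv_inv, ρi, ← mul_assoc]
        nth_rewrite 1 [ri]
        simp
      rw [this]
      exact inv_mem m1
  obtain ⟨A, e2, e3 | e3⟩ := hF m (mul_mem (mul_mem hm (a_mem _)) (inv_mem hm)) <;> rw [e3] at e1
  · rw [h.cj_a] at e1
    exact u_not h3 e2 (h.eq (B := 1) (D := 1) (by rw [e1])).1
  · rw [h.cj_b] at e1
    exact u_not h3 e2 (h.eq (A := 1) (C := 1) (by rw [e1])).2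

end H59.P4
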