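import Cfsg.Agent.H59.P4B

/-! Blueprint `LOCAL3C.md`, job B3. -/

set_option autoImplicit false
set_option linter.unusedSectionVars false

namespace H59.P4

open Cfsg Subgroup H47.P4C H56.L3 H98
open scoped commutatorElement

universe u v

variable {G : Type u} [Group G] {F : Type v} [Field F] {ι : SL2 F →* G} {n : G}

theorem solv_of {S T : Subgroup G} (h1 : ⁅S, S⁆ ≤ T) (h2 : ∀ a ∈ T, ∀ b ∈ T, a * b = b * a) :
    Group.IsSolvable S := by
  refine ⟨⟨2, map_injective S.subtype_injective ?_⟩⟩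
  rw [derivedSeries_succ, derivedSeries_succ, derivedSeries_zero, map_commutator, map_commutator,
    map_subtype_top, Subgroup.map_bot, eq_bot_iff]
  exact (commutator_mono h1 h1).trans (commutator_le.2 fun a ha b hb =>
    mem_bot.2 (commutatorElement_eq_one_iff_mul_comm.2 (h2 a ha b hb)))

theorem comm_pm {A B : SL2 F} (hA : A * wM = wM * A ∨ A * wM = -(wM * A))
    (hB : B * wM = wM * B ∨ B * wM = -(wM * B)) : ⁅A, B⁆ * wM = wM * ⁅A, B⁆ := by
  have k : ∀ C : SL2 F, (C * wM = wM * C → C⁻¹ * wM = wM * C⁻¹) ∧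
      (C * wM = -(wM * C) → C⁻¹ * wM = -(wM * C⁻¹)) := fun C =>
    ⟨fun e => Commute.inv_left e, fun e => by
      rw [inv_mul_eq_iff_eq_mul, mul_neg, ← mul_assoc, e, neg_mul, neg_neg, mul_inv_cancel_right]⟩
  rw [commutatorElement_def]
  rcases hA with a | a <;> rcases hB with b | b
  · rw [mul_assoc, (k B).1 b, ← mul_assoc, mul_assoc _ A⁻¹, (k A).1 a, ← mul_assoc, mul_assoc A B,
      b, ← mul_assoc, a]; group
  · rw [mul_assoc, (k B).2 b, mul_neg, ← mul_assoc, mul_assoc _ A⁻¹, (k A).1 a, ← mul_assoc,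
      mul_assoc A B, b, mul_neg, ← mul_assoc, a]; simp [mul_assoc]
  · rw [mul_assoc, (k B).1 b, ← mul_assoc, mul_assoc _ A⁻¹, (k A).2 a, mul_neg, ← mul_assoc,
      mul_assoc A B, b, ← mul_assoc, a]; simp [mul_assoc]
  · rw [mul_assoc, (k B).2 b, mul_neg, ← mul_assoc, mul_assoc _ A⁻¹, (k A).2 a, mul_neg,
      ← mul_assoc, mul_assoc A B, b, mul_neg, ← mul_assoc, a]; simp [mul_assoc]

section

variable (w : Wr ι n)
include w

theorem b_inj : Function.Injective (bt ι n) := (MulAut.conj n).injective.comp w.inj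

theorem b_neg : bt ι n (-1) = ι (-1) := by rw [bt_ap, w.nt, mul_inv_cancel_right]

theorem w1 : W1 ι n := ⟨w.nn, w.comm, fun A B e =>
  ⟨pm_of_central fun C => w.inj (by
    rw [map_mul, map_mul, eq_inv_of_mul_eq_one_left e]
    exact (Commute.inv_right (w.comm C B)).symm),
  pm_of_central fun C => b_inj w (by
    rw [map_mul, map_mul, eq_inv_of_mul_eq_one_right e]
    exact Commute.inv_left (w.comm A C))⟩⟩

theorem neg_swap (A B : SL2 F) : ι A * bt ι n (-B) = ι (-A) * bt ι n B := by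
  rw [← neg_one_mul B, map_mul, b_neg w, ← mul_assoc, ← map_mul, mul_neg_one]

theorem sq_t (h2 : (2 : F) ≠ 0) {y : G} (hy : y ∈ H1 ι n) (e : y * y = ι (-1)) :
    ∃ A, A * A = -1 ∧ (y = ι A ∨ y = bt ι n A) := by
  have k : ∀ A, ι A * ι A = ι (-1) → A * A = -1 := fun A a => w.inj (by rw [map_mul, a])
  have k' : ∀ A, bt ι n A * bt ι n A = ι (-1) → A * A = -1 := fun A a =>
    b_inj w (by rw [map_mul, a, b_neg w])
  obtain ⟨A, B, rfl | rfl⟩ := (w1 w).mem hy
  · have e' := e
    rw [(w1 w).mul] at e'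
    rcases ((w1 w).eq (C := -1) (D := 1) (e'.trans (by rw [map_one, mul_one]))).2 with a | a <;>
      rw [inv_one, one_mul] at a
    · rcases pm_of_sq h2 a with rfl | rfl
      · rw [map_one, mul_one] at e ⊢
        exact ⟨_, k _ e, Or.inl rfl⟩
      · rw [neg_swap w, map_one, mul_one] at e ⊢
        exact ⟨_, k _ e, Or.inl rfl⟩
    · rw [a, b_neg w, mul_eq_right, ← map_one ι] at e'
      rcases pm_of_sq h2 (w.inj e') with rfl | rfl
      · rw [map_one, one_mul] at e ⊢
        exact ⟨_, k' _ e, Or.inr rfl⟩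
      · rw [← neg_swap w, map_one, one_mul] at e ⊢
        exact ⟨_, k' _ e, Or.inr rfl⟩
  · exfalso
    rw [mul_assoc, ← mul_assoc n, (w1 w).nmul, mul_assoc _ n, w.nn, mul_one, (w1 w).mul] at e
    have a := ((w1 w).eq (C := -1) (D := 1) (e.trans (by rw [map_one, mul_one]))).2
    rw [inv_one, one_mul] at a
    have b : A * B = B * A := by
      rw [← mul_inv_cancel_right (A * B) A, mul_assoc A, ← a.comm, mul_inv_cancel_right]
    rw [b] at e
    rcases a with a | a <;> rw [a] at e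
    · exact one_ne_neg h2 (w.inj (by simpa using e))
    · rw [b_neg w, mul_eq_right] at e
      exact one_ne_neg h2 (w.inj (by simpa using e.symm))

theorem core (abh : JobAbH.{u, v}) [Finite G] [Fintype F] (hF : Fld F)
    (hc : ∀ g, g * ι (-1) = ι (-1) * g)
    (se : ∀ g, ∀ y ∈ H1 ι n, orderOf y = 3 → g * y * g⁻¹ ∈ H1 ι n → g ∈ H1 ι n) : H1 ι n = ⊤ := by
  have h3 := hF.three
  have h2 := two_ne h3
  have hq : Fintype.card F % 4 = 3 := by have := hF.mod; omega
  have h := w1 w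
  have tt : ι (-1) * ι (-1) = 1 := by rw [← map_mul]; simp
  have memN : ∀ {x}, x ∈ zpowers (ι (-1)) → x = 1 ∨ x = ι (-1) := by
    rintro _ ⟨i, rfl⟩
    have e : ι (-1) ^ (2 : ℤ) = 1 := by rw [zpow_two, tt]
    rcases Int.even_or_odd' i with ⟨k, rfl | rfl⟩
    · left; simp only [zpow_mul, e, one_zpow]
    · right; simp only [zpow_add, zpow_mul, e, one_zpow, one_mul, zpow_one]
  have : (zpowers (ι (-1))).Normal := ⟨fun x hx g => by
    rcases memN hx with rfl | rfl
    · simp
    · rw [hc, mul_inv_cancel_right]; exact mem_zpowers _⟩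
  obtain ⟨Γ, _, _, π, hs, hk⟩ : ∃ (Γ : Type u) (_ : Group Γ) (_ : Finite Γ) (π : G →* Γ),
      Function.Surjective π ∧ π.ker = zpowers (ι (-1)) :=
    ⟨_, _, inferInstance, QuotientGroup.mk' _, QuotientGroup.mk'_surjective _,
      QuotientGroup.ker_mk' _⟩
  have πt : π (ι (-1)) = 1 := hk.ge (mem_zpowers _)
  have hπ : ∀ {x y}, π x = π y → x = y ∨ x = y * ι (-1) := fun {x y} e => by
    rcases memN (hk.le (show π (y⁻¹ * x) = 1 by rw [map_mul, map_inv, e, inv_mul_cancel])) with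
      a | a
    · exact Or.inl (inv_mul_eq_one.1 a).symm
    · exact Or.inr (inv_mul_eq_iff_eq_mul.1 a)
  have hM : ∀ {g}, π g ∈ H1 (π.comp ι) (π n) ↔ g ∈ H1 ι n := fun {g} => by
    rw [← map_H1, ← mem_comap, comap_map_eq_self (hk.le.trans (zpowers_le.2 (a_mem _)))]
  have πb : ∀ B, bt (π.comp ι) (π n) B = π (bt ι n B) := fun B => by simp [bt_ap]
  have o3 : ∀ s : F, s ≠ 0 → orderOf (bt ι n (uM s)) = 3 := fun s hs =>
    orderOf_eq_prime (by rw [← map_pow, u_cube h3, map_one]) fun e =>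
      hs (pm.ap (Or.inl (b_inj w (e.trans (map_one _).symm))))
  have nab : ∀ {A : SL2 F} {s r : F}, s ≠ 0 → ι (A * uM s * A⁻¹) ≠ bt ι n (uM r) :=
    fun hs e => hs (pm.cj _ (h.ab e).1).ap
  have hX : (Ce (π (ι wM))).comap π ≤ H1 ι n := by
    have str : ∀ s : F, s ≠ 0 → ∀ g ∈ (Ce (π (ι wM))).comap π ⊓ Ce (bt ι n (uM s)),
        ∃ A r, (A * wM = wM * A ∨ A * wM = -(wM * A)) ∧ g = ι A * bt ι n (uM r) := by
      intro s hs g hg
      have e1 := mul_inv_eq_iff_eq_mul.2 (memC.1 hg.2)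
      rcases h.cases (se g _ (b_mem _) (o3 s hs) (e1.symm ▸ b_mem _)) with
        ⟨A, B, rfl⟩ | ⟨A, B, -, e2⟩
      · have e3 : π (ι (A * wM * A⁻¹)) = π (ι wM) := by
          rw [← h.cj_a A B, map_mul, map_mul, map_inv, memC.1 hg.1, mul_inv_cancel_right]
        have e4 : A * wM = wM * A ∨ A * wM = -(wM * A) := by
          rcases hπ e3 with a | a
          · exact Or.inl (mul_inv_eq_iff_eq_mul.1 (w.inj a))
          · rw [← map_mul, mul_neg_one] at a
            exact Or.inr ((mul_inv_eq_iff_eq_mul.1 (w.inj a)).trans (neg_mul _ _))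
        rw [h.cj_b] at e1
        obtain ⟨r, rfl | rfl⟩ := cen_u hs (mul_inv_eq_iff_eq_mul.1 (b_inj w e1))
        · exact ⟨A, r, e4, rfl⟩
        · exact ⟨-A, r, by simpa only [neg_mul, mul_neg, neg_inj] using e4, neg_swap w _ _⟩
      · exact absurd ((e2 _).symm.trans e1) (nab hs)
    have nU : ∀ g ∈ Nr (Uψ (bt ι n)), ∀ s, ∃ r, g * bt ι n (uM s) * g⁻¹ = bt ι n (uM r) :=
      fun g hg s => conj_mem_of_mem_normalizer hg ⟨s, rfl⟩
    have nH : Nr (Uψ (bt ι n)) ≤ H1 ι n := fun g hg => by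
      obtain ⟨r, e⟩ := nU g hg 1
      exact se g _ (b_mem _) (o3 1 one_ne_zero) (e ▸ b_mem _)
    refine abh G F (bt ι n) _ _ hF (b_inj w) ?_ ?_ ?_ (inf_le_right.trans nH) ?_
    · rintro _ ⟨B, rfl⟩
      exact memC.2 (by rw [← map_mul, ← map_mul, h.comm])
    · rintro _ ⟨B, rfl⟩
      exact b_mem B
    · rintro _ ⟨s, rfl⟩ h1
      have hs : s ≠ 0 := by rintro rfl; exact h1 (by rw [uM_zero, map_one])
      refine ⟨fun g hg => ?_, solv_of (T := (Ce wM).map ι) (commutator_le.2 fun a ha b hb => ?_) ?_,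
        fun g hg k e => ?_⟩
      · obtain ⟨A, r, -, rfl⟩ := str s hs g hg
        exact mul_mem (a_mem _) (b_mem _)
      · obtain ⟨A, r, a1, rfl⟩ := str s hs a ha
        obtain ⟨B, r', b1, rfl⟩ := str s hs b hb
        refine ⟨⁅A, B⁆, memC.2 (comm_pm a1 b1), ?_⟩
        have := map_commutatorElement (ι.noncommCoprod (bt ι n) h.comm) (A, uM r) (B, uM r')
        refine Eq.trans ?_ this
        change _ = ι ⁅A, B⁆ * bt ι n ⁅uM r, uM r'⁆
        rw [show ⁅uM r, uM r'⁆ = 1 from commutatorElement_eq_one_iff_mul_comm.2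
          (by rw [uM_mul, uM_mul, add_comm]), map_one, mul_one]
      · rintro _ ⟨A, hA, rfl⟩ _ ⟨B, hB, rfl⟩
        rw [← map_mul, comm_of_w (memC.1 hA) (memC.1 hB), map_mul]
      · obtain ⟨A, r, a1, rfl⟩ := str s hs g hg
        rw [(show Commute _ _ from h.comm _ _).mul_pow, ← map_pow, ← map_pow] at e
        have p1 := (h.ker _ _ e).1
        have p2 : pm A := by
          rcases a1 with a | a
          · exact pm_of_pow h3 k A a p1
          · have := p1.sq
            rw [← (Commute.refl A).mul_pow, anti_sq a, Odd.neg_one_pow (Odd.pow (by decide))] at this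
            exact absurd this.symm (one_ne_neg h2)
        rcases p2 with rfl | rfl
        · exact ⟨r, by rw [map_one, one_mul]⟩
        · exfalso
          rw [Odd.neg_one_pow (Odd.pow (by decide)), ← b_neg w, ← map_mul, ← map_one (bt ι n)] at e
          have := congrArg (· ^ 3) (b_inj w e)
          simp only [neg_mul, one_mul, one_pow] at this
          rw [Odd.neg_pow (by decide), ← pow_mul, mul_comm, pow_mul, u_cube h3, one_pow] at this
          exact one_ne_neg h2 this.symm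
    · rintro g hg _ ⟨s, rfl⟩ e
      by_contra h1
      have hs : s ≠ 0 := by rintro rfl; exact h1 (by rw [uM_zero, map_one])
      rw [← map_inv, uM_inv] at e
      rcases h.cases (nH hg.2) with ⟨A, B, rfl⟩ | ⟨A, B, -, e2⟩
      · rw [h.cj_b] at e
        exact no_inv hq hs (mul_inv_eq_iff_eq_mul.1 (b_inj w e))
      · exact nab hs ((e2 _).symm.trans e)
  have := top_of hq h3 (α := π.comp ι) (ν := π n) ⟨by rw [← map_mul, w.nn, map_one], fun A B => by
      rw [πb, MonoidHom.comp_apply, ← map_mul, h.comm, map_mul], fun A B e => by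
      rw [πb, MonoidHom.comp_apply, ← map_mul, ← map_one π] at e
      rcases hπ e with a | a
      · exact h.ker A B a
      · have := h.eq (C := -1) (D := 1) (by simpa using a)
        rw [inv_one, one_mul] at this
        refine ⟨?_, this.2⟩
        rcases this.1 with b | b
        · exact Or.inr (inv_mul_eq_one.1 b).symm
        · exact Or.inl (by rw [inv_mul_eq_iff_eq_mul.1 b]; simp)⟩ πt
    (fun x hx => by
      obtain ⟨g, rfl⟩ := hs x
      exact hM.2 (hX hx))
    (fun x hx => by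
      obtain ⟨g, rfl⟩ := hs x
      rw [MonoidHom.comp_apply, ← map_inv, ← map_mul, ← map_mul] at hx ⊢
      obtain ⟨A, a, e⟩ := sq_t w h2 (hM.1 hx) (by
        rw [conj_mul, ← map_mul, w_sq, hc, mul_inv_cancel_right])
      exact ⟨A, a, e.imp (congrArg π) fun e => (congrArg π e).trans (πb A).symm⟩)
    fun x y hy o e => by
      obtain ⟨g, rfl⟩ := hs x
      obtain ⟨y, rfl⟩ := hs y
      have y3 : π (y ^ 3) = π 1 := by rw [map_pow, ← o, pow_orderOf_eq_one, map_one]
      have y4 : π (y ^ 4) = π y := by rw [pow_succ, map_mul, y3, map_one, one_mul]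
      rw [← y4] at hy e
      rw [← map_inv, ← map_mul, ← map_mul] at e
      refine hM.2 (se g _ (hM.1 hy) (orderOf_eq_prime ?_ fun a => ?_) (hM.1 e))
      · rw [← pow_mul, show 4 * 3 = 3 * 2 * 2 from rfl, pow_mul, pow_mul, pow_two (y ^ 3)]
        rcases hπ y3 with a | a <;> rw [a] <;> simp [tt]
      · rw [← y4, a, map_one] at o
        simp at o
  exact eq_top_iff.2 fun g _ => hM.1 (this.ge (mem_top _))

end

theorem jobB3 : JobB3.{u, v} := by
  intro abh G _ _ F _ _ ι n hF w se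
  have h1 : ∀ A, ι A ∈ Ce (ι (-1)) := fun A => memC.2 (by rw [← map_mul, ← map_mul]; simp)
  have h2 : n ∈ Ce (ι (-1)) := memC.2 w.nt
  have e : (H1 (ι.codRestrict _ h1) ⟨n, h2⟩).map (Ce (ι (-1))).subtype = H1 ι n := map_H1 _
  have m : ∀ {y : Ce (ι (-1))}, y ∈ H1 (ι.codRestrict _ h1) ⟨n, h2⟩ ↔ (y : G) ∈ H1 ι n :=
    fun {y} => by rw [← e]; exact (mem_map_iff_mem (Ce (ι (-1))).subtype_injective).symm
  have := core (ι := ι.codRestrict _ h1) (n := ⟨n, h2⟩)
    ⟨fun A B a => w.inj (congrArg Subtype.val a), Subtype.ext w.nn, Subtype.ext w.nt,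
      fun A B => Subtype.ext (w.comm A B)⟩ abh hF (fun g => Subtype.ext (memC.1 g.2))
    fun g y hy o a => m.2 (se g g.2 y (m.1 hy) ((orderOf_coe y).trans o) (m.1 a))
  exact fun g hg => m.1 (this.ge (mem_top (⟨g, hg⟩ : Ce (ι (-1)))))

end H59.P4
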