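import Cfsg.Agent.H59.P4A
import Cfsg.Agent.H54.SpSimple
import Cfsg.Agent.H1.GBasic

/-! Blueprint `LOCAL3C.md`, job Model: the centraliser of a transvection in `PSp₄(q)`. -/

set_option autoImplicit false
set_option linter.unusedSectionVars false
set_option linter.unusedSimpArgs false

namespace H59.P4

open Cfsg Subgroup H47.P4C H56.L3 Matrix

universe u v

section Abs

variable {G : Type u} [Group G] {F : Type v} [Field F] {h : F → F → F → G} {ι : SL2 F →* G}

theorem memC' {x g : G} : g ∈ Ce x ↔ g * x = x * g := mem_centralizer_singleton_iff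

/-- `Cen` without the last field. -/
structure Cen0 (h : F → F → F → G) (ι : SL2 F →* G) : Prop where
  mul : ∀ a b c a' b' c', h a b c * h a' b' c' = h (a + a') (b + b') (c + c' + (a * b' - a' * b))
  act : ∀ (A : SL2 F) a b c, ι A * h a b c * (ι A)⁻¹ =
    h (A 0 0 * a + A 0 1 * b) (A 1 0 * a + A 1 1 * b) c
  inj : ∀ a b c A, h a b c * ι A = 1 → a = 0 ∧ b = 0 ∧ c = 0 ∧ A = 1

namespace Cen0

variable (κ : Cen0 h ι)
include κ

theorem one : h 0 0 0 = 1 := by
  have := κ.mul 0 0 0 0 0 0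
  simp only [add_zero, mul_zero, sub_zero] at this
  exact mul_left_cancel (this.trans (mul_one _).symm)

theorem inj' {a b c a' b' c' : F} (e : h a b c = h a' b' c') : a = a' ∧ b = b' ∧ c = c' := by
  have e1 : h a b c * h (-a') (-b') (-c') * ι 1 = 1 := by
    rw [e, κ.mul, map_one, mul_one, ← κ.one]; congr 1 <;> ring
  rw [κ.mul] at e1
  obtain ⟨h1, h2, h3, -⟩ := κ.inj _ _ _ _ e1
  have e2 : a = a' := by linear_combination h1
  have e3 : b = b' := by linear_combination h2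
  exact ⟨e2, e3, by rw [e2, e3] at h3; linear_combination h3⟩

theorem pow (a b c : F) (k : ℕ) : h a b c ^ k = h (k * a) (k * b) (k * c) := by
  induction k with
  | zero => simp [κ.one]
  | succ k ih => rw [pow_succ, ih, κ.mul]; congr 1 <;> push_cast <;> ring

theorem cz (a b c c' : F) (A : SL2 F) :
    h a b c * ι A * h 0 0 c' = h 0 0 c' * (h a b c * ι A) := by
  have := κ.act A 0 0 c'
  simp only [mul_zero, add_zero] at this
  rw [mul_assoc, mul_inv_eq_iff_eq_mul.1 this, ← mul_assoc, ← mul_assoc, κ.mul, κ.mul]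
  congr 2 <;> ring

theorem central (h2 : (2 : F) ≠ 0) {a b c : F} {A : SL2 F}
    (e : ∀ x y, h a b c * ι A * h x y 0 = h x y 0 * (h a b c * ι A)) : a = 0 ∧ b = 0 ∧ A = 1 := by
  have k : ∀ x y, A 0 0 * x + A 0 1 * y = x ∧ A 1 0 * x + A 1 1 * y = y ∧
      2 * (a * y - x * b) = 0 := fun x y => by
    have := e x y
    rw [mul_assoc, mul_inv_eq_iff_eq_mul.1 (κ.act A x y 0), ← mul_assoc, ← mul_assoc, κ.mul, κ.mul,
      mul_left_inj] at this
    obtain ⟨h1, h2, h3⟩ := κ.inj' this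
    have e1 : A 0 0 * x + A 0 1 * y = x := by linear_combination h1
    have e2 : A 1 0 * x + A 1 1 * y = y := by linear_combination h2
    rw [e1, e2] at h3
    exact ⟨e1, e2, by linear_combination h3⟩
  obtain ⟨a1, a2, a3⟩ := k 1 0
  obtain ⟨b1, b2, b3⟩ := k 0 1
  exact ⟨by simpa [h2] using b3, by simpa [h2] using a3, ext2 (by simpa using a1) (by simpa using b1)
    (by simpa using a2) (by simpa using b2)⟩

end Cen0

theorem transport {X : Type*} [Group X] {h₀ : F → F → F → X} {ι₀ : SL2 F →* X} (κ : Cen h₀ ι₀)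
    (h2 : (2 : F) ≠ 0) {c₀ : F} (hc : c₀ ≠ 0) {α : G} (h1 : α ≠ 1) (e : Ce α ≃* Ce (h₀ 0 0 c₀))
    (hb : ∀ z ∈ Ce α, z ≠ 1 → (∀ c ∈ Ce α, c * z = z * c) → Ce z = Ce α) :
    ∃ (h : F → F → F → G) (ι : SL2 F →* G) (c : F), Cen h ι ∧ c ≠ 0 ∧ α = h 0 0 c := by
  have κ0 : Cen0 h₀ ι₀ := ⟨κ.mul, κ.act, κ.inj⟩
  have m1 : ∀ a b c, h₀ a b c ∈ Ce (h₀ 0 0 c₀) := fun a b c =>
    (κ.cen c₀ hc _).2 ⟨a, b, c, 1, by simp⟩
  have m2 : ∀ A, ι₀ A ∈ Ce (h₀ 0 0 c₀) := fun A => (κ.cen c₀ hc _).2 ⟨0, 0, 0, A, by simp [κ.one]⟩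
  obtain ⟨f, fi, fm, fe⟩ : ∃ f : Ce (h₀ 0 0 c₀) →* G, Function.Injective f ∧ (∀ y, f y ∈ Ce α) ∧
      ∀ g : Ce α, f (e g) = g :=
    ⟨(Ce α).subtype.comp e.symm.toMonoidHom, (Ce α).subtype_injective.comp e.symm.injective,
      fun y => (e.symm y).2, fun g => congrArg Subtype.val (e.symm_apply_apply g)⟩
  have κ1 : Cen0 (fun a b c => f ⟨h₀ a b c, m1 a b c⟩) (f.comp (ι₀.codRestrict _ m2)) :=
    ⟨fun a b c a' b' c' => (map_mul f _ _).symm.trans (congrArg f (Subtype.ext (κ.mul ..))),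
      fun A a b c => by
        rw [MonoidHom.comp_apply, ← map_inv, ← map_mul, ← map_mul]
        exact congrArg f (Subtype.ext (κ.act ..)),
      fun a b c A e => κ.inj a b c A (congrArg Subtype.val
        (fi ((map_mul f _ _).trans (e.trans (map_one f).symm))))⟩
  have mem : ∀ g, g ∈ Ce α ↔ ∃ a b c A,
      g = f ⟨h₀ a b c, m1 a b c⟩ * f.comp (ι₀.codRestrict _ m2) A := fun g =>
    ⟨fun hg => by
      obtain ⟨a, b, c, A, e1⟩ := (κ.cen c₀ hc _).1 (e ⟨g, hg⟩).2
      refine ⟨a, b, c, A, ?_⟩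
      rw [MonoidHom.comp_apply, ← map_mul, show (⟨h₀ a b c, m1 a b c⟩ * ι₀.codRestrict _ m2 A :
        Ce (h₀ 0 0 c₀)) = e ⟨g, hg⟩ from Subtype.ext e1.symm, fe],
    by rintro ⟨a, b, c, A, rfl⟩; exact mul_mem (fm _) (fm _)⟩
  obtain ⟨a, b, c, A, e1⟩ := (mem α).1 (memC'.2 rfl)
  obtain ⟨rfl, rfl, rfl⟩ := κ1.central h2 (a := a) (b := b) (c := c) (A := A) fun x y => by
    rw [← e1]
    exact (memC'.1 (fm _)).symm
  rw [map_one, mul_one] at e1
  refine ⟨_, _, c, ⟨κ1.mul, κ1.act, κ1.inj, fun c' hc' g => ?_⟩, fun e => h1 ?_, e1⟩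
  · rw [hb _ (fm _) (fun e => hc' (κ1.inj' (e.trans κ1.one.symm)).2.2) fun g hg => by
      obtain ⟨a, b, c, A, rfl⟩ := (mem g).1 hg
      exact κ1.cz ..]
    exact mem g
  · rw [e1, e]
    exact κ1.one

end Abs

variable {F : Type v} [Field F]

/-- `Sp₄(F)` -/
abbrev Sp4 (F : Type v) [Field F] := symplecticGroup (Fin 2) F

/-- an element of the unipotent radical -/
def hM (a b c : F) : Sp4 F := ⟨fromBlocks !![1, -b; 0, 1] !![c, a; a, 0] 0 !![1, 0; b, 1], by
  rw [SymplecticGroup.mem_iff]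
  ext i j
  rcases i with i | i <;> rcases j with j | j <;> fin_cases i <;> fin_cases j <;>
    simp [J, mul_apply, Fintype.sum_sum_type, Fin.sum_univ_two]
  ring⟩

/-- the Levi factor -/
def ιM0 (A : SL2 F) : Sp4 F :=
  ⟨fromBlocks !![1, 0; 0, A 0 0] !![0, 0; 0, A 0 1] !![0, 0; 0, A 1 0] !![1, 0; 0, A 1 1], by
  rw [SymplecticGroup.mem_iff]
  have := det2 A
  ext i j
  rcases i with i | i <;> rcases j with j | j <;> fin_cases i <;> fin_cases j <;>
    simp [J, mul_apply, Fintype.sum_sum_type, Fin.sum_univ_two] <;>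
    first | ring1 | linear_combination this | linear_combination -this⟩

/-- the Levi factor -/
def ιM : SL2 F →* Sp4 F := MonoidHom.mk' ιM0 fun A B => Subtype.ext (by
  ext i j
  rcases i with i | i <;> rcases j with j | j <;> fin_cases i <;> fin_cases j <;>
    simp [ιM0, mul_ap, mul_apply, Fintype.sum_sum_type, Fin.sum_univ_two])

theorem ιM_val (A : SL2 F) : (ιM A).1 =
    fromBlocks !![1, 0; 0, A 0 0] !![0, 0; 0, A 0 1] !![0, 0; 0, A 1 0] !![1, 0; 0, A 1 1] := rfl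

theorem hM_mul (a b c a' b' c' : F) :
    hM a b c * hM a' b' c' = hM (a + a') (b + b') (c + c' + (a * b' - a' * b)) := Subtype.ext (by
  ext i j
  rcases i with i | i <;> rcases j with j | j <;> fin_cases i <;> fin_cases j <;>
    simp [hM, mul_apply, Fintype.sum_sum_type, Fin.sum_univ_two] <;> ring1)

theorem hM_act (A : SL2 F) (a b c : F) : ιM A * hM a b c * (ιM A)⁻¹ =
    hM (A 0 0 * a + A 0 1 * b) (A 1 0 * a + A 1 1 * b) c := mul_inv_eq_iff_eq_mul.2 (Subtype.ext (by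
  have := det2 A
  ext i j
  rcases i with i | i <;> rcases j with j | j <;> fin_cases i <;> fin_cases j <;>
    simp [hM, ιM_val, mul_apply, Fintype.sum_sum_type, Fin.sum_univ_two] <;>
    first | ring1 | linear_combination b * this | linear_combination -b * this |
      linear_combination a * this | linear_combination -a * this))

theorem hι_val (a b c : F) (A : SL2 F) : (hM a b c * ιM A).1 =
    fromBlocks !![1, a * A 1 0 - b * A 0 0; 0, A 0 0] !![c, a * A 1 1 - b * A 0 1; a, A 0 1]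
      !![0, 0; 0, A 1 0] !![1, 0; b, A 1 1] := by
  ext i j
  rcases i with i | i <;> rcases j with j | j <;> fin_cases i <;> fin_cases j <;>
    simp [hM, ιM_val, mul_apply, Fintype.sum_sum_type, Fin.sum_univ_two] <;> ring1

theorem cen0_sp : Cen0 (hM (F := F)) ιM := ⟨hM_mul, hM_act, fun a b c A e => by
  have h := fun i j => congrFun (congrFun ((hι_val a b c A).symm.trans (congrArg Subtype.val e)) i) j
  exact ⟨by simpa using h (.inl 1) (.inr 0), by simpa using h (.inr 1) (.inr 0),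
    by simpa using h (.inl 0) (.inr 0), ext2 (by simpa using h (.inl 1) (.inl 1))
      (by simpa using h (.inl 1) (.inr 1)) (by simpa using h (.inr 1) (.inl 1))
      (by simpa using h (.inr 1) (.inr 1))⟩⟩

theorem stab1 {g : Sp4 F} (h0 : g.1 (.inl 0) (.inl 0) = 1) (h1 : g.1 (.inl 1) (.inl 0) = 0)
    (h2 : g.1 (.inr 0) (.inl 0) = 0) (h3 : g.1 (.inr 1) (.inl 0) = 0)
    (h4 : g.1 (.inr 0) (.inl 1) = 0) (h5 : g.1 (.inr 0) (.inr 0) = 1)
    (h6 : g.1 (.inr 0) (.inr 1) = 0) : ∃ a b c A, g = hM a b c * ιM A := by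
  have h := fun i j => congrFun (congrFun (SymplecticGroup.mem_iff'.1 g.2) i) j
  have a1 := h (.inl 1) (.inr 1)
  have a2 := h (.inl 1) (.inr 0)
  have a3 := h (.inr 1) (.inr 0)
  simp [J, mul_apply, Fintype.sum_sum_type, Fin.sum_univ_two, h0, h1, h2, h3, h4, h5, h6] at a1 a2 a3
  obtain ⟨A, p1, p2, p3, p4⟩ : ∃ A : SL2 F, A 0 0 = g.1 (.inl 1) (.inl 1) ∧
      A 0 1 = g.1 (.inl 1) (.inr 1) ∧ A 1 0 = g.1 (.inr 1) (.inl 1) ∧
      A 1 1 = g.1 (.inr 1) (.inr 1) :=
    ⟨⟨!![g.1 (.inl 1) (.inl 1), g.1 (.inl 1) (.inr 1); g.1 (.inr 1) (.inl 1),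
      g.1 (.inr 1) (.inr 1)], by rw [det_fin_two_of]; linear_combination -a1⟩, rfl, rfl, rfl, rfl⟩
  refine ⟨g.1 (.inl 1) (.inr 0), g.1 (.inr 1) (.inr 0), g.1 (.inl 0) (.inr 0), A, Subtype.ext ?_⟩
  rw [hι_val, p1, p2, p3, p4]
  ext i j
  rcases i with i | i <;> rcases j with j | j <;> fin_cases i <;> fin_cases j <;>
    simp [h0, h1, h2, h3, h4, h5, h6]
  · linear_combination -a2
  · linear_combination -a3

theorem stab {g : Sp4 F} {c : F} (hc : c ≠ 0) (e : g * hM 0 0 c = hM 0 0 c * g) :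
    ∃ a b c' A, g = hM a b c' * ιM A ∨ H54.spNegOne _ F * g = hM a b c' * ιM A := by
  have h := fun i j => congrFun (congrFun (congrArg Subtype.val e) i) j
  have a0 := h (.inl 0) (.inr 0)
  have a1 := h (.inl 1) (.inr 0)
  have a2 := h (.inr 0) (.inr 0)
  have a3 := h (.inr 1) (.inr 0)
  have a4 := h (.inl 0) (.inl 1)
  have a6 := h (.inl 0) (.inr 1)
  simp [hM, mul_apply, Fintype.sum_sum_type, Fin.sum_univ_two, hc] at a0 a1 a2 a3 a4 a6
  have a5 : g.1 (.inr 0) (.inr 0) = g.1 (.inl 0) (.inl 0) :=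
    mul_left_cancel₀ hc (by linear_combination -a0)
  have b := congrFun (congrFun (SymplecticGroup.mem_iff'.1 g.2) (.inl 0)) (.inr 0)
  simp [J, mul_apply, Fintype.sum_sum_type, Fin.sum_univ_two, a1, a2, a3, a5] at b
  rcases mul_self_eq_one_iff.1 b with b | b
  · obtain ⟨a, b, c', A, e⟩ := stab1 b a1 a2 a3 a4 (a5.trans b) a6
    exact ⟨a, b, c', A, Or.inl e⟩
  · obtain ⟨a, b, c', A, e⟩ := stab1 (g := H54.spNegOne _ F * g) (by simp [H54.spNegOne_coe, b])
      (by simp [H54.spNegOne_coe, a1]) (by simp [H54.spNegOne_coe, a2])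
      (by simp [H54.spNegOne_coe, a3]) (by simp [H54.spNegOne_coe, a4])
      (by simp [H54.spNegOne_coe, a5, b]) (by simp [H54.spNegOne_coe, a6])
    exact ⟨a, b, c', A, Or.inr e⟩

/-- the projection -/
abbrev pr (F : Type v) [Field F] : Sp4 F →* PSp 2 F := QuotientGroup.mk' _

theorem pr_neg : pr F (H54.spNegOne _ F) = 1 :=
  (QuotientGroup.eq_one_iff _).2 H54.spNegOne_mem_center

theorem pr_eq {x y : Sp4 F} (e : pr F x = pr F y) : x = y ∨ x = y * H54.spNegOne _ F := by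
  rcases H54.mem_center_sp_iff.1 (QuotientGroup.eq.1 e.symm) with a | a
  · exact Or.inl (inv_mul_eq_one.1 a).symm
  · exact Or.inr (inv_mul_eq_iff_eq_mul.1 a)

theorem lift_comm {p : ℕ} (ho : Odd p) (hp : (p : F) = 0) (h2 : (2 : F) ≠ 0) {X : Sp4 F}
    {a b c : F} (e : pr F X * pr F (hM a b c) = pr F (hM a b c) * pr F X) :
    X * hM a b c = hM a b c * X := by
  have h1 : hM a b c ^ p = 1 := by rw [cen0_sp.pow, hp]; simp [cen0_sp.one]
  rw [← mul_inv_eq_iff_eq_mul, ← map_inv, ← map_mul, ← map_mul] at e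
  rcases pr_eq e with e | e
  · exact mul_inv_eq_iff_eq_mul.1 e
  · exfalso
    have := congrArg (· ^ p) e
    obtain ⟨k, rfl⟩ := ho
    simp only [conj_pow, h1, mul_one, mul_inv_cancel] at this
    rw [(show Commute _ _ from mem_center_iff.1 H54.spNegOne_mem_center _).mul_pow, h1, one_mul,
      pow_succ, pow_mul, pow_two, H54.spNegOne_mul_self, one_pow, one_mul] at this
    exact h2 (H54.spNegOne_eq_one_iff.1 this.symm)

theorem cen_psp {p : ℕ} (ho : Odd p) (hp : (p : F) = 0) (h2 : (2 : F) ≠ 0) :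
    Cen (fun a b c => pr F (hM a b c)) ((pr F).comp ιM) := by
  refine ⟨fun a b c a' b' c' => by rw [← map_mul, hM_mul], fun A a b c => by
    rw [MonoidHom.comp_apply, ← map_inv, ← map_mul, ← map_mul, hM_act], fun a b c A e => ?_,
    fun c hc g => ⟨fun hg => ?_, ?_⟩⟩
  · rw [MonoidHom.comp_apply, ← map_mul, ← map_one (pr F)] at e
    rcases pr_eq e with e | e
    · exact cen0_sp.inj _ _ _ _ e
    · have := congrFun (congrFun ((hι_val a b c A).symm.trans (congrArg Subtype.val e)) (.inl 0))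
        (.inl 0)
      simp [H54.spNegOne_coe] at this
      exact absurd (by linear_combination this) h2
  · obtain ⟨X, rfl⟩ := QuotientGroup.mk'_surjective _ g
    obtain ⟨a, b, c', A, e | e⟩ := stab hc (lift_comm ho hp h2 (memC'.1 hg))
    · exact ⟨a, b, c', A, by rw [e, map_mul]; rfl⟩
    · exact ⟨a, b, c', A, by
        rw [MonoidHom.comp_apply, ← map_mul, ← e, map_mul, pr_neg, one_mul]⟩
  · rintro ⟨a, b, c', A, rfl⟩
    exact memC'.2 (by
      rw [MonoidHom.comp_apply, ← map_mul, ← map_mul, cen0_sp.cz, map_mul])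

theorem jobModel : JobModel.{u, v} := by
  rintro G _ F _ _ p hp x Px α p2 hF x1 hx hc h1 ⟨e⟩ hb
  have ho : Odd p := hp.out.odd_of_ne_two p2
  have h2 : (2 : F) ≠ 0 := fun a => by
    obtain ⟨k, rfl⟩ := ho
    push_cast at hF
    rw [a, zero_mul, zero_add] at hF
    exact one_ne_zero hF
  have κ := cen_psp ho hF h2
  obtain ⟨g, -, hg⟩ := (H98.isSyl_sylow Px).exists_cj_le (Q := κ.Q) (H98.isPGroup_iff_forall.2 (by
    rintro _ ⟨a, b, c, rfl⟩
    exact ⟨1, by rw [pow_one, ← map_pow, cen0_sp.pow, hF]; simp [cen0_sp.one]⟩)) le_top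
  obtain ⟨X, hX⟩ := QuotientGroup.mk'_surjective _ (g⁻¹ * x * g)
  have k : ∀ a b c, X * hM a b c = hM a b c * X := fun a b c => lift_comm ho hF h2 (by
    have := hc _ (hg (H98.conj_mem_cj ⟨a, b, c, rfl⟩))
    rw [hX, show ∀ y, g⁻¹ * x * g * y = g⁻¹ * (x * (g * y * g⁻¹)) * g from fun y => by group,
      ← this]
    group)
  obtain ⟨c, e1⟩ : ∃ c, g⁻¹ * x * g = pr F (hM 0 0 c) := by
    obtain ⟨a, b, c, A, e | e⟩ := stab one_ne_zero (k 0 0 1)
    · obtain ⟨rfl, rfl, rfl⟩ := cen0_sp.central h2 fun x y => e ▸ k x y 0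
      exact ⟨c, by rw [← hX, e, map_one, mul_one]⟩
    · obtain ⟨rfl, rfl, rfl⟩ := cen0_sp.central h2 (a := a) (b := b) (c := c) (A := A)
        fun x y => by
          rw [← e, mul_assoc, k, ← mul_assoc, ← mem_center_iff.1 H54.spNegOne_mem_center, mul_assoc]
      rw [map_one, mul_one] at e
      exact ⟨c, by rw [← hX, ← e, map_mul, pr_neg, one_mul]⟩
  refine transport κ h2 (c₀ := c) (fun a => x1 ?_) h1 (e.trans
    ((equivMapOfInjective _ (MulAut.conj g⁻¹).toMonoidHom (MulAut.conj g⁻¹).injective).trans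
      (MulEquiv.subgroupCongr ?_))) hb
  · rw [a, cen0_sp.one, map_one] at e1
    rw [show x = g * (g⁻¹ * x * g) * g⁻¹ by group, e1]
    simp
  · rw [← e1]
    exact (H1.Gold.cj_cen1 g⁻¹ x).trans (by rw [inv_inv])

end H59.P4
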