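import Cfsg.Agent.H59.P4M
import Cfsg.Agent.H98.Sylow

/-! Blueprint `LOCAL3C.md`, section `PSp₄(q)`: from the row hypotheses to the interface. -/

set_option autoImplicit false
set_option linter.unusedSectionVars false

namespace H59.P4

open Cfsg Subgroup H47.P4C H56.L3 H98

universe u v

variable {G : Type u} [Group G] [Finite G] {F : Type v} [Field F] [Fintype F]
  {h : F → F → F → G} {ι : SL2 F →* G} {p : ℕ} [hp : Fact p.Prime]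

theorem cast_zero {n : ℕ} (hn : 1 ≤ n) (hF : Fintype.card F = p ^ n) : (p : F) = 0 := by
  have := FiniteField.cast_card_eq_zero F
  rw [hF] at this
  push_cast at this
  exact pow_eq_zero_iff (by omega) |>.1 this

theorem two_ne' (p2 : p ≠ 2) (hF : (p : F) = 0) : (2 : F) ≠ 0 := fun a => by
  obtain ⟨k, rfl⟩ := hp.out.odd_of_ne_two p2
  push_cast at hF
  rw [a, zero_mul, zero_add] at hF
  exact one_ne_zero hF

theorem ce_eq (κ : Cen h ι) {c : F} (hc : c ≠ 0) : Ce (h 0 0 c) = κ.C := Subgroup.ext (κ.cen c hc)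

theorem sylP {κ : Cen h ι} (l : Loc κ p) : IsSyl p κ.P ⊤ :=
  isSyl_of_not_dvd_relIndex le_top l.pP (by rw [relIndex_top_right]; exact l.syl)

theorem central_conj {κ : Cen h ι} (l : Loc κ p) (h2 : (2 : F) ≠ 0) (P : Sylow p G) {u : G}
    (hu : u ∈ (P : Subgroup G)) (hc : ∀ y ∈ (P : Subgroup G), y * u = u * y) (h1 : orderOf u = p) :
    ∃ x, x ≠ 0 ∧ IsConj u (h 0 0 x) := by
  obtain ⟨g, -, e⟩ := (isSyl_sylow P).exists_cj_eq (sylP l)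
  obtain ⟨a, b, c, s, e1⟩ := e.le (conj_mem_cj hu)
  obtain ⟨rfl, rfl, e2⟩ := Cen0.central ⟨κ.mul, κ.act, κ.inj⟩ h2 (a := a) (b := b) (c := c)
    (A := uM s) fun x y => by
      obtain ⟨z, hz, e3⟩ := e.ge (show h x y 0 ∈ κ.P from ⟨x, y, 0, 0, by simp [uM_zero]⟩)
      rw [← e1, ← e3]
      change g * u * g⁻¹ * (g * z * g⁻¹) = g * z * g⁻¹ * (g * u * g⁻¹)
      rw [conj_mul, conj_mul, hc z hz]
  rw [e2, map_one, mul_one] at e1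
  refine ⟨c, fun a => ?_, isConj_iff.2 ⟨g, e1⟩⟩
  rw [a, κ.one] at e1
  rw [show u = 1 by simpa using e1, orderOf_one] at h1
  exact hp.out.ne_one h1.symm

theorem twoCl {κ : Cen h ι} (l : Loc κ p) (h2 : (2 : F) ≠ 0) (P Q : Sylow p G) {u w : G}
    (h1 : orderOf u = p) (h1' : orderOf w = p) (hu : u ∈ (P : Subgroup G))
    (hw : w ∈ (Q : Subgroup G)) (hc : ∀ y ∈ (P : Subgroup G), y * u = u * y)
    (hc' : ∀ y ∈ (Q : Subgroup G), y * w = w * y) (hn : ¬ IsConj u w) : TwoCl h := by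
  obtain ⟨x, hx, e⟩ := central_conj l h2 P hu hc h1
  obtain ⟨y, hy, e'⟩ := central_conj l h2 Q hw hc' h1'
  exact ⟨x, y, hx, hy, fun a => hn ((e.trans a).trans e'.symm)⟩

theorem exists_cj {κ : Cen h ι} (l : Loc κ p) (P : Sylow p G) {M : Subgroup G} (hM : M ≤ P)
    (hc : ∀ a ∈ M, ∀ b ∈ M, a * b = b * a) (hcard : Nat.card M = Fintype.card F ^ 3) :
    ∃ g, cj g κ.P = P ∧ cj g κ.M = M := by
  obtain ⟨g, -, e⟩ := (isSyl_sylow P).exists_cj_eq (sylP l)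
  refine ⟨g⁻¹, by rw [← e, cj_inv_cj], ?_⟩
  rw [← l.ab (cj g M) (e ▸ cj_mono g hM) (by
    rintro _ ⟨a, ha, rfl⟩ _ ⟨b, hb, rfl⟩
    rw [← map_mul, hc a ha b hb, map_mul]) (by rw [card_cj, hcard]), cj_inv_cj]

theorem w3324 (loc : JobLoc.{u, v}) (s1 : JobSg1.{u, v}) (s2 : JobSg2.{u, v}) (s3 : JobSg3.{u, v})
    (n : ℕ) (p2 : p ≠ 2) (hn : 1 ≤ n) (hq4 : p ^ n % 4 = 3) (hF : Fintype.card F = p ^ n)
    (x : PSp 2 F) (hx : orderOf x = p) (Px : Sylow p (PSp 2 F))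
    (hxP : x ∈ (Px : Subgroup (PSp 2 F))) (hxc : ∀ y ∈ (Px : Subgroup (PSp 2 F)), y * x = x * y)
    (α : G) (hα : orderOf α = p) (e : Ce α ≃* Ce x)
    (hb : ∀ z ∈ Ce α, z ≠ 1 → (∀ c ∈ Ce α, c * z = z * c) → Ce z = Ce α)
    (hc : ∃ (u v : G) (Pu Pv : Sylow p G), orderOf u = p ∧ orderOf v = p ∧
      u ∈ (Pu : Subgroup G) ∧ (∀ y ∈ (Pu : Subgroup G), y * u = u * y) ∧
      v ∈ (Pv : Subgroup G) ∧ (∀ y ∈ (Pv : Subgroup G), y * v = v * y) ∧ ∀ g : G, g * u * g⁻¹ ≠ v)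
    (P : Sylow p G) (M : Subgroup G) (hMP : M ≤ P) (hMc : IsMulCommutative M)
    (hMcard : Nat.card M = p ^ (3 * n)) (hnc : ∃ Q R : Sylow p (Nr M), Q ≠ R) :
    ∃ J : Subgroup G, J ≤ Nr M ∧ M ⊔ J = Nr M ∧ M ⊓ J = ⊥ ∧
      Nonempty (J ≃* (Matrix.ProjGenLinGroup (Fin 2) F × Multiplicative (ZMod ((p ^ n - 1) / 2)))) := by
  have h0 := cast_zero hn hF
  obtain ⟨h, ι, c, κ, -, -⟩ := jobModel G F p x Px α p2 h0
    (by rintro rfl; exact hp.out.ne_one (hx.symm.trans orderOf_one)) hxP hxc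
    (by rintro rfl; exact hp.out.ne_one (hα.symm.trans orderOf_one)) ⟨e⟩ hb
  have l := loc G F p h ι κ p2 h0
  obtain ⟨u, w, Pu, Pw, a1, a2, a3, a4, a5, a6, a7⟩ := hc
  have tw := twoCl l (two_ne' p2 h0) Pu Pw a1 a2 a3 a5 a4 a6 fun a =>
    let ⟨g, hg⟩ := isConj_iff.1 a; a7 g hg
  obtain ⟨g, e1, rfl⟩ := exists_cj l P hMP
    (fun a ha b hb => congrArg Subtype.val (hMc.is_comm.comm ⟨a, ha⟩ ⟨b, hb⟩))
    (by rw [hMcard, hF, ← pow_mul, mul_comm])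
  have hB : ¬ Nr κ.M ≤ Nr κ.Z := fun a => by
    obtain ⟨Q, R, hne⟩ := hnc
    have b1 : Nr (cj g κ.M) ≤ Nr (P : Subgroup G) := by
      rw [← e1, Nr, Nr, ← cj_normalizer, ← cj_normalizer]
      exact cj_mono g ((le_inf le_rfl a).trans l.nMZ)
    have b2 : (P : Subgroup G) ≤ Nr (cj g κ.M) := by
      rw [← e1, Nr, ← cj_normalizer]
      exact cj_mono g (le_normalizer.trans (l.nP.trans inf_le_left))
    have k : ∀ Q : Sylow p (Nr (cj g κ.M)), (Q : Subgroup _).map (Nr (cj g κ.M)).subtype = P :=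
      fun Q => (isSyl_sylow P).eq_of_le (isSyl_map_subtype Q).isPGroup
        ((isSyl_map_subtype Q).le_of_le_normalizer P.isPGroup' b2
          ((isSyl_map_subtype Q).le.trans b1)) le_top
    exact hne (Sylow.ext (map_injective (Nr (cj g κ.M)).subtype_injective ((k Q).trans (k R).symm)))
  rw [← hF] at hq4 ⊢
  obtain ⟨g1, hg1⟩ := s1 G F p h ι κ h0 hq4 l tw hB
  obtain ⟨n1, hn1⟩ := s2 G F p h ι κ g1 h0 hq4 l tw hg1
  obtain ⟨J, j1, j2, j3, ⟨j4⟩⟩ := s3 G F p h ι κ n1 h0 hq4 l hn1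
  refine ⟨cj g J, ?_, ?_, by rw [← cj_inf, j3, cj_bot],
    ⟨(equivMapOfInjective J _ (MulAut.conj g).injective).symm.trans j4⟩⟩
  · rw [Nr, ← cj_normalizer]; exact cj_mono g j1
  · rw [Nr, ← cj_normalizer, ← cj_sup, j2]

omit hp in
theorem model3 {m : ℕ} (hm1 : 1 < m) (hF : Fintype.card F = 3 ^ m) (U : Sylow 3 (PSp 2 F))
    {x : PSp 2 F} (hx : orderOf x = 3) (hxU : x ∈ (U : Subgroup (PSp 2 F)))
    (hxc : ∀ u ∈ (U : Subgroup (PSp 2 F)), u * x = x * u) {α : G} (hα : orderOf α = 3)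
    (e : Ce α ≃* Ce x) (hb : ∀ z : G, z ≠ 1 → z ∈ Ce α → (∀ c ∈ Ce α, c * z = z * c) → Ce z = Ce α) :
    ∃ (h : F → F → F → G) (ι : SL2 F →* G) (κ : Cen h ι), Ce α = κ.C := by
  have : Fact (Nat.Prime 3) := ⟨Nat.prime_three⟩
  obtain ⟨h, ι, c, κ, hc, rfl⟩ := jobModel G F 3 x U α (by norm_num) (cast_zero hm1.le hF)
    (by rintro rfl; simp at hx) hxU hxc (by rintro rfl; simp at hα) ⟨e⟩ fun z a b => hb z b a
  exact ⟨h, ι, κ, ce_eq κ hc⟩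

omit hp in
theorem w3302 (loc : JobLoc.{u, v})
    (cT : ∀ (h : F → F → F → G) (ι : SL2 F →* G) (κ : Cen h ι), Fld F → Nr κ.M ≤ Nr κ.Z → κ.C.Normal)
    (m : ℕ) (hm : Odd m) (hm1 : 1 < m) (hF : Fintype.card F = 3 ^ m) (U : Sylow 3 (PSp 2 F))
    (x : PSp 2 F) (hx : orderOf x = 3) (hxU : x ∈ (U : Subgroup (PSp 2 F)))
    (hxc : ∀ u ∈ (U : Subgroup (PSp 2 F)), u * x = x * u) (α : G) (hα : orderOf α = 3)
    (e : Ce α ≃* Ce x) (hb : ∀ z : G, z ≠ 1 → z ∈ Ce α → (∀ c ∈ Ce α, c * z = z * c) → Ce z = Ce α)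
    (P : Sylow 3 G) (M : Subgroup G) (hMP : M ≤ (P : Subgroup G))
    (hc : ∀ a ∈ M, ∀ b ∈ M, a * b = b * a) (hMcard : Nat.card M = 3 ^ (3 * m))
    (hB : Nr M ≤ Nr (P : Subgroup G)) :
    (∀ g : G, ∃ c k : G, c ∈ centralizer {z : G | z ∈ Ce α ∧ ∀ c' ∈ Ce α, c' * z = z * c'} ∧
      k ∈ Nr M ∧ g = c * k) ∧ (Ce α).Normal := by
  have : Fact (Nat.Prime 3) := ⟨Nat.prime_three⟩
  obtain ⟨h, ι, κ, e1⟩ := model3 hm1 hF U hx hxU hxc hα e hb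
  have l := loc G F 3 h ι κ (by norm_num) (cast_zero hm1.le hF)
  obtain ⟨g, e2, rfl⟩ := exists_cj l P hMP hc (by rw [hMcard, hF, ← pow_mul, mul_comm])
  rw [← e2, Nr, Nr, ← cj_normalizer, ← cj_normalizer, cj_le_cj_iff] at hB
  have nC := cT h ι κ ⟨m, hm, hm1, hF⟩ (hB.trans (l.nP.trans inf_le_right))
  rw [e1]
  refine ⟨fun y => ?_, nC⟩
  have k : IsSyl 3 (cj g κ.P) κ.C := ((sylP l).of_le (K := κ.C)
    (by rintro _ ⟨a, b, c, s, rfl⟩; exact ⟨a, b, c, _, rfl⟩) le_top).cj_of_mem_normalizer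
      (le_normalizer_of_normal (mem_top g))
  obtain ⟨a, ha, n, hn, rfl⟩ := k.frattini_mem (le_normalizer_of_normal (mem_top y))
  refine ⟨a * n * a⁻¹, a, fun z hz => (hz.2 _ (nC.conj_mem n hn a)).symm, ?_, by group⟩
  rw [← cj_normalizer] at ha
  rw [Nr, ← cj_normalizer]
  exact cj_mono g (l.nP.trans inf_le_left) ha

omit hp in
theorem w3241 (loc : JobLoc.{u, v})
    (cT : ∀ (h : F → F → F → G) (ι : SL2 F →* G) (κ : Cen h ι), Fld F → Nr κ.M ≤ Nr κ.Z → κ.C.Normal)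
    (cB : ∀ (h : F → F → F → G) (ι : SL2 F →* G) (κ : Cen h ι), Fld F → TwoCl h →
      ¬ Nr κ.M ≤ Nr κ.Z → Nonempty (G ≃* PSp 2 F))
    (m : ℕ) (hm : Odd m) (hm1 : 1 < m) (hF : Fintype.card F = 3 ^ m) (U : Sylow 3 (PSp 2 F))
    (x : PSp 2 F) (hx : orderOf x = 3) (hxU : x ∈ (U : Subgroup (PSp 2 F)))
    (hxc : ∀ u ∈ (U : Subgroup (PSp 2 F)), u * x = x * u) (α : G) (hα : orderOf α = 3)
    (e : Ce α ≃* Ce x) (hb : ∀ z : G, z ≠ 1 → z ∈ Ce α → (∀ c ∈ Ce α, c * z = z * c) → Ce z = Ce α)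
    (hc : ∃ (P Q : Sylow 3 G) (a b : G), orderOf a = 3 ∧ orderOf b = 3 ∧ a ∈ (P : Subgroup G) ∧
      b ∈ (Q : Subgroup G) ∧ (∀ p ∈ (P : Subgroup G), p * a = a * p) ∧
      (∀ q ∈ (Q : Subgroup G), q * b = b * q) ∧ ¬ IsConj a b) :
    (Ce α).Normal ∨ Nonempty (G ≃* PSp 2 F) := by
  have : Fact (Nat.Prime 3) := ⟨Nat.prime_three⟩
  obtain ⟨h, ι, κ, e1⟩ := model3 hm1 hF U hx hxU hxc hα e hb
  have h0 := cast_zero hm1.le hF
  have l := loc G F 3 h ι κ (by norm_num) h0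
  obtain ⟨P, Q, a, b, a1, a2, a3, a4, a5, a6, a7⟩ := hc
  by_cases hB : Nr κ.M ≤ Nr κ.Z
  · exact Or.inl (e1 ▸ cT h ι κ ⟨m, hm, hm1, hF⟩ hB)
  · exact Or.inr (cB h ι κ ⟨m, hm, hm1, hF⟩
      (twoCl l (two_ne' (by norm_num) h0) P Q a1 a2 a3 a4 a5 a6 a7) hB)

end H59.P4
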