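import Cfsg.Agent.H58.QE3
import Cfsg.Agent.H63.QeKit
import Cfsg.Agent.H86.AltAut
import Cfsg.Agent.H49.DCov
import Cfsg.Agent.H76.AREQ1
import Cfsg.Agent.S0254
import Cfsg.Agent.S5057

/-! Tower QE, job `JobA8`: permutation lemmas and the facts about `A_6`. -/

set_option autoImplicit false

namespace H59.A8

open Cfsg Subgroup H14 H98 H36.QE Equiv Equiv.Perm
open H14.CO (cen cen1 nor cm Tw mem_cen mem_cen1)

universe v

section Perm

variable {α : Type} [Fintype α] [DecidableEq α]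

omit [DecidableEq α] in
theorem fix_of_comm {σ f : Perm α} (hσ : σ * σ = 1) (hf : f.IsCycle) (ho : Odd (orderOf f))
    (hc : σ * f = f * σ) {x : α} (hx : f x ≠ x) : σ x = x := by
  have hc' : Commute σ f := hc
  have h1 : f (σ x) ≠ σ x := fun e => hx (σ.injective (by
    rw [← e]; exact DFunLike.congr_fun hc x))
  obtain ⟨k, hk⟩ := hf.exists_pow_eq hx h1
  have h2 : (f ^ (k * 2)) x = x := by
    rw [mul_two, pow_add, Perm.mul_apply, hk, ← Perm.mul_apply, ← (hc'.pow_right k).eq, Perm.mul_apply,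
      hk, ← Perm.mul_apply, hσ, Perm.one_apply]
  have h3 := orderOf_dvd_of_pow_eq_one ((hf.pow_eq_one_iff' hx).2 h2)
  rw [← hk, orderOf_dvd_iff_pow_eq_one.1
    ((Nat.coprime_two_right.2 ho).dvd_of_dvd_mul_right h3), Perm.one_apply]

theorem exists_prime {G : Type*} [Group G] [Finite G] {L H : Subgroup G} (hL : CP L H) {p q : ℕ}
    (hp : p.Prime) (hq : q.Prime) : ∃ r : ℕ, r.Prime ∧ r ≠ p ∧ r ≠ q ∧ ∃ x ∈ L, orderOf x = r := by
  by_contra h
  refine not_cp_of_solvable (H29.isSolvable_of_prime_dvd_card hp hq fun r hr hd => ?_)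
    (hL.of_le le_rfl hL.le)
  by_contra h1
  have := Fact.mk hr
  obtain ⟨x, hx⟩ := exists_prime_orderOf_dvd_card' r hd
  exact h ⟨r, hr, fun e => h1 (.inl e), fun e => h1 (.inr e), x, x.2, (orderOf_coe x).trans hx⟩

theorem fix_iff {σ : Perm α} {x : alternatingGroup α} :
    x ∈ H36.QE.Fix (MulAut.conjNormal σ) ↔ σ * x = x * σ := by
  rw [mem_Fix, Subtype.ext_iff, MulAut.conjNormal_apply, mul_inv_eq_iff_eq_mul]

theorem support_small (h9 : Fintype.card α ≤ 9) {σ : Perm α} (hσ : σ * σ = 1)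
    {L : Subgroup (alternatingGroup α)} (hL : CP L (Fix (MulAut.conjNormal σ))) :
    σ.support.card + 5 ≤ Fintype.card α := by
  obtain ⟨r, hr, h2, h3, x, hx, ho⟩ := exists_prime hL Nat.prime_two Nat.prime_three
  have h5 : 5 ≤ r := hr.five_le_of_ne_two_of_ne_three h2 h3
  rw [← orderOf_coe] at ho
  have hc : (x : Perm α).IsCycle := isCycle_of_prime_order' (ho ▸ hr) (by omega)
  have hd : Disjoint σ.support (x : Perm α).support := Finset.disjoint_left.2 fun y h6 h7 =>
    mem_support.1 h6 (fix_of_comm hσ hc (ho ▸ hr.odd_of_ne_two h2) (fix_iff.1 (hL.le hx))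
      (mem_support.1 h7))
  have h8 := Finset.card_le_univ (σ.support ∪ (x : Perm α).support)
  rw [Finset.card_union_of_disjoint hd, ← hc.orderOf] at h8
  omega

theorem dt {s t : Perm α} (hs : s.IsSwap) (ht : t.IsSwap) (h2 : s * t * (s * t) = 1) (h1 : s * t ≠ 1) :
    (s * t).cycleType = Multiset.replicate 2 2 ∧ (s * t).support.card = 4 := by
  have h3 := H76.AR.four_dvd h2 (by rw [map_mul, hs.sign_eq, ht.sign_eq]; rfl)
  have h4 := (Finset.card_le_card (support_mul_le s t)).trans (Finset.card_union_le _ _)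
  rw [card_support_eq_two.2 hs, card_support_eq_two.2 ht] at h4
  have h5 : (s * t).support.card ≠ 0 := fun e => h1 (card_support_eq_zero.1 e)
  obtain ⟨k, h6, h7, -⟩ := H76.AR.ct_inv h2
  obtain rfl : k = 2 := by omega
  exact ⟨h6, h7⟩

theorem order_le (h8 : Fintype.card α ≤ 8) {g : alternatingGroup α} (h : Tw g) : orderOf g ≤ 8 := by
  obtain ⟨n, hn⟩ := h
  rw [← orderOf_coe]
  refine Nat.le_of_dvd (by norm_num) ?_
  rw [← lcm_cycleType]
  refine Multiset.lcm_dvd.2 fun m hm => ?_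
  have h1 := (le_card_support_of_mem_cycleType hm).trans ((Finset.card_le_univ _).trans h8)
  obtain ⟨k, -, rfl⟩ := (Nat.dvd_prime_pow Nat.prime_two).1 ((dvd_of_mem_cycleType hm).trans
    (orderOf_dvd_of_pow_eq_one (congrArg Subtype.val hn)))
  exact pow_dvd_pow 2 ((Nat.pow_le_pow_iff_right one_lt_two).1 (show 2 ^ k ≤ 2 ^ 3 from h1))

theorem lift4_dt {x : alternatingGroup α} {a b c d : α} (hab : a ≠ b) (hac : a ≠ c) (had : a ≠ d)
    (hbc : b ≠ c) (hbd : b ≠ d) (hcd : c ≠ d) (hx : (x : Perm α) = swap a b * swap c d) :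
    Lift4.{v} x := by
  intro J _ _ π h1 h2 h0 y hy hyy
  obtain ⟨n, hn⟩ := IsPGroup.iff_card.1 h2
  rcases n with _ | n
  · exact h0 (card_eq_one.1 hn)
  obtain ⟨K, hK⟩ := Sylow.exists_subgroup_card_pow_prime (G := π.ker) 2 (n := n)
    (hn ▸ pow_dvd_pow 2 n.le_succ)
  have hi : K.index = 2 := by
    have := K.card_mul_index
    rw [hK, hn, pow_succ] at this
    exact Nat.eq_of_mul_eq_mul_left (by positivity) this
  obtain ⟨z, hz⟩ := index_eq_two_iff_exists_notMem_and.1 hi
  let N := K.map π.ker.subtype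
  have hN : N ≤ π.ker := map_subtype_le _
  have : N.Normal := ⟨fun k hk g => by
    rw [mem_center_iff.1 (h1.2.1 (hN hk)) g, mul_assoc, mul_inv_cancel, mul_one]; exact hk⟩
  let ρ : J ⧸ N →* alternatingGroup α := QuotientGroup.lift N π hN
  have hρ : IsStemExtension ρ := ⟨fun s => by
      obtain ⟨j, rfl⟩ := h1.1 s
      exact ⟨j, rfl⟩, fun k hk => by
      obtain ⟨k, rfl⟩ := QuotientGroup.mk_surjective k
      refine mem_center_iff.2 fun g => ?_
      obtain ⟨g, rfl⟩ := QuotientGroup.mk_surjective g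
      rw [← QuotientGroup.mk_mul, mem_center_iff.1 (h1.2.1 (show k ∈ π.ker from hk)) g]; rfl,
    fun k hk => by
      obtain ⟨k, rfl⟩ := QuotientGroup.mk_surjective k
      have := mem_map_of_mem (QuotientGroup.mk' N) (h1.2.2 (show k ∈ π.ker from hk))
      rw [commutator_def, map_commutator] at this
      exact commutator_mono le_top le_top this⟩
  have hz1 : ((z : J) : J ⧸ N) ≠ 1 := fun e =>
    hz.1 ((mem_map_iff_mem π.ker.subtype_injective).1 ((QuotientGroup.eq_one_iff _).1 e))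
  have D : H49.DC ((z : J) : J ⧸ N) ((alternatingGroup α).subtype.comp ρ) :=
    { ne := hz1
      cen := fun h => (mem_center_iff.1 (hρ.2.1 (show _ ∈ ρ.ker from z.2)) h).symm
      ker := fun h => ⟨fun e => by
        obtain ⟨k, rfl⟩ := QuotientGroup.mk_surjective h
        have hk : k ∈ π.ker := Subtype.ext e
        rcases hz.2 (⟨k, hk⟩ : π.ker)⁻¹ with e | e
        · exact .inr (QuotientGroup.eq.2 (mem_map_of_mem π.ker.subtype e))
        · exact .inl ((QuotientGroup.eq_one_iff _).2 (mem_map_of_mem π.ker.subtype (inv_mem_iff.1 e))),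
        by
        rintro (rfl | rfl)
        exacts [map_one _, congrArg Subtype.val z.2]⟩
      range := by rw [MonoidHom.range_comp, MonoidHom.range_eq_top.2 hρ.1, ← MonoidHom.range_eq_map,
        range_subtype]
      ns := fun L hL => by
        rw [H21.eq_top_of_map_stem ρ hρ L fun d => by
          obtain ⟨h, h3, h4⟩ := hL _ (ρ d).2
          exact ⟨h, h3, Subtype.ext h4⟩]
        exact mem_top _ }
  have := D.sq_swap hab hac had hbc hbd hcd (g := (y : J ⧸ N)) ((congrArg Subtype.val hy).trans hx)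
  rw [sq, ← QuotientGroup.mk_mul, hyy] at this
  exact hz1 this.symm

end Perm

section Two

variable {X : Type*} [Group X] [Finite X]

theorem four_dvd_center (h : IsPGroup 2 X) (hc : ¬ IsMulCommutative X) : 4 ∣ (center X).index := by
  obtain ⟨n, hn⟩ := IsPGroup.iff_card.1 (h.to_quotient (center X))
  have key : ¬ IsCyclic (X ⧸ center X) := fun _ => hc (MonoidHom.isMulCommutative_of_isCyclic_of_ker_le_center
    (QuotientGroup.mk' (center X)) (QuotientGroup.ker_mk' _).le)
  rw [index, hn]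
  rcases n with _ | _ | n
  · exact (key (isCyclic_of_card_dvd_prime (p := 2) (hn ▸ one_dvd _))).elim
  · exact (key (isCyclic_of_prime_card (p := 2) hn)).elim
  · exact pow_dvd_pow 2 (by omega : 2 ≤ n + 1 + 1)

theorem eight_dvd (h : IsPGroup 2 X) (hc : ¬ IsMulCommutative X) : 8 ∣ Nat.card X := by
  have : Nontrivial X := by
    by_contra h1
    rw [not_nontrivial_iff_subsingleton] at h1
    exact hc ⟨⟨fun _ _ => Subsingleton.elim _ _⟩⟩
  have := h.center_nontrivial
  obtain ⟨n, h0, hn⟩ := (h.to_subgroup (center X)).nontrivial_iff_card.1 this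
  rw [← card_mul_index (center X), hn]
  exact mul_dvd_mul (dvd_pow_self 2 h0.ne') (four_dvd_center h hc)

theorem sixteen_dvd (h : IsPGroup 2 X) (hc : ¬ IsMulCommutative X) {a : X} (ha : a ^ 4 ≠ 1) :
    16 ∣ Nat.card X := by
  obtain ⟨n, hn⟩ := IsPGroup.iff_card.1 h
  obtain ⟨k, hk⟩ := IsPGroup.iff_orderOf.1 h a
  have h3 : 3 ≤ k := by
    by_contra h4
    exact ha (orderOf_dvd_iff_pow_eq_one.1 (hk ▸ pow_dvd_pow 2 (by omega : k ≤ 2)))
  by_contra h4
  have h5 : n ≤ 3 := by
    by_contra h5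
    exact h4 (hn ▸ pow_dvd_pow 2 (by omega : 4 ≤ n))
  have := isCyclic_of_card_le_orderOf a (by rw [hn, hk]; exact Nat.pow_le_pow_right two_pos (by omega))
  exact hc inferInstance

theorem card_sup_eq {A B : Subgroup X} (hB : IsPGroup 2 B) (hc : ¬ IsMulCommutative B) (h : A ≤ cen B) :
    Nat.card A * 4 ∣ Nat.card (A ⊔ B : Subgroup X) := by
  have h1 := CO.card_sup_mul (h.trans (CO.cen_le_nor B))
  have h2 := card_mul_index (A.subgroupOf B)
  rw [← inf_subgroupOf_right, Nat.card_congr (subgroupOfEquivOfLe inf_le_right).toEquiv,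
    inf_subgroupOf_right] at h2
  rw [← h2, mul_comm (Nat.card (A ⊓ B : Subgroup X)), ← mul_assoc] at h1
  rw [Nat.eq_of_mul_eq_mul_right Nat.card_pos h1]
  exact mul_dvd_mul_left _ ((four_dvd_center hB hc).trans (index_dvd_of_le fun x hx =>
    mem_center_iff.2 fun y => Subtype.ext (mem_cen.1 (h hx) y y.2)))

theorem nc_aux (h : ¬ 64 ∣ Nat.card X) {g : X} (h8 : g ^ 8 = 1) (h4 : g ^ 4 ≠ 1) {A B : Subgroup X}
    (hA : IsPGroup 2 A) (hB : IsPGroup 2 B) (hc : A ≤ cen B) :
    IsMulCommutative A ∨ IsMulCommutative B := by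
  by_contra h0
  rw [not_or] at h0
  have hc' : B ≤ cen A := le_centralizer_iff.1 hc
  have hT : IsPGroup 2 (A ⊔ B : Subgroup X) := CO.isPGroup_sup hA hB (hc.trans (CO.cen_le_nor B))
  have h1 := card_sup_eq hB h0.2 hc
  have h2 := card_sup_eq hA h0.1 hc'
  rw [sup_comm] at h2
  have hS : IsSyl 2 (A ⊔ B) ⊤ := isSyl_of_not_dvd_relIndex le_top hT fun e => h (by
    rw [relIndex_top_right] at e
    rw [← card_mul_index (A ⊔ B)]
    exact mul_dvd_mul ((mul_dvd_mul_right (eight_dvd hA h0.1) 4).trans h1) e)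
  obtain ⟨u, -, hu⟩ := hS.exists_le_cj (Tw.zp ⟨3, h8⟩) le_top
  obtain ⟨t, ht, e⟩ := hu (mem_zpowers g)
  obtain ⟨a, ha, b, hb, rfl⟩ := (mem_sup_right_norm (N := A) (H := B)
    (hc'.trans (CO.cen_le_nor A))).1 ht
  have h5 : Commute a b := (mem_cen.1 (hc ha) b hb).symm
  refine h4 ?_
  rw [← e, ← map_pow, h5.mul_pow]
  have h6 : a ^ 4 = 1 := by
    by_contra h6
    exact h (((mul_dvd_mul_right (sixteen_dvd hA h0.1 (a := ⟨a, ha⟩) fun e =>
      h6 (congrArg Subtype.val e)) 4).trans h1).trans (card_subgroup_dvd_card _))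
  have h7 : b ^ 4 = 1 := by
    by_contra h6
    exact h (((mul_dvd_mul_right (sixteen_dvd hB h0.2 (a := ⟨b, hb⟩) fun e =>
      h6 (congrArg Subtype.val e)) 4).trans h2).trans (card_subgroup_dvd_card _))
  rw [h6, h7, one_mul, map_one]

end Two

abbrev A6 := alternatingGroup (Fin 6)

theorem one_A6 : H36.QE.One A6 := fun x y hx hy => by
  obtain ⟨a, rfl⟩ := Cfsg.Agent.S5057.conj x hx.orderOf
  obtain ⟨b, rfl⟩ := Cfsg.Agent.S5057.conj y hy.orderOf
  exact isConj_iff.2 ⟨b * a⁻¹, by group⟩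

theorem nc_A6 : NC A6 := by
  have : Fact (Nat.Prime 3) := ⟨Nat.prime_three⟩
  let F := GaloisField 3 2
  have := Fintype.ofFinite F
  have h1 : Nat.card F = 3 ^ 2 := GaloisField.card 3 2 two_ne_zero
  have h2 : Fintype.card F = 3 ^ 2 := Nat.card_eq_fintype_card.symm.trans h1
  obtain ⟨e⟩ := Cfsg.Agent.S0254.result (F := F) h2
  refine NC.congr e fun A B hA hB => ?_
  obtain ⟨w, hw⟩ := IsCyclic.exists_ofOrder_eq_natCard (α := Fˣ)
  rw [Nat.card_units, h1] at hw
  let d : Fˣ →* GL (Fin 2) F := Units.map ((Matrix.diagonalRingHom (Fin 2) F).toMonoidHom.comp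
    (MonoidHom.mulSingle (fun _ => F) 0))
  refine nc_aux (g := H57.pslDiag _ F (d w)) ?_ ?_ ?_ hA hB
  · rw [H57.card_aut_psl_two, H57.card_ringAut_finite_field h2, H61.card_pgl_two, h1]; norm_num
  · rw [← map_pow, ← map_pow d, show 8 = orderOf w from hw.symm, pow_orderOf_eq_one, map_one, map_one]
  · rw [← map_pow, ← map_pow d, Ne, H57.pslDiag_eq_one_iff]
    rintro ⟨c, hc⟩
    have h2 : Matrix.scalar (Fin 2) (c : F) = Matrix.diagonal (Pi.mulSingle 0 ((w ^ 4 : Fˣ) : F)) :=
      congrArg Units.val hc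
    have h3 : (c : F) = (w ^ 4 : Fˣ) := congrFun (congrFun h2 0) 0
    have h4 : (c : F) = 1 := congrFun (congrFun h2 1) 1
    have h5 := orderOf_dvd_of_pow_eq_one (Units.ext (h3.symm.trans h4) : w ^ 4 = 1)
    rw [hw] at h5
    omega

theorem kv_A6 : KV.{v} A6 := fun a h1 h2 L hL => by
  obtain ⟨r, hr, h3, h4, x, hx, ho⟩ := exists_prime hL Nat.prime_two Nat.prime_five
  obtain rfl : r = 3 := by
    have h5 : r ∣ Nat.card (Perm (Fin 6)) := ho ▸ (orderOf_coe x) ▸ orderOf_dvd_natCard _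
    rw [Nat.card_perm, hr.dvd_factorial, Nat.card_fin] at h5
    have := hr.two_le
    interval_cases r <;> first | rfl | contradiction
  obtain ⟨σ, rfl⟩ := H86.exists_conjNormal_eq (by simp) a
    (H86.isThreeCycle_aut_six (by simp) a ho (hL.le hx))
  have h5 : σ * σ = 1 := H86.conjNormal_injective (by simp) (by rw [map_mul, h1, map_one])
  have h6 := support_small (by simp) h5 hL
  rw [Fintype.card_fin] at h6
  exact absurd (by rw [card_support_le_one.1 (by omega : σ.support.card ≤ 1), map_one]) h2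

end H59.A8
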