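import Cfsg.Agent.H34.R5Spec

/-! Tower R5, slot S3a: if `P` normalises `L` and `L'` it is abelian of rank two. -/

set_option autoImplicit false

namespace H59.R5S3a
open Cfsg Subgroup H41.IT H34.R5

universe u

theorem exists_central {Q : Type*} [Group Q] [Finite Q] {s : ℕ} [Fact s.Prime] (hQ : IsPGroup s Q)
    (D : Subgroup Q) [D.Normal] (hD : D ≠ ⊥) : ∃ z ∈ D, z ≠ 1 ∧ ∀ g : Q, g * z = z * g := by
  let _ : MulAction Q D := MulAction.compHom D (MulAut.conjNormal : Q →* MulAut D)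
  have hd : s ∣ Nat.card D := by
    obtain ⟨k, hk⟩ := IsPGroup.iff_card.1 (hQ.to_subgroup D)
    rw [hk]
    refine dvd_pow_self s fun h0 => hD ?_
    rw [h0, pow_zero] at hk
    exact card_eq_one.1 hk
  have h1 : (1 : D) ∈ MulAction.fixedPoints Q D := fun g => map_one (MulAut.conjNormal g)
  obtain ⟨b, hb, hne⟩ := hQ.exists_fixed_point_of_prime_dvd_card_of_fixed_point D hd h1
  refine ⟨b, b.2, fun h => hne (Subtype.ext h).symm, fun g => ?_⟩
  have h2 : g * b * g⁻¹ = b := congrArg Subtype.val (hb g)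
  calc g * b = g * b * g⁻¹ * g := by group
    _ = b * g := by rw [h2]

theorem card_pow_le {Q : Type*} [Group Q] [Finite Q] [IsCyclic Q] {s : ℕ} (hs : 0 < s) :
    Nat.card {a : Q // a ^ s = 1} ≤ s := by
  classical
  have := Fintype.ofFinite Q
  rw [Nat.card_eq_fintype_card, Fintype.card_subtype]
  exact IsCyclic.card_pow_eq_one_le hs

variable {G : Type u} [Group G] [Finite G] {x y : G} {e s : ℕ} [hs : Fact s.Prime]

omit [Finite G] in
theorem not_pe {u w : G} (hu : Gd y s u) (hw : w ^ orderOf u = 1) (w1 : w ≠ 1) : ¬ PE s w := by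
  rintro ⟨k, hk⟩
  have := Fact.mk hu.1
  rw [orderOf_eq_prime hw w1] at hk
  exact hu.2.1 ((Nat.prime_dvd_prime_iff_eq hu.1 hs.1).1 (hu.1.dvd_of_dvd_pow hk.dvd))

/-- `{w ∈ L | w ^ n = 1}` for an abelian `L`. -/
def Om (L : Subgroup G) (hL : ∀ a ∈ L, ∀ b ∈ L, Commute a b) (n : ℕ) : Subgroup G where
  carrier := {w | w ∈ L ∧ w ^ n = 1}
  one_mem' := ⟨L.one_mem, one_pow n⟩
  mul_mem' := fun {a b} ha hb => ⟨L.mul_mem ha.1 hb.1, by
    rw [(hL a ha.1 b hb.1).mul_pow, ha.2, hb.2, one_mul]⟩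
  inv_mem' := fun {a} ha => ⟨L.inv_mem ha.1, by rw [inv_pow, ha.2, inv_one]⟩

omit [Finite G] in
theorem le_norm_Om (L : Subgroup G) (hL : ∀ a ∈ L, ∀ b ∈ L, Commute a b) (n : ℕ) :
    normalizer (L : Set G) ≤ normalizer (Om L hL n : Set G) := fun g hg => by
  rw [mem_normalizer_iff] at hg ⊢
  intro w
  change w ∈ L ∧ w ^ n = 1 ↔ g * w * g⁻¹ ∈ L ∧ (g * w * g⁻¹) ^ n = 1
  rw [hg w, conj_pow, conj_eq_one_iff]

theorem s_dvd (t1 : T1 y e s) : s * e ∣ c y := by
  obtain ⟨j, hj, h⟩ := t1.pw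
  rw [h, mul_comm]
  exact Nat.mul_dvd_mul_left e (dvd_pow_self s hj.ne')

/-- (2): `P / (P ⊓ L)` is cyclic. -/
theorem exists_hom (QC : JobQC.{u}) (P : Sylow s G) (h : BS x y e) (t1 : T1 y e s)
    (gf : GF y e s) {u : G} (hu : Gd y s u) (hP : (P : Subgroup G) ≤ normalizer (C u : Set G)) :
    ∃ (Q : Type u) (_ : Group Q) (_ : Finite Q) (_ : IsCyclic Q) (f : P →* Q),
      ∀ g : P, f g = 1 ↔ (g : G) ∈ C u := by
  let X : Subgroup G := (P : Subgroup G) ⊔ C u
  have hX : X ≤ normalizer (C u : Set G) := sup_le hP le_normalizer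
  let L : Subgroup X := (C u).subgroupOf X
  have : L.Normal := normal_subgroupOf_of_le_normalizer hX
  let V : Subgroup X := (Om (C u) (gf.ab u hu) (orderOf u)).subgroupOf X
  have hV : V.Normal := normal_subgroupOf_of_le_normalizer (hX.trans (le_norm_Om _ _ _))
  have hu1 : u ≠ 1 := fun m => hu.1.one_lt.ne' (by rw [m, orderOf_one])
  have huu : u ∈ C u := mem_C.2 (Commute.refl u)
  have hV0 : V ≠ ⊥ := fun m => by
    have h1 : (⟨u, mem_sup_right huu⟩ : X) ∈ V := ⟨huu, pow_orderOf_eq_one u⟩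
    rw [m, mem_bot] at h1
    exact hu1 (congrArg Subtype.val h1)
  have hVc : IsMulCommutative V := ⟨⟨fun a b =>
    Subtype.ext (Subtype.ext (gf.ab u hu _ a.2.1 _ b.2.1).eq)⟩⟩
  have hC : ∀ w ∈ V, w ≠ 1 → C w = L := fun w hw w1 => by
    have h1 : C (w : G) = C u :=
      gf.ti u hu w hw.1 (not_pe hu hw.2 fun m => w1 (Subtype.ext m))
    ext g
    rw [mem_subgroupOf, ← h1, mem_C, mem_C]
    exact ⟨fun m => congrArg Subtype.val m.eq, fun m => Subtype.ext m.eq⟩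
  have hsb : s ∣ c y := (Dvd.intro _ rfl).trans (s_dvd t1)
  have hs2 : s ≠ 2 := fun m => (Nat.not_even_iff_odd.2 h.odd) (even_iff_two_dvd.2 (m ▸ hsb))
  have hidx : ∃ k, L.index = s ^ k := by
    have h1 : (P : Subgroup G).subgroupOf X ⊔ L = ⊤ := by
      rw [← subgroupOf_sup le_sup_left le_sup_right, subgroupOf_self]
    have h2 : L.index = L.relIndex ((P : Subgroup G).subgroupOf X) := by
      rw [← relIndex_top_right, ← h1, relIndex_sup_right]
    obtain ⟨n, hn⟩ := IsPGroup.iff_card.1 (P.2.comap_subtype (K := X))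
    have h3 : L.index ∣ s ^ n := by
      rw [h2, ← hn]
      exact relIndex_dvd_card _ _
    obtain ⟨k, -, hk⟩ := (Nat.dvd_prime_pow hs.1).1 h3
    exact ⟨k, hk⟩
  obtain ⟨k, hk⟩ := hidx
  have hcyc := (QC X V L hV hV0 hVc hC).2 s k hs.1 hs2 hk
  refine ⟨X ⧸ L, inferInstance, inferInstance, hcyc,
    (QuotientGroup.mk' L).comp (inclusion le_sup_left), fun g => ?_⟩
  simp only [MonoidHom.comp_apply, QuotientGroup.mk'_apply, QuotientGroup.eq_one_iff]
  rfl

/-- (1) -/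
theorem inf_eq_bot (P : Sylow s G) (h : BS x y e) (t1 : T1 y e s) (gf : GF y e s) {u v : G}
    (hu : Gd y s u) (hv : Gd y s v) (hne : C u ≠ C v)
    (hP : (P : Subgroup G) ≤ normalizer (C u : Set G))
    (hP' : (P : Subgroup G) ≤ normalizer (C v : Set G)) : (P : Subgroup G) ⊓ C u ⊓ C v = ⊥ := by
  by_contra hD
  let D : Subgroup P := (C u ⊓ C v).subgroupOf P
  have : D.Normal := normal_subgroupOf_of_le_normalizer
    ((le_inf hP hP').trans inf_normalizer_le_normalizer_inf)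
  have hD' : D ≠ ⊥ := fun m => hD (by
    rw [eq_bot_iff]
    rintro g ⟨⟨h1, h2⟩, h3⟩
    have h4 : (⟨g, h1⟩ : P) ∈ D := ⟨h2, h3⟩
    rw [m, mem_bot] at h4
    exact mem_bot.2 (congrArg Subtype.val h4))
  obtain ⟨z, hz, z1, hc⟩ := exists_central P.2 D hD'
  have hPB : (P : Subgroup G) ≤ C (z : G) := fun g hg =>
    mem_C.2 (congrArg Subtype.val (hc ⟨g, hg⟩))
  have hB : c (z : G) = c y := h.full (s_dvd t1) P (fun m => z1 (Subtype.ext m)) hPB
  have hL : C u ≤ C (z : G) := fun g hg => mem_C.2 (gf.ab u hu g hg _ hz.1)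
  have hvB : v ∈ C (z : G) := mem_C.2 (gf.ab v hv v (mem_C.2 (Commute.refl v)) _ hz.2)
  obtain ⟨j, -, hj⟩ := t1.pw
  have hi : (C u).relIndex (C (z : G)) = s ^ j := by
    have h1 := ((C u).subgroupOf (C (z : G))).card_mul_index
    rw [Nat.card_congr (subgroupOfEquivOfLe hL).toEquiv] at h1
    have h2 : Nat.card (C u) = e := gf.ce u hu
    have h3 : Nat.card (C (z : G)) = e * s ^ j := hB.trans hj
    rw [h2, h3] at h1
    have he : 0 < e := h2 ▸ Nat.card_pos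
    exact Nat.eq_of_mul_eq_mul_left he h1
  have hN : C (z : G) ≤ normalizer (C u : Set G) := by
    rw [← relIndex_eq_one]
    have h1 := relIndex_dvd_of_le_left (C (z : G)) (le_normalizer (H := C u))
    have h2 := relIndex_dvd_of_le_left (C (z : G)) hP
    rw [hi] at h1
    obtain ⟨k, -, hk⟩ := (Nat.dvd_prime_pow hs.1).1 h1
    rcases k with _ | k
    · simpa using hk
    · exfalso
      refine P.not_dvd_index ?_
      rw [← relIndex_mul_index hPB]
      refine Dvd.dvd.mul_right (dvd_trans ?_ h2) _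
      rw [hk]
      exact dvd_pow_self s (Nat.succ_ne_zero k)
  have : ((C u).subgroupOf (C (z : G))).Normal := normal_subgroupOf_of_le_normalizer hN
  have h1 : v ^ s ^ j ∈ C u := by
    have := ((C u).subgroupOf (C (z : G))).pow_index_mem ⟨v, hvB⟩
    rw [mem_subgroupOf] at this
    rw [← hi]
    exact this
  have hcop : (s ^ j).Coprime (orderOf v) :=
    Nat.Coprime.pow_left j ((Nat.coprime_primes hs.1 hv.1).2 hv.2.1.symm)
  obtain ⟨m, hm⟩ := exists_pow_eq_self_of_coprime hcop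
  have h2 : v ∈ C u := hm ▸ (C u).pow_mem h1 m
  have v1 : v ≠ 1 := fun m => hv.1.one_lt.ne' (by rw [m, orderOf_one])
  exact hne (gf.ti u hu v h2 (not_pe hv (pow_orderOf_eq_one v) v1)).symm

/-- (3), lower bound -/
theorem le_card (P : Sylow s G) (gf : GF y e s) {u : G} (hu : Gd y s u)
    (hP : (P : Subgroup G) ≤ normalizer (C u : Set G)) :
    s ≤ Nat.card {g : G // g ∈ (P : Subgroup G) ⊓ C u ∧ g ^ s = 1} := by
  have hO : IsPGroup s (Om (C u) (gf.ab u hu) s) := fun g => ⟨1, Subtype.ext (by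
    rw [pow_one]; exact g.2.2)⟩
  have h1 := IsPGroup.to_sup_of_normal_right' P.2 hO (hP.trans (le_norm_Om _ _ _))
  have h2 : Om (C u) (gf.ab u hu) s ≤ P := by
    rw [← P.3 h1 le_sup_left]
    exact le_sup_right
  have h3 : s ∣ Nat.card (C u) := gf.sd.trans (gf.ce u hu).symm.dvd
  obtain ⟨w, hw⟩ := exists_prime_orderOf_dvd_card' s h3
  have hw' : orderOf (w : G) = s := by rw [orderOf_coe, hw]
  have h4 : zpowers (w : G) ≤ Om (C u) (gf.ab u hu) s := zpowers_le.2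
    ⟨w.2, by rw [← hw', pow_orderOf_eq_one]⟩
  have h5 := Nat.card_le_card_of_injective
    (fun g : zpowers (w : G) => (⟨g, ⟨h2 (h4 g.2), (h4 g.2).1⟩, (h4 g.2).2⟩ :
      {g : G // g ∈ (P : Subgroup G) ⊓ C u ∧ g ^ s = 1}))
    (fun a b m => Subtype.ext (by simpa using m))
  rwa [Nat.card_zpowers, hw'] at h5

theorem jobS3a : JobS3a.{u} := by
  intro QC G _ _ x y e s hs P h t1 gf u v hu huv hne hP hP'
  have hv : Gd y s v := by
    unfold Gd
    rw [huv]
    exact hu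
  have hD := inf_eq_bot P h t1 gf hu hv hne hP hP'
  have hD1 : ∀ g : G, g ∈ (P : Subgroup G) → g ∈ C u → g ∈ C v → g = 1 := fun g h1 h2 h3 => by
    have : g ∈ (P : Subgroup G) ⊓ C u ⊓ C v := ⟨⟨h1, h2⟩, h3⟩
    rwa [hD, mem_bot] at this
  obtain ⟨Q, _, _, _, f, hf⟩ := exists_hom QC P h t1 gf hu hP
  obtain ⟨Q', _, _, _, f', hf'⟩ := exists_hom QC P h t1 gf hv hP'
  have hinj : ∀ a b : P, f a = f b → f' a = f' b → a = b := fun a b h1 h2 => by
    have h3 : f (a⁻¹ * b) = 1 := by rw [map_mul, map_inv, h1, inv_mul_cancel]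
    have h4 : f' (a⁻¹ * b) = 1 := by rw [map_mul, map_inv, h2, inv_mul_cancel]
    exact inv_mul_eq_one.1 (Subtype.ext (hD1 _ (a⁻¹ * b).2 ((hf _).1 h3) ((hf' _).1 h4)))
  have hab : ∀ a ∈ (P : Subgroup G), ∀ b ∈ (P : Subgroup G), Commute a b := fun a ha b hb => by
    have := hinj (⟨a, ha⟩ * ⟨b, hb⟩) (⟨b, hb⟩ * ⟨a, ha⟩)
      (by rw [map_mul, map_mul]; exact IsCyclic.isMulCommutative.is_comm.comm _ _)
      (by rw [map_mul, map_mul]; exact IsCyclic.isMulCommutative.is_comm.comm _ _)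
    exact congrArg Subtype.val this
  have hp : ∀ {R : Type u} [Group R] (φ : P →* R) (g : G) (hg : g ∈ (P : Subgroup G)), g ^ s = 1 →
      φ ⟨g, hg⟩ ^ s = 1 := fun φ g hg m => by
    rw [← map_pow]
    exact (congrArg φ (Subtype.ext m)).trans (map_one φ)
  have l1 := le_card P gf hu hP
  have l2 := le_card P gf hv hP'
  refine ⟨hD, hab, le_antisymm ?_ l1, le_antisymm ?_ ?_⟩
  · refine le_trans (Nat.card_le_card_of_injective
      (fun g : {g : G // g ∈ (P : Subgroup G) ⊓ C u ∧ g ^ s = 1} =>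
        (⟨f' ⟨g, g.2.1.1⟩, hp f' _ _ g.2.2⟩ : {a : Q' // a ^ s = 1})) fun a b m => ?_)
      (card_pow_le hs.1.pos)
    have := hinj ⟨a, a.2.1.1⟩ ⟨b, b.2.1.1⟩
      (((hf _).2 a.2.1.2).trans ((hf _).2 b.2.1.2).symm) (congrArg Subtype.val m)
    exact Subtype.ext (by simpa using this)
  · refine le_trans (Nat.card_le_card_of_injective
      (fun g : {g : G // g ∈ (P : Subgroup G) ∧ g ^ s = 1} =>
        ((⟨f ⟨g, g.2.1⟩, hp f _ _ g.2.2⟩, ⟨f' ⟨g, g.2.1⟩, hp f' _ _ g.2.2⟩) :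
          {a : Q // a ^ s = 1} × {a : Q' // a ^ s = 1})) fun a b m => ?_) ?_
    · have := hinj ⟨a, a.2.1⟩ ⟨b, b.2.1⟩ (congrArg Subtype.val (congrArg Prod.fst m))
        (congrArg Subtype.val (congrArg Prod.snd m))
      exact Subtype.ext (by simpa using this)
    · rw [Nat.card_prod, sq]
      exact Nat.mul_le_mul (card_pow_le hs.1.pos) (card_pow_le hs.1.pos)
  · refine le_trans ?_ (Nat.card_le_card_of_injective
      (fun g : {g : G // g ∈ (P : Subgroup G) ⊓ C u ∧ g ^ s = 1} ×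
          {g : G // g ∈ (P : Subgroup G) ⊓ C v ∧ g ^ s = 1} =>
        (⟨g.1 * g.2, (P : Subgroup G).mul_mem g.1.2.1.1 g.2.2.1.1, by
          rw [(hab _ g.1.2.1.1 _ g.2.2.1.1).mul_pow, g.1.2.2, g.2.2.2, one_mul]⟩ :
          {g : G // g ∈ (P : Subgroup G) ∧ g ^ s = 1})) ?_)
    · rw [Nat.card_prod, sq]
      exact Nat.mul_le_mul l1 l2
    · rintro ⟨a, b⟩ ⟨a', b'⟩ m
      have m' : (a : G) * b = a' * b' := congrArg Subtype.val m
      have e1 : (a' : G)⁻¹ * a = b' * (b : G)⁻¹ := by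
        rw [inv_mul_eq_iff_eq_mul, ← mul_assoc, ← m', mul_inv_cancel_right]
      have e2 : (a' : G)⁻¹ * a = 1 := hD1 _
        ((P : Subgroup G).mul_mem ((P : Subgroup G).inv_mem a'.2.1.1) a.2.1.1)
        ((C u).mul_mem ((C u).inv_mem a'.2.1.2) a.2.1.2)
        (e1 ▸ (C v).mul_mem b'.2.1.2 ((C v).inv_mem b.2.1.2))
      have e3 : (a : G) = a' := (inv_mul_eq_one.1 e2).symm
      rw [e3] at m'
      exact Prod.ext (Subtype.ext e3) (Subtype.ext (mul_left_cancel m'))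

end H59.R5S3a
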