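import Cfsg.Agent.H59.S3MU1
import Cfsg.Agent.H67.SAOut

/-! STD-SP chapter III (row S3129), slot `ML1`: the model `SL_(2k+1)(q)`. -/

set_option autoImplicit false
set_option linter.unusedSectionVars false

namespace H59.S3ML1

open Matrix Subgroup H67 H67.SP H59.S3MU1
open H67.UA hiding Par sg
open H67.SA (la cm SLn val_mul val_one val_mul_inv val_inv_mul)

section Gen

variable {m : ℕ} {F : Type} [Field F] [StarRing F] [TrivialStar F] [CharP F 2]

theorem hf_comm (x y : Vn m F) : hf x y = hf y x := by rw [← star_hf, star_trivial]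

theorem sl_ext {g h : SLn m F} (e : ∀ v, g.1 *ᵥ v = h.1 *ᵥ v) : g = h :=
  Subtype.ext (Matrix.ext fun i j => by simpa using congrFun (e (Pi.single j 1)) i)

theorem mul_mv (g h : SLn m F) (v : Vn m F) : (g * h).1 *ᵥ v = g.1 *ᵥ (h.1 *ᵥ v) :=
  (mulVec_mulVec _ _ _).symm

theorem hf_adj (g : SLn m F) (a b : Vn m F) : hf (g.1 *ᵥ a) b = hf a ((tau m F g⁻¹).1 *ᵥ b) := by
  simp only [hf, mulVec, dotProduct, tau_inv_apply, star_trivial, Fin.rev_rev, Finset.sum_mul,
    Finset.mul_sum]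
  rw [Finset.sum_comm]
  refine Finset.sum_congr rfl fun j _ => ?_
  rw [← Equiv.sum_comp Fin.revPerm]
  simp [mul_comm, mul_left_comm]

theorem hft (g : SLn m F) (a b : Vn m F) : hf (g.1 *ᵥ a) ((tau m F g).1 *ᵥ b) = hf a b := by
  rw [hf_adj, ← mul_mv, ← map_mul, inv_mul_cancel, map_one, val_one, one_mulVec]

theorem tau_eq {g g' : SLn m F} (h : ∀ a b, hf (g.1 *ᵥ a) (g'.1 *ᵥ b) = hf a b) : tau m F g = g' :=
  sl_ext fun b => eq_of_hf fun z => by
    have e : z = g.1 *ᵥ ((g⁻¹).1 *ᵥ z) := by rw [← mul_mv, mul_inv_cancel, val_one, one_mulVec]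
    rw [hf_comm _ z, hf_comm _ z, e, hft, h]

theorem det_four {M : Matrix (Fin (m + 1)) (Fin (m + 1)) F} (h : M * M * (M * M) = 1) : M.det = 1 := by
  have h2 := congrArg det h
  simp only [det_mul, det_one] at h2
  have h3 : (det M + 1) ^ 4 = 0 := by
    linear_combination h2 + (2 * det M ^ 3 + 3 * det M ^ 2 + 2 * det M + 1) * two0 F
  linear_combination (pow_eq_zero_iff (by decide)).1 h3 - two0 F

theorem sl_val {M : Matrix (Fin (m + 1)) (Fin (m + 1)) F} (h : M.det = 1) : (sl M).1 = M :=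
  congrArg (fun g : SLn m F => g.1) (dif_pos h)

theorem val_mE {u x : Vn m F} (hu : Iso u) (hx : hf x u = 0) (c : F) : (sl (mE u x c)).1 = mE u x c :=
  sl_val (det_four (by
    rw [mE_mul hu hx hx, v_add_self, mE_mul hu (by simp) (by simp)]
    simp [mE, CharTwo.add_self_eq_zero]))

theorem mv_mE {u x : Vn m F} (hu : Iso u) (hx : hf x u = 0) (c : F) (y : Vn m F) :
    (sl (mE u x c)).1 *ᵥ y = y + hf y x • u + hf y u • x + (c * hf y u) • u := by
  rw [val_mE hu hx, mE_mulVec]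

theorem sl_mul {u x y : Vn m F} (hu : Iso u) (hx : hf x u = 0) (hy : hf y u = 0) (c d : F) :
    sl (mE u x c) * sl (mE u y d) = sl (mE u (x + y) (c + d + hf y x)) := Subtype.ext (by
  rw [val_mul, val_mE hu hx, val_mE hu hy, val_mE hu (by rw [hf_add_left, hx, hy, add_zero]),
    mE_mul hu hx hy])

theorem io_EE {u x : Vn m F} {c : F} (h : Ok u x c) : io m F (EE u x c) = sl (mE u x c) :=
  Subtype.ext ((mt_EE h).trans (val_mE h.iso h.perp c).symm)

theorem tau_mE {u x : Vn m F} (hu : Iso u) (hx : hf x u = 0) (c : F) :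
    tau m F (sl (mE u x c)) = sl (mE u x (c + hf x x)) := tau_eq fun a b => by
  simp only [mv_mE hu hx, hf_add_left, hf_add_right, hf_smul_left, hf_smul_right, star_trivial,
    show hf u u = 0 from hu, hx, hf_symm hx, hf_comm u b, hf_comm x b]
  linear_combination (hf a u * hf b x + hf a x * hf b u + (c + hf x x) * hf a u * hf b u) * two0 F

theorem cj_mE (g : SLn m F) {u x u' x' : Vn m F} (hu : Iso u) (hx : hf x u = 0) (c : F)
    (h1 : g.1 *ᵥ u = u') (h2 : (tau m F g).1 *ᵥ u = u') (h3 : g.1 *ᵥ x = x')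
    (h4 : (tau m F g).1 *ᵥ x = x') : g * sl (mE u x c) * g⁻¹ = sl (mE u' x' c) := by
  have hu' : Iso u' := by have := hft g u u; rwa [h1, h2, hu] at this
  have hx' : hf x' u' = 0 := by have := hft g x u; rwa [h3, h2, hx] at this
  rw [mul_inv_eq_iff_eq_mul]
  refine sl_ext fun y => ?_
  have a1 := hft g y u
  have a2 := hft g y x
  rw [h2] at a1
  rw [h4] at a2
  rw [mul_mv, mul_mv, mv_mE hu hx, mv_mE hu' hx', a1, a2]
  simp only [mulVec_add, mulVec_smul, h1, h3]

theorem val_two {u v : Vn m F} (p : Pp u v) (a b : F) :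
    (sl (1 + a • op u v + b • op v u)).1 = 1 + a • op u v + b • op v u :=
  sl_val (det_four (by
    have : (1 + a • op u v + b • op v u) * (1 + a • op u v + b • op v u) = 1 := by
      simp only [add_mul, mul_add, one_mul, mul_one, smul_mul_assoc, mul_smul_comm, op_mul,
        show hf u u = 0 from p.l, show hf v v = 0 from p.r, p.p, p.symm.p, zero_smul, smul_zero,
        add_zero]
      ext i j
      simp only [Matrix.add_apply, Matrix.smul_apply, smul_eq_mul]
      linear_combination (a * op u v i j + b * op v u i j) * two0 F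
    rw [this, one_mul]))

theorem mv_two {u v : Vn m F} (p : Pp u v) (a b : F) (y : Vn m F) :
    (sl (1 + a • op u v + b • op v u)).1 *ᵥ y = y + (a * hf y v) • u + (b * hf y u) • v := by
  rw [val_two p, add_mulVec, add_mulVec, one_mulVec, smul_mulVec, smul_mulVec, op_mulVec, op_mulVec,
    smul_smul, smul_smul]

theorem key {U V M : Vn m F} (ε : F) (p : Pp U V) (mU : hf M U = 0) (mV : hf M V = 0)
    (mm : hf M M = 1) : sl (mE (U + V) M ε) * sl (mE U M ε) * sl (mE V M ε) *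
      (sl (mE U 0 1) * sl (mE V 0 1)) = sl (1 + ε • op U V + (ε + 1) • op V U) := by
  refine sl_ext fun y => ?_
  simp only [mul_mv, mv_mE p.l mU, mv_mE p.r mV,
    mv_mE p.iso_add (show hf M (U + V) = 0 by rw [hf_add_right, mU, mV, add_zero]),
    mv_mE p.l (hf_zero_left _), mv_mE p.r (hf_zero_left _), mv_two p, hf_add_left, hf_add_right,
    hf_smul_left, p.p, p.symm.p, show hf U U = 0 from p.l, show hf V V = 0 from p.r, mU, mV, mm,
    hf_symm mU, hf_symm mV, mul_zero, add_zero, mul_one, one_mul, zero_smul, hf_zero_right, smul_zero]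
  ext i
  simp only [Pi.add_apply, Pi.smul_apply, smul_eq_mul]
  generalize hf y U = a
  generalize hf y V = b
  generalize hf y M = c
  linear_combination ((a + b) * M i + (a + b + c + ε * a) * U i + (b + c + ε * b) * V i) * two0 F

/-- the natural embedding on vectors -/
def Lm (g : Matrix (Fin (m + 1)) (Fin (m + 1)) F) : Vn (m + 1) F →ₗ[F] Vn (m + 1) F where
  toFun := fun w => (mid m).insertNth (w (mid m)) (g *ᵥ ((mid m).removeNth w))
  map_add' := fun a b => by rw [← Fin.insertNth_add, ← mulVec_add]; rfl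
  map_smul' := fun c a => (Fin.insertNth_eq_iff.2 ⟨by simp, funext fun i => by
    rw [show (mid m).removeNth (c • a) = c • (mid m).removeNth a from rfl, mulVec_smul]
    simp [Fin.removeNth]⟩)

theorem Lm_apply (g : Matrix (Fin (m + 1)) (Fin (m + 1)) F) (w : Vn (m + 1) F) :
    Lm g w = (mid m).insertNth (w (mid m)) (g *ᵥ ((mid m).removeNth w)) := rfl

theorem det_Lm (g : Matrix (Fin (m + 1)) (Fin (m + 1)) F) : (LinearMap.toMatrix' (Lm g)).det = g.det := by
  rw [det_row (mid m) _ fun j => by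
    rw [LinearMap.toMatrix'_apply, Lm_apply, Fin.insertNth_apply_same, Pi.single_apply]; simp [eq_comm]]
  congr 1
  ext i j
  rw [submatrix_apply, LinearMap.toMatrix'_apply, Lm_apply, Fin.insertNth_apply_succAbove,
    show (mid m).removeNth (Pi.single ((mid m).succAbove j) 1 : Vn (m + 1) F) = Pi.single j 1 from
      funext fun k => by simp [Fin.removeNth, Pi.single_apply]]
  simp

/-- the natural embedding -/
def jj : SLn m F →* SLn (m + 1) F := MonoidHom.mk'
  (fun g => ⟨LinearMap.toMatrix' (Lm g.1), by rw [det_Lm, g.2]⟩) fun a b => sl_ext fun w => by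
    refine Eq.trans ?_ (mul_mv _ _ _).symm
    show LinearMap.toMatrix' (Lm (a.1 * b.1)) *ᵥ w =
      LinearMap.toMatrix' (Lm a.1) *ᵥ (LinearMap.toMatrix' (Lm b.1) *ᵥ w)
    simp only [LinearMap.toMatrix'_mulVec, Lm_apply, Fin.insertNth_apply_same, Fin.removeNth_insertNth,
      mulVec_mulVec]

theorem jj_mv (g : SLn m F) (w : Vn (m + 1) F) :
    (jj g).1 *ᵥ w = (mid m).insertNth (w (mid m)) (g.1 *ᵥ ((mid m).removeNth w)) :=
  LinearMap.toMatrix'_mulVec _ _

theorem jj_m (g : SLn m F) : (jj g).1 *ᵥ ev (mid m) = ev (mid m) :=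
  (jj_mv g _).trans (Fin.insertNth_eq_iff.2 ⟨rfl, by rw [rm_mid, mulVec_zero]⟩)

theorem jj_i (g : SLn m F) (v : Vn m F) : (jj g).1 *ᵥ iv v = iv (g.1 *ᵥ v) := by
  rw [jj_mv, iv_mid, rm_iv]; rfl

theorem sl_ext_mi {g h : SLn (m + 1) F} (h1 : g.1 *ᵥ ev (mid m) = h.1 *ᵥ ev (mid m))
    (h2 : ∀ v, g.1 *ᵥ iv v = h.1 *ᵥ iv v) : g = h := sl_ext fun z => by
  rw [dec z, mulVec_add, mulVec_add, mulVec_smul, mulVec_smul, h1, h2]

theorem jj_tau (hn : Odd m) (y : SLn m F) : tau (m + 1) F (jj y) = jj (tau m F y) := tau_eq fun a b => by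
  simp only [jj_mv, hf_mid hn, Fin.insertNth_apply_same, Fin.removeNth_insertNth, hft]

theorem jj_rng (hn : Odd m) (g : SLn (m + 1) F) (h : g.1 *ᵥ ev (mid m) = ev (mid m))
    (h' : (tau (m + 1) F g).1 *ᵥ ev (mid m) = ev (mid m)) : ∃ y, jj y = g := by
  have k : ∀ z, (g.1 *ᵥ z) (mid m) = z (mid m) := fun z => by
    rw [← hf_m hn (g.1 *ᵥ z), ← hf_m hn z]
    conv_lhs => rw [← h']
    rw [hft]
  have a : ∀ v, g.1 *ᵥ iv v = iv (g.1.submatrix (mid m).succAbove (mid m).succAbove *ᵥ v) := fun v =>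
    vext (by rw [k]; simp) fun i => by
      rw [iv_sa, mulVec, dotProduct, Fin.sum_univ_succAbove _ (mid m)]
      simp [mulVec, dotProduct]
  refine ⟨⟨g.1.submatrix (mid m).succAbove (mid m).succAbove, ?_⟩,
    sl_ext_mi ((jj_m _).trans h.symm) fun v => (jj_i _ v).trans (a v).symm⟩
  rw [← det_row (mid m) _ fun j => by
    have := k (ev j)
    rw [ev_apply] at this
    simpa [ev, eq_comm] using this, g.2]

theorem io_ins (hn : Odd m) (g : XU m F) : io (m + 1) F (ins m F g) = jj (io m F g) :=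
  sl_ext_mi ((ac_m hn g).trans (jj_m _).symm) fun v => (ac_i hn g v).trans (jj_i (io m F g) v).symm

end Gen

variable {n : ℕ} {F : Type} [Field F] [StarRing F] [TrivialStar F] [CharP F 2] [Finite F]

theorem genP [p : Par n F] [FV n F] (ε : F) (g : SLn n F) (h : g.1 *ᵥ ev 0 = ev 0)
    (h' : (tau n F g).1 *ᵥ ev 0 = ev 0) : g ∈ PE (io n F) (SL0 ε) (ev 0) := by
  have := p.five
  have n0 : (0 : Fin (n + 1)) ≠ la n := by rw [Ne, Fin.ext_iff]; simp; omega
  have hg : g ∈ SA.P0 n F 0 (la n) := (SA.mem_P0 n0).2 ⟨fun a => by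
    simpa [ev, Pi.single_apply] using congrFun h a, fun b => by
      have := hft g (ev b) (ev 0)
      rw [h', hf_ev_right, hf_ev_right, ev_apply, Fin.rev_zero] at this
      simpa [ev] using this⟩
  refine SA.Pat_le.2 (fun a b hab hs c => ?_) hg
  have e1 : hf (c • ev a : Vn n F) (ev 0) = 0 := by
    rw [hf_smul_left, hf_ev_right, ev_apply, Fin.rev_zero, if_neg hs.2.symm, mul_zero]
  have e2 : hf (ev b.rev : Vn n F) (ev 0) = 0 := by
    rw [hf_ev_right, ev_apply, if_neg fun e => hs.1 (Fin.rev_inj.1 e).symm]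
  have e3 : hf (c • ev a : Vn n F) (ev b.rev) = 0 := by
    rw [hf_smul_left, hf_ev_right, ev_apply, Fin.rev_rev, if_neg hab.symm, mul_zero]
  have pp := FV.pp _ _ e3
  have p2 : Pp (c • ev a : Vn n F) ((ε + 1) • ev b.rev) := by simpa using pp.smul 1 (ε + 1)
  have e : SA.x a b c = io n F (qq ((ε + 1) • ev b.rev) (c • ev a)) * SL0 ε (c • ev a) (ev b.rev) := by
    have : (SA.x a b c).1 = 1 + op (c • ev a) (ev b.rev) := by
      rw [SA.x_coe hab, op_smul_left, op_ev]; simp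
    refine sl_ext fun y => ?_
    rw [this, mul_mv, SL0, mv_two pp, add_mulVec, one_mulVec, op_mulVec]
    refine Eq.trans ?_ (ac_qq p2 _).symm
    generalize c • (ev a : Vn n F) = v at *
    generalize (ev b.rev : Vn n F) = u at *
    simp only [hf_add_left, hf_smul_left, hf_smul_right, star_trivial, show hf v v = 0 from pp.l,
      show hf u u = 0 from pp.r, pp.p, pp.symm.p, mul_zero, add_zero]
    ext i
    simp only [Pi.add_apply, Pi.smul_apply, smul_eq_mul]
    linear_combination -(ε * hf y u * v i + (ε + 1) * hf y v * u i) * two0 F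
  rw [e]
  exact mul_mem (subset_closure (Or.inl ⟨_, ac_EE_fix p2.ok (hf_symm e1) (by
      rw [hf_smul_right, hf_symm e2, mul_zero]), rfl⟩))
    (subset_closure (Or.inr ⟨_, _, ⟨hf_symm e1, hf_symm e2, e3⟩, rfl⟩))

theorem ml1_of [p : Par n F] [FV n F] (ε : F)
    (w1 : ∀ a f : Vn n F, a ≠ 0 → f ≠ 0 → hf a f = 0 →
      ∃ g : SLn n F, g.1 *ᵥ ev 0 = a ∧ (tau n F g).1 *ᵥ ev 0 = f)
    (w2 : ∀ a f a' f' : Vn n F, Li a a' → Li f f' → hf a f = 0 → hf a f' = 0 → hf a' f = 0 →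
      hf a' f' = 0 → ∃ g : SLn n F, g.1 *ᵥ ev 0 = a ∧ (tau n F g).1 *ᵥ ev 0 = f ∧
        g.1 *ᵥ ev 1 = a' ∧ (tau n F g).1 *ᵥ ev 1 = f') : ML1 n ε jj := by
  have hn := p.odd
  have iso : ∀ v : Vn n F, Iso (iv v) := fun v => by rw [Iso, hf_iv hn, FV.iso v]
  have pi : ∀ u v : Vn n F, hf u v = 0 → hf (iv u) (iv v) = 0 := fun u v h => by rw [hf_iv hn, h]
  have ee : ∀ (u y : Vn n F) (c : F), hf y u = 0 → ((io (n + 1) F).comp (ins n F)) (EE u y c) =
      sl (mE (iv u) (iv y) c) := fun u y c hy => by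
    rw [MonoidHom.comp_apply, ins_EE hn (FV.ok u y c hy), io_EE (ok_iv hn (FV.ok u y c hy))]
  have et1 : ∀ v : Vn n F, ((io (n + 1) F).comp (ins n F)) (Tc 1 v) = sl (mE (iv v) 0 1) := fun v => by
    rw [ee _ _ _ (hf_zero_left _), iv_zero]
  have tt : ∀ v : Vn n F, tau (n + 1) F (TL ε v) = sl (mE (iv v) (ev (mid n)) (ε + 1)) := fun v => by
    rw [TL, tau_mE (iso v) (hf_mi hn v), hf_mm hn]
  have m1 : ∀ (v : Vn n F) c, (sl (mE (iv v) (ev (mid n)) c)).1 *ᵥ ev (mid n) = ev (mid n) + iv v :=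
    fun v c => by rw [mv_mE (iso v) (hf_mi hn v), hf_mm hn, hf_mi hn]; simp
  have m2 : ∀ (v z : Vn n F) c, hf z v = 0 → (sl (mE (iv v) (ev (mid n)) c)).1 *ᵥ iv z = iv z :=
    fun v z c h => by rw [mv_mE (iso v) (hf_mi hn v), hf_im hn, pi _ _ h]; simp
  have cj : ∀ (y : SLn n F) (v v' : Vn n F), y.1 *ᵥ v = v' → (tau n F y).1 *ᵥ v = v' →
      jj y * TL ε v * (jj y)⁻¹ = TL ε v' := fun y v v' h1 h2 =>
    cj_mE _ (iso v) (hf_mi hn v) ε (by rw [jj_i, h1]) (by rw [jj_tau hn, jj_i, h2]) (jj_m _)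
      (by rw [jj_tau hn, jj_m])
  refine
    { isIn := fun g => ⟨jj_m g, jj_i g⟩
      inj := fun g h e => sl_ext fun v => iv_inj (by rw [← jj_i, ← jj_i, e])
      rng := jj_rng hn
      sq := io_ins hn
      r1 := ⟨⟨?_, fun g v => ?_⟩, fun u v huv => ?_⟩
      tsq := fun v => ?_
      sg := fun u v huv => ?_
      hft := fun _ => hft
      mv := fun v => ⟨m1 v ε, by rw [tt, m1]⟩
      fx := fun v z h => ⟨m2 v z ε h, by rw [tt, m2 _ _ _ h]⟩
      cj := fun y h1 h2 => mul_inv_eq_iff_eq_mul.1 (cj y _ _ h1 h2)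
      dec := fun z => ⟨fun h => ?_, ?_⟩
      hi := fun v w => by
        rw [hf_add_left, hf_add_right, hf_add_right, hf_mm hn, hf_mi hn, hf_im hn, hf_iv hn]; simp
      fi := jj_tau hn
      ft := fun v => ?_
      genP := genP ε
      w1 := w1
      w2 := w2 }
  · refine sl_ext fun y => ?_
    rw [TL, mv_mE (iso 0) (hf_mi hn 0)]; simp
  · rw [MonoidHom.comp_apply, io_ins hn]
    exact cj _ _ _ rfl (by rw [show tau n F (io n F g) = io n F g from H64.SG.mem_fx.1 g.2]; rfl)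
  · have e := pi v u (hf_symm huv)
    rw [one_smul, qq_comm, qq, ee _ _ _ huv, cm, TL, TL,
      cj_mE _ (iso v) (hf_mi hn v) ε (m2 u v ε (hf_symm huv)) (by
        rw [← TL, tt, m2 _ _ _ (hf_symm huv)]) (m1 u ε) (by rw [← TL, tt, m1]),
      mul_inv_eq_iff_eq_mul, sl_mul (iso v) (pi _ _ huv) (hf_mi hn v), hf_mi hn, add_comm (iv u)]
    simp
  · rw [TL, sl_mul (iso v) (hf_mi hn v) (hf_mi hn v), et1, hf_mm hn, v_add_self,
      CharTwo.add_self_eq_zero, zero_add]
  · have pp := FV.pp u v huv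
    have p2 : Pp (iv u) (iv v) := ⟨iso u, iso v, pi u v huv⟩
    rw [SP.sg, map_mul, et1, et1, TL, TL, TL, iv_add, key ε p2 (hf_mi hn _) (hf_mi hn _) (hf_mm hn)]
    refine sl_ext_mi ?_ fun z => ?_
    · rw [mv_two p2, jj_m, hf_mi hn, hf_mi hn]; simp
    · rw [mv_two p2, jj_i, SL0, mv_two pp, hf_iv hn, hf_iv hn, iv_add, iv_add, iv_smul, iv_smul]
  · rw [hf_m hn] at h
    have e := dec z
    rw [h, one_smul] at e
    exact ⟨_, e⟩
  · rintro ⟨v, rfl⟩
    rw [hf_add_left, hf_mm hn, hf_im hn, add_zero]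
  · show _ = ((io (n + 1) F).comp (ins n F)) (Tc 1 v) * _
    rw [tt, et1, TL, sl_mul (iso v) (hf_zero_left _) (hf_mi hn v), zero_add, hf_zero_right, add_zero,
      add_comm ε]

end H59.S3ML1
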