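import Cfsg.Agent.H19.LXT
import Cfsg.Agent.H93.LXW3
import Cfsg.Agent.H56.SymIdx
import Cfsg.Agent.H78.Pair3

/-! Involution centralizers `2^(1+8).L` with `3 × A₆ ≤ L ≤ S₃ × S₆`: hypotheses, the weakly closed
case and the local facts of the fused case. -/

set_option autoImplicit false

namespace H59.SA

open Cfsg H78 H1.LX H93.LX Equiv

abbrev S3 := Perm (Fin 3)
abbrev S6 := Perm (Fin 6)

variable {G : Type*} [Group G]

/-- `C(z)/O₂(C(z))` is a subgroup of `S₃ × S₆` containing `A₃ × A₆` -/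
structure Hyp (z : G) (φ : G → S3 × S6) : Prop where
  big : Big z 4
  mul : ∀ {x y}, x * z = z * x → y * z = z * y → φ (x * y) = φ x * φ y
  ker : ∀ {x}, x * z = z * x → (φ x = 1 ↔ x ∈ O2C z)
  surj : ∀ g h, Perm.sign g = 1 → Perm.sign h = 1 → ∃ x, x * z = z * x ∧ φ x = (g, h)

theorem cmul {x y z : G} (hx : x * z = z * x) (hy : y * z = z * y) : x * y * z = z * (x * y) :=
  Commute.mul_left hx hy

theorem cinv {x z : G} (hx : x * z = z * x) : x⁻¹ * z = z * x⁻¹ := Commute.inv_left hx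

theorem s3_comm : ∀ a b : S3, (a * b * a⁻¹ * b⁻¹) * (a * b * a⁻¹ * b⁻¹) = 1 →
    a * b * a⁻¹ * b⁻¹ = 1 := by decide +kernel

theorem s3_even : ∀ a : S3, Perm.sign a = 1 → a * a = 1 → a = 1 := by decide

namespace Hyp

variable {z : G} {φ : G → S3 × S6} (h : Hyp z φ)
include h

theorem lx : LX (O2C z) z := h.big.lx

theorem cQ {x : G} (hx : x ∈ O2C z) : x * z = z * x := (h.lx.z_comm x hx).symm

theorem of_mem {x : G} (hx : x ∈ O2C z) : φ x = 1 := (h.ker (h.cQ hx)).2 hx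

theorem one : φ 1 = 1 := h.of_mem (Subgroup.one_mem _)

theorem inv {x : G} (hx : x * z = z * x) : φ x⁻¹ = (φ x)⁻¹ :=
  eq_inv_of_mul_eq_one_left (by rw [← h.mul (cinv hx) hx, inv_mul_cancel, h.one])

theorem conj {x y : G} (hx : x * z = z * x) (hy : y * z = z * y) :
    φ (x * y * x⁻¹) = φ x * φ y * (φ x)⁻¹ := by
  rw [h.mul (cmul hx hy) (cinv hx), h.mul hx hy, h.inv hx]

theorem comm {x y : G} (hx : x * z = z * x) (hy : y * z = z * y) :
    φ (x * y * x⁻¹ * y⁻¹) = φ x * φ y * (φ x)⁻¹ * (φ y)⁻¹ := by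
  rw [h.mul (cmul (cmul hx hy) (cinv hx)) (cinv hy), h.conj hx hy, h.inv hy]

/-- the restriction of `φ` to a subgroup of `C(z)` -/
def hom (K : Subgroup G) (hK : ∀ x ∈ K, x * z = z * x) : K →* S3 × S6 :=
  MonoidHom.mk' (fun x => φ x) fun x y => h.mul (hK x x.2) (hK y y.2)

theorem hom_apply (K : Subgroup G) (hK : ∀ x ∈ K, x * z = z * x) (x : K) :
    h.hom K hK x = φ x := rfl

/-- twisting by an automorphism of `S₆` -/
theorem twist (ψ : S6 ≃* S6) : Hyp z fun x => ((φ x).1, ψ (φ x).2) where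
  big := h.big
  mul hx hy := by rw [h.mul hx hy]; ext1 <;> simp
  ker hx := by rw [← h.ker hx, Prod.ext_iff, Prod.ext_iff]; simp
  surj g k hg hk := by
    have e : (alternatingGroup (Fin 6)).map (ψ.symm : S6 →* S6) = alternatingGroup (Fin 6) :=
      Perm.eq_alternatingGroup_of_index_eq_two (by
        rw [Subgroup.index_map_of_bijective ψ.symm.bijective, alternatingGroup.index_eq_two])
    have : ψ.symm k ∈ alternatingGroup (Fin 6) := e ▸ ⟨k, hk, rfl⟩
    obtain ⟨x, hx, e⟩ := h.surj g (ψ.symm k) hg this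
    exact ⟨x, hx, by simp [e]⟩

/-- the weakly closed case -/
theorem not_wc [Finite G] (hb : ∃ t, Nb z t) : ¬ WC z := fun hw => by
  obtain ⟨d, -, hd, hU, -⟩ := (H19.LX.jobWC2 jobWC1 G z 4 (by norm_num) h.big hw hb).two
  have pr := pr_of_nb (by norm_num) h.big hw ⟨hd, hU.ne, hU.comm⟩
  have c1 := pr.symm.tyU_card_R (tyU_symm hU)
  have hD := big_conj h.big hd
  set P := O2C d ⊓ cen z with hP
  have hPz : ∀ x ∈ P, x * z = z * x := fun x hx => (mem_inf_cen.1 hx).2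
  have hdP : d ∈ P := mem_inf_cen.2 ⟨hD.lx.z_mem, hU.comm.symm⟩
  have c2 := card_cent hD.lx.toXS hD.card (K := P) inf_le_left hdP fun x => mem_centr
  have hdQ : φ d ≠ 1 := fun e => hU.ne (hw d hd ((h.ker hU.comm.symm).1 e))
  have hdd : φ d * φ d = 1 := by rw [← h.mul (hPz d hdP) (hPz d hdP), hD.lx.z_sq, h.one]
  have hc : ∀ x ∈ P, ∀ y ∈ P, x * y ≠ y * x → φ x * φ y * (φ x)⁻¹ * (φ y)⁻¹ = φ d :=
    fun x hx y hy e => by
      rw [← h.comm (hPz x hx) (hPz y hy)]
      rcases hD.lx.toXS.comm_eq_or hx.1 hy.1 with h1 | h1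
      · exact absurd (by rwa [mul_inv_eq_one, mul_inv_eq_iff_eq_mul] at h1) e
      · rw [h1]
  have hd1 : (φ d).1 = 1 := by
    have hab : ¬ ∀ x ∈ P, ∀ y ∈ P, x * y = y * x := fun hab => by
      have : Nat.card P ≤ _ := card_ab_le hD.lx.toXS hD.card inf_le_left hdP hab
      omega
    push Not at hab
    obtain ⟨x, hx, y, hy, e⟩ := hab
    have h1 := congrArg Prod.fst (hc x hx y hy e)
    have h2 := congrArg Prod.fst hdd
    rw [Prod.fst_mul, ← h1] at h2
    exact h1 ▸ s3_comm _ _ h2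
  have hd2 : (φ d).2 ≠ 1 := fun e => hdQ (Prod.ext hd1 e)
  let ψ : P →* S6 := (MonoidHom.snd S3 S6).comp (h.hom P hPz)
  have c3 := two_mul_card_le (A := ψ.ker.map P.subtype)
    (B := O2C d ⊓ Subgroup.centralizer (P : Set G)) (x := d) (by
      rintro _ ⟨x, hx, rfl⟩
      refine mem_centr.2 ⟨x.2.1, fun y hy => ?_⟩
      by_contra e
      have h1 := congrArg Prod.snd (hc x x.2 y hy e)
      have h2 : (φ x).2 = 1 := hx
      simp [h2] at h1
      exact hd2 h1.symm)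
    (mem_centr.2 ⟨hD.lx.z_mem, fun y hy => hD.lx.z_comm y hy.1⟩) (by
      rintro ⟨x, hx, e⟩
      have h2 : (φ x).2 = 1 := hx
      exact hd2 (e ▸ h2))
  rw [Subgroup.card_map_of_injective P.subtype_injective] at c3
  have c4 := ψ.ker.card_mul_index
  rw [Subgroup.index_ker] at c4
  have c5 := Subgroup.card_subgroup_dvd_card ψ.range
  rw [Nat.card_perm, Nat.card_fin] at c5
  have c6 : Nat.card P = 128 := by omega
  rw [c6] at c2 c4
  have c7 : Nat.card ψ.ker ≤ 4 := by omega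
  generalize Nat.card ψ.ker = k at c4 c7
  generalize Nat.card ψ.range = r at c4 c5
  interval_cases k
  · omega
  · obtain rfl : r = 128 := by omega
    exact absurd c5 (by decide)
  · obtain rfl : r = 64 := by omega
    exact absurd c5 (by decide)
  · omega
  · obtain rfl : r = 32 := by omega
    exact absurd c5 (by decide)

theorem pair [Finite G] {s : G} (hs : Cj z s) (hQ : s ∈ O2C z) (hne : s ≠ z) :
    Pair (O2C z) (O2C s) z s := by
  obtain ⟨g, rfl⟩ := hs
  have h1 := h.lx.symm_O2C hQ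
  rw [O2C_conj] at h1 ⊢
  exact h.lx.pair hQ h1 hne

/-- an element of `C_P(z)` mapping onto an involution of `A₆` -/
theorem exists_a [Finite G] {s : G} (hs : Cj z s) (hQ : s ∈ O2C z) (hne : s ≠ z) :
    ∃ a ∈ O2C s, a * z = z * a ∧ (φ a).1 = 1 ∧ Perm.sign (φ a).2 = 1 ∧ (φ a).2 ≠ 1 := by
  have pr := h.pair hs hQ hne
  have hS := big_conj h.big hs
  set P := O2C s ⊓ cen z with hP
  have hPz : ∀ x ∈ P, x * z = z * x := fun x hx => (mem_inf_cen.1 hx).2
  have c1 : Nat.card (O2C s) ≤ 2 * Nat.card P := card_le_two_mul_inf hS.lx.toXS le_rfl pr.z_mem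
  have c2 := card_ab_le h.lx.toXS h.big.card (K := O2C z ⊓ O2C s) inf_le_left
    ⟨h.lx.z_mem, pr.z_mem⟩ fun x hx y hy => pr.E_comm hx hy
  by_contra hc
  push Not at hc
  have c3 := card_le_mul (K := O2C z ⊓ O2C s) (B := P)
    (fun x => (Perm.sign (φ x).1, Perm.sign (φ x).2)) fun x y e => by
      have hxy : (x : G)⁻¹ * y ∈ P := P.mul_mem (P.inv_mem x.2) y.2
      refine ⟨?_, hxy.1⟩
      have e0 : φ ((x : G)⁻¹ * y) = (φ x)⁻¹ * φ y := by
        rw [h.mul (cinv (hPz x x.2)) (hPz y y.2), h.inv (hPz x x.2)]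
      have e1 : Perm.sign (φ ((x : G)⁻¹ * y)).1 = 1 := by
        rw [e0, Prod.fst_mul, Prod.fst_inv, map_mul, map_inv, (Prod.mk.inj e).1, inv_mul_cancel]
      have e2 : Perm.sign (φ ((x : G)⁻¹ * y)).2 = 1 := by
        rw [e0, Prod.snd_mul, Prod.snd_inv, map_mul, map_inv, (Prod.mk.inj e).2, inv_mul_cancel]
      have e3 : φ ((x : G)⁻¹ * y) * φ ((x : G)⁻¹ * y) = 1 := by
        rw [← h.mul (hPz _ hxy) (hPz _ hxy)]
        rcases hS.lx.sq _ hxy.1 with h1 | h1 <;> rw [h1]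
        · exact h.one
        · exact h.of_mem hQ
      have e4 := s3_even _ e1 (congrArg Prod.fst e3)
      exact (h.ker (hPz _ hxy)).1 (Prod.ext e4 (hc _ hxy.1 (hPz _ hxy) e4 e2))
  rw [Nat.card_prod, Nat.card_eq_fintype_card (α := ℤˣ), Fintype.card_units_int] at c3
  rw [hS.card] at c1
  omega

end Hyp

end H59.SA
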