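import Cfsg.Agent.H59.SA1

/-! Elements of order 3 and 5 acting on a quadratic space of order 256. -/

set_option autoImplicit false

namespace H59.SA

open H19.LX Module

variable {V : Type*} [AddCommGroup V] [Module (ZMod 2) V]

theorem sixteen_le [Finite V] (hV : Nat.card V = 256) (F : End (ZMod 2) V)
    (hF : ∀ v, F (F (F (F (F v)))) = v) (S : Submodule (ZMod 2) V) (h1 : ∀ v ∈ S, F v ∈ S)
    (h2 : ∀ v ∈ S, F (F (F (F v))) + F (F (F v)) + F (F v) + F v + v = 0) {y : V} (hy : y ∈ S)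
    (hy0 : y ≠ 0) : 16 ≤ Nat.card S := by
  classical
  have := Fintype.ofFinite S
  have : Fact (Nat.Prime 5) := ⟨by norm_num⟩
  let f : Function.End S := fun v => ⟨F v, h1 v v.2⟩
  have h3 : f ^ 5 ^ 1 = 1 := funext fun v => Subtype.ext (hF v)
  have h4 := Equiv.Perm.card_fixedPoints_modEq h3
  have h5 : Fintype.card f.fixedPoints = 1 := by
    rw [Fintype.card_eq_one_iff]
    refine ⟨⟨0, Subtype.ext (map_zero F)⟩, fun v => Subtype.ext (Subtype.ext ?_)⟩
    have e : F v.1.1 = v.1.1 := congrArg Subtype.val v.2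
    have := h2 _ v.1.2
    simp only [e] at this
    change v.1.1 = 0
    linear_combination (norm := (apply mod2; match_scalars; decide)) this
  have h6 : Nat.card S ∣ 2 ^ 8 := by
    rw [show 2 ^ 8 = Nat.card V by rw [hV]; rfl]
    exact AddSubgroup.card_addSubgroup_dvd_card S.toAddSubgroup
  have h7 : Nat.card S ≠ 1 := fun e => by
    have := (Nat.card_eq_one_iff_unique.1 e).1
    exact hy0 (congrArg Subtype.val (Subsingleton.elim (⟨y, hy⟩ : S) 0))
  rw [h5, ← Nat.card_eq_fintype_card] at h4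
  obtain ⟨k, hk, e⟩ := (Nat.dvd_prime_pow Nat.prime_two).1 h6
  rw [e] at h4 h7 ⊢
  interval_cases k <;> first | omega | exact absurd h4 (by decide)

theorem fpf_lin [Finite V] (hV : Nat.card V = 256) {B : V →ₗ[ZMod 2] V →ₗ[ZMod 2] ZMod 2}
    (hB : Alt B) (q : V → ZMod 2) (hq : ∀ u v, q (u + v) = q u + q v + B u v)
    (θ F : End (ZMod 2) V) (hθ : ∀ v, θ (θ (θ v)) = v) (hF : ∀ v, F (F (F (F (F v)))) = v)
    (hc : ∀ v, F (θ v) = θ (F v)) (qθ : ∀ v, q (θ v) = q v) (qF : ∀ v, q (F v) = q v)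
    (hne : ∃ y, F (θ y + θ (θ y)) ≠ θ y + θ (θ y)) :
    (∀ v, θ (θ v) + θ v + v = 0) ∧ ∀ v, F (F (F (F v))) + F (F (F v)) + F (F v) + F v + v = 0 := by
  have Bθ : ∀ u v, B (θ u) (θ v) = B u v := fun u v => by
    have := hq (θ u) (θ v)
    rw [← map_add, qθ, qθ, qθ, hq] at this
    exact (add_left_cancel this).symm
  have BF : ∀ u v, B (F u) (F v) = B u v := fun u v => by
    have := hq (F u) (F v)
    rw [← map_add, qF, qF, qF, hq] at this
    exact (add_left_cancel this).symm
  let Φ : End (ZMod 2) V := F * F * F * F + F * F * F + F * F + F + 1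
  have hΦ : ∀ v, Φ v = F (F (F (F v))) + F (F (F v)) + F (F v) + F v + v := fun v => rfl
  let N1 := LinearMap.ker Φ ⊓ LinearMap.ker (θ + F + F * F * F * F)
  let N2 := LinearMap.ker Φ ⊓ LinearMap.ker (θ + F * F + F * F * F)
  have m1 : ∀ v, v ∈ N1 ↔ F (F (F (F v))) + F (F (F v)) + F (F v) + F v + v = 0 ∧
      θ v + F v + F (F (F (F v))) = 0 := fun v => Iff.rfl
  have m2 : ∀ v, v ∈ N2 ↔ F (F (F (F v))) + F (F (F v)) + F (F v) + F v + v = 0 ∧
      θ v + F (F v) + F (F (F v)) = 0 := fun v => Iff.rfl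
  have t1 : ∀ v ∈ N1, θ (θ v) + θ v + v = 0 := fun v hv => by
    obtain ⟨a, b⟩ := (m1 v).1 hv
    have b1 := congrArg θ b
    have b2 := congrArg F b
    have b3 := congrArg F (congrArg F (congrArg F b2))
    simp only [map_add, map_zero, hc, hF] at b1 b2 b3
    linear_combination (norm := (apply mod2; match_scalars <;> decide)) a + b + b1 + b2 + b3
  have t2 : ∀ v ∈ N2, θ (θ v) + θ v + v = 0 := fun v hv => by
    obtain ⟨a, b⟩ := (m2 v).1 hv
    have b1 := congrArg θ b
    have b2 := congrArg F (congrArg F b)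
    have b3 := congrArg F b2
    simp only [map_add, map_zero, hc, hF] at b1 b2 b3
    linear_combination (norm := (apply mod2; match_scalars <;> decide)) a + b + b1 + b2 + b3
  have qB : ∀ v, θ (θ v) + θ v + v = 0 → q v = B v (θ v) := fun v hv => by
    have h1 := hq v (θ v)
    rw [show v + θ v = θ (θ v) by
      linear_combination (norm := (apply mod2; match_scalars <;> decide)) hv, qθ, qθ] at h1
    generalize q v = a at h1 ⊢
    generalize B v (θ v) = b at h1 ⊢
    revert a b; decide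
  have q1 : ∀ v ∈ N1, q v = 0 := fun v hv => by
    rw [qB v (t1 v hv), show θ v = F v + F (F (F (F v))) by
      linear_combination (norm := (apply mod2; match_scalars <;> decide)) ((m1 v).1 hv).2,
      map_add, ← BF v (F (F (F (F v)))), hF, hB.symm (F v), H78.zmod2_add_self]
  have q2 : ∀ v ∈ N2, q v = 0 := fun v hv => by
    rw [qB v (t2 v hv), show θ v = F (F v) + F (F (F v)) by
      linear_combination (norm := (apply mod2; match_scalars <;> decide)) ((m2 v).1 hv).2,
      map_add, ← BF v (F (F (F v))), ← BF (F v), hF, hB.symm (F (F v)), H78.zmod2_add_self]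
  -- the projection
  let P : End (ZMod 2) V := (θ + θ * θ) * (F + F * F + F * F * F + F * F * F * F)
  have hP : ∀ v, P v = θ (F v) + θ (F (F v)) + θ (F (F (F v))) + θ (F (F (F (F v)))) +
      (θ (θ (F v)) + θ (θ (F (F v))) + θ (θ (F (F (F v)))) + θ (θ (F (F (F (F v)))))) :=
    fun v => by simp [P]
  have dec : ∀ v, ∃ a ∈ N1, ∃ b ∈ N2, P v = a + b := fun v => by
    refine ⟨θ (P v) + F (F (P v)) + F (F (F (P v))), (m1 _).2 ⟨?_, ?_⟩,
      θ (P v) + F (P v) + F (F (F (F (P v)))), (m2 _).2 ⟨?_, ?_⟩, ?_⟩ <;>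
    simp only [hP, map_add, hc, hF, hθ] <;> apply mod2 <;> match_scalars <;> decide
  have adj : ∀ u v, B (P u) v = B u (P v) := fun u v => by
    have a1 : ∀ u v, B (θ u) v = B u (θ (θ v)) := fun u v => by rw [← Bθ u, hθ]
    have a2 : ∀ u v, B (F u) v = B u (F (F (F (F v)))) := fun u v => by rw [← BF u, hF]
    simp only [hP, map_add, LinearMap.add_apply, a1, a2, hc, hF, hθ]
    abel
  obtain ⟨y, hy⟩ := hne
  have hPy : P y ≠ 0 := fun e => hy (by
    have e1 := congrArg F e
    rw [hP] at e e1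
    simp only [map_add, map_zero, hc, hF] at e1 ⊢
    linear_combination (norm := (apply mod2; match_scalars <;> decide)) e + e1)
  have PP : ∀ v, P (P v) = P v := fun v => by
    simp only [hP, map_add, hc, hF, hθ]
    apply mod2; match_scalars <;> decide
  have key : ∀ S : Submodule (ZMod 2) V, (∀ v ∈ S, q v = 0) → ¬ ∀ v, P v ∈ S := fun S h1 h2 =>
    hPy (hB.nd _ fun u => by
      have := hq (P u) (P y)
      rw [h1 _ (S.add_mem (h2 u) (h2 y)), h1 _ (h2 u), h1 _ (h2 y), adj, PP] at this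
      simpa using this.symm)
  have n1 : ∃ a ∈ N1, a ≠ 0 := by
    by_contra! hn
    refine key N2 q2 fun v => ?_
    obtain ⟨a, ha, b, hb, e⟩ := dec v
    rwa [e, hn a ha, zero_add]
  have n2 : ∃ a ∈ N2, a ≠ 0 := by
    by_contra! hn
    refine key N1 q1 fun v => ?_
    obtain ⟨a, ha, b, hb, e⟩ := dec v
    rwa [e, hn b hb, add_zero]
  obtain ⟨a, ha, ha0⟩ := n1
  obtain ⟨b, hb, hb0⟩ := n2
  have c1 := sixteen_le hV F hF N1 (fun v hv => by
    obtain ⟨x1, x2⟩ := (m1 v).1 hv
    exact (m1 _).2 ⟨by simpa using congrArg F x1, by simpa [hc] using congrArg F x2⟩)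
    (fun v hv => hv.1) ha ha0
  have c2 := sixteen_le hV F hF N2 (fun v hv => by
    obtain ⟨x1, x2⟩ := (m2 v).1 hv
    exact (m2 _).2 ⟨by simpa using congrArg F x1, by simpa [hc] using congrArg F x2⟩)
    (fun v hv => hv.1) hb hb0
  have inj : Function.Injective fun x : N1 × N2 => x.1.1 + x.2.1 := fun x y e => by
    have e0 : x.1.1 + x.2.1 = y.1.1 + y.2.1 := e
    have e1 : x.1.1 + y.1.1 = x.2.1 + y.2.1 := by
      linear_combination (norm := (apply mod2; match_scalars <;> decide)) e0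
    have x1 := (m1 _).1 (N1.add_mem x.1.2 y.1.2)
    have x2 := (m2 _).1 (N2.add_mem x.2.2 y.2.2)
    rw [← e1] at x2
    have e2 : x.1.1 + y.1.1 = 0 := by
      linear_combination (norm := (apply mod2; match_scalars <;> decide)) x1.1 + x1.2 + x2.2
    exact Prod.ext (Subtype.ext (add_eq_zero.1 e2)) (Subtype.ext (add_eq_zero.1 (e1 ▸ e2)))
  have sur := (inj.bijective_of_nat_card_le (by rw [Nat.card_prod, hV]; nlinarith)).2
  refine ⟨fun v => ?_, fun v => ?_⟩ <;> obtain ⟨x, rfl⟩ := sur v <;> simp only [map_add]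
  · linear_combination (norm := (apply mod2; match_scalars <;> decide)) t1 _ x.1.2 + t2 _ x.2.2
  · linear_combination (norm := (apply mod2; match_scalars <;> decide))
      ((m1 _).1 x.1.2).1 + ((m2 _).1 x.2.2).1

end H59.SA
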