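import Cfsg.Agent.H59.SA2

/-! The duad vectors of an `A₆`-module on which the elements of order 5 act without fixed points. -/

set_option autoImplicit false

namespace H59.SA

open H19.LX Module Equiv

/-- an even permutation with prescribed values on `0, 1, 2, 3` -/
def mk4 (j k l m : Fin 6) : S6 :=
  let a := swap 0 j
  let b := a * swap 1 (a⁻¹ k)
  let c := b * swap 2 (b⁻¹ l)
  let d := c * swap 3 (c⁻¹ m)
  if Perm.sign d = 1 then d else d * swap 4 5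

theorem mk4_spec : ∀ j k l m : Fin 6, j ≠ k → j ≠ l → j ≠ m → k ≠ l → k ≠ m → l ≠ m →
    Perm.sign (mk4 j k l m) = 1 ∧ mk4 j k l m 0 = j ∧ mk4 j k l m 1 = k ∧ mk4 j k l m 2 = l ∧
      mk4 j k l m 3 = m := by decide +kernel

theorem ex4 {j k l m : Fin 6} (h1 : j ≠ k) (h2 : j ≠ l) (h3 : j ≠ m) (h4 : k ≠ l) (h5 : k ≠ m)
    (h6 : l ≠ m) : ∃ g : S6, Perm.sign g = 1 ∧ g 0 = j ∧ g 1 = k ∧ g 2 = l ∧ g 3 = m :=
  ⟨_, mk4_spec j k l m h1 h2 h3 h4 h5 h6⟩

theorem ex3 {j k l : Fin 6} (h1 : j ≠ k) (h2 : j ≠ l) (h4 : k ≠ l) :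
    ∃ g : S6, Perm.sign g = 1 ∧ g 0 = j ∧ g 1 = k ∧ g 2 = l := by
  obtain ⟨m, h3, h5, h6⟩ : ∃ m, j ≠ m ∧ k ≠ m ∧ l ≠ m := by revert j k l; decide
  obtain ⟨g, a, b, c, d, -⟩ := ex4 h1 h2 h3 h4 h5 h6
  exact ⟨g, a, b, c, d⟩

theorem ex2 {j k : Fin 6} (h1 : j ≠ k) : ∃ g : S6, Perm.sign g = 1 ∧ g 0 = j ∧ g 1 = k := by
  obtain ⟨m, h3, h5⟩ : ∃ m, j ≠ m ∧ k ≠ m := by revert j k; decide
  obtain ⟨g, a, b, c, -⟩ := ex3 h1 h3 h5
  exact ⟨g, a, b, c⟩

/-- the cycle `a ↦ b ↦ c ↦ a` -/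
def c3 (a b c : Fin 6) : S6 := swap a c * swap a b

/-- the cycle `a ↦ b ↦ c ↦ d ↦ e ↦ a` -/
def c5 (a b c d e : Fin 6) : S6 := swap a e * swap a d * swap a c * swap a b

set_option synthInstance.maxSize 1024 in
theorem fix3 : ∀ k : S6, k 0 = 0 → k 1 = 1 → k 2 = 2 → Perm.sign k = 1 →
    k = 1 ∨ k = c3 3 4 5 ∨ k = c3 3 4 5 * c3 3 4 5 := by decide +kernel

variable {V : Type*} [AddCommGroup V] [Module (ZMod 2) V]

/-- a representation of `A₆` in which the elements of order 5 have no fixed points -/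
structure Rep (r : S6 → End (ZMod 2) V) : Prop where
  one : ∀ v, r 1 v = v
  mul : ∀ {a b}, Perm.sign a = 1 → Perm.sign b = 1 → ∀ v, r (a * b) v = r a (r b v)
  five : ∀ f, Perm.sign f = 1 → f * f * f * f * f = 1 → f ≠ 1 → ∀ v,
    r f (r f (r f (r f v))) + r f (r f (r f v)) + r f (r f v) + r f v + v = 0

theorem sgn_mul {a b : S6} (ha : Perm.sign a = 1) (hb : Perm.sign b = 1) :
    Perm.sign (a * b) = 1 := by rw [map_mul, ha, hb, mul_one]

theorem sgn_inv {a : S6} (ha : Perm.sign a = 1) : Perm.sign a⁻¹ = 1 := by rw [map_inv, ha, inv_one]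

namespace Rep

variable {r : S6 → End (ZMod 2) V} (h : Rep r)
include h

theorem exists_triple {v : V} (hv : r (c3 3 4 5) v = v) :
    ∃ F : Fin 6 → Fin 6 → Fin 6 → V, F 0 1 2 = v ∧ ∀ g, Perm.sign g = 1 →
      ∀ i j k, i ≠ j → i ≠ k → j ≠ k → r g (F i j k) = F (g i) (g j) (g k) := by
  classical
  have h1 : ∀ g g' : S6, Perm.sign g = 1 → Perm.sign g' = 1 → g 0 = g' 0 → g 1 = g' 1 →
      g 2 = g' 2 → r g v = r g' v := fun g g' a b e0 e1 e2 => by
    have c := sgn_mul (sgn_inv b) a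
    rw [← mul_inv_cancel_left g' g, h.mul b c]
    congr 1
    rcases fix3 (g'⁻¹ * g) (by simp [e0]) (by simp [e1]) (by simp [e2]) c with e | e | e <;> rw [e]
    · exact h.one v
    · exact hv
    · rw [h.mul (by decide) (by decide), hv, hv]
  have h2 : ∀ i j k : Fin 6, ∃ w, ∀ g : S6, Perm.sign g = 1 → g 0 = i → g 1 = j → g 2 = k →
      r g v = w := fun i j k => by
    by_cases e : ∃ g : S6, Perm.sign g = 1 ∧ g 0 = i ∧ g 1 = j ∧ g 2 = k
    · obtain ⟨g, a, b, c, d⟩ := e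
      exact ⟨r g v, fun g' a' b' c' d' => h1 _ _ a' a (b'.trans b.symm) (c'.trans c.symm)
        (d'.trans d.symm)⟩
    · exact ⟨0, fun g a b c d => absurd ⟨g, a, b, c, d⟩ e⟩
  choose F hF using h2
  refine ⟨F, (hF 0 1 2 1 (by simp) rfl rfl rfl).symm.trans (h.one v), fun g hg i j k a b c => ?_⟩
  obtain ⟨g', s, e0, e1, e2⟩ := ex3 a b c
  rw [← hF i j k g' s e0 e1 e2, ← h.mul hg s]
  exact hF _ _ _ _ (sgn_mul hg s) (by simp [e0]) (by simp [e1]) (by simp [e2])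

theorem exists_pair {v : V} (hv : r (c3 3 4 5) v = v) (hv0 : v ≠ 0) :
    ∃ W : Fin 6 → Fin 6 → V, W 0 1 ≠ 0 ∧ ∀ g, Perm.sign g = 1 →
      ∀ i j, i ≠ j → r g (W i j) = W (g i) (g j) := by
  obtain ⟨F, h0, hF⟩ := h.exists_triple hv
  let W : Fin 6 → Fin 6 → V := fun i j => ∑ l, if l = i ∨ l = j then 0 else F i j l
  let W' : Fin 6 → Fin 6 → V := fun i j => ∑ l, if l = i ∨ l = j then 0 else F i l j
  have hW : ∀ g, Perm.sign g = 1 → ∀ i j, i ≠ j → r g (W i j) = W (g i) (g j) :=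
    fun g hg i j e => by
      simp only [W]
      rw [map_sum, ← Equiv.sum_comp g fun l => if l = g i ∨ l = g j then 0 else F (g i) (g j) l]
      refine Finset.sum_congr rfl fun l _ => ?_
      simp only [EmbeddingLike.apply_eq_iff_eq]
      split_ifs with a
      · exact map_zero _
      · push Not at a
        exact hF g hg _ _ _ e a.1.symm a.2.symm
  have hW' : ∀ g, Perm.sign g = 1 → ∀ i j, i ≠ j → r g (W' i j) = W' (g i) (g j) :=
    fun g hg i j e => by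
      simp only [W']
      rw [map_sum, ← Equiv.sum_comp g fun l => if l = g i ∨ l = g j then 0 else F (g i) l (g j)]
      refine Finset.sum_congr rfl fun l _ => ?_
      simp only [EmbeddingLike.apply_eq_iff_eq]
      split_ifs with a
      · exact map_zero _
      · push Not at a
        exact hF g hg _ _ _ a.1.symm e a.2
  by_contra hc
  push Not at hc
  have a1 : W 0 1 = 0 := by_contra fun e => by
    obtain ⟨g, hg, i, j, e1, e2⟩ := hc W e
    exact e2 (hW g hg i j e1)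
  have a2 : W' 0 1 = 0 := by_contra fun e => by
    obtain ⟨g, hg, i, j, e1, e2⟩ := hc W' e
    exact e2 (hW' g hg i j e1)
  have a3 : W 0 2 = 0 := by
    have := hW (c3 1 2 3) (by decide) 0 1 (by decide)
    rw [a1, map_zero] at this
    exact this.symm
  have pent : ∀ a b c d e : Fin 6, (Perm.sign (c5 a b c d e) = 1 ∧
      c5 a b c d e * c5 a b c d e * c5 a b c d e * c5 a b c d e * c5 a b c d e = 1 ∧
      c5 a b c d e ≠ 1 ∧ c5 a b c d e 0 = 0 ∧ c5 a b c d e a = b ∧ c5 a b c d e b = c ∧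
      c5 a b c d e c = d ∧ c5 a b c d e d = e ∧ c5 a b c d e e = a ∧ 0 ≠ a ∧ 0 ≠ b ∧ 0 ≠ c ∧
      0 ≠ d ∧ 0 ≠ e ∧ a ≠ b ∧ b ≠ c ∧ c ≠ d ∧ d ≠ e) →
      F 0 e a + F 0 d e + F 0 c d + F 0 b c + F 0 a b = 0 := by
    rintro a b c d e ⟨s, p, n, f0, fa, fb, fc, fd, fe, x1, x2, x3, x4, x5, y1, y2, y3, y4⟩
    have := h.five _ s p n (F 0 a b)
    rwa [hF _ s _ _ _ x1 x2 y1, f0, fa, fb, hF _ s _ _ _ x2 x3 y2, f0, fb, fc,
      hF _ s _ _ _ x3 x4 y3, f0, fc, fd, hF _ s _ _ _ x4 x5 y4, f0, fd, fe] at this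
  have p1 := pent 1 2 3 4 5 (by decide +kernel)
  have p2 := pent 1 2 4 5 3 (by decide +kernel)
  have p3 := pent 1 2 5 3 4 (by decide +kernel)
  simp only [W, W', Fin.sum_univ_six] at a2 a3
  norm_num [Fin.ext_iff] at a2 a3
  refine hv0 (h0 ▸ ?_)
  linear_combination (norm := (apply mod2; match_scalars <;> decide)) p1 + p2 + p3 + a2 + a3

theorem exists_duad {v : V} (hv : r (c3 3 4 5) v = v) (hv0 : v ≠ 0) :
    ∃ W : Fin 6 → Fin 6 → V, W 0 1 ≠ 0 ∧ (∀ i j, i ≠ j → W i j = W j i) ∧ ∀ g, Perm.sign g = 1 →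
      ∀ i j, i ≠ j → r g (W i j) = W (g i) (g j) := by
  obtain ⟨W, h0, hW⟩ := h.exists_pair hv hv0
  by_cases e : W 0 1 = W 1 0
  · refine ⟨W, h0, fun i j hij => ?_, hW⟩
    obtain ⟨g, s, rfl, rfl⟩ := ex2 hij
    rw [← hW g s 0 1 (by decide), e, hW g s 1 0 (by decide)]
  · exact ⟨fun i j => W i j + W j i, fun e' => e (add_eq_zero.1 e'), fun i j _ => add_comm _ _,
      fun g s i j hij => by rw [map_add, hW g s i j hij, hW g s j i hij.symm]⟩

/-- the relations between the duad vectors -/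
theorem duad_rel {W : Fin 6 → Fin 6 → V} (hs : ∀ i j, i ≠ j → W i j = W j i)
    (hW : ∀ g, Perm.sign g = 1 → ∀ i j, i ≠ j → r g (W i j) = W (g i) (g j)) :
    (∀ i j k, i ≠ j → i ≠ k → j ≠ k → W i j + W i k = W j k) ∧
      W 4 5 = W 0 5 + W 1 5 + W 2 5 + W 3 5 := by
  have pent : ∀ f : S6, ∀ a b : Fin 6, (Perm.sign f = 1 ∧ f * f * f * f * f = 1 ∧ f ≠ 1 ∧ a ≠ b) →
      W (f (f (f (f a)))) (f (f (f (f b)))) + W (f (f (f a))) (f (f (f b))) +
        W (f (f a)) (f (f b)) + W (f a) (f b) + W a b = 0 := by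
    rintro f a b ⟨s, p, n, x⟩
    have := h.five _ s p n (W a b)
    have x1 := f.injective.ne x
    have x2 := f.injective.ne x1
    rwa [hW _ s _ _ x, hW _ s _ _ x1, hW _ s _ _ x2, hW _ s _ _ (f.injective.ne x2)] at this
  have p1 : W 4 0 + W 3 4 + W 2 3 + W 1 2 + W 0 1 = 0 := pent (c5 0 1 2 3 4) 0 1 (by decide +kernel)
  have p2 : W 1 0 + W 3 1 + W 4 3 + W 2 4 + W 0 2 = 0 := pent (c5 0 2 4 3 1) 0 2 (by decide +kernel)
  have p3 : W 1 0 + W 3 1 + W 2 3 + W 4 2 + W 0 4 = 0 := pent (c5 0 4 2 3 1) 0 4 (by decide +kernel)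
  have p5 : W 4 5 + W 3 5 + W 2 5 + W 1 5 + W 0 5 = 0 := pent (c5 0 1 2 3 4) 0 5 (by decide +kernel)
  rw [hs 4 0 (by decide)] at p1
  rw [hs 4 3 (by decide)] at p2
  rw [hs 4 2 (by decide)] at p3
  have t : W 0 1 + W 0 2 = W 1 2 := by
    linear_combination (norm := (apply mod2; match_scalars <;> decide)) p1 + p2 + p3
  refine ⟨fun i j k a b c => ?_, ?_⟩
  · obtain ⟨g, s, rfl, rfl, rfl⟩ := ex3 a b c
    rw [← hW g s 0 1 (by decide), ← hW g s 0 2 (by decide), ← hW g s 1 2 (by decide), ← map_add, t]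
  · linear_combination (norm := (apply mod2; match_scalars <;> decide)) p5

end Rep

end H59.SA
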