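import Cfsg.Agent.H59.SA3

/-! The model `N ⊗ U` of the `S₃ × S₆`-module and the frame theorem. -/

set_option autoImplicit false

namespace H59.SA

open H19.LX Module Equiv

abbrev U0 := Fin 4 → ZMod 2
abbrev Md := U0 × U0

def yv : Fin 6 → U0 :=
  ![![1, 0, 0, 0], ![0, 1, 0, 0], ![0, 0, 1, 0], ![0, 0, 0, 1], ![1, 1, 1, 1], ![0, 0, 0, 0]]

/-- the duad vectors -/
def du (j k : Fin 6) : U0 := yv j + yv k

def om (u v : U0) : ZMod 2 :=
  (u 0 + u 1 + u 2 + u 3) * (v 0 + v 1 + v 2 + v 3) + (u 0 * v 0 + u 1 * v 1 + u 2 * v 2 + u 3 * v 3)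

def q0 (m : Md) : ZMod 2 := om m.1 m.2

def b0 (m m' : Md) : ZMod 2 := om m.1 m'.2 + om m.2 m'.1

/-- the linear map with prescribed values on the basis -/
def lc {V : Type*} [AddCommGroup V] [Module (ZMod 2) V] (a b c d : V) : U0 →ₗ[ZMod 2] V where
  toFun u := u 0 • a + u 1 • b + u 2 • c + u 3 • d
  map_add' u v := by simp only [Pi.add_apply]; module
  map_smul' s u := by simp only [Pi.smul_apply, smul_eq_mul, RingHom.id_apply]; module

theorem lc_apply {V : Type*} [AddCommGroup V] [Module (ZMod 2) V] (a b c d : V) (u : U0) :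
    lc a b c d u = u 0 • a + u 1 • b + u 2 • c + u 3 • d := rfl

def pu (h : S6) : U0 →ₗ[ZMod 2] U0 :=
  lc (du (h 0) (h 5)) (du (h 1) (h 5)) (du (h 2) (h 5)) (du (h 3) (h 5))

def nv : Fin 3 → ZMod 2 × ZMod 2 := ![(1, 0), (0, 1), (1, 1)]

def tens (i : Fin 3) : U0 →ₗ[ZMod 2] Md where
  toFun u := ((nv i).1 • u, (nv i).2 • u)
  map_add' u v := by simp only [smul_add, Prod.mk_add_mk]
  map_smul' s u := by simp only [smul_comm _ s, RingHom.id_apply, Prod.smul_mk]

def act (g : S3) (h : S6) : Md →ₗ[ZMod 2] Md where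
  toFun m := tens (g 0) (pu h m.1) + tens (g 1) (pu h m.2)
  map_add' u v := by simp only [Prod.fst_add, Prod.snd_add, map_add]; abel
  map_smul' s u := by simp only [Prod.smul_fst, Prod.smul_snd, map_smul, RingHom.id_apply, smul_add]

theorem act_apply (g : S3) (h : S6) (m : Md) :
    act g h m = tens (g 0) (pu h m.1) + tens (g 1) (pu h m.2) := rfl

theorem tens0 (u : U0) : tens 0 u = (u, 0) := by revert u; decide
theorem tens1 (u : U0) : tens 1 u = (0, u) := by revert u; decide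
theorem tens2 (u : U0) : tens 2 u = (u, u) := by revert u; decide

theorem act_one (h : S6) (m : Md) : act 1 h m = (pu h m.1, pu h m.2) := by
  simp [act_apply, tens0, tens1]

theorem lc_du {V : Type*} [AddCommGroup V] [Module (ZMod 2) V] (W : Fin 6 → V) (h5 : W 5 = 0)
    (h4 : W 4 = W 0 + W 1 + W 2 + W 3) (j k : Fin 6) :
    lc (W 0) (W 1) (W 2) (W 3) (du j k) = W j + W k := by
  have : ∀ j, lc (W 0) (W 1) (W 2) (W 3) (yv j) = W j := fun j => by
    fin_cases j <;> simp [lc_apply, yv, h4, h5]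
  rw [du, map_add, this, this]

theorem pu_du (h : S6) (j k : Fin 6) : pu h (du j k) = du (h j) (h k) := by
  have h1 : ∑ i, yv (h i) = 0 := by rw [Equiv.sum_comp h yv]; decide
  rw [Fin.sum_univ_six] at h1
  rw [pu, lc_du (fun i => du (h i) (h 5)) (add_self _)]
  · simp only [du]
    linear_combination (norm := (apply mod2; match_scalars <;> decide))
  · simp only [du]
    linear_combination (norm := (apply mod2; match_scalars <;> decide)) h1

theorem pu_mul (a b : S6) (u : U0) : pu (a * b) u = pu a (pu b u) := by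
  conv_rhs => rw [pu.eq_def b, lc_apply]
  simp only [map_add, map_smul, pu_du]
  rfl

theorem pu_one (u : U0) : pu 1 u = u := by revert u; decide

theorem act_one_mul (a b : S6) (m : Md) : act 1 (a * b) m = act 1 a (act 1 b m) := by
  simp only [act_one, pu_mul]

theorem pu_tens (h : S6) (i : Fin 3) (u : U0) : act 1 h (tens i u) = tens i (pu h u) := by
  rw [act_one]
  exact Prod.ext (map_smul _ _ _) (map_smul _ _ _)

theorem act_eq (g : S3) (h : S6) (m : Md) : act g h m = act 1 h (act g 1 m) := by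
  rw [act_apply g 1, map_add, pu_tens, pu_tens, pu_one, pu_one, act_apply]

theorem exists_du : ∀ u : U0, u ≠ 0 → ∃ j k, j ≠ k ∧ u = du j k := by decide +kernel

theorem fix_A4 : ∀ a b : U0, act 1 (c3 2 3 4) (a, b) = (a, b) → act 1 (c3 3 4 5) (a, b) = (a, b) →
    (a, b) = 0 ∨ ∃ i, (a, b) = tens i (du 0 1) := by decide +kernel

/-- the centralizer of `A₆` in the model -/
theorem cent_model (Y : Md →ₗ[ZMod 2] Md) (hi : Function.Injective Y)
    (hc : ∀ k, Perm.sign k = 1 → ∀ m, Y (act 1 k m) = act 1 k (Y m)) :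
    ∃ g, ∀ m, Y m = act g 1 m := by
  have h1 : ∀ i, ∃ j, Y (tens i (du 0 1)) = tens j (du 0 1) := fun i =>
    (fix_A4 (Y (tens i (du 0 1))).1 (Y (tens i (du 0 1))).2
      ((hc _ (by decide) _).symm.trans (by rw [pu_tens, pu_du]; rfl))
      ((hc _ (by decide) _).symm.trans (by rw [pu_tens, pu_du]; rfl))).resolve_left fun e =>
      absurd (hi (e.trans (map_zero Y).symm)) (by clear e; revert i; decide)
  obtain ⟨i, hi0⟩ := h1 0
  obtain ⟨j, hj0⟩ := h1 1
  have hij : i ≠ j := fun e => absurd (hi (hi0.trans (e ▸ hj0.symm))) (by decide)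
  obtain ⟨g, rfl, rfl⟩ : ∃ g : S3, g 0 = i ∧ g 1 = j := by clear hi0 hj0; revert i j; decide
  have h2 : ∀ a b : Fin 3, Y (tens a (du 0 1)) = tens b (du 0 1) → ∀ u, Y (tens a u) = tens b u :=
    fun a b e u => by
      by_cases hu : u = 0
      · simp [hu]
      obtain ⟨j, k, hjk, rfl⟩ := exists_du u hu
      obtain ⟨s, hs, rfl, rfl⟩ := ex2 hjk
      rw [← pu_du, ← pu_tens, hc s hs, e, pu_tens]
  refine ⟨g, fun m => ?_⟩
  rw [act_apply, pu_one, pu_one, ← h2 _ _ hi0, ← h2 _ _ hj0, ← map_add, tens0, tens1]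
  simp

theorem rank_one_op : ∀ u : U0, pu (c3 0 3 4) (pu (c3 0 1 2) u + u) + (pu (c3 0 1 2) u + u) =
    om u (du 0 2) • du 0 3 := by decide +kernel

theorem om_nd : ∀ u : U0, om u (du 0 2) = 0 → om (pu (c3 0 1 2) u) (du 0 2) = 0 →
    om (pu (c3 0 3 4) u) (du 0 2) = 0 → om (pu (c3 0 4 3) u) (du 0 2) = 0 → u = 0 := by
  decide +kernel

variable {V : Type*} [AddCommGroup V] [Module (ZMod 2) V]

theorem frame_lin [Finite V] (hV : Nat.card V = 256) {B : V →ₗ[ZMod 2] V →ₗ[ZMod 2] ZMod 2}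
    (hB : Alt B) (q : V → ZMod 2) (hq : ∀ u v, q (u + v) = q u + q v + B u v)
    {r : S6 → End (ZMod 2) V} (h : Rep r) (θ : End (ZMod 2) V)
    (hθ : ∀ v, θ (θ v) + θ v + v = 0) (hc : ∀ g, Perm.sign g = 1 → ∀ v, r g (θ v) = θ (r g v))
    (qθ : ∀ v, q (θ v) = q v) (qr : ∀ g, Perm.sign g = 1 → ∀ v, q (r g v) = q v)
    {v : V} (hv : r (c3 3 4 5) v = v) (hv0 : v ≠ 0) :
    ∃ e : Md ≃ₗ[ZMod 2] V, (∀ m, q (e m) = q0 m) ∧ (∀ m, θ (e m) = e (m.2, m.1 + m.2)) ∧
      ∀ g, Perm.sign g = 1 → ∀ m, r g (e m) = e (act 1 g m) := by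
  obtain ⟨W, h0, hs, hW⟩ := h.exists_duad hv hv0
  obtain ⟨tri, star⟩ := h.duad_rel hs hW
  let eU := lc (W 0 5) (W 1 5) (W 2 5) (W 3 5)
  have hU : ∀ j k, j ≠ k → eU (du j k) = W j k := fun j k hjk => by
    have := lc_du (fun i => if i = 5 then 0 else W i 5) rfl star j k
    refine this.trans ?_
    by_cases a : j = 5
    · subst a; simp [hjk.symm, hs 5 k hjk]
    by_cases b : k = 5
    · subst b; simp [a]
    rw [if_neg a, if_neg b, hs j 5 a, hs k 5 b, tri 5 j k (Ne.symm a) (Ne.symm b) hjk]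
  have rU : ∀ g, Perm.sign g = 1 → ∀ u, r g (eU u) = eU (pu g u) := fun g hg u => by
    by_cases hu : u = 0
    · simp [hu]
    obtain ⟨j, k, hjk, rfl⟩ := exists_du u hu
    rw [pu_du, hU j k hjk, hW g hg j k hjk, hU _ _ (g.injective.ne hjk)]
  let e : Md →ₗ[ZMod 2] V := eU ∘ₗ LinearMap.fst _ _ _ + θ ∘ₗ eU ∘ₗ LinearMap.snd _ _ _
  have he : ∀ m, e m = eU m.1 + θ (eU m.2) := fun m => rfl
  have re : ∀ g, Perm.sign g = 1 → ∀ m, r g (e m) = e (act 1 g m) := fun g hg m => by
    rw [he, he, act_one, map_add, hc g hg, rU g hg, rU g hg]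
  have θe : ∀ m, θ (e m) = e (m.2, m.1 + m.2) := fun m => by
    simp only [he, map_add]
    linear_combination (norm := (apply mod2; match_scalars <;> decide)) hθ (eU m.2)
  have θi : ∀ v, θ v = 0 → v = 0 := fun v e => by simpa [e] using hθ v
  have W0 : W 0 3 ≠ 0 := fun e => h0 (by
    have := hW (c3 1 2 3) (by decide) 0 3 (by decide)
    rw [e, map_zero] at this
    exact this.symm)
  have k1 : ∀ m, e m = 0 → om m.1 (du 0 2) = 0 ∧ om m.2 (du 0 2) = 0 := fun m hm => by
    have a1 : e (act 1 (c3 0 1 2) m + m) = 0 := by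
      rw [map_add, ← re _ (by decide), hm, map_zero, add_zero]
    have a2 : e (act 1 (c3 0 3 4) (act 1 (c3 0 1 2) m + m) + (act 1 (c3 0 1 2) m + m)) = 0 := by
      rw [map_add, ← re _ (by decide), a1, map_zero, add_zero]
    rw [he] at a2
    simp only [act_one, Prod.fst_add, Prod.snd_add, rank_one_op, map_smul] at a2
    rw [hU 0 3 (by decide)] at a2
    rcases H78.zmod2_cases (om m.1 (du 0 2)) with a | a <;>
    rcases H78.zmod2_cases (om m.2 (du 0 2)) with b | b <;> rw [a, b] at a2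
    · exact ⟨a, b⟩
    · exact absurd (θi _ (by simpa using a2)) W0
    · exact absurd (by simpa using a2) W0
    · refine absurd (θi _ (θi _ ?_)) W0
      linear_combination (norm := (apply mod2; match_scalars <;> decide)) hθ (W 0 3) + a2
  have inj : Function.Injective e := (injective_iff_map_eq_zero e).2 fun m hm => by
    have k2 : ∀ g, Perm.sign g = 1 → om (pu g m.1) (du 0 2) = 0 ∧ om (pu g m.2) (du 0 2) = 0 :=
      fun g hg => by simpa only [act_one] using k1 (act 1 g m) (by rw [← re g hg, hm, map_zero])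
    have a := k1 m hm
    have b := k2 (c3 0 1 2) (by decide)
    have c := k2 (c3 0 3 4) (by decide)
    have d := k2 (c3 0 4 3) (by decide)
    exact Prod.ext (om_nd _ a.1 b.1 c.1 d.1) (om_nd _ a.2 b.2 c.2 d.2)
  have bij := inj.bijective_of_nat_card_le (by rw [hV]; simp)
  have q00 : q 0 = 0 := by simpa [hB.self] using hq 0 0
  have Br : ∀ g, Perm.sign g = 1 → ∀ u v, B (r g u) (r g v) = B u v := fun g hg u v => by
    have := hq (r g u) (r g v)
    rw [← map_add, qr g hg, qr g hg, qr g hg, hq] at this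
    exact (add_left_cancel this).symm
  have qW : ∀ j k, j ≠ k → q (W j k) = q (W 0 1) := fun j k hjk => by
    obtain ⟨g, s, rfl, rfl⟩ := ex2 hjk
    rw [← hW g s 0 1 (by decide), qr g s]
  have q1 : q (W 0 1) = 0 := by
    have a := hq (W 0 1) (W 0 2)
    have b := hq (W 0 1) (W 0 3)
    have c := hq (W 0 1) (W 2 3)
    rw [tri 0 1 2 (by decide) (by decide) (by decide), qW 1 2 (by decide), qW 0 2 (by decide)] at a
    rw [tri 0 1 3 (by decide) (by decide) (by decide), qW 1 3 (by decide), qW 0 3 (by decide)] at b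
    rw [show W 0 1 + W 2 3 = W 4 5 by
      rw [← hU 0 1 (by decide), ← hU 2 3 (by decide), ← hU 4 5 (by decide), ← map_add]
      congr 1; decide, qW 4 5 (by decide), qW 2 3 (by decide),
      ← tri 0 2 3 (by decide) (by decide) (by decide), map_add] at c
    generalize q (W 0 1) = x, B (W 0 1) (W 0 2) = y, B (W 0 1) (W 0 3) = w at a b c ⊢
    revert x y w; decide
  have qU : ∀ u, q (eU u) = 0 := fun u => by
    by_cases hu : u = 0
    · simp [hu, q00]
    obtain ⟨j, k, hjk, rfl⟩ := exists_du u hu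
    rw [hU j k hjk, qW j k hjk, q1]
  have d0 : ∀ i, i ≠ 5 → B (W i 5) (θ (W i 5)) = 0 := fun i hi => by
    have := hq (W i 5) (θ (W i 5))
    rw [show W i 5 + θ (W i 5) = θ (θ (W i 5)) by
      linear_combination (norm := (apply mod2; match_scalars <;> decide)) hθ (W i 5),
      qθ, qθ, qW i 5 hi, q1] at this
    simpa using this.symm
  have d1 : ∀ i j, i ≠ 5 → j ≠ 5 → i ≠ j → B (W i 5) (θ (W j 5)) = B (W 0 1) (θ (W 0 2)) :=
    fun i j a b c => by
      obtain ⟨g, s, e0, rfl, rfl⟩ := ex3 a.symm b.symm c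
      rw [hs _ _ a, hs _ _ b, ← e0, ← hW g s 0 1 (by decide), ← hW g s 0 2 (by decide),
        ← hc g s, Br g s]
  have qe : ∀ m, q (e m) = B (W 0 1) (θ (W 0 2)) * q0 m := fun m => by
    rw [he, hq, qθ, qU, qU]
    simp only [eU, lc_apply, map_add, map_smul, LinearMap.add_apply, LinearMap.smul_apply]
    rw [d0 0 (by decide), d0 1 (by decide), d0 2 (by decide), d0 3 (by decide)]
    simp (disch := decide) only [d1]
    simp only [q0, om, smul_eq_mul]
    grind
  have c1 : B (W 0 1) (θ (W 0 2)) = 1 := by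
    rcases H78.zmod2_cases (B (W 0 1) (θ (W 0 2))) with a | a
    · refine absurd (hB.nd _ fun u => ?_) h0
      have qz : ∀ v, q v = 0 := fun v => by
        obtain ⟨m, rfl⟩ := bij.2 v
        rw [qe, a, zero_mul]
      simpa [qz] using (hq u (W 0 1)).symm
    · exact a
  exact ⟨LinearEquiv.ofBijective e bij, fun m => (qe m).trans (by rw [c1, one_mul]), θe, re⟩

end H59.SA
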