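import Cfsg.Agent.H59.SA4

/-! The frame of `Q/⟨z⟩` in the fused case. -/

set_option autoImplicit false

namespace H59.SA

open Cfsg H78 H1.LX H93.LX H19.LX Module Equiv

variable {G : Type*} [Group G]

theorem comm_conj {a b : G} (g : G) (h : a * b = b * a) :
    g * a * g⁻¹ * (g * b * g⁻¹) = g * b * g⁻¹ * (g * a * g⁻¹) := by
  rw [show g * a * g⁻¹ * (g * b * g⁻¹) = g * (a * b) * g⁻¹ by group, h]; group

section pair
variable {Q P : Subgroup G} {z s : G} (pr : Pair Q P z s)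
include pr

theorem swap_elt : ∃ k ∈ Q ⊔ P, k * z * k⁻¹ = s ∧ k * s * k⁻¹ = z ∧
    ∀ c, c * z = z * c → c * s = s * c → c * k * c⁻¹ ∈ Q ⊔ P := by
  obtain ⟨p, hp, hpz⟩ := pr.exists_p
  obtain ⟨q, hq, -, h1, h2⟩ := pr.hQ.exists_swap pr.s_mem pr.hP.z_ne pr.ne pr.hP.z_sq
    (pr.symm.conj_z hp) hpz
  refine ⟨_, mul_mem (mul_mem (Subgroup.mem_sup_right hp) (Subgroup.mem_sup_left hq))
    (Subgroup.mem_sup_right hp), h1, h2, fun c cz cs => ?_⟩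
  rw [show c * (p * q * p) * c⁻¹ = c * p * c⁻¹ * (c * q * c⁻¹) * (c * p * c⁻¹) by group]
  exact mul_mem (mul_mem (Subgroup.mem_sup_right (pr.hP.norm c cs p hp))
    (Subgroup.mem_sup_left (pr.hQ.norm c cz q hq))) (Subgroup.mem_sup_right (pr.hP.norm c cs p hp))

theorem g1 [Finite G] {c w : G} (cz : c * z = z * c) (cs : c * s = s * c)
    (hc : ∀ a ∈ P, a * z = z * a → c * a * c⁻¹ * a⁻¹ ∈ Q) (hw : w ∈ Q) (ws : w * s = s * w) :
    c * w * c⁻¹ * w⁻¹ ∈ Q ⊓ P := by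
  obtain ⟨k, hk, kz, ks, hn⟩ := swap_elt pr
  have kz' : k⁻¹ * z * k⁻¹⁻¹ = s := by rw [← ks]; group
  have ks' : k⁻¹ * s * k⁻¹⁻¹ = z := by rw [← kz]; group
  have ha : k⁻¹ * w * k⁻¹⁻¹ ∈ P := pr.cQ _ kz' w hw
  have az : k⁻¹ * w * k⁻¹⁻¹ * z = z * (k⁻¹ * w * k⁻¹⁻¹) := ks' ▸ comm_conj k⁻¹ ws
  have hr : c⁻¹ * (k⁻¹ * c * k⁻¹⁻¹) ∈ pairR Q P z s := pr.mem_R_of_X (by
      convert mul_mem (inv_mem (hn c⁻¹ (cinv cz) (cinv cs))) hk using 1; group)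
    (cmul (cinv cz) (ks' ▸ comm_conj k⁻¹ cs)) (cmul (cinv cs) (kz' ▸ comm_conj k⁻¹ cz))
  have h1 := pr.comm_R_R hr (pr.mem_R_of_P ha az)
  have h2 : c * (k⁻¹ * w * k⁻¹⁻¹) * c⁻¹ * (k⁻¹ * w * k⁻¹⁻¹)⁻¹ ∈ Q ⊓ P :=
    ⟨hc _ ha az, P.mul_mem (pr.hP.norm c cs _ ha) (P.inv_mem ha)⟩
  have h3 := mul_mem (Subgroup.mem_inf.2 ⟨pr.hQ.norm c cz _ h1.1, pr.hP.norm c cs _ h1.2⟩) h2
  convert Subgroup.mem_inf.2 ⟨pr.cP k ks _ h3.2, pr.cQ k kz _ h3.1⟩ using 1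
  group

theorem g2 {a x : G} (ha : a ∈ P) (hx : x ∈ Q) (xs : x * s ≠ s * x)
    (h : a * x * a⁻¹ = x ∨ a * x * a⁻¹ = x * z) : a ∈ Q := by
  obtain ⟨p, hp, hpz⟩ := pr.exists_p
  have h1 : x * s * x⁻¹ = s * z :=
    (pr.hQ.toXS.conj_eq_or pr.s_mem hx).resolve_left fun e => xs (mul_inv_eq_iff_eq_mul.1 e)
  have h2 : x⁻¹ * a * x ∈ P := by
    rcases h with h | h
    · rw [mul_assoc, mul_inv_eq_iff_eq_mul.1 h, inv_mul_cancel_left]; exact ha
    · rw [mul_assoc, mul_inv_eq_iff_eq_mul.1 h, mul_assoc, inv_mul_cancel_left]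
      exact mul_mem pr.z_mem ha
  have h3 := pr.cP (p⁻¹ * x) (by
    calc _ = p⁻¹ * (x * s * x⁻¹) * p := by group
      _ = z := by rw [h1, ← pr.four.comm, ← hpz]; group) _ h2
  rw [show p⁻¹ * x * (x⁻¹ * a * x) * (p⁻¹ * x)⁻¹ = p⁻¹ * a * p⁻¹⁻¹ by group] at h3
  rcases pr.hP.toXS.conj_eq_or ha (inv_mem hp) with e | e <;> rw [e] at h3
  · exact h3
  · exact (Subgroup.mul_mem_cancel_right Q pr.s_mem).1 h3

end pair

/-- transport of the coordinates -/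
def vmap {Q : Subgroup G} {z : G} {V V' : Type*} [AddCommGroup V] [Module (ZMod 2) V]
    [AddCommGroup V'] [Module (ZMod 2) V'] (M : VM Q z V) (e : V' ≃ₗ[ZMod 2] V) : VM Q z V' where
  π x := e.symm (M.π x)
  B := M.B.compl₁₂ e.toLinearMap e.toLinearMap
  q m := M.q (e m)
  ρ g := e.symm.toLinearMap ∘ₗ M.ρ g ∘ₗ e.toLinearMap
  π_mul hx hy := by rw [M.π_mul hx hy, map_add]
  surj v := by
    obtain ⟨x, hx, h⟩ := M.surj (e v)
    exact ⟨x, hx, by rw [h, e.symm_apply_apply]⟩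
  π_eq_zero hx := by rw [← M.π_eq_zero hx, LinearEquiv.map_eq_zero_iff]
  B_π hx hy := by simpa using M.B_π hx hy
  q_π hx := by simpa using M.q_π hx
  ρ_π hh hx := by simpa using M.ρ_π hh hx

/-- coordinates in the model -/
structure Fr (z : G) (φ : G → S3 × S6) (W : VM (O2C z) z Md) : Prop extends Hyp z φ where
  hq : ∀ m, W.q m = q0 m
  ev : ∀ {c}, c * z = z * c → (φ c).1 = 1 → Perm.sign (φ c).2 = 1 →
    ∀ m, W.ρ c m = act 1 (φ c).2 m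
  th : ∃ c, c * z = z * c ∧ ∀ m, W.ρ c m = (m.2, m.1 + m.2)

theorem s3_theta : ∀ g : S3, (finRotate 3 * g * (finRotate 3)⁻¹ * g⁻¹) *
    (finRotate 3 * g * (finRotate 3)⁻¹ * g⁻¹) = 1 → finRotate 3 * g * (finRotate 3)⁻¹ * g⁻¹ = 1 :=
  fun g => s3_comm _ g

theorem conj33 : ∀ t : S6, t * t * t = 1 → (∀ x, t x ≠ x) → ∃ d,
    Perm.sign (mk4 0 (t 0) (t (t 0)) d) = 1 ∧
      ((mk4 0 (t 0) (t (t 0)) d)⁻¹ * t * (mk4 0 (t 0) (t (t 0)) d)⁻¹⁻¹ = c3 0 1 2 * c3 3 4 5 ∨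
      (mk4 0 (t 0) (t (t 0)) d)⁻¹ * t * (mk4 0 (t 0) (t (t 0)) d)⁻¹⁻¹ =
        c3 0 1 2 * (c3 3 4 5 * c3 3 4 5)) := by decide +kernel

theorem Rep.not_fpf {V : Type*} [AddCommGroup V] [Module (ZMod 2) V] {r : S6 → End (ZMod 2) V}
    (h : Rep r) (h1 : ∀ v, r (c3 3 4 5) (r (c3 3 4 5) v) + r (c3 3 4 5) v + v = 0) {t : S6}
    (s : Perm.sign t = 1) (t3 : t * t * t = 1) (tx : ∀ x, t x ≠ x)
    (h2 : ∀ v, r t (r t v) + r t v + v = 0) (v : V) : v = 0 := by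
  have cj : ∀ a g, Perm.sign a = 1 → Perm.sign g = 1 → (∀ v, r a (r a v) + r a v + v = 0) →
      ∀ v, r (g * a * g⁻¹) (r (g * a * g⁻¹) v) + r (g * a * g⁻¹) v + v = 0 := fun a g sa sg e v => by
    have e1 : ∀ v, r (g * a * g⁻¹) v = r g (r a (r g⁻¹ v)) := fun v => by
      rw [h.mul (sgn_mul sg sa) (sgn_inv sg), h.mul sg sa]
    have e2 : ∀ v, r g⁻¹ (r g v) = v := fun v => by
      rw [← h.mul (sgn_inv sg) sg, inv_mul_cancel, h.one]
    have e3 : r g (r g⁻¹ v) = v := by rw [← h.mul sg (sgn_inv sg), mul_inv_cancel, h.one]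
    have := congrArg (r g) (e (r g⁻¹ v))
    rwa [map_add, map_add, map_zero, e3, ← e1, ← e2 (r a (r g⁻¹ v)), ← e1, ← e1] at this
  have a1 := cj _ (swap 0 3 * swap 1 4 * swap 2 5 * swap 1 2) (by decide) (by decide) h1
  rw [show _ * c3 3 4 5 * _ = c3 0 1 2 by decide] at a1
  obtain ⟨d, sd, hd⟩ := conj33 t t3 tx
  have a2 := cj t _ s (sgn_inv sd) h2
  have g0 : Perm.sign (swap 4 5 * swap 0 3 * swap 1 4 * swap 2 5 : S6) = 1 := by decide
  obtain ⟨a3, a4⟩ : (∀ v, r (c3 0 1 2 * c3 3 4 5) (r (c3 0 1 2 * c3 3 4 5) v) +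
      r (c3 0 1 2 * c3 3 4 5) v + v = 0) ∧ ∀ v, r (c3 0 1 2 * (c3 3 4 5 * c3 3 4 5))
      (r (c3 0 1 2 * (c3 3 4 5 * c3 3 4 5)) v) + r (c3 0 1 2 * (c3 3 4 5 * c3 3 4 5)) v + v = 0 := by
    rcases hd with e | e <;> rw [e] at a2
    · have := cj _ _ (by decide) g0 a2
      rw [show _ * (c3 0 1 2 * c3 3 4 5) * _ = c3 0 1 2 * (c3 3 4 5 * c3 3 4 5) by decide] at this
      exact ⟨a2, this⟩
    · have := cj _ _ (by decide) (sgn_inv g0) a2
      rw [show _ * (c3 0 1 2 * (c3 3 4 5 * c3 3 4 5)) * _ = c3 0 1 2 * c3 3 4 5 by decide] at this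
      exact ⟨this, a2⟩
  have sa : Perm.sign (c3 0 1 2) = 1 := by decide
  have sb : Perm.sign (c3 3 4 5) = 1 := by decide
  have hc : ∀ v, r (c3 3 4 5) (r (c3 0 1 2) v) = r (c3 0 1 2) (r (c3 3 4 5) v) := fun v => by
    rw [← h.mul sb sa, ← h.mul sa sb]; exact congrArg (r · v) (by decide)
  have b1 : ∀ v, r (c3 0 1 2) (r (c3 0 1 2) v) = r (c3 0 1 2) v + v := fun v => by
    linear_combination (norm := (apply mod2; match_scalars <;> decide)) a1 v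
  have b2 : ∀ v, r (c3 3 4 5) (r (c3 3 4 5) v) = r (c3 3 4 5) v + v := fun v => by
    linear_combination (norm := (apply mod2; match_scalars <;> decide)) h1 v
  have c1 := a3 v
  have c2 := a4 v
  have m1 := h.mul sa sb
  have m2 := h.mul sa (sgn_mul sb sb)
  have m3 := h.mul sb sb
  rw [m1, m1] at c1
  rw [m2, m2, m3, m3] at c2
  generalize r (c3 0 1 2) = A, r (c3 3 4 5) = B at hc b1 b2 c1 c2
  simp only [hc, b1, b2, map_add] at c1 c2
  linear_combination (norm := (apply mod2; match_scalars <;> decide)) c1 + c2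

namespace Hyp

variable [Finite G] {z : G} {φ : G → S3 × S6} (h : Hyp z φ)
  {V : Type*} [AddCommGroup V] [Module (ZMod 2) V] (M : VM (O2C z) z V)
include h

omit [Finite G] in
theorem ρ_eq {x y : G} (hx : x * z = z * x) (hy : y * z = z * y) (e : φ x = φ y) (v : V) :
    M.ρ x v = M.ρ y v := by
  have h1 : y⁻¹ * x ∈ O2C z := (h.ker (cmul (cinv hy) hx)).1 (by
    rw [h.mul (cinv hy) hx, h.inv hy, e, inv_mul_cancel])
  rw [← mul_inv_cancel_left y x, M.ρ_mul h.lx hy (h.cQ h1), M.ρ_of_mem h.lx h1]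

omit [Finite G] in
theorem adjust {c s : G} (hc : c * z = z * c) (hs : s ∈ O2C z) (h1 : s ≠ 1) (h2 : s ≠ z)
    (e : M.ρ c (M.π s) = M.π s) : ∃ d, d * z = z * d ∧ d * s = s * d ∧ φ d = φ c := by
  rw [M.ρ_π hc hs, M.π_eq (h.lx.norm c hc s hs) hs] at e
  rcases e with e | e
  · exact ⟨c, hc, mul_inv_eq_iff_eq_mul.1 e, rfl⟩
  · obtain ⟨y, hy, e'⟩ := h.lx.toXS.exists_conj_eq hs h1 h2
    refine ⟨y⁻¹ * c, cmul (cinv (h.cQ hy)) hc, ?_, ?_⟩
    · calc _ = y⁻¹ * (c * s * c⁻¹) * c := by group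
        _ = _ := by rw [e, ← e']; group
    · rw [h.mul (cinv (h.cQ hy)) hc, h.of_mem (inv_mem hy), one_mul]

theorem theta_moves {s c : G} (hs : Cj z s) (hQ : s ∈ O2C z) (hne : s ≠ z) (hc : c * z = z * c)
    (e : φ c = (finRotate 3, 1)) : M.ρ c (M.π s) ≠ M.π s := fun hv => by
  have pr := h.pair hs hQ hne
  obtain ⟨d, dz, ds, e'⟩ := h.adjust M hc hQ pr.hP.z_ne hne hv
  rw [e] at e'
  have hv' : M.ρ d (M.π s) = M.π s := by rw [M.ρ_π dz hQ, ds, mul_inv_cancel_right]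
  have h1 : ∀ a ∈ O2C s, a * z = z * a → d * a * d⁻¹ * a⁻¹ ∈ O2C z := fun a ha az => by
    have cz := cmul (cmul (cmul dz az) (cinv dz)) (cinv az)
    have h2 : φ (d * a * d⁻¹ * a⁻¹) * φ (d * a * d⁻¹ * a⁻¹) = 1 := by
      rw [← h.mul cz cz]
      rcases pr.hP.sq _ (mul_mem (pr.hP.norm d ds a ha) (inv_mem ha)) with h1 | h1 <;> rw [h1]
      · exact h.one
      · exact h.of_mem hQ
    rw [← h.ker cz]
    rw [h.comm dz az, e'] at h2 ⊢
    exact Prod.ext (s3_theta _ (congrArg Prod.fst h2)) (by simp)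
  have h2 : ∀ y, ∃ x ∈ O2C z ⊓ O2C s, M.π x = M.ρ d (M.ρ d y) + y := fun y => by
    obtain ⟨w, hw, e⟩ := M.surj (M.ρ d y + y)
    have ws : w * s = s * w := cf_eq_zero.1 (by
      rw [← M.B_π hw hQ, e, map_add, LinearMap.add_apply]
      nth_rw 1 [← hv']
      rw [M.B_ρ h.lx dz, zmod2_add_self])
    refine ⟨_, g1 pr dz ds h1 hw ws, ?_⟩
    rw [M.π_comm h.lx dz hw, e, map_add]
    linear_combination (norm := (apply mod2; match_scalars <;> decide))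
  have h3 : ∀ y, M.ρ d (M.ρ d (M.ρ d y)) = y := fun y => by
    rw [← M.ρ_mul h.lx dz dz, ← M.ρ_mul h.lx (cmul dz dz) dz, M.ρ_of_mem h.lx]
    rw [← h.ker (cmul (cmul dz dz) dz), h.mul (cmul dz dz) dz, h.mul dz dz, e']
    decide
  have h4 : d ∈ O2C z := M.mem_of_ρ h.lx dz fun y => by
    rw [← H19.LX.add_eq_zero]
    refine (M.alt h.lx).nd _ fun u => ?_
    obtain ⟨x, hx, ex⟩ := h2 (M.ρ d u)
    obtain ⟨w, hw, ew⟩ := h2 y
    have := M.B_π hx.1 hw.1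
    rw [cf_eq_zero.2 (pr.E_comm hx hw), ex, ew, h3] at this
    have a2 := M.B_ρ h.lx dz u (M.ρ d y)
    have a3 := M.B_ρ h.lx dz u (M.ρ d (M.ρ d y))
    rw [h3] at a3
    simp only [map_add, LinearMap.add_apply, a2, a3] at this ⊢
    grind
  have := h.of_mem h4
  rw [e'] at this
  exact absurd (congrArg Prod.fst this) (by decide)

omit [Finite G] in
theorem exists_rep : ∃ r : S6 → End (ZMod 2) V, (∀ x, x * z = z * x → (φ x).1 = 1 →
    Perm.sign (φ x).2 = 1 → ∀ v, M.ρ x v = r (φ x).2 v) ∧ ∀ g, Perm.sign g = 1 →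
    ∃ x, x * z = z * x ∧ φ x = (1, g) ∧ ∀ v, M.ρ x v = r g v := by
  have : ∀ g : S6, ∃ x, Perm.sign g = 1 → x * z = z * x ∧ φ x = (1, g) := fun g => by
    by_cases hg : Perm.sign g = 1
    · obtain ⟨x, hx⟩ := h.surj 1 g (by simp) hg
      exact ⟨x, fun _ => hx⟩
    · exact ⟨1, fun e => absurd e hg⟩
  choose l hl using this
  exact ⟨fun g => M.ρ (l g), fun x hx e1 e2 v => h.ρ_eq M hx (hl _ e2).1
    (by rw [(hl _ e2).2, ← e1]) v, fun g hg => ⟨l g, (hl g hg).1, (hl g hg).2, fun _ => rfl⟩⟩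

theorem rep [Finite V] (hV : Nat.card V = 256) {s c : G} (hs : Cj z s) (hQ : s ∈ O2C z) (hne : s ≠ z)
    (hc : c * z = z * c) (e : φ c = (finRotate 3, 1)) {r : S6 → End (ZMod 2) V}
    (r1 : ∀ x, x * z = z * x → (φ x).1 = 1 → Perm.sign (φ x).2 = 1 → ∀ v, M.ρ x v = r (φ x).2 v)
    (r2 : ∀ g, Perm.sign g = 1 → ∃ x, x * z = z * x ∧ φ x = (1, g) ∧ ∀ v, M.ρ x v = r g v) :
    Rep r ∧ (∀ v, M.ρ c (M.ρ c v) + M.ρ c v + v = 0) ∧
      (∀ g, Perm.sign g = 1 → ∀ v, r g (M.ρ c v) = M.ρ c (r g v)) ∧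
      ∀ g, Perm.sign g = 1 → ∀ v, M.q (r g v) = M.q v := by
  have pr := h.pair hs hQ hne
  have one : ∀ v, r 1 v = v := fun v => by
    have := r1 1 (by simp) (by rw [h.one]; rfl) (by rw [h.one]; simp) v
    rw [h.one, M.ρ_of_mem h.lx (one_mem _)] at this
    exact this.symm
  have mul : ∀ {a b}, Perm.sign a = 1 → Perm.sign b = 1 → ∀ v, r (a * b) v = r a (r b v) :=
    fun {a b} ha hb v => by
      obtain ⟨x, xz, ex, hx⟩ := r2 a ha
      obtain ⟨y, yz, ey, hy⟩ := r2 b hb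
      have e : φ (x * y) = (1, a * b) := by rw [h.mul xz yz, ex, ey]; simp
      have := r1 (x * y) (cmul xz yz) (by rw [e]) (by rw [e]; exact sgn_mul ha hb) v
      rw [e] at this
      rw [← this, M.ρ_mul h.lx xz yz, hx, hy]
  have com : ∀ g, Perm.sign g = 1 → ∀ v, r g (M.ρ c v) = M.ρ c (r g v) := fun g hg v => by
    obtain ⟨x, xz, ex, hx⟩ := r2 g hg
    rw [← hx, ← hx, ← M.ρ_mul h.lx xz hc, ← M.ρ_mul h.lx hc xz]
    exact h.ρ_eq M (cmul xz hc) (cmul hc xz) (by rw [h.mul xz hc, h.mul hc xz, ex, e]; simp) v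
  have qr : ∀ g, Perm.sign g = 1 → ∀ v, M.q (r g v) = M.q v := fun g hg v => by
    obtain ⟨x, xz, -, hx⟩ := r2 g hg
    rw [← hx, M.q_ρ h.lx xz]
  have h3 : ∀ y, M.ρ c (M.ρ c (M.ρ c y)) = y := fun y => by
    rw [← M.ρ_mul h.lx hc hc, ← M.ρ_mul h.lx (cmul hc hc) hc, M.ρ_of_mem h.lx]
    rw [← h.ker (cmul (cmul hc hc) hc), h.mul (cmul hc hc) hc, h.mul hc hc, e]
    decide
  -- the elements of `A₆` that are trivial on `[V, θ]`
  let K : Subgroup (alternatingGroup (Fin 6)) :=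
    { carrier := {g | ∀ y, r g (M.ρ c y + M.ρ c (M.ρ c y)) = M.ρ c y + M.ρ c (M.ρ c y)}
      one_mem' := fun y => one _
      mul_mem' := fun {a b} ha hb y => by rw [Subgroup.coe_mul, mul a.2 b.2, hb, ha]
      inv_mem' := fun {a} ha y => by
        nth_rw 1 [← ha y]
        rw [Subgroup.coe_inv, ← mul (sgn_inv a.2) a.2, inv_mul_cancel, one] }
  have hn : K.Normal := ⟨fun a ha g y => by
    rw [Subgroup.coe_mul, Subgroup.coe_mul, Subgroup.coe_inv, mul (sgn_mul g.2 a.2) (sgn_inv g.2),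
      mul g.2 a.2, map_add, com _ (sgn_inv g.2), com _ (sgn_inv g.2), com _ (sgn_inv g.2), ha,
      ← com _ (sgn_inv g.2), ← com _ (sgn_inv g.2), ← map_add, ← mul g.2 (sgn_inv g.2),
      mul_inv_cancel, one]⟩
  have hK : K = ⊥ := by
    have := alternatingGroup.isSimpleGroup (α := Fin 6) (by simp)
    refine (hn.eq_bot_or_eq_top).resolve_right fun hK => ?_
    obtain ⟨a, ha, az, a1, a2, a3⟩ := h.exists_a hs hQ hne
    have a4 : (⟨(φ a).2, a2⟩ : alternatingGroup (Fin 6)) ∈ K := hK ▸ Subgroup.mem_top _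
    have hv := h.theta_moves M hs hQ hne hc e
    obtain ⟨y, hy⟩ : ∃ y, M.B y (M.ρ c (M.π s) + M.ρ c (M.ρ c (M.π s))) ≠ 0 := by
      by_contra! hn
      have := congrArg (M.ρ c) (congrArg (M.ρ c) (H19.LX.add_eq_zero.1 ((M.alt h.lx).nd _ hn)))
      rw [h3] at this
      exact hv this.symm
    obtain ⟨x, hx, ex⟩ := M.surj (M.ρ c y + M.ρ c (M.ρ c y))
    have xs : x * s ≠ s * x := fun e => hy (by
      have := cf_eq_zero.2 e
      rw [← M.B_π hx hQ, ex, map_add, LinearMap.add_apply, ← M.B_ρ h.lx hc (M.ρ c (M.ρ c y)), h3,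
        ← M.B_ρ h.lx hc (M.ρ c y), ← M.B_ρ h.lx hc (M.ρ c (M.ρ c y)), h3] at this
      rw [map_add, add_comm, this])
    have a5 := a4 y
    rw [← r1 a az a1 a2, ← ex, M.ρ_π az hx, M.π_eq (h.lx.norm a az x hx) hx] at a5
    exact a3 (by rw [h.of_mem (g2 pr ha hx xs a5)]; rfl)
  have key : ∀ f, Perm.sign f = 1 → f * f * f * f * f = 1 → f ≠ 1 →
      (∀ v, M.ρ c (M.ρ c v) + M.ρ c v + v = 0) ∧ ∀ v,
      r f (r f (r f (r f v))) + r f (r f (r f v)) + r f (r f v) + r f v + v = 0 :=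
    fun f s p n => fpf_lin hV (M.alt h.lx) M.q (M.q_add h.lx) _ _ h3 (fun v => by
      have s2 := sgn_mul s s
      rw [← mul s s, ← mul s2 s, ← mul (sgn_mul s2 s) s, ← mul (sgn_mul (sgn_mul s2 s) s) s, p, one])
      (com f s) (M.q_ρ h.lx hc) (qr f s) (by
        by_contra! hn
        have : (⟨f, s⟩ : alternatingGroup (Fin 6)) ∈ K := hn
        rw [hK, Subgroup.mem_bot] at this
        exact n (congrArg Subtype.val this))
  exact ⟨⟨one, mul, fun f s p n => (key f s p n).2⟩,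
    (key (c5 0 1 2 3 4) (by decide) (by decide +kernel) (by decide)).1, com, qr⟩

theorem fr_of [Finite V] (hV : Nat.card V = 256) {s : G} (hs : Cj z s) (hQ : s ∈ O2C z)
    (hne : s ≠ z) (hn : ∀ x, x * z = z * x → φ x = (1, c3 3 4 5) →
      ∃ v, M.ρ x (M.ρ x v) + M.ρ x v + v ≠ 0) : ∃ W, Fr z φ W := by
  obtain ⟨c, hc, e⟩ := h.surj (finRotate 3) 1 (by decide) (by simp)
  obtain ⟨r, r1, r2⟩ := h.exists_rep M
  obtain ⟨hr, h1, h2, h3⟩ := h.rep M hV hs hQ hne hc e r1 r2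
  have sb : Perm.sign (c3 3 4 5) = 1 := by decide
  obtain ⟨x, xz, ex, hx⟩ := r2 _ sb
  obtain ⟨v, hv⟩ := hn x xz ex
  rw [hx, hx] at hv
  obtain ⟨E, q1, q2, q3⟩ := frame_lin hV (M.alt h.lx) M.q (M.q_add h.lx) hr _ h1 h2
    (M.q_ρ h.lx hc) h3 (v := _) (by
      rw [map_add, map_add, ← hr.mul sb sb, ← hr.mul sb sb, ← hr.mul (sgn_mul sb sb) sb,
        show c3 3 4 5 * c3 3 4 5 * c3 3 4 5 = 1 by decide, hr.one]
      abel) hv
  refine ⟨vmap M E, h, q1, fun {x} xz a b m => ?_, c, hc, fun m => ?_⟩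
  · change E.symm (M.ρ x (E m)) = _
    rw [r1 x xz a b, q3 _ b, E.symm_apply_apply]
  · change E.symm (M.ρ c (E m)) = _
    rw [q2, E.symm_apply_apply]

omit M in
theorem exists_fr {s : G} (hs : Cj z s) (hQ : s ∈ O2C z) (hne : s ≠ z) :
    ∃ ψ W, Fr z ψ W := by
  obtain ⟨M⟩ := exists_VM h.lx (m := 8) h.big.card
  have hV : Nat.card (Fin 8 → ZMod 2) = 256 := by simp
  obtain ⟨ψ, hψ⟩ := H56.Sym.exists_outer_six
  by_contra! hc
  have a1 := mt (h.fr_of M hV hs hQ hne) fun ⟨W, hW⟩ => hc _ W hW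
  have a2 := mt ((h.twist ψ).fr_of M hV hs hQ hne) fun ⟨W, hW⟩ => hc _ W hW
  push Not at a1 a2
  obtain ⟨x, xz, ex, hx⟩ := a1
  obtain ⟨y, yz, ey, hy⟩ := a2
  obtain ⟨c, hc, e⟩ := h.surj (finRotate 3) 1 (by decide) (by simp)
  obtain ⟨r, r1, r2⟩ := h.exists_rep M
  obtain ⟨hr, -⟩ := h.rep M hV hs hQ hne hc e r1 r2
  obtain ⟨y1, y2⟩ := Prod.mk.inj ey
  have t3 : (φ y).2 * (φ y).2 * (φ y).2 = 1 := ψ.injective (by
    rw [map_mul, map_mul, y2, map_one]; decide)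
  have s3 : Perm.sign (φ y).2 = 1 := by
    have := congrArg Perm.sign t3
    rwa [map_mul, map_mul, Int.units_mul_self, one_mul, map_one] at this
  have o3 : orderOf (φ y).2 = 3 := by
    rw [← ψ.orderOf_eq, y2]
    exact orderOf_eq_prime (by decide) (by decide)
  have := hr.not_fpf (fun v => by
    have := hx v
    rwa [r1 x xz (by rw [ex]) (by rw [ex]; decide), r1 x xz (by rw [ex]) (by rw [ex]; decide),
      ex] at this) s3 t3 (fun a e => (hψ _ o3).1 ⟨0, by rw [y2]; decide⟩ ⟨a, e⟩) (fun v => by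
    have := hy v
    rwa [r1 y yz y1 s3, r1 y yz y1 s3] at this) (M.π s)
  exact (h.pair hs hQ hne).hP.z_ne (((M.π_eq_zero hQ).1 this).resolve_right hne)

end Hyp

end H59.SA
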