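import Cfsg.Agent.H59.SA5

/-! Consequences of the frame: orbits on singular vectors, vectors of rank two and rank one. -/

set_option autoImplicit false

namespace H59.SA

open Cfsg H78 H1.LX H93.LX Module Equiv
open H19.LX (VM mod2)

theorem om_add (a b c : U0) : om (a + b) c = om a c + om b c := by
  simp only [om, Pi.add_apply]; ring

theorem om_smul (s : ZMod 2) (a c : U0) : om (s • a) c = s * om a c := by
  simp only [om, Pi.smul_apply, smul_eq_mul]; ring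

theorem om_symm (a b : U0) : om a b = om b a := by simp only [om]; ring

theorem om_add' (a b c : U0) : om c (a + b) = om c a + om c b := by
  simp only [om, Pi.add_apply]; ring

theorem om_smul' (s : ZMod 2) (a c : U0) : om c (s • a) = s * om c a := by
  simp only [om, Pi.smul_apply, smul_eq_mul]; ring

theorem om_zero (a : U0) : om 0 a = 0 := by simp [om]

theorem om_zero' (a : U0) : om a 0 = 0 := by simp [om]

theorem om_du : ∀ a b c : Fin 6, a ≠ c → b ≠ c → om (du a c) (du b c) = if a = b then 0 else 1 := by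
  decide +kernel

theorem om_pu (h : S6) (a b : U0) : om (pu h a) (pu h b) = om a b := by
  have h1 : ∀ i j : Fin 6, i ≠ 5 → j ≠ 5 →
      om (du (h i) (h 5)) (du (h j) (h 5)) = if i = j then 0 else 1 := fun i j hi hj => by
    rw [om_du _ _ _ (h.injective.ne hi) (h.injective.ne hj)]; simp
  simp only [pu, lc_apply, om_add, om_add', om_smul, om_smul']
  simp (disch := decide) only [h1]
  simp only [om, Fin.reduceEq, if_true, if_false]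
  grind

theorem pu_inj (h : S6) {a b : U0} (e : pu h a = pu h b) : a = b := by
  rw [← pu_one a, ← pu_one b, ← inv_mul_cancel h, pu_mul, pu_mul, e]

theorem du_cases : ∀ j k l m : Fin 6, j ≠ k → l ≠ m → om (du j k) (du l m) = 0 →
    du j k = du l m ∨ (j ≠ l ∧ j ≠ m ∧ k ≠ l ∧ k ≠ m) := by decide +kernel

def v1 : Md := (du 0 1, 0)
def v2 : Md := (du 0 1, du 2 3)

theorem act_v1 (g : S6) : act 1 g v1 = (du (g 0) (g 1), 0) := by
  rw [act_one, ← pu_du]; exact Prod.ext rfl (map_zero _)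

set_option synthInstance.maxSize 2048 in
theorem two_cases : ∀ k : S6, k * k = 1 → k ≠ 1 → Perm.sign k = 1 → act 1 k v2 = v2 →
    act 1 k (du 0 2, du 0 2) + (du 0 2, du 0 2) = tens 2 (du 4 5) ∨
    act 1 k (du 0 4, 0) + (du 0 4, 0) = tens 0 (du 2 3) ∨
    act 1 k (0, du 2 4) + (0, du 2 4) = tens 1 (du 0 1) := by decide +kernel

/-- the 3-cycle `(2 3 4)` -/
abbrev tau : S6 := c3 2 3 4

set_option synthInstance.maxSize 2048 in
theorem one_cases : ∀ k : S6, k * k = 1 → k ≠ 1 → Perm.sign k = 1 → act 1 k v1 = v1 →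
    k * (tau * k * tau⁻¹) * (k * (tau * k * tau⁻¹)) = 1 → k = swap 2 3 * swap 4 5 ∨
      tau * k * tau⁻¹ = swap 2 3 * swap 4 5 ∨
      tau * (tau * k * tau⁻¹) * tau⁻¹ = swap 2 3 * swap 4 5 := by decide +kernel

theorem e0_span : ∀ a b : U0, om a (du 0 1) = 0 → (b = 0 ∨ b = du 0 1) →
    ∃ c1 c2 c3 c4 : ZMod 2, (a, b) = c1 • v1 + c2 • (du 2 3, 0) + c3 • (du 3 4, 0) +
      c4 • (0, du 0 1) := by decide +kernel

theorem e0_perp : ∀ a b : U0, b0 (a, b) v1 = 0 → b0 (a, b) (du 2 3, 0) = 0 →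
    b0 (a, b) (du 3 4, 0) = 0 → b0 (a, b) (0, du 0 1) = 0 →
    om a (du 0 1) = 0 ∧ (b = 0 ∨ b = du 0 1) := by decide +kernel

variable {G : Type*} [Group G]

namespace Fr

variable [Finite G] {z : G} {φ : G → S3 × S6} {W : VM (O2C z) z Md} (h : Fr z φ W)
include h

omit [Finite G] in
theorem hB (m m' : Md) : W.B m m' = b0 m m' := by
  have := W.q_add h.lx m m'
  rw [h.hq, h.hq, h.hq] at this
  simp only [q0, b0, Prod.fst_add, Prod.snd_add, om_add, om_add', om_symm m'.1 m.2] at this ⊢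
  grind

omit [Finite G] in
theorem comm_iff {x y : G} (hx : x ∈ O2C z) (hy : y ∈ O2C z) :
    x * y = y * x ↔ b0 (W.π x) (W.π y) = 0 := by rw [← h.hB, W.B_π hx hy, cf_eq_zero]

omit [Finite G] in
theorem lift {k : S6} (hk : Perm.sign k = 1) :
    ∃ c, c * z = z * c ∧ φ c = (1, k) ∧ ∀ m, W.ρ c m = act 1 k m := by
  obtain ⟨c, hc, e⟩ := h.surj 1 k (by simp) hk
  exact ⟨c, hc, e, fun m => by rw [h.ev hc (by rw [e]) (by rw [e]; exact hk), e]⟩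

omit [Finite G] in
theorem act_ex {c : G} (hc : c * z = z * c) : ∃ g, ∀ m, W.ρ c m = act g (φ c).2 m := by
  have a1 : ∀ (a : S6) m, act 1 a (act 1 a⁻¹ m) = m := fun a m => by
    rw [← act_one_mul, mul_inv_cancel, act_one, pu_one, pu_one]
  obtain ⟨g, hg⟩ := cent_model (act 1 (φ c).2⁻¹ ∘ₗ W.ρ c) (fun a b e => by
      have e1 := congrArg (act 1 (φ c).2) e
      simp only [LinearMap.comp_apply, a1] at e1
      rw [← W.ρ_inv_ρ h.lx hc a, e1, W.ρ_inv_ρ h.lx hc]) fun k hk m => by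
    obtain ⟨x, xz, ex, hx⟩ := h.lift hk
    have e : φ (c * x * c⁻¹) = (1, (φ c).2 * k * (φ c).2⁻¹) := by
      rw [h.conj hc xz, ex]; ext1 <;> simp
    have cz := cmul (cmul hc xz) (cinv hc)
    have := h.ev cz (by rw [e]) (by rw [e]; simp [hk]) (W.ρ c m)
    rw [← W.ρ_mul h.lx cz hc, inv_mul_cancel_right, W.ρ_mul h.lx hc xz, hx, e] at this
    simp only [LinearMap.comp_apply]
    rw [this, ← act_one_mul, ← act_one_mul]
    congr 2; group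
  exact ⟨g, fun m => by rw [act_eq, ← hg, LinearMap.comp_apply, a1]⟩

omit [Finite G] in
theorem stab {c : G} (hc : c * z = z * c) (e : W.ρ c v1 = v1) : pu (φ c).2 (du 0 1) = du 0 1 ∧
    ∃ ε : ZMod 2, ∀ m, W.ρ c m = (pu (φ c).2 m.1 + ε • pu (φ c).2 m.2, pu (φ c).2 m.2) := by
  obtain ⟨g, hg⟩ := h.act_ex hc
  rw [hg, act_apply] at e
  simp only [v1, map_zero, add_zero] at e
  have h1 : ∀ (i : Fin 3) (u : U0), tens i u = (du 0 1, 0) → i = 0 ∧ u = du 0 1 := by decide +kernel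
  obtain ⟨g0, e1⟩ := h1 _ _ e
  have h2 : ∀ g : S3, g 0 = 0 → g 1 = 1 ∨ g 1 = 2 := by decide
  refine ⟨e1, ?_⟩
  rcases h2 g g0 with g1 | g1
  · exact ⟨0, fun m => by simp [hg, act_apply, g0, g1, tens0, tens1]⟩
  · exact ⟨1, fun m => by simp [hg, act_apply, g0, g1, tens0, tens2]⟩

omit [Finite G] in
theorem fuse {x y c : G} (hx : x ∈ O2C z) (hy : y ∈ O2C z) (hc : c * z = z * c)
    (e : W.ρ c (W.π x) = W.π y) (h0 : W.π y ≠ 0) : Cj x y := by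
  rw [W.ρ_π hc hx, W.π_eq (h.lx.norm c hc x hx) hy] at e
  rcases e with e | e
  · exact ⟨c, e⟩
  · rw [Ne, W.π_eq_zero hy, not_or] at h0
    obtain ⟨w, -, e'⟩ := h.lx.toXS.exists_conj_eq hy h0.1 h0.2
    exact cj_trans ⟨c, e⟩ (cj_symm ⟨w, e'⟩)

omit [Finite G] in
theorem r1 (i : Fin 3) {j k : Fin 6} (hjk : j ≠ k) :
    ∃ c, c * z = z * c ∧ W.ρ c v1 = tens i (du j k) := by
  obtain ⟨g, s, rfl, rfl⟩ := ex2 hjk
  obtain ⟨c, cz, -, hc⟩ := h.lift s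
  obtain ⟨t, tz, ht⟩ := h.th
  have e : W.ρ c v1 = (du (g 0) (g 1), 0) := by rw [hc, act_v1]
  fin_cases i
  · exact ⟨c, cz, e.trans (tens0 _).symm⟩
  · exact ⟨t * c, cmul tz cz, by rw [W.ρ_mul h.lx tz cz, e, ht]; simp [tens1]⟩
  · refine ⟨t * (t * c), cmul tz (cmul tz cz), ?_⟩
    rw [W.ρ_mul h.lx tz (cmul tz cz), W.ρ_mul h.lx tz cz, e, ht, ht]; simp [tens2]

omit [Finite G] in
theorem r2 {j k l m : Fin 6} (h1 : j ≠ k) (h2 : j ≠ l) (h3 : j ≠ m) (h4 : k ≠ l) (h5 : k ≠ m)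
    (h6 : l ≠ m) : ∃ c, c * z = z * c ∧ W.ρ c v2 = (du j k, du l m) := by
  obtain ⟨g, s, rfl, rfl, rfl, rfl⟩ := ex4 h1 h2 h3 h4 h5 h6
  obtain ⟨c, cz, -, hc⟩ := h.lift s
  exact ⟨c, cz, by rw [hc, act_one, v2, pu_du, pu_du]⟩

omit [Finite G] in
theorem orbits (m : Md) (h0 : m ≠ 0) (hm : q0 m = 0) :
    ∃ c, c * z = z * c ∧ (W.ρ c v1 = m ∨ W.ρ c v2 = m) := by
  obtain ⟨a, b⟩ := m
  by_cases ha : a = 0
  · obtain ⟨j, k, hjk, rfl⟩ := exists_du b fun e => h0 (by rw [ha, e]; rfl)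
    obtain ⟨c, cz, e⟩ := h.r1 1 hjk
    exact ⟨c, cz, .inl (by rw [e, tens1, ha])⟩
  obtain ⟨j, k, hjk, rfl⟩ := exists_du a ha
  by_cases hb : b = 0
  · obtain ⟨c, cz, e⟩ := h.r1 0 hjk
    exact ⟨c, cz, .inl (by rw [e, tens0, hb])⟩
  obtain ⟨l, m, hlm, rfl⟩ := exists_du b hb
  rcases du_cases j k l m hjk hlm hm with e | ⟨x1, x2, x3, x4⟩
  · obtain ⟨c, cz, e'⟩ := h.r1 2 hjk
    exact ⟨c, cz, .inl (by rw [e', tens2, ← e])⟩
  · obtain ⟨c, cz, e'⟩ := h.r2 hjk x1 x2 x3 x4 hlm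
    exact ⟨c, cz, .inr e'⟩

omit [Finite G] in
theorem normalize {s c : G} {v : Md} (hs : Cj z s) (hQ : s ∈ O2C z) (hc : c * z = z * c)
    (e : W.ρ c v = W.π s) : Cj z (c⁻¹ * s * c⁻¹⁻¹) ∧ c⁻¹ * s * c⁻¹⁻¹ ∈ O2C z ∧
      W.π (c⁻¹ * s * c⁻¹⁻¹) = v :=
  ⟨cj_conj hs _, h.lx.norm _ (cinv hc) s hQ, by
    rw [← W.ρ_π (cinv hc) hQ, ← e, W.ρ_inv_ρ h.lx hc]⟩

omit [Finite G] in
theorem ne_z {s : G} (e : W.π s ≠ 0) : s ≠ z := fun e' => e (e' ▸ W.π_z h.lx)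

theorem exists_a' {s : G} (hs : Cj z s) (hQ : s ∈ O2C z) (hne : s ≠ z) :
    ∃ a ∈ O2C s, a * z = z * a ∧ ∃ k, φ a = (1, k) ∧ k * k = 1 ∧ k ≠ 1 ∧ Perm.sign k = 1 ∧
      act 1 k (W.π s) = W.π s := by
  obtain ⟨a, ha, az, a1, a2, a3⟩ := h.exists_a hs hQ hne
  have pr := h.pair hs hQ hne
  refine ⟨a, ha, az, _, Prod.ext a1 rfl, ?_, a3, a2, ?_⟩
  · rw [← Prod.snd_mul, ← h.mul az az]
    rcases pr.hP.sq a ha with e | e <;> rw [e]
    · rw [h.one]; rfl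
    · rw [h.of_mem hQ]; rfl
  · rw [← h.ev az a1 a2, W.ρ_π az hQ, ← pr.hP.z_comm a ha, mul_inv_cancel_right]

theorem comm_E {s a : G} (hs : Cj z s) (hQ : s ∈ O2C z) (hne : s ≠ z) (ha : a ∈ O2C s)
    (az : a * z = z * a) (m : Md) (hm : b0 m (W.π s) = 0) :
    ∃ e ∈ O2C z ⊓ O2C s, W.π e = W.ρ a m + m := by
  have pr := h.pair hs hQ hne
  obtain ⟨x, hx, rfl⟩ := W.surj m
  exact ⟨_, pr.comm_R_Q (pr.mem_R_of_P ha az) hx ((h.comm_iff hx hQ).2 hm), W.π_comm h.lx az hx⟩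

/-- a fused vector of rank two gives a fused vector of rank one -/
theorem rank_two {s : G} (hs : Cj z s) (hQ : s ∈ O2C z) (e : W.π s = v2) :
    ∃ s, Cj z s ∧ s ∈ O2C z ∧ W.π s = v1 := by
  have hne : s ≠ z := h.ne_z (by rw [e]; decide)
  have pr := h.pair hs hQ hne
  obtain ⟨a, ha, az, k, ek, k1, k2, k3, k4⟩ := h.exists_a' hs hQ hne
  have key : ∀ (m : Md) (i : Fin 3) (j k' a1 a2 a3 a4 : Fin 6), (b0 m v2 = 0 ∧ j ≠ k' ∧
      tens i (du j k') ≠ 0 ∧ tens i (du j k') ≠ v2 ∧ tens i (du j k') + v2 = (du a1 a2, du a3 a4) ∧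
      a1 ≠ a2 ∧ a1 ≠ a3 ∧ a1 ≠ a4 ∧ a2 ≠ a3 ∧ a2 ≠ a4 ∧ a3 ≠ a4) →
      act 1 k m + m = tens i (du j k') → ∃ s, Cj z s ∧ s ∈ O2C z ∧ W.π s = v1 := by
    rintro m i j k' a1 a2 a3 a4 ⟨b1, b2, b3, b4, b5, c1, c2, c3, c4, c5, c6⟩ hm
    obtain ⟨x, hx, ex⟩ := h.comm_E hs hQ hne ha az m (e ▸ b1)
    rw [h.ev az (by rw [ek]) (by rw [ek]; exact k3), ek, hm] at ex
    obtain ⟨c, cz, hc⟩ := h.r2 c1 c2 c3 c4 c5 c6
    have f1 : Cj s (x * s) := h.fuse hQ (mul_mem hx.1 hQ) cz (by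
      rw [W.π_mul hx.1 hQ, ex, e, hc, b5]) (by
      rw [W.π_mul hx.1 hQ, ex, e]
      exact fun e' => b4 (H19.LX.add_eq_zero.1 e'))
    obtain ⟨y, -, hy⟩ := pr.hP.toXS.exists_conj_eq hx.2 (fun e' => b3 (by rw [← ex, e', W.π_one]))
      (fun e' => b4 (by rw [← ex, e', e]))
    obtain ⟨d, dz, hd⟩ := h.r1 i b2
    exact ⟨_, h.normalize (cj_trans (cj_trans hs f1) (cj_symm ⟨y, hy⟩)) hx.1 dz (hd.trans ex.symm)⟩
  rcases two_cases k k1 k2 k3 (e ▸ k4) with e | e | e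
  · exact key _ _ _ _ 2 3 0 1 (by decide) e
  · exact key _ _ _ _ 4 5 2 3 (by decide) e
  · exact key _ _ _ _ 0 1 4 5 (by decide) e

theorem lift_s {s : G} (hs : Cj z s) (hQ : s ∈ O2C z) (e : W.π s = v1) {k : S6}
    (hk : Perm.sign k = 1) (hv : act 1 k v1 = v1) :
    ∃ c, c * z = z * c ∧ c * s = s * c ∧ φ c = (1, k) ∧ ∀ m, W.ρ c m = act 1 k m := by
  have hne : s ≠ z := h.ne_z (by rw [e]; decide)
  obtain ⟨c, cz, ec, hc⟩ := h.lift hk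
  obtain ⟨d, dz, ds, ed⟩ := h.adjust W cz hQ (h.pair hs hQ hne).hP.z_ne hne (by rw [e, hc, hv])
  exact ⟨d, dz, ds, ed.trans ec, fun m => (h.ρ_eq W dz cz ed m).trans (hc m)⟩

theorem rank_one0 {s : G} (hs : Cj z s) (hQ : s ∈ O2C z) (e : W.π s = v1) {x : G}
    (hx : x ∈ O2C z) : x ∈ O2C s ↔
      om (W.π x).1 (du 0 1) = 0 ∧ ((W.π x).2 = 0 ∨ (W.π x).2 = du 0 1) := by
  have hne : s ≠ z := h.ne_z (by rw [e]; decide)
  have pr := h.pair hs hQ hne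
  obtain ⟨t, tz, ts, et, ht⟩ := h.lift_s hs hQ e (k := tau) (by decide) (by decide)
  obtain ⟨a, ha, az, ea⟩ : ∃ a ∈ O2C s, a * z = z * a ∧ φ a = (1, swap 2 3 * swap 4 5) := by
    obtain ⟨a, ha, az, k, ek, k1, k2, k3, k4⟩ := h.exists_a' hs hQ hne
    have cj : ∀ a ∈ O2C s, a * z = z * a → ∀ k, φ a = (1, k) → t * a * t⁻¹ ∈ O2C s ∧
        t * a * t⁻¹ * z = z * (t * a * t⁻¹) ∧ φ (t * a * t⁻¹) = (1, tau * k * tau⁻¹) :=
      fun a ha az k ek => ⟨pr.hP.norm t ts a ha, cmul (cmul tz az) (cinv tz), by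
        rw [h.conj tz az, et, ek]; simp⟩
    obtain ⟨b1, b2, b3⟩ := cj a ha az k ek
    have c1 : φ (a * (t * a * t⁻¹)) * φ (a * (t * a * t⁻¹)) = 1 := by
      rw [← h.mul (cmul az b2) (cmul az b2)]
      rcases pr.hP.sq _ (mul_mem ha b1) with e | e <;> rw [e]
      · exact h.one
      · exact h.of_mem hQ
    rw [h.mul az b2, ek, b3] at c1
    rcases one_cases k k1 k2 k3 (e ▸ k4) (congrArg Prod.snd c1) with e | e | e
    · exact ⟨a, ha, az, e ▸ ek⟩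
    · exact ⟨_, b1, b2, e ▸ b3⟩
    · obtain ⟨d1, d2, d3⟩ := cj _ b1 b2 _ b3
      exact ⟨_, d1, d2, e ▸ d3⟩
  have ha' := h.ev az (by rw [ea]) (by rw [ea]; decide)
  rw [ea] at ha'
  obtain ⟨x2, m2, e2⟩ := h.comm_E hs hQ hne ha az (du 0 2, 0) (by rw [e]; decide)
  obtain ⟨x4, m4, e4⟩ := h.comm_E hs hQ hne ha az (0, du 2 4) (by rw [e]; decide)
  rw [ha', show act 1 _ _ + _ = (du 2 3, 0) by decide] at e2
  rw [ha', show act 1 _ _ + _ = (0, du 0 1) by decide] at e4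
  have m3 : t * x2 * t⁻¹ ∈ O2C z ⊓ O2C s := ⟨h.lx.norm t tz _ m2.1, pr.hP.norm t ts _ m2.2⟩
  have e3 : W.π (t * x2 * t⁻¹) = (du 3 4, 0) := by rw [← W.ρ_π tz m2.1, e2, ht]; decide
  have m1 : s ∈ O2C z ⊓ O2C s := ⟨hQ, pr.hP.z_mem⟩
  refine ⟨fun hs => ?_, fun ⟨b1, b2⟩ => ?_⟩
  · have c : ∀ y ∈ O2C z ⊓ O2C s, b0 (W.π x) (W.π y) = 0 := fun y hy =>
      (h.comm_iff hx hy.1).1 (pr.E_comm ⟨hx, hs⟩ hy)
    exact e0_perp _ _ (e ▸ c _ m1) (e2 ▸ c _ m2) (e3 ▸ c _ m3) (e4 ▸ c _ m4)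
  · obtain ⟨c1, c2, c3, c4, ec⟩ := e0_span _ _ b1 b2
    have sm : ∀ (c : ZMod 2), ∀ y ∈ O2C z ⊓ O2C s, ∃ w ∈ O2C z ⊓ O2C s, W.π w = c • W.π y :=
      fun c y hy => by
        rcases zmod2_cases c with rfl | rfl
        · exact ⟨1, one_mem _, by rw [W.π_one, zero_smul]⟩
        · exact ⟨y, hy, by rw [one_smul]⟩
    obtain ⟨y1, n1, f1⟩ := sm c1 _ m1
    obtain ⟨y2, n2, f2⟩ := sm c2 _ m2
    obtain ⟨y3, n3, f3⟩ := sm c3 _ m3
    obtain ⟨y4, n4, f4⟩ := sm c4 _ m4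
    have n := mul_mem (mul_mem (mul_mem n1 n2) n3) n4
    have : W.π x = W.π (y1 * y2 * y3 * y4) := by
      rw [W.π_mul (mul_mem (mul_mem n1 n2) n3).1 n4.1, W.π_mul (mul_mem n1 n2).1 n3.1,
        W.π_mul n1.1 n2.1, f1, f2, f3, f4, e, e2, e3, e4, ← ec]
    rcases (W.π_eq hx n.1).1 this with e | e <;> rw [e]
    · exact n.2
    · exact (O2C s).mul_mem n.2 pr.z_mem

theorem rank_one {s : G} (hs : Cj z s) (hQ : s ∈ O2C z) {y : U0} (hy : y ≠ 0)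
    (e : W.π s = (y, 0)) {x : G} (hx : x ∈ O2C z) :
    x ∈ O2C s ↔ om (W.π x).1 y = 0 ∧ ((W.π x).2 = 0 ∨ (W.π x).2 = y) := by
  obtain ⟨j, k, hjk, rfl⟩ := exists_du y hy
  obtain ⟨g, sg, rfl, rfl⟩ := ex2 hjk
  obtain ⟨c, cz, -, hc⟩ := h.lift sg
  obtain ⟨a1, a2, a3⟩ := h.normalize hs hQ cz (v := v1) (by
    rw [hc, e, act_v1])
  have hx' := h.lx.norm _ (cinv cz) x hx
  have e1 : W.π x = act 1 g (W.π (c⁻¹ * x * c⁻¹⁻¹)) := by
    rw [← hc, ← W.ρ_π (cinv cz) hx, W.ρ_ρ_inv h.lx cz]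
  have := h.rank_one0 a1 a2 a3 hx'
  rw [mem_O2C_conj, show c⁻¹⁻¹ * (c⁻¹ * x * c⁻¹⁻¹) * c⁻¹ = x by group] at this
  rw [this, e1, act_one, ← pu_du, om_pu]
  refine and_congr_right fun _ => or_congr ⟨fun e => by rw [e, map_zero], fun e => ?_⟩
    ⟨fun e => by rw [e], fun e => pu_inj g e⟩
  exact pu_inj g (e.trans (map_zero _).symm)

end Fr

end H59.SA
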