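import Cfsg.Agent.H59.SA6
import Cfsg.Agent.H49.CenCore

/-! The contradiction in the fused case. -/

set_option autoImplicit false

namespace H59.SA

open Cfsg H78 H1.LX H93.LX Module Equiv
open H19.LX (VM mod2)

theorem u_span : ∀ u : U0, ∃ c1 c2 c3 c4 : ZMod 2,
    u = c1 • du 0 1 + c2 • du 1 2 + c3 • du 2 3 + c4 • du 3 4 := by decide +kernel

theorem cent_A4 : ∀ k : S6, tau * k * tau⁻¹ * k⁻¹ = 1 → c3 3 4 5 * k * (c3 3 4 5)⁻¹ * k⁻¹ = 1 →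
    k = 1 ∨ k = swap 0 1 := by decide +kernel

theorem exists_w : ∀ y : U0, y ≠ 0 → y ≠ du 0 1 → ∃ w, om w y = 0 ∧ om w (du 0 1) = 1 := by
  decide +kernel

variable {G : Type*} [Group G]

namespace Fr

variable [Finite G] {z : G} {φ : G → S3 × S6} {W : VM (O2C z) z Md} (h : Fr z φ W)
include h

theorem final {p s : G} (hp : Cj z p) (pz : p * z = z * p)
    (ρp : ∀ m, W.ρ p m = (m.1 + m.2, m.2)) (hQ : s ∈ O2C z) (sp : s ∈ O2C p) (e : W.π s = v1) :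
    False := by
  have hP := (big_conj h.big hp).lx
  have zP : z ∉ O2C p := fun hz => by
    obtain ⟨g, hg⟩ := cj_symm hp
    have := hP.symm_O2C (g := g) (hg.symm ▸ hz)
    rw [hg] at this
    have h1 := W.ρ_of_mem h.lx this (0, du 0 1)
    rw [ρp] at h1
    exact absurd h1 (by decide)
  have yQ : ∀ x ∈ O2C z, x * p * x⁻¹ * p⁻¹ ∈ O2C z := fun x hx => by
    simpa only [mul_assoc] using mul_mem hx (h.lx.norm p pz _ (inv_mem hx))
  have yπ : ∀ x ∈ O2C z, W.π (x * p * x⁻¹ * p⁻¹) = ((W.π x).2, 0) := fun x hx => by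
    rw [show x * p * x⁻¹ * p⁻¹ = x * (p * x⁻¹ * p⁻¹) by group,
      W.π_mul hx (h.lx.norm p pz _ (inv_mem hx)), ← W.ρ_π pz (inv_mem hx), W.π_inv hx, ρp]
    refine Prod.ext ?_ (H19.LX.add_self _)
    simp only [Prod.fst_add]
    linear_combination (norm := (apply mod2; match_scalars <;> decide))
  have l2 : ∀ k, Perm.sign k = 1 → ∃ c, c * z = z * c ∧ c * p = p * c ∧
      ∀ m, W.ρ c m = act 1 (k * k) m := fun k hk => by
    obtain ⟨c, cz, -, hc⟩ := h.lift hk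
    have w1 : c * p * (p * c)⁻¹ ∈ O2C z := W.mem_of_ρ h.lx (cmul (cmul cz pz) (cinv (cmul pz cz)))
      fun m => by
        rw [W.ρ_mul h.lx (cmul cz pz) (cinv (cmul pz cz))]
        nth_rw 2 [← W.ρ_ρ_inv h.lx (cmul pz cz) m]
        rw [W.ρ_mul h.lx cz pz, W.ρ_mul h.lx pz cz, hc, hc, ρp, ρp, act_one, act_one, map_add]
    have w2 : c * p * (p * c)⁻¹ * (p * (c * p * (p * c)⁻¹) * p⁻¹) = 1 := by
      calc _ = c * p * c⁻¹ * (c * p * c⁻¹) * (p * p)⁻¹ := by group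
        _ = c * (p * p) * c⁻¹ * (p * p)⁻¹ := by group
        _ = 1 := by rw [hP.z_sq]; group
    have w3 := congrArg (fun x => (W.π x).1) w2
    simp only [W.π_mul w1 (h.lx.norm p pz _ w1), ← W.ρ_π pz w1, ρp, W.π_one, Prod.fst_add,
      Prod.fst_zero] at w3
    have w4 : (W.π (c * p * (p * c)⁻¹)).2 = 0 := by
      linear_combination (norm := (apply mod2; match_scalars <;> decide)) w3
    obtain ⟨x, hx, ex⟩ := W.surj (0, (W.π (c * p * (p * c)⁻¹)).1)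
    have w5 := (W.π_eq w1 (yQ x hx)).1 (by rw [yπ x hx, ex]; exact Prod.ext rfl w4)
    have dz := cmul (cinv (h.cQ hx)) cz
    refine ⟨x⁻¹ * c * (x⁻¹ * c), cmul dz dz, ?_, fun m => ?_⟩
    · rcases w5 with w5 | w5
      · have : x⁻¹ * c * p = p * (x⁻¹ * c) := by
          calc _ = x⁻¹ * (c * p * (p * c)⁻¹) * p * c := by group
            _ = _ := by rw [w5]; group
        exact Commute.mul_left this this
      · have : x⁻¹ * c * p = p * z * (x⁻¹ * c) := by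
          calc _ = x⁻¹ * (c * p * (p * c)⁻¹) * p * c := by group
            _ = p * (x⁻¹ * p⁻¹ * z) * p * c := by rw [w5]; group
            _ = _ := by rw [cmul (cinv (h.cQ hx)) (cinv pz)]; group
        calc _ = x⁻¹ * c * (x⁻¹ * c * p) := by group
          _ = x⁻¹ * c * p * z * (x⁻¹ * c) := by nth_rw 1 [this]; group
          _ = p * z * (x⁻¹ * c * z) * (x⁻¹ * c) := by rw [this]; group
          _ = p * (z * z) * (x⁻¹ * c * (x⁻¹ * c)) := by rw [dz]; group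
          _ = _ := by rw [h.lx.z_sq, mul_one]
    · rw [W.ρ_mul h.lx dz dz, W.ρ_mul h.lx (cinv (h.cQ hx)) cz, W.ρ_mul h.lx (cinv (h.cQ hx)) cz,
        W.ρ_of_mem h.lx (inv_mem hx), W.ρ_of_mem h.lx (inv_mem hx), hc, hc, act_one_mul]
  have J : ∀ u, ∃ i ∈ O2C z ⊓ O2C p, W.π i = (u, 0) := fun u => by
    obtain ⟨c, cz, cp, hc⟩ := l2 (c5 0 3 1 4 2) (by decide)
    have st : ∀ u, (∃ i ∈ O2C z ⊓ O2C p, W.π i = (u, 0)) → ∃ i ∈ O2C z ⊓ O2C p,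
        W.π i = (pu (c5 0 3 1 4 2 * c5 0 3 1 4 2) u, 0) := fun u ⟨i, hi, e⟩ =>
      ⟨c * i * c⁻¹, ⟨h.lx.norm c cz i hi.1, hP.norm c cp i hi.2⟩, by
        rw [← W.ρ_π cz hi.1, e, hc, act_one, map_zero]⟩
    have j1 : ∃ i ∈ O2C z ⊓ O2C p, W.π i = (du 0 1, 0) := ⟨s, ⟨hQ, sp⟩, e⟩
    have j2 := st _ j1
    rw [show pu _ (du 0 1) = du 1 2 by decide] at j2
    have j3 := st _ j2
    rw [show pu _ (du 1 2) = du 2 3 by decide] at j3
    have j4 := st _ j3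
    rw [show pu _ (du 2 3) = du 3 4 by decide] at j4
    have sm : ∀ (c : ZMod 2) (u : U0), (∃ i ∈ O2C z ⊓ O2C p, W.π i = (u, 0)) →
        ∃ i ∈ O2C z ⊓ O2C p, W.π i = (c • u, 0) := fun c u hu => by
      rcases zmod2_cases c with rfl | rfl
      · exact ⟨1, one_mem _, by rw [W.π_one, zero_smul]; rfl⟩
      · rwa [one_smul]
    have ad : ∀ u v : U0, (∃ i ∈ O2C z ⊓ O2C p, W.π i = (u, 0)) →
        (∃ i ∈ O2C z ⊓ O2C p, W.π i = (v, 0)) → ∃ i ∈ O2C z ⊓ O2C p, W.π i = (u + v, 0) :=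
      fun u v ⟨i, hi, e⟩ ⟨j, hj, e'⟩ => ⟨i * j, mul_mem hi hj, by
        rw [W.π_mul hi.1 hj.1, e, e']; simp⟩
    obtain ⟨c1, c2, c3, c4, rfl⟩ := u_span u
    exact ad _ _ (ad _ _ (ad _ _ (sm _ _ j1) (sm _ _ j2)) (sm _ _ j3)) (sm _ _ j4)
  have yeq : ∀ x ∈ O2C z, ∀ x' ∈ O2C z, (W.π x).2 = (W.π x').2 →
      x * p * x⁻¹ * p⁻¹ = x' * p * x'⁻¹ * p⁻¹ := fun x hx x' hx' e => by
    have hb := mul_mem (inv_mem hx') hx
    obtain ⟨i, hi, ei⟩ := J (W.π (x'⁻¹ * x)).1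
    have ip : i * p = p * i := (hP.z_comm i hi.2).symm
    have : x'⁻¹ * x * p = p * (x'⁻¹ * x) := by
      rcases (W.π_eq hb hi.1).1 (by
        rw [ei]
        refine Prod.ext rfl ?_
        rw [W.π_mul (inv_mem hx') hx, W.π_inv hx', Prod.snd_add, e, H19.LX.add_self]) with e | e <;>
      rw [e]
      · exact ip
      · exact Commute.mul_left ip pz.symm
    calc _ = x' * (x'⁻¹ * x * p) * x⁻¹ * p⁻¹ := by group
      _ = _ := by rw [this]; group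
  have inv : ∀ k, Perm.sign k = 1 → ∀ x ∈ O2C z, ∀ x' ∈ O2C z, (W.π x').2 = pu (k * k) (W.π x).2 →
      x * p * x⁻¹ * p⁻¹ ∈ O2C p → x' * p * x'⁻¹ * p⁻¹ ∈ O2C p := fun k hk x hx x' hx' e hy => by
    obtain ⟨c, cz, cp, hc⟩ := l2 k hk
    rw [yeq x' hx' _ (h.lx.norm c cz x hx) (by rw [← W.ρ_π cz hx, hc, act_one, e])]
    convert hP.norm c cp _ hy using 1
    calc _ = c * x * (c⁻¹ * p) * c * x⁻¹ * (c⁻¹ * p⁻¹) := by group
      _ = _ := by rw [cinv cp, Commute.inv_inv cp]; group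
  have ymul : ∀ x x' : G, x * x' * p * (x * x')⁻¹ * p⁻¹ =
      x * (x' * p * x'⁻¹ * p⁻¹) * x⁻¹ * (x * p * x⁻¹ * p⁻¹) := fun x x' => by group
  have alt : ∀ x ∈ O2C z, x * p * x⁻¹ * p⁻¹ ∉ O2C p → x * p * x⁻¹ * p⁻¹ * z ∈ O2C p :=
    fun x hx hn => by
      obtain ⟨i, hi, ei⟩ := J (W.π x).2
      rcases (W.π_eq (yQ x hx) hi.1).1 ((yπ x hx).trans ei.symm) with e | e <;> rw [e] at hn ⊢
      · exact absurd hi.2 hn
      · rw [h.lx.toXS.mul_z_z]; exact hi.2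
  obtain ⟨x1, m1, e1⟩ := W.surj (0, du 0 1)
  by_cases a1 : x1 * p * x1⁻¹ * p⁻¹ ∈ O2C p
  · obtain ⟨x2, m2, e2⟩ := W.surj (0, du 1 2)
    have a2 := inv (c3 0 2 1) (by decide) x1 m1 x2 m2 (by rw [e1, e2]; decide) a1
    have a3 := inv (c3 0 2 1) (by decide) x2 m2 _ (mul_mem m1 m2)
      (by rw [W.π_mul m1 m2, e1, e2]; decide) a2
    rw [ymul, h.lx.toXS.conj_of_cf_one m1 (yQ x2 m2) (by
      rw [← W.B_π m1 (yQ x2 m2), h.hB, yπ x2 m2, e1, e2]; decide)] at a3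
    exact zP ((Subgroup.mul_mem_cancel_left _ a2).1 ((Subgroup.mul_mem_cancel_right _ a1).1 a3))
  · obtain ⟨x2, m2, e2⟩ := W.surj (0, du 2 3)
    have a2 := alt x2 m2 fun a => a1 (inv (swap 0 3 * swap 0 2 * swap 0 1 * swap 4 5) (by decide)
      x2 m2 x1 m1 (by rw [e1, e2]; decide) a)
    refine a1 (inv (swap 0 5 * swap 0 4 * swap 0 1 * swap 2 3) (by decide) _ (mul_mem m1 m2) x1 m1
      (by rw [W.π_mul m1 m2, e1, e2]; decide) ?_)
    rw [ymul, h.lx.toXS.conj_of_cf_zero (by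
      rw [← W.B_π m1 (yQ x2 m2), h.hB, yπ x2 m2, e1, e2]; decide)]
    convert mul_mem a2 (alt x1 m1 a1) using 1
    rw [mul_assoc _ z, ← mul_assoc z, h.lx.z_comm _ (yQ x1 m1), h.lx.toXS.mul_z_z]

theorem rank_one_false {s : G} (hs : Cj z s) (hQ : s ∈ O2C z) (e : W.π s = v1) : False := by
  have hne : s ≠ z := h.ne_z (by rw [e]; decide)
  have pr := h.pair hs hQ hne
  obtain ⟨k, -, kz, ks, -⟩ := swap_elt pr
  have kz' : k⁻¹ * z * k⁻¹⁻¹ = s := by rw [← ks]; group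
  have ks' : k⁻¹ * s * k⁻¹⁻¹ = z := by rw [← kz]; group
  have stab' : ∀ {c}, c * z = z * c → c * s = s * c → W.ρ c v1 = v1 := fun cz cs => by
    rw [← e, W.ρ_π cz hQ, cs, mul_inv_cancel_right]
  have R0 := fun x hx => h.rank_one0 hs hQ e (x := x) hx
  have r1D : ∀ x ∈ O2C z, ∀ u, u ≠ 0 → W.π x = (u, 0) → Cj z x := fun x hx u hu ex => by
    obtain ⟨j, l, hjl, rfl⟩ := exists_du u hu
    obtain ⟨c, cz, hc⟩ := h.r1 0 hjl
    exact cj_trans hs (h.fuse hQ hx cz (by rw [e, hc, tens0, ex])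
      (by rw [ex]; exact fun e => hu (congrArg Prod.fst e)))
  obtain ⟨t, tz, ts, et, ht⟩ := h.lift_s hs hQ e (k := tau) (by decide) (by decide)
  obtain ⟨x, hx, ex⟩ := W.surj (du 2 3, 0)
  have xP : x ∈ O2C s := (R0 x hx).2 (by rw [ex]; decide)
  have s1 : t * x * t⁻¹ * x⁻¹ ∈ O2C z := mul_mem (h.lx.norm t tz x hx) (inv_mem hx)
  have s2 : W.π (t * x * t⁻¹ * x⁻¹) = (du 2 4, 0) := by
    rw [W.π_comm h.lx tz hx, ex, ht]; decide
  have s3 := r1D _ s1 _ (by decide) s2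
  generalize hs' : t * x * t⁻¹ * x⁻¹ = s' at s1 s2 s3
  -- the conjugate of `s'` under the swap
  have x1 : k⁻¹ * x * k⁻¹⁻¹ ∈ O2C z := pr.cP _ ks' x xP
  have x2 : k⁻¹ * x * k⁻¹⁻¹ ∈ O2C s := pr.cQ _ kz' x hx
  have t1 : k⁻¹ * t * k⁻¹⁻¹ * z = z * (k⁻¹ * t * k⁻¹⁻¹) := ks' ▸ comm_conj k⁻¹ ts
  have t2 : k⁻¹ * t * k⁻¹⁻¹ * s = s * (k⁻¹ * t * k⁻¹⁻¹) := kz' ▸ comm_conj k⁻¹ tz
  have es : k⁻¹ * s' * k⁻¹⁻¹ = k⁻¹ * t * k⁻¹⁻¹ * (k⁻¹ * x * k⁻¹⁻¹) * (k⁻¹ * t * k⁻¹⁻¹)⁻¹ *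
      (k⁻¹ * x * k⁻¹⁻¹)⁻¹ := by rw [← hs']; group
  have u1 : k⁻¹ * s' * k⁻¹⁻¹ ∈ O2C z := es ▸ mul_mem (h.lx.norm _ t1 _ x1) (inv_mem x1)
  have u2 : (W.π (k⁻¹ * s' * k⁻¹⁻¹)).2 = 0 := by
    obtain ⟨a, ε, b⟩ := h.stab t1 (stab' t1 t2)
    rw [es, W.π_comm h.lx t1 x1, b, Prod.snd_add]
    rcases ((R0 _ x1).1 x2).2 with e | e <;> rw [e]
    · simp
    · rw [a, H19.LX.add_self]
  have u3 : W.π (k⁻¹ * s' * k⁻¹⁻¹) = ((W.π (k⁻¹ * s' * k⁻¹⁻¹)).1, 0) := Prod.ext rfl u2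
  have back : ∀ y, k⁻¹ * s' * k⁻¹⁻¹ = y → s' = k * y * k⁻¹ := fun y e => by rw [← e]; group
  have u4 : (W.π (k⁻¹ * s' * k⁻¹⁻¹)).1 ≠ 0 := fun e' => by
    rcases (W.π_eq_zero u1).1 (Prod.ext e' u2) with a | a <;> rw [back _ a] at s2
    · rw [mul_one, mul_inv_cancel, W.π_one] at s2
      exact absurd s2 (by decide)
    · rw [kz, e] at s2
      exact absurd s2 (by decide)
  have u5 : (W.π (k⁻¹ * s' * k⁻¹⁻¹)).1 ≠ du 0 1 := fun e' => by
    rcases (W.π_eq u1 hQ).1 ((Prod.ext e' u2).trans e.symm) with a | a <;> rw [back _ a] at s2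
    · rw [ks, W.π_z h.lx] at s2
      exact absurd s2 (by decide)
    · rw [show k * (s * z) * k⁻¹ = k * s * k⁻¹ * (k * z * k⁻¹) by group, ks, kz,
        W.π_mul h.lx.z_mem hQ, W.π_z h.lx, e] at s2
      exact absurd s2 (by decide)
  obtain ⟨w, w1, w2⟩ := exists_w _ u4 u5
  obtain ⟨p, hp, ep⟩ := W.surj (w, 0)
  have w0 : w ≠ 0 := fun e => by rw [e] at w2; exact absurd w2 (by decide)
  have p1 := r1D p hp w w0 ep
  have p2 : p ∈ O2C (k⁻¹ * s' * k⁻¹⁻¹) :=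
    (h.rank_one (cj_conj s3 _) u1 u4 u3 hp).2 (by rw [ep]; exact ⟨w1, .inl rfl⟩)
  have p3 : p ∉ O2C s := fun a => by
    have := ((R0 p hp).1 a).1
    rw [ep, w2] at this
    exact absurd this (by decide)
  have p4 : p * s = s * p := (h.comm_iff hp hQ).2 (by rw [ep, e]; simp [b0, v1, om_zero, om_zero'])
  have q1 : k * p * k⁻¹ ∈ O2C s := pr.cQ k kz p hp
  have q2 : k * p * k⁻¹ ∉ O2C z := fun a => p3 (by simpa [mul_assoc] using pr.cQ _ kz' _ a)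
  have q3 : k * p * k⁻¹ ∈ O2C s' := by rw [back _ rfl]; exact conj_mem_O2C k p2
  have q4 : k * p * k⁻¹ * z = z * (k * p * k⁻¹) := ks ▸ comm_conj k p4
  have q5 : ∀ c, c * z = z * c → c * s = s * c →
      c * (k * p * k⁻¹) * c⁻¹ * (k * p * k⁻¹)⁻¹ ∈ O2C z := fun c cz cs => by
    have c1 : k⁻¹ * c * k⁻¹⁻¹ * z = z * (k⁻¹ * c * k⁻¹⁻¹) := ks' ▸ comm_conj k⁻¹ cs
    have c2 : k⁻¹ * c * k⁻¹⁻¹ * s = s * (k⁻¹ * c * k⁻¹⁻¹) := kz' ▸ comm_conj k⁻¹ cz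
    obtain ⟨a, ε, b⟩ := h.stab c1 (stab' c1 c2)
    have := pr.cP k ks _ ((R0 _ (mul_mem (h.lx.norm _ c1 p hp) (inv_mem hp))).2 (by
      rw [W.π_comm h.lx c1 hp, b, ep]
      refine ⟨?_, .inl (by simp)⟩
      simp only [map_zero, smul_zero, add_zero, Prod.fst_add, om_add]
      nth_rw 1 [← a]
      rw [om_pu, zmod2_add_self]))
    convert this using 1
    group
  have q6 := cj_conj p1 k
  generalize k * p * k⁻¹ = P at q1 q2 q3 q4 q5 q6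
  obtain ⟨t', tz', ts', et', -⟩ := h.lift_s hs hQ e (k := c3 3 4 5) (by decide) (by decide)
  have c1 := h.of_mem (q5 t tz ts)
  have c2 := h.of_mem (q5 t' tz' ts')
  rw [h.comm tz q4, et] at c1
  rw [h.comm tz' q4, et'] at c2
  obtain ⟨-, ε, b⟩ := h.stab q4 (stab' q4 (pr.hP.z_comm P q1).symm)
  rcases cent_A4 _ (congrArg Prod.snd c1) (congrArg Prod.snd c2) with a | a <;> rw [a] at b
  · simp only [pu_one] at b
    rcases zmod2_cases ε with rfl | rfl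
    · exact q2 (W.mem_of_ρ h.lx q4 fun m => by simp [b])
    · refine h.final q6 q4 (fun m => by simp [b]) hQ ?_ e
      obtain ⟨g, rfl⟩ := cj_trans (cj_symm hs) q6
      exact pr.hP.symm_O2C q1
  · obtain ⟨y, hy, ey⟩ := h.comm_E s3 s1 (h.ne_z (by rw [s2]; decide)) q3 q4 (0, du 0 3)
      (by rw [s2]; decide)
    have := ((h.rank_one s3 s1 (by decide) s2 hy.1).1 hy.2).2
    rw [ey, b, Prod.snd_add] at this
    dsimp only at this
    exact absurd this (by decide)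

end Fr

theorem Hyp.false [Finite G] {z : G} {φ : G → S3 × S6} (h : Hyp z φ) (hb : ∃ t, Nb z t) :
    False := by
  have := h.not_wc hb
  unfold WC at this
  push Not at this
  obtain ⟨s, hs, hQ, hne⟩ := this
  obtain ⟨ψ, W, F⟩ := h.exists_fr hs hQ hne
  have pr := h.pair hs hQ hne
  obtain ⟨c, cz, e | e⟩ := F.orbits (W.π s)
    (fun e => pr.hP.z_ne (((W.π_eq_zero hQ).1 e).resolve_right hne))
    (by rw [← F.hq, W.q_π hQ, sf_eq_zero, pr.hP.z_sq])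
  · obtain ⟨a, b, c⟩ := F.normalize hs hQ cz e
    exact F.rank_one_false a b c
  · obtain ⟨a, b, c⟩ := F.normalize hs hQ cz e
    obtain ⟨s, a, b, c⟩ := F.rank_two a b c
    exact F.rank_one_false a b c

theorem false_of_hom [Finite G] [IsSimpleGroup G] {z : G} (h : Big z 4) (φ : cen z →* S3 × S6)
    (hk : ∀ x, φ x = 1 ↔ (x : G) ∈ O2C z)
    (hs : ∀ g k, Perm.sign g = 1 → Perm.sign k = 1 → ∃ x, φ x = (g, k)) : False := by
  classical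
  refine Hyp.false (z := z) (φ := fun x => if hx : x ∈ cen z then φ ⟨x, hx⟩ else 1)
    ⟨h, fun hx hy => ?_, fun hx => ?_, fun g k a b => ?_⟩ ?_
  · rw [dif_pos (mem_cen.2 hx), dif_pos (mem_cen.2 hy), dif_pos (mem_cen.2 (cmul hx hy)), ← map_mul]
    rfl
  · rw [dif_pos (mem_cen.2 hx), hk]
  · obtain ⟨x, hx⟩ := hs g k a b
    exact ⟨x, mem_cen.1 x.2, by rw [dif_pos x.2, hx]⟩
  · obtain ⟨g, a, b⟩ := H49.exists_conj_comm_of_simple h.lx.toXS.orderOf_z (fun e => by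
      have := Subgroup.card_le_card_group (O2C z)
      rw [h.card, e] at this
      omega)
    exact ⟨_, ⟨g, rfl⟩, b, a⟩

end H59.SA
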