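import Cfsg.Agent.H54.SpSimple
import Cfsg.Agent.H54.SpSL2
import Cfsg.Agent.H54.SpField
import Cfsg.Agent.H61.Sp4Base
import Cfsg.Agent.H61.SL2Lift
import Cfsg.Agent.H90.PermMod
import Cfsg.Agent.H53.Unip
import Mathlib.LinearAlgebra.Eigenspace.Triangularizable

/-! `Sp₄`: Heisenberg triples, flags of `p`-groups, products of two transvections. -/

set_option autoImplicit false

namespace H59.S4II

open H54 H61.S4 Matrix
open scoped commutatorElement MatrixGroups

variable {F : Type*} [Field F]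

local notation "f" => spB (Fin 2) _

theorem tv_act (v : V4 F) (c : F) (x : V4 F) : tv v c ⋆ x = x + (c * f x v) • v := tv_smul v c x

theorem tv_cj (g : Sp F) (v : V4 F) (c : F) : g * tv v c * g⁻¹ = tv (g ⋆ v) c := tv_conj g v c

theorem exists_eig [IsAlgClosed F] (g : Sp F) (W : Submodule F (V4 F)) (h0 : W ≠ ⊥)
    (hW : ∀ x ∈ W, g ⋆ x ∈ W) : ∃ v ∈ W, v ≠ 0 ∧ ∃ c : F, c ≠ 0 ∧ g ⋆ v = c • v := by
  have : Nontrivial W := Submodule.nontrivial_iff_ne_bot.2 h0
  obtain ⟨c, hc⟩ := Module.End.exists_eigenvalue ((act g).restrict hW)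
  obtain ⟨v, hv⟩ := hc.exists_hasEigenvector
  have e : g ⋆ v.1 = c • v.1 := congrArg Subtype.val hv.apply_eq_smul
  have v0 : v.1 ≠ 0 := fun h => hv.2 (Subtype.ext h)
  refine ⟨v, v.2, v0, c, ?_, e⟩
  rintro rfl
  exact v0 (act_eq_zero.1 (e.trans (zero_smul _ _)))

theorem heis_closed [IsAlgClosed F] {a b z : Sp F} (hz : a * b = z * (b * a)) (ha : Commute z a)
    (hb : Commute z b) {n : ℕ} (hn : (n : F) ≠ 0) (e : (z * z) ^ n = 1) : z * z = 1 := by
  by_contra hc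
  obtain ⟨y, ⟨x, hyx⟩, y0, ζ, ζ0, hy⟩ := exists_eig z (LinearMap.range (act (z * z) - LinearMap.id))
    (fun h => hc (act_ext fun x => by
      have := h.le ⟨x, rfl⟩
      simpa [sub_eq_zero] using this)) (by
      rintro _ ⟨x, rfl⟩
      exact ⟨z ⋆ x, by simp [mul_act]⟩)
  have ζ2 : ζ * ζ - 1 ≠ 0 := fun h => by
    have h1 : (z * z) ⋆ y = y := by
      rw [mul_act, hy, map_smul, hy, smul_smul, sub_eq_zero.1 h, one_smul]
    have h2 : ∀ k : ℕ, (z * z) ^ k ⋆ x = x + (k : F) • y := fun k => by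
      induction k with
      | zero => simp
      | succ k ih =>
        rw [pow_succ', mul_act, ih, map_add, map_smul, h1, Nat.cast_succ, add_smul, one_smul, ← hyx]
        simp only [LinearMap.sub_apply, LinearMap.id_apply]
        abel
    have h3 := h2 n
    rw [e, one_act, left_eq_add, smul_eq_zero] at h3
    exact h3.elim hn y0
  let W : Submodule F (V4 F) := LinearMap.ker (act z - ζ • LinearMap.id)
  have hW : ∀ {x}, x ∈ W ↔ z ⋆ x = ζ • x := by simp [W, sub_eq_zero]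
  have st : ∀ {g : Sp F}, Commute z g → ∀ x ∈ W, g ⋆ x ∈ W := fun h x hx => by
    rw [hW, ← mul_act, h.eq, mul_act, hW.1 hx, map_smul]
  have iso : ∀ {x y}, x ∈ W → y ∈ W → f x y = 0 := fun {x y} hx hy => by
    have := f_act z x y
    rw [hW.1 hx, hW.1 hy] at this
    simp only [map_smul, LinearMap.smul_apply, smul_eq_mul] at this
    exact (mul_eq_zero.1 (by linear_combination this)).resolve_left ζ2
  obtain ⟨v, hv, v0, α, α0, hα⟩ := exists_eig a W
    (fun h => y0 (show y ∈ (⊥ : Submodule F (V4 F)) from h ▸ hW.2 hy)) (st ha)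
  have step : ∀ {x} {β : F}, x ∈ W → a ⋆ x = β • x → a ⋆ b ⋆ x = (β * ζ) • b ⋆ x :=
    fun {x β} hx h => by
      rw [← mul_act, hz, mul_act, mul_act, h, map_smul, map_smul, hW.1 (st hb x hx), smul_smul]
  have h1 := step hv hα
  have h2 := step (st hb v hv) h1
  have w1 := st hb v hv
  have w2 := st hb _ w1
  have ζ1 : ζ - 1 ≠ 0 := fun h => ζ2 (by rw [sub_eq_zero.1 h, mul_one, sub_self])
  have ind : LinearIndependent F ![v, b ⋆ v] := indep_iff.2 fun s t h => by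
    have h3 := congrArg (act a) h
    rw [map_add, map_smul, map_smul, hα, h1, map_zero] at h3
    have h4 : (t * α * (ζ - 1)) • b ⋆ v = 0 := by
      linear_combination (norm := module) h3 - α • h
    have t0 : t = 0 := by simpa [α0, ζ1, act_eq_zero, v0] using h4
    simpa [t0, v0] using h
  obtain ⟨s, t, h3⟩ := perp2 (z := b ⋆ b ⋆ v) ind ind (iso hv hv) (iso w1 hv) (iso hv w1)
    (iso w1 w1) (iso hv w2) (iso w1 w2)
  rw [h3, map_add, map_smul, map_smul, hα, h1] at h2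
  obtain ⟨h4, h5⟩ := indep_iff.1 ind (s * α * (ζ * ζ - 1)) (t * α * ζ * (ζ - 1))
    (by linear_combination (norm := module) -h2)
  have s0 : s = 0 := by simpa [α0, ζ2] using h4
  have t0 : t = 0 := by simpa [α0, ζ1, ζ0] using h5
  simp [s0, t0, act_eq_zero, v0] at h3

/-- The centre of a Heisenberg triple in `Sp₄` has only the eigenvalues `±1`. -/
theorem heis {a b : Sp F} (ha : Commute ⁅a, b⁆ a) (hb : Commute ⁅a, b⁆ b) {n : ℕ}
    (hn : (n : F) ≠ 0) (e : (⁅a, b⁆ * ⁅a, b⁆) ^ n = 1) : ⁅a, b⁆ * ⁅a, b⁆ = 1 := by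
  let φ := spMap (Fin 2) (algebraMap F (AlgebraicClosure F))
  apply spMap_injective _ (algebraMap F (AlgebraicClosure F)).injective
  rw [map_mul, map_one]
  refine heis_closed (a := φ a) (b := φ b) (n := n) ?_ (ha.map φ) (hb.map φ)
    (by rwa [← map_natCast (algebraMap F (AlgebraicClosure F)), _root_.map_ne_zero])
    (by rw [← map_mul, ← map_pow, e, map_one])
  simp only [φ, ← map_mul, commutatorElement_def]
  congr 1
  group

/-! ### flags -/

/-- `g - 1` lowers the filtration `W` by `k` steps. -/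
def Dn (W : ℕ → Submodule F (V4 F)) (k : ℕ) (g : Sp F) : Prop :=
  ∀ i, ∀ x ∈ W (i + k), g ⋆ x - x ∈ W i

/-- The stabiliser of `u` and of `w` modulo `u`. -/
def St (u w : V4 F) : Subgroup (Sp F) where
  carrier := {g | g ⋆ u = u ∧ ∃ c : F, g ⋆ w = w + c • u}
  one_mem' := ⟨one_act u, 0, by simp⟩
  mul_mem' := by
    rintro a b ⟨a1, c, a2⟩ ⟨b1, d, b2⟩
    exact ⟨by rw [mul_act, b1, a1], c + d, by rw [mul_act, b2, map_add, map_smul, a1, a2]; module⟩
  inv_mem' := by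
    rintro a ⟨a1, c, a2⟩
    exact ⟨inv_act_eq a1, -c, inv_act_eq (by rw [map_add, map_smul, a1, a2]; module)⟩

/-- The flag of `u, w`. -/
noncomputable def Fl (u w : V4 F) : ℕ → Submodule F (V4 F)
  | 0 => ⊥
  | 1 => Submodule.span F {u}
  | 2 => LinearMap.ker (f u) ⊓ LinearMap.ker (f w)
  | 3 => LinearMap.ker (f u)
  | _ + 4 => ⊤

section

variable {u w : V4 F} (hi : LinearIndependent F ![u, w]) (h0 : f u w = 0)
include hi h0

theorem St.dn {g : Sp F} (hg : g ∈ St u w) : Dn (Fl u w) 1 g := by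
  obtain ⟨g1, c, g2⟩ := hg
  obtain ⟨g3, d, g4⟩ := (St u w).inv_mem ⟨g1, c, g2⟩
  have k : ∀ x, f u (g ⋆ x - x) = 0 := fun x => by rw [map_sub, f_act_right, g3, sub_self]
  intro i x hx
  match i, hx with
  | 0, hx =>
    obtain ⟨a, rfl⟩ := Submodule.mem_span_singleton.1 hx
    simp [Fl, g1]
  | 1, hx =>
    obtain ⟨a, b, rfl⟩ := perp2 hi hi (spB_self u) (by rw [spB_swap, h0, neg_zero]) h0 (spB_self w)
      hx.1 hx.2
    exact Submodule.mem_span_singleton.2 ⟨b * c, by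
      rw [map_add, map_smul, map_smul, g1, g2]; module⟩
  | 2, hx =>
    have hx' : f u x = 0 := hx
    exact ⟨k x, show f w _ = 0 by rw [map_sub, f_act_right, g4]; simp [hx']⟩
  | 3, _ => exact k x
  | _ + 4, _ => trivial

omit hi in
theorem Fl.mono (i : ℕ) : Fl u w i ≤ Fl u w (i + 1) :=
  match i with
  | 0 => bot_le
  | 1 => Submodule.span_le.2 (by
    rintro _ rfl
    exact ⟨spB_self _, show f w _ = 0 by rw [spB_swap, h0, neg_zero]⟩)
  | 2 => inf_le_left
  | 3 => le_top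
  | _ + 4 => le_top

theorem St.stab {g : Sp F} (hg : g ∈ St u w) (i : ℕ) {x : V4 F} (hx : x ∈ Fl u w i) :
    g ⋆ x ∈ Fl u w i := by
  cases i with
  | zero =>
    obtain rfl : x = 0 := hx
    simp
  | succ i => simpa using add_mem (Fl.mono h0 i (St.dn hi h0 hg i x hx)) hx

theorem St.comm {g h : Sp F} (hg : g ∈ St u w) (hh : h ∈ St u w) {j k : ℕ}
    (h1 : Dn (Fl u w) j g) (h2 : Dn (Fl u w) k h) : Dn (Fl u w) (j + k) ⁅g, h⁆ := fun i x hx => by
  have hy := St.stab hi h0 (inv_mem hg) _ (St.stab hi h0 (inv_mem hh) _ hx)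
  have e1 := h1 i _ (h2 (i + j) _ (by rwa [add_assoc]))
  have e2 := h2 i _ (h1 (i + k) _ (by rwa [add_assoc, add_comm k]))
  convert sub_mem e1 e2 using 1
  simp only [commutatorElement_def, mul_act, map_sub, act_inv_act]
  abel

theorem St.isPGroup (p : ℕ) [Fact p.Prime] [CharP F p] : IsPGroup p (St u w) := fun g => by
  have h1 := St.dn hi h0 g.2
  obtain ⟨k, hk⟩ := (H53.isNilpotent_iff_exists_pow_char_pow (F := F) p g.1.1).1 ⟨4, by
    have e : ∀ x, (g.1.1 - 1) *ᵥ x = g.1 ⋆ x - x := fun x => by rw [sub_mulVec, one_mulVec]; rfl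
    refine Matrix.ext_iff_mulVec.2 fun x => ?_
    have := h1 0 _ (h1 1 _ (h1 2 _ (h1 3 x trivial)))
    simp only [pow_succ, pow_zero, one_mul, ← mulVec_mulVec, e, zero_mulVec]
    exact this⟩
  exact ⟨k, Subtype.ext (Subtype.ext hk)⟩

omit h0 in
theorem St.tv {g : Sp F} (h3 : Dn (Fl u w) 3 g) : ∃ c, g = tv u c := by
  have u0 : u ≠ 0 := hi.ne_zero 0
  obtain ⟨y, hy⟩ := exists_spB_eq u0 (1 : F)
  obtain ⟨c, hc⟩ := Submodule.mem_span_singleton.1 (h3 1 y trivial)
  refine ⟨-c, act_ext fun x => ?_⟩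
  have h4 : g ⋆ (x - f u x • y) - (x - f u x • y) = 0 :=
    h3 0 _ (show f u _ = 0 by simp [hy])
  rw [map_sub, map_smul, eq_sub_iff_add_eq.1 hc |>.symm] at h4
  rw [tv_act, spB_swap x u]
  linear_combination (norm := module) h4

end

theorem exists_fixed_mod {p : ℕ} [Fact p.Prime] [CharP F p] {S : Type*} [Group S] [Finite S]
    (hS : IsPGroup p S) (ρ : S →* Sp F) {U₁ U₂ : Submodule F (V4 F)}
    (h1 : ∀ g, ∀ x ∈ U₁, ρ g ⋆ x ∈ U₁) (h2 : ∀ g, ∀ x ∈ U₂, ρ g ⋆ x ∈ U₂) (h12 : ¬ U₂ ≤ U₁) :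
    ∃ v ∈ U₂, v ∉ U₁ ∧ ∀ g, ρ g ⋆ v - v ∈ U₁ := by
  let σ : Representation F S (V4 F) := (Representation.ofDistribMulAction F (Sp F) (V4 F)).comp ρ
  obtain ⟨v, ⟨v, hv, rfl⟩, hv0, hv1⟩ := H90.exists_fixed_of_isPGroup hS
    (σ.quotient U₁ fun g x hx => h1 g x hx) (U₂.map U₁.mkQ) (fun h => h12 fun x hx => by
      have : U₁.mkQ x ∈ U₂.map U₁.mkQ := ⟨x, hx, rfl⟩
      rw [h] at this
      simpa using this) (by
    rintro g _ ⟨x, hx, rfl⟩
    exact ⟨ρ g ⋆ x, h2 g x hx, rfl⟩)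
  exact ⟨v, hv, by simpa using hv0, fun g => (Submodule.Quotient.eq U₁).1 (hv1 g)⟩

/-- A `p`-group stabilises a flag. -/
theorem exists_flag {p : ℕ} [Fact p.Prime] [CharP F p] {S : Type*} [Group S] [Finite S]
    (hS : IsPGroup p S) (ρ : S →* Sp F) :
    ∃ u w : V4 F, LinearIndependent F ![u, w] ∧ f u w = 0 ∧ ∀ g, ρ g ∈ St u w := by
  obtain ⟨u, -, u0, hu⟩ := exists_fixed_mod hS ρ (U₁ := ⊥) (U₂ := ⊤) (by simp) (by simp) (by simp)
  simp only [Submodule.mem_bot, sub_eq_zero] at u0 hu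
  obtain ⟨w, hw, w0, hw'⟩ := exists_fixed_mod hS ρ (U₁ := Submodule.span F {u})
    (U₂ := LinearMap.ker (f u)) (fun g x hx => by
      obtain ⟨a, rfl⟩ := Submodule.mem_span_singleton.1 hx
      rw [map_smul, hu]
      exact hx) (fun g x hx => by
      rw [LinearMap.mem_ker, f_act_right, ← map_inv, hu]
      exact hx) (fun h => by
      obtain ⟨y, hy⟩ := exists_spB_eq u0 (1 : F)
      obtain ⟨x, x0, x1, x2⟩ := exists_perp u y
      obtain ⟨a, rfl⟩ := Submodule.mem_span_singleton.1 (h x1)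
      rw [map_smul, spB_swap, hy] at x2
      exact x0 (by rw [show a = 0 by simpa using x2, zero_smul]))
  refine ⟨u, w, (LinearIndependent.pair_iff' u0).2 fun a e =>
    w0 (Submodule.mem_span_singleton.2 ⟨a, e⟩), hw, fun g => ⟨hu g, ?_⟩⟩
  obtain ⟨c, hc⟩ := Submodule.mem_span_singleton.1 (hw' g)
  exact ⟨c, by rw [hc, add_sub_cancel]⟩

/-- Double commutators in a `p`-group are transvections. -/
theorem exists_tv {p : ℕ} [Fact p.Prime] [CharP F p] {S : Type*} [Group S] [Finite S]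
    (hS : IsPGroup p S) (ρ : S →* Sp F) (a c : S) : ∃ u d, ρ ⁅a, ⁅a, c⁆⁆ = tv u d := by
  obtain ⟨u, w, hi, h0, h⟩ := exists_flag hS ρ
  have d := fun g => St.dn hi h0 (h g)
  obtain ⟨d, hd⟩ := St.tv hi (St.comm hi h0 (h a) (h ⁅a, c⁆) (d a)
    (map_commutatorElement ρ a c ▸ St.comm hi h0 (h a) (h c) (d a) (d c)))
  exact ⟨u, d, (map_commutatorElement ρ _ _).trans hd⟩

theorem comm_tv {a : Sp F} {u w : V4 F} (h0 : f u w = 0) (a1 : a ⋆ u = u) (a2 : a ⋆ w = w + u) :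
    ⁅a, ⁅a, tv w (1 : F)⁆⁆ = tv u 2 ∧ Commute (tv u 2) a ∧ Commute (tv u 2) ⁅a, tv w (1 : F)⁆ := by
  have h1 : f w u = 0 := by rw [spB_swap, h0, neg_zero]
  have e1 : ⁅a, tv w (1 : F)⁆ = tv (w + u) 1 * tv w (-1) := by
    rw [commutatorElement_def, tv_cj, a2, tv_inv]
  refine ⟨?_, ?_, ?_⟩
  · rw [e1, commutatorElement_def, ← conj_mul, tv_cj, tv_cj, map_add, a1, a2, _root_.mul_inv_rev,
      tv_inv, tv_inv]
    refine act_ext fun x => ?_
    simp only [mul_act, tv_act, map_add, LinearMap.map_smul₂, LinearMap.add_apply, spB_self, h0, h1,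
      smul_zero, add_zero]
    module
  · have := tv_cj a u 2
    rw [a1, mul_inv_eq_iff_eq_mul] at this
    exact this.symm
  · rw [e1]
    exact (tv_commute (by simp [h0, spB_self]) _ _).mul_right (tv_commute h0 _ _)

/-! ### products of two transvections -/

theorem trace_tv_mul (v w : V4 F) (c d : F) :
    (tv v c * tv w d : Sp F).1.trace = 4 - c * d * f v w ^ 2 := by
  have k : ∀ x y : V4 F, x ⬝ᵥ (J (Fin 2) F *ᵥ y) = f x y := fun x y => (spB_apply x y).symm
  change (tvMat v c * tvMat w d).trace = _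
  simp only [tvMat, add_mul, mul_add, one_mul, mul_one, Matrix.smul_mul, Matrix.mul_smul,
    vecMulVec_mul_vecMulVec, trace_add, trace_smul, trace_vecMulVec, trace_one, dotProduct_smul,
    k, dotProduct_comm (J (Fin 2) F *ᵥ v) w, spB_self, spB_swap w v, smul_eq_mul]
  simp
  ring

theorem pow_tv_mul [Finite F] (p : ℕ) [hp : Fact p.Prime] [CharP F p] (ho : Odd (Nat.card F))
    (v w : V4 F) (c d : F) :
    (tv v c * tv w d) ^ (p * (Nat.card F - 1)) = 1 ∨ (tv v c * tv w d) ^ (p * (Nat.card F + 1)) = 1 := by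
  by_cases h : f v w = 0
  · left
    rw [pow_mul, (tv_commute h c d).mul_pow, tv_pow, tv_pow, CharP.cast_eq_zero, zero_mul, zero_mul,
      tv_zero, tv_zero, one_mul, one_pow]
  have h1 : f v ((f v w)⁻¹ • w) = 1 := by rw [map_smul, smul_eq_mul, inv_mul_cancel₀ h]
  have e : tv v c * tv w d = sl2Hom h1 (slUp (-c) * slLow (f v w ^ 2 * d)) := by
    rw [map_mul, sl2Hom_slUp, sl2Hom_slLow, neg_neg, tv_smul_left]
    congr 2
    field_simp
  rw [e]
  generalize slUp (-c) * slLow (f v w ^ 2 * d) = g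
  rw [← map_pow, ← map_pow]
  rcases H61.sl_orderOf_cases p g with h2 | h2 | h2
  · left
    rw [← map_pow, H61.proj_eq_one_iff] at h2
    rw [pow_mul]
    rcases h2 with h2 | h2 <;> rw [h2]
    · simp
    · rw [(Nat.Odd.sub_odd ho odd_one).neg_one_pow, map_one]
  · left
    rw [orderOf_dvd_iff_pow_eq_one.1 (h2.mul_left p), map_one]
  · right
    rw [orderOf_dvd_iff_pow_eq_one.1 (h2.mul_left p), map_one]

end H59.S4II
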