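/- The smallest degree of a non-trivial complex representation of `Sp_{2n}(q)`, `q` odd. -/
import Cfsg.Agent.Base
import Cfsg.Agent.H54.SpMat
import Cfsg.Agent.H59.Weil
import Cfsg.Agent.H59.RepHeis

set_option autoImplicit false

namespace H59

open Module Polynomial

/-- joint eigenvectors with distinct eigenvalue functions are linearly independent -/
theorem linearIndependent_of_joint_eigen {I J M : Type*} [AddCommGroup M] [Module ℂ M]
    (T : J → Module.End ℂ M) (μ : I → J → ℂ) (hμ : Function.Injective μ) (v : I → M)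
    (hv : ∀ i, v i ≠ 0) (h : ∀ i j, T j (v i) = μ i j • v i) : LinearIndependent ℂ v := by
  classical
  have h1 : ∀ i (m : FreeMonoid J), FreeMonoid.lift T m (v i) = FreeMonoid.lift (μ i) m • v i := by
    intro i m
    induction m with
    | one => simp
    | of j => simp [h]
    | mul a b ha hb => rw [map_mul, map_mul, Module.End.mul_apply, hb, map_smul, ha, smul_smul, mul_comm]
  have h2 := (linearIndependent_monoidHom (FreeMonoid J) ℂ).comp (fun i => FreeMonoid.lift (μ i))
    (FreeMonoid.lift.injective.comp hμ)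
  rw [linearIndependent_iff'] at h2 ⊢
  intro s c hc i hi
  obtain ⟨φ, hφ⟩ := Module.Projective.exists_dual_eq_one ℂ (hv i)
  have h3 := h2 s (fun i => c i * φ (v i)) (by
    ext m
    have := congrArg (fun x => φ (FreeMonoid.lift T m x)) hc
    simp only [map_sum, map_smul, h1, map_zero, smul_eq_mul] at this
    simp only [Finset.sum_apply, Pi.smul_apply, Function.comp, smul_eq_mul, Pi.zero_apply]
    rw [← this]
    exact Finset.sum_congr rfl fun i _ => by ring) i hi
  rwa [hφ, mul_one] at h3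

variable {F : Type*} [Field F]

theorem exists_joint_eigen [Finite F] {W M : Type*} [AddCommGroup W] [Module F W]
    [FiniteDimensional F W] [AddCommGroup M] [Module ℂ M] {ψ : AddChar F ℂ} (hψ : ψ ≠ 1)
    (r : W → Module.End ℂ M) (h0 : r 0 = 1) (hr : ∀ s t, r (s + t) = r s * r t) {s₀ : W}
    (hs₀ : r s₀ ≠ 1) :
    ∃ (φ : Dual F W) (v : M), v ≠ 0 ∧ ψ (φ s₀) ≠ 1 ∧ ∀ s, r s v = ψ (φ s) • v := by
  classical
  have : Finite W := Module.finite_of_finite F
  have : Finite (Dual F W) := Module.finite_of_finite F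
  have := Fintype.ofFinite W
  have := Fintype.ofFinite (Dual F W)
  let P : Dual F W → M → M := fun φ v => ∑ s, ψ (-φ s) • r s v
  have hP : ∀ φ v t, r t (P φ v) = ψ (φ t) • P φ v := fun φ v t => by
    simp only [P, map_sum, map_smul, Finset.smul_sum, smul_smul, ← Module.End.mul_apply, ← hr]
    rw [eq_comm, ← Equiv.sum_comp (Equiv.addLeft t)]
    refine Finset.sum_congr rfl fun s _ => ?_
    rw [← AddChar.map_add_eq_mul]
    simp
  have hsum : ∀ v, ∑ φ, P φ v = (Fintype.card (Dual F W) : ℂ) • v := fun v => by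
    simp only [P]
    rw [Finset.sum_comm, Finset.sum_eq_single 0 (fun s _ hs => ?_) (by simp)]
    · simp [h0, Nat.cast_smul_eq_nsmul]
    · obtain ⟨a, ha⟩ := AddChar.ne_one_iff.1 hψ
      obtain ⟨φ₀, hφ₀⟩ := Module.Projective.exists_dual_eq_one F hs
      have h1 : ∑ φ : Dual F W, ψ (-((-a) • φ₀ + φ) s) = ∑ φ : Dual F W, ψ (-φ s) :=
        Equiv.sum_comp (Equiv.addLeft ((-a) • φ₀)) fun φ : Dual F W => ψ (-φ s)
      simp only [LinearMap.add_apply, LinearMap.smul_apply, hφ₀, smul_eq_mul, mul_one, neg_add,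
        neg_neg, AddChar.map_add_eq_mul, ← Finset.mul_sum] at h1
      have h2 : (ψ a - 1) * ∑ φ : Dual F W, ψ (-φ s) = 0 := by rw [sub_mul, h1, one_mul, sub_self]
      rw [← Finset.sum_smul, (mul_eq_zero.1 h2).resolve_left (sub_ne_zero.2 ha), zero_smul]
  by_contra! h
  apply hs₀
  ext v
  have h2 : ∀ φ, r s₀ (P φ v) = P φ v := fun φ => by
    by_cases h3 : P φ v = 0
    · rw [h3, map_zero]
    by_cases h4 : ψ (φ s₀) = 1
    · rw [hP, h4, one_smul]
    obtain ⟨s, hs⟩ := h φ _ h3 h4
    exact absurd (hP φ v s) hs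
  have h5 := congrArg (r s₀) (hsum v)
  rw [map_sum, Finset.sum_congr rfl fun φ _ => h2 φ, hsum, map_smul] at h5
  exact (smul_right_injective M (by simp) h5).symm

theorem exists_linearEquiv_apply_eq {U : Type*} [AddCommGroup U] [Module F U] {v w : U}
    (hv : v ≠ 0) (hw : w ≠ 0) : ∃ g : U ≃ₗ[F] U, g v = w := by
  obtain ⟨g, hg⟩ := Submodule.exists_linearEquiv_restrict_eq
    ((LinearEquiv.toSpanNonzeroSingleton F U v hv).symm ≪≫ₗ LinearEquiv.toSpanNonzeroSingleton F U w hw)
  refine ⟨g, ?_⟩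
  have := hg (LinearEquiv.toSpanNonzeroSingleton F U v hv 1)
  rw [LinearEquiv.trans_apply, LinearEquiv.symm_apply_apply] at this
  simpa using this.symm

theorem dual_eq_or_eq_neg {U : Type*} [AddCommGroup U] [Module F U] {θ θ' : Dual F U}
    (h : ∀ w, θ w ^ 2 = θ' w ^ 2) : θ = θ' ∨ θ = -θ' := by
  by_contra! hc
  obtain ⟨a, ha⟩ := DFunLike.ne_iff.1 hc.1
  obtain ⟨b, hb⟩ := DFunLike.ne_iff.1 hc.2
  have h1 := (sq_eq_sq_iff_eq_or_eq_neg.1 (h a)).resolve_left ha
  have h2 := (sq_eq_sq_iff_eq_or_eq_neg.1 (h b)).resolve_right hb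
  rcases sq_eq_sq_iff_eq_or_eq_neg.1 (h (a + b)) with h3 | h3
  · rw [map_add, map_add, h2, add_left_inj] at h3
    exact ha h3
  · rw [map_add, map_add, h1, neg_add, add_right_inj] at h3
    exact hb h3

theorem card_le_two_mul_of_fibre {α β : Type*} [Finite α] [Finite β] (f : α → β)
    (h : ∀ a, ∃ P : α → Prop, (∀ x, f x = f a → x = a ∨ P x) ∧ ∀ x y, P x → P y → x = y) :
    Nat.card α ≤ 2 * Nat.card β := by
  classical
  have := Fintype.ofFinite α
  have := Fintype.ofFinite β
  rw [Nat.card_eq_fintype_card, Nat.card_eq_fintype_card]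
  refine Finset.card_le_mul_card_image_of_maps_to (f := f) (fun _ _ => Finset.mem_univ _) 2
    fun b _ => ?_
  by_contra! hc
  obtain ⟨x, y, z, hx, hy, hz, hxy, hxz, hyz⟩ := Finset.two_lt_card_iff.1 hc
  obtain ⟨P, h1, h2⟩ := h x
  simp only [Finset.mem_filter, Finset.mem_univ, true_and] at hx hy hz
  exact hyz (h2 _ _ ((h1 y (hy.trans hx.symm)).resolve_left hxy.symm)
    ((h1 z (hz.trans hx.symm)).resolve_left hxz.symm))

theorem exists_equiv_quad {U : Type*} [AddCommGroup U] [Module F U] [FiniteDimensional F U]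
    (S : U →ₗ[F] U →ₗ[F] F) (hS : ∀ u w, S u w = S w u) {v : U} (hv : S v v ≠ 0) (θ : Dual F U)
    (hθ : θ v ≠ 0) : ∃ g : U ≃ₗ[F] U, ∀ w,
      S (g w) (g w) = S w w - S v w ^ 2 / S v v + S v v * θ w ^ 2 := by
  let g : U →ₗ[F] U := LinearMap.id + (θ - (S v v)⁻¹ • S v).smulRight v
  have hg : ∀ w, g w = w + (θ w - (S v v)⁻¹ * S v w) • v := fun w => rfl
  have hinj : Function.Injective g := by
    rw [injective_iff_map_eq_zero]
    intro w hw
    rw [hg] at hw
    have h1 := congrArg (S v) hw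
    have h2 := congrArg θ hw
    simp only [map_add, map_smul, smul_eq_mul, map_zero] at h1 h2
    have h3 : θ w = 0 := by
      field_simp at h1
      simpa [hv] using (show S v v * θ w = 0 by linear_combination h1)
    rw [h3, zero_add] at h2
    rw [h3, (mul_eq_zero.1 h2).resolve_right hθ, zero_smul, add_zero] at hw
    exact hw
  refine ⟨LinearEquiv.ofInjectiveEndo g hinj, fun w => ?_⟩
  change S (g w) (g w) = _
  simp only [hg, map_add, map_smul, LinearMap.add_apply, LinearMap.smul_apply, smul_eq_mul, hS w v]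
  field_simp
  ring

/-- the orbit of a non-zero quadratic form under the general linear group is large -/
theorem card_le_two_mul_orbit [Fintype F] (hodd : Odd (Fintype.card F)) {U : Type*}
    [AddCommGroup U] [Module F U] [FiniteDimensional F U] (S : U →ₗ[F] U →ₗ[F] F)
    (hS : ∀ u w, S u w = S w u) {v : U} (hv : S v v ≠ 0) :
    Fintype.card F ^ finrank F U - 1 ≤
      2 * Nat.card {f : U → F // ∃ g : U ≃ₗ[F] U, ∀ w, S (g w) (g w) = f w} := by
  classical
  have : Finite U := Module.finite_of_finite F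
  have : Finite (Dual F U) := Module.finite_of_finite F
  have hcard : Nat.card (Dual F U) = Fintype.card F ^ finrank F U := by
    rw [Module.natCard_eq_pow_finrank (K := F), Subspace.dual_finrank_eq, Nat.card_eq_fintype_card]
  have hv0 : v ≠ 0 := by rintro rfl; simp at hv
  by_cases h0 : ∀ w, S w w - S v w ^ 2 / S v v = 0
  · have h1 : Nat.card {θ : Dual F U // θ ≠ 0} = Fintype.card F ^ finrank F U - 1 := by
      have := Fintype.ofFinite (Dual F U)
      rw [← hcard, Nat.card_eq_fintype_card, Nat.card_eq_fintype_card, Fintype.card_subtype_compl,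
        Fintype.card_subtype_eq]
    rw [← h1]
    refine card_le_two_mul_of_fibre (fun θ => ⟨fun w => S v v * θ.1 w ^ 2, ?_⟩) fun θ =>
      ⟨fun x => x.1 = -θ.1, fun x hx => ?_, fun x y hx hy => Subtype.ext (hx.trans hy.symm)⟩
    · obtain ⟨v', hv'⟩ := DFunLike.ne_iff.1 θ.2
      obtain ⟨k, hk⟩ := exists_linearEquiv_apply_eq (F := F) hv0 (w := v')
        (by rintro rfl; simp at hv')
      obtain ⟨g, hg⟩ := exists_equiv_quad S hS hv (θ.1 ∘ₗ k.toLinearMap) (by simpa [hk] using hv')
      exact ⟨k.symm ≪≫ₗ g, fun w => by simp [hg, h0]⟩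
    · rw [Subtype.ext_iff]
      exact dual_eq_or_eq_neg fun w => mul_left_cancel₀ hv (congrFun (congrArg Subtype.val hx) w)
  push Not at h0
  obtain ⟨w₀, hw₀⟩ := h0
  have h2 : ringChar F ≠ 2 := fun h => by
    rw [FiniteField.even_card_iff_char_two] at h
    exact absurd hodd (Nat.not_odd_iff_even.2 (Nat.even_iff.2 h))
  obtain ⟨δ, hδ⟩ := FiniteField.exists_nonsquare h2
  have hδ0 : δ ≠ 0 := by rintro rfl; simp at hδ
  obtain ⟨a, b, hab⟩ := FiniteField.exists_root_sum_quadratic
    (f := C (S v v) * X ^ 2) (g := C (S w₀ w₀ - S v w₀ ^ 2 / S v v) * X ^ 2 - C (S v v * δ))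
    (degree_C_mul_X_pow 2 hv) (by
      rw [degree_sub_C (by rw [degree_C_mul_X_pow 2 hw₀]; norm_num), degree_C_mul_X_pow 2 hw₀]; rfl)
    (Nat.odd_iff.1 hodd)
  simp only [eval_mul, eval_C, eval_pow, eval_X, eval_sub] at hab
  set v' := a • v + b • (w₀ - (S v w₀ / S v v) • v) with hv'
  have h3 : S v' v' = S v v * δ := by
    simp only [hv', map_add, map_sub, map_smul, LinearMap.add_apply, LinearMap.smul_apply,
      LinearMap.sub_apply, smul_eq_mul, hS w₀ v]
    field_simp at hab ⊢
    linear_combination hab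
  obtain ⟨k, hk⟩ := exists_linearEquiv_apply_eq (F := F) hv0 (w := v')
    (by intro h; rw [h, map_zero] at h3; exact mul_ne_zero hv hδ0 h3.symm)
  let S' := S.compl₁₂ k.toLinearMap k.toLinearMap
  have hS' : ∀ u w, S' u w = S (k u) (k w) := fun _ _ => rfl
  have h4 : S' v v = S v v * δ := by rw [hS', hk, h3]
  obtain ⟨φ, hφ⟩ := Module.Projective.exists_dual_eq_one F hv0
  refine le_trans (Nat.sub_le _ _) ?_
  rw [← hcard]
  refine card_le_two_mul_of_fibre (fun θ => if hθ : θ v = 0 then
      ⟨fun w => S' w w - S' v w ^ 2 / S' v v + S' v v * (θ + φ) w ^ 2, ?_⟩ else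
      ⟨fun w => S w w - S v w ^ 2 / S v v + S v v * θ w ^ 2, exists_equiv_quad S hS hv θ hθ⟩)
    fun θ => ⟨fun x => x = if θ v = 0 then -(θ + φ) - φ else -θ, fun x hx => ?_,
      fun x y hx hy => hx.trans hy.symm⟩
  · obtain ⟨g, hg⟩ := exists_equiv_quad S' (fun u w => hS _ _) (h4 ▸ mul_ne_zero hv hδ0) (θ + φ)
      (by simp [hθ, hφ])
    exact ⟨g ≪≫ₗ k, hg⟩
  have h5 : ∀ x y : Dual F U, x v = 0 → S' v v - S' v v ^ 2 / S' v v + S' v v * (x + φ) v ^ 2 ≠
      S v v - S v v ^ 2 / S v v + S v v * y v ^ 2 := fun x y hx h => by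
    rw [h4, LinearMap.add_apply, hx, hφ] at h
    field_simp at h
    exact hδ ⟨y v, by linear_combination h⟩
  by_cases h6 : θ v = 0 <;> by_cases h7 : x v = 0 <;>
    simp only [h6, h7, dite_true, dite_false, if_true, if_false, Subtype.mk.injEq] at hx ⊢
  · rw [eq_sub_iff_add_eq, ← add_left_inj φ]
    exact dual_eq_or_eq_neg fun w => mul_left_cancel₀ (h4 ▸ mul_ne_zero hv hδ0)
      (add_left_cancel (congrFun hx w))
  · exact absurd (congrFun hx v).symm (h5 _ _ h6)
  · exact absurd (congrFun hx v) (h5 _ _ h7)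
  · exact dual_eq_or_eq_neg fun w => mul_left_cancel₀ hv (add_left_cancel (congrFun hx w))

section Sp

open H54 Matrix

variable {l : Type*} [Fintype l] [DecidableEq l]

/-- the unipotent radical of the Siegel parabolic -/
def sieg (s : Matrix l l F) : Matrix.symplecticGroup l F :=
  ⟨fromBlocks 1 (s + sᵀ) 0 1, by
    rw [SymplecticGroup.mem_iff]
    simp [Matrix.J, fromBlocks_transpose, fromBlocks_multiply]
    abel⟩

theorem sieg_zero : sieg (0 : Matrix l l F) = 1 := Subtype.ext (by simp [sieg])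

theorem sieg_add (s t : Matrix l l F) : sieg (s + t) = sieg s * sieg t :=
  Subtype.ext (by
    simp only [sieg, Submonoid.coe_mul, fromBlocks_multiply, transpose_add]
    congr 1 <;> simp
    abel)

theorem sieg_vecMulVec (u : l → F) (c : F) :
    sieg (c • vecMulVec u u) = tv (Sum.elim u 0) (2 * c) := by
  refine Subtype.ext ?_
  ext (i | i) (j | j) <;>
    simp [sieg, tv_coe, tvMat, vecMulVec_apply, J_mulVec_inl, J_mulVec_inr, Matrix.one_apply]
  ring

theorem sp_ls_bound [Fintype F] (hodd : Odd (Fintype.card F)) {M : Type*} [AddCommGroup M]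
    [Module ℂ M] [FiniteDimensional ℂ M] (ρ : Representation ℂ (Matrix.symplecticGroup l F) M)
    (hρ : ∃ g, ρ g ≠ 1) : Fintype.card F ^ Fintype.card l - 1 ≤ 2 * finrank ℂ M := by
  classical
  have h2 : (2 : F) ≠ 0 := Ring.two_ne_zero fun h => by
    rw [FiniteField.even_card_iff_char_two] at h
    exact absurd hodd (Nat.not_odd_iff_even.2 (Nat.even_iff.2 h))
  let ι : (l → F) →ₗ[F] (l ⊕ l → F) :=
    { toFun := fun u => Sum.elim u 0
      map_add' := fun u w => by ext (i | i) <;> simp
      map_smul' := fun c u => by ext (i | i) <;> simp }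
  have hι : Function.Injective ι := fun u w h => funext fun i => congrFun h (Sum.inl i)
  have hιB : ∀ u w, spB l F (ι u) (ι w) = 0 := fun u w => by simp [spB_eq_sum, ι]
  obtain ⟨u, c, huc⟩ : ∃ u c, ρ (tv (ι u) c) ≠ 1 := by
    by_contra! h
    obtain ⟨g, hg⟩ := hρ
    have h1 : ρ.toHomUnits.ker = ⊤ := eq_top_of_tv_mem _ fun v c => by
      by_cases hv : v = 0
      · rw [hv, tv_zero_left]; exact one_mem _
      obtain ⟨i, -⟩ := Function.ne_iff.1 hv
      have i' : l := Sum.elim id id i
      obtain ⟨k, rfl⟩ := sp_exists_smul_eq (v := ι (Pi.single i' 1))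
        (fun h => by simpa [ι] using congrFun h (Sum.inl i')) hv
      rw [← tv_conj]
      exact (MonoidHom.normal_ker _).conj_mem _ (Units.ext (h _ c)) k
    exact hg (congrArg Units.val (h1 ▸ Subgroup.mem_top g : g ∈ ρ.toHomUnits.ker))
  have hψp := AddChar.FiniteField.primitiveChar_to_Complex_isPrimitive F
  set ψ := AddChar.FiniteField.primitiveChar_to_Complex F
  have hψ : ψ ≠ 1 := by simpa using hψp one_ne_zero
  have htv : ∀ u c, tv (ι u) c = sieg ((c / 2) • vecMulVec u u) := fun u c => by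
    rw [sieg_vecMulVec, mul_div_cancel₀ _ h2]; rfl
  obtain ⟨φ, v, hv, hφ, hev⟩ := exists_joint_eigen hψ (fun s => ρ (sieg s))
    (by rw [sieg_zero, map_one]) (fun s t => by rw [sieg_add, map_mul]) (htv u c ▸ huc)
  let S₀ : (l → F) →ₗ[F] (l → F) →ₗ[F] F := (vecMulVecBilin F F).compr₂ φ
  let S := (4 : F)⁻¹ • (S₀ + S₀.flip)
  have h4 : (4 : F) ≠ 0 := by rw [show (4 : F) = 2 * 2 by norm_num]; exact mul_ne_zero h2 h2
  have hS : ∀ u c, φ ((c / 2) • vecMulVec u u) = c * S u u := fun u c => by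
    change _ = c * (4⁻¹ * (φ (vecMulVec u u) + φ (vecMulVec u u)))
    rw [map_smul, smul_eq_mul]
    field_simp
    ring
  have h5 := card_le_two_mul_orbit hodd S (fun u w => congrArg ((4 : F)⁻¹ * ·) (add_comm _ _)) (v := u)
    fun h => hφ (by rw [hS, h, mul_zero, AddChar.map_zero_eq_one])
  rw [Module.finrank_fintype_fun_eq_card] at h5
  refine h5.trans (Nat.mul_le_mul_left _ ?_)
  have h6 : ∀ f : {f : (l → F) → F // ∃ g : (l → F) ≃ₗ[F] (l → F), ∀ w, S (g w) (g w) = f w},
      ∃ v : M, v ≠ 0 ∧ ∀ j : (l → F) × F, ρ (tv (ι j.1) j.2) v = ψ (j.2 * f.1 j.1) • v := by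
    rintro ⟨f, g, hg⟩
    obtain ⟨k, hk⟩ := sp_witt_linearMap ι (ι ∘ₗ g.toLinearMap) hι (hι.comp g.injective)
      fun a b => (hιB _ _).trans (hιB _ _).symm
    refine ⟨ρ k⁻¹ v, fun h => hv ?_, fun j => ?_⟩
    · rw [← ρ.self_inv_apply k v, h, map_zero]
    · have h7 : tv (ι j.1) j.2 * k⁻¹ = k⁻¹ * tv (ι (g j.1)) j.2 := by
        have := tv_conj k (ι j.1) j.2
        rw [hk] at this
        rw [show tv (ι (g j.1)) j.2 = _ from this.symm]
        group
      rw [← Module.End.mul_apply, ← map_mul, h7, map_mul, Module.End.mul_apply, htv, hev, hS, hg,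
        map_smul]
  choose w hw0 hw using h6
  have := Fintype.ofFinite
    {f : (l → F) → F // ∃ g : (l → F) ≃ₗ[F] (l → F), ∀ w, S (g w) (g w) = f w}
  rw [Nat.card_eq_fintype_card]
  refine (linearIndependent_of_joint_eigen _ _ (fun f f' h => Subtype.ext (_root_.funext fun x => ?_)) w hw0
    hw).fintype_card_le_finrank
  refine AddChar.to_mulShift_inj_of_isPrimitive hψp (AddChar.ext _ _ fun c => ?_)
  simpa [mul_comm] using congrFun h (x, c)

/-- the Schrödinger model of the Heisenberg representation -/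
noncomputable def schr (ψ : AddChar F ℂ) (v : l ⊕ l → F) : Module.End ℂ ((l → F) → ℂ) where
  toFun f u := ψ (∑ i, v (Sum.inr i) * (2 * u i + v (Sum.inl i))) * f (u + fun i => v (Sum.inl i))
  map_add' f g := by ext u; simp [mul_add]
  map_smul' c f := by ext u; simp [mul_left_comm]

theorem heisRep_schr [Fintype F] (h2 : (2 : F) ≠ 0) {ψ : AddChar F ℂ} (hψ : ψ ≠ 1) :
    HeisRep (schr (l := l) ψ) fun v w => ψ (-spB l F v w) where
  zero := LinearMap.ext fun f => funext fun u => by simp [schr, ← Pi.zero_def]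
  mul v w := by
    refine LinearMap.ext fun f => funext fun u => ?_
    simp only [schr, Module.End.mul_apply, LinearMap.coe_mk, AddHom.coe_mk, LinearMap.smul_apply,
      Pi.smul_apply, smul_eq_mul, ← mul_assoc, ← AddChar.map_add_eq_mul, spB_eq_sum,
      ← Finset.sum_neg_distrib, ← Finset.sum_add_distrib, Pi.add_apply]
    congr 2
    · exact Finset.sum_congr rfl fun i _ => by ring
    · ext i
      simp [add_assoc]
  add_left u v w := by simp [AddChar.map_add_eq_mul, mul_comm]
  add_right u v w := by simp [AddChar.map_add_eq_mul, mul_comm]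
  self v := by simp [spB_self]
  nondeg v hv := by
    obtain ⟨a, ha⟩ := AddChar.ne_one_iff.1 hψ
    obtain ⟨w, hw⟩ := exists_spB_eq hv (a / 2)
    refine ⟨w, fun h => ha ?_⟩
    rw [spB_swap w v, neg_neg, hw] at h
    rw [show a = a / 2 + a / 2 by field_simp; ring, AddChar.map_add_eq_mul]
    nth_rewrite 1 [← h]
    rw [← AddChar.map_add_eq_mul, neg_add_cancel, AddChar.map_zero_eq_one]
  card := by
    classical
    simp [sq, pow_add]

theorem exists_weil_sp [Fintype F] [Nonempty l] (hodd : Odd (Fintype.card F)) :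
    ∃ ρ : Representation ℂ (Matrix.symplecticGroup l F)
      (Fin ((Fintype.card F ^ Fintype.card l - 1) / 2) → ℂ), ρ.IsIrreducible := by
  classical
  have h2 : (2 : F) ≠ 0 := Ring.two_ne_zero fun h => by
    rw [FiniteField.even_card_iff_char_two] at h
    exact absurd hodd (Nat.not_odd_iff_even.2 (Nat.even_iff.2 h))
  have hψ : AddChar.FiniteField.primitiveChar_to_Complex F ≠ 1 := by
    simpa using AddChar.FiniteField.primitiveChar_to_Complex_isPrimitive F one_ne_zero
  have := (heisRep_schr (l := l) h2 hψ).exists_weil (G := Matrix.symplecticGroup l F)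
    (fun g v w => by rw [spB_smul]) fun v w hv hw => sp_exists_smul_eq hv hw
  rwa [Module.finrank_fintype_fun_eq_card, Fintype.card_fun] at this

end Sp

end H59
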