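import Cfsg.Agent.H59.U5GAB
import Cfsg.Agent.H67.SAJA
import Cfsg.Agent.H81.W2

/-! STD-UM: `H67.GA.JobJA` (port of `H67.SAJA`) and `H67.GA.JobW2`. -/

set_option autoImplicit false
set_option linter.unusedSectionVars false

namespace H59.GB.A

open H67 H67.GA

open H64.SG (O2 Syl Cz Cs Ns cjs Is2 Inv2 UF IsO2 fx mem_Cs mem_Cz mem_fx)
open H57 Subgroup H67.GA
open H67.SA (mem_sup_zp)

universe u

variable {X : Type} [Group X] [Finite X] [Dat X] [Fa X] {G : Type u} [Group G] [Finite G]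
  {e : X →* G} {g t : G} {β : MulAut X}

/-- All involutions of `K` are conjugate. -/
theorem conj_inv (h : B0 e t) {i : G} (h1 : i ∈ Cs e.range) (h2 : Inv2 i) : IsConj t i := by
  obtain ⟨T, T1, T2⟩ := H98.exists_isSyl_le (H9.UF.pg_zp h.inv.1) (zpowers_le.2 h.cen)
  obtain ⟨k, -, k2⟩ := T1.exists_cj_le (H9.UF.pg_zp h2.1) (zpowers_le.2 h1)
  have c : IsConj i (k * i * k⁻¹) := isConj_iff.2 ⟨k, rfl⟩
  have h3 := H9.UF.inv2_conj h2 c
  rcases H64.SG.eq_of_cyclic (h.cyc T T1.le T1.isPGroup) (T2 (mem_zpowers t))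
    (k2 (conj_mem_cjs.2 (mem_zpowers i))) h.inv h3.1 with h4 | h4
  · exact absurd h4 h3.2
  · exact (h4 ▸ c).symm

theorem two_le (b : B0 e t) (nr : NR e t)
    (te : Cfsg.IsTightlyEmbedded (Cs e.range)) (hN : Ns (Cs e.range) ≤ Ns (e.range : Subgroup G))
    {c : X} (hz : c ∈ ZZ X) (hc : c ≠ 1) (hg : g * t * g⁻¹ = t * e c) :
    ∀ R ≤ Cs e.range, IsPGroup 2 R → Nat.card R ≤ 2 := by
  intro R r1 r2
  have h := b.cje g
  have k0 : Cs (cje g e).range = cjs g (Cs e.range) := by rw [range_cje, H64.SG.cj_Cs]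
  have c0 : IsConj t (g * t * g⁻¹) := isConj_iff.2 ⟨g, rfl⟩
  have i0 : e c ≠ 1 := (inv2_e b.ker ⟨sq_of_ZZ hz, hc⟩).2
  have g1 : g ∉ Ns (Cs e.range) := fun g1 => i0 (eq_one_of_Cs b.ker ⟨_, rfl⟩
    ((mul_mem_cancel_left b.cen).1 (hg ▸ H98.conj_mem_of_mem_normalizer g1 b.cen))
    (H64.SG.is2_of_sq (by rw [← map_mul, sq_of_ZZ hz, map_one])))
  have h1 : Cz (g * t * g⁻¹) ≤ Ns (cjs g (Cs e.range)) :=
    k0 ▸ h.cz.trans (H98.normalizer_le_normalizer_centralizer _)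
  obtain ⟨T, T1, T2⟩ := H98.exists_isSyl_le (H9.UF.pg_zp b.inv.1) (zpowers_le.2 b.cen)
  have := b.cyc T T1.le T1.isPGroup
  have h2 : T ≤ Cz (g * t * g⁻¹) := fun r hr => mem_Cz.2 (by
    have r3 : t * r = r * t :=
      congrArg Subtype.val (IsCyclic.commGroup.mul_comm (⟨t, T2 (mem_zpowers t)⟩ : T) ⟨r, hr⟩)
    rw [hg, mul_assoc, T1.le hr _ ⟨_, rfl⟩, ← mul_assoc, r3, mul_assoc])
  have k1 : H98.cj g⁻¹ (H98.cj g (Cs e.range)) = Cs e.range := by rw [H98.cj_cj]; simp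
  have T3 : H98.IsSyl 2 T (H98.cj g⁻¹ (H98.cj g (Cs e.range)) ⊓ Ns (H98.cj g (Cs e.range))) := by
    rw [k1]; exact T1.of_le (le_inf T1.le (h2.trans h1)) inf_le_left
  obtain ⟨S, S1, S2⟩ := H98.exists_isSyl_le T1.isPGroup
    (le_sup_right : T ≤ H98.cj g (Cs e.range) ⊔ T)
  obtain ⟨-, h3, -, ⟨ε⟩⟩ := H14.te_structure (H14.te_cj te g) (g := g⁻¹) (fun h3 => g1 (by
      have := H98.cj_eq_self h3
      rw [k1] at this
      exact H98.cj_eq_self_iff.1 this.symm))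
    (fun h3 => b.inv.2 (mem_bot.1 (h3 ▸ T2 (mem_zpowers t)))) T3 S1 S2
  have h4 : S ⊓ Ns T ⊓ H98.cj g (Cs e.range) ≤ cjs g (Cs e.range) ⊓ Ns e.range :=
    fun a ha => ⟨ha.2, b.cz (mem_Cz.2 (H14.commutator_eq_bot_iff_comm.1 h3 t (T2 (mem_zpowers t)) a ha))⟩
  have u1 : (UU X).map e ≤ Cz (g * t * g⁻¹) := by
    rintro _ ⟨u, hu, rfl⟩
    rw [mem_Cz, hg, mul_assoc, ← map_mul, UU_le_Cs hu _ hz, map_mul, ← mul_assoc, b.comm,
      mul_assoc]
  have u2 : (UU X).map e ≤ Ns (cjs g (Cs e.range) ⊓ Ns e.range) := H98.le_normalizer_inf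
    (u1.trans h1) ((map_le_range _ _).trans (le_normalizer.trans le_normalizer))
  obtain ⟨P, P1, P2⟩ := H98.exists_isSyl_le (isP_UU.map e)
    (le_sup_right : (UU X).map e ≤ cjs g (Cs e.range) ⊓ Ns e.range ⊔ _)
  have P3 : P ≤ Ns (cjs g (Cs e.range) ⊓ Ns e.range) := P1.le.trans (sup_le le_normalizer u2)
  have P4 := P1.inf_of_le_normalizer le_sup_left P3
  have P5 : P ≤ Ns e.range := P1.le.trans
    (sup_le inf_le_right ((map_le_range _ _).trans le_normalizer))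
  have P6 : P ⊓ e.range = (UU X).map e := (H64.SG.syl_iff.1 syl_map_UU).eq_of_le
    (P1.isPGroup.to_le inf_le_left) (le_inf P2 (map_le_range _ _)) inf_le_right
  set T' := P ⊓ (cjs g (Cs e.range) ⊓ Ns e.range)
  have P7 : P ≤ Ns T' := H98.le_normalizer_inf le_normalizer P3
  have h5 : T' ⊓ (UU X).map e = ⊥ := by
    by_contra h5
    obtain ⟨⟨_, ⟨v1, v, v2, rfl⟩, v3⟩, v4⟩ := (ne_bot_iff_exists_ne_one).1 (H98.inf_centralizer_ne_bot
      ((isP_UU.map e).to_le inf_le_right) (isP_UU.map e)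
      (H98.le_normalizer_inf (P2.trans P7) le_normalizer) h5)
    have v5 := mem_ZZ_of_Cs (fun u hu => (e_comm_iff b.ker (is2_of_UU v2)).1 (v3 _ ⟨u, hu, rfl⟩))
      (is2_of_UU v2)
    have hd : v ≠ 1 := by rintro rfl; exact v4 (Subtype.ext (by simp))
    exact nr _ (root_of_mem v5 hd) (c0.trans (conj_inv h (k0 ▸ v1.2.1)
      (inv2_e b.ker ⟨sq_of_ZZ v5, hd⟩)))
  have h6 : ∀ r ∈ T', r * r = 1 := fun r hr => by
    have h7 : r * r ∈ Cs e.range := cq2 b.ker rg1 hr.2.2 fun a ha => by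
      have a1 := map_mono QQ_le_UU ha
      refine cm_eq_one.1 (mem_bot.1 (h5 ▸ mem_inf.2 ⟨?_, ?_⟩))
      · exact mul_mem (H98.conj_mem_of_mem_normalizer (P7 (P2 a1)) hr) (inv_mem hr)
      · rw [← P6] at a1 ⊢
        have := mul_mem a1 (H98.conj_mem_of_mem_normalizer
          (H98.le_normalizer_inf le_normalizer P5 hr.1) (inv_mem a1))
        simpa only [mul_assoc] using this
    exact (H64.SG.isPGroup_iff_is2.1 P4.isPGroup _ (mul_mem hr hr)).eq_one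
      (H64.SG.odd_orderOf_of_mem (te.2 g g1) ⟨h7, (mul_mem hr hr).2.1⟩)
  have := h.cyc T' (k0 ▸ inf_le_right.trans inf_le_left) P4.isPGroup
  calc Nat.card R ≤ Nat.card T := T1.card_le r2 r1
    _ = _ := (Nat.card_congr ε.toEquiv).symm
    _ ≤ Nat.card T' := P4.card_le (S1.isPGroup.to_le (inf_le_left.trans inf_le_left)) h4
    _ ≤ 2 := by
      rw [← IsCyclic.exponent_eq_card]
      exact Nat.le_of_dvd (by norm_num) (Monoid.exponent_dvd_of_forall_pow_eq_one fun r =>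
        Subtype.ext (by rw [pow_two]; exact h6 r r.2))

/-- `U ⟨t⟩` is a Sylow subgroup of `L ⟨t⟩`. -/
theorem syl_zp (h : B1 e t) :
    H98.IsSyl 2 ((UU X).map e ⊔ zpowers t) (e.range ⊔ zpowers t) := by
  have h1 := H64.SG.Cs_le_Ns _ (Cs_range_le (UU X) h.cen)
  refine ⟨sup_le_sup_right (map_le_range _ _) _,
    H64.SG.isPGroup_sup_zpowers (isP_UU.map e) h1 (H64.SG.is2_of_sq h.inv.1),
    fun P p1 p2 p3 => le_antisymm (fun a ha => ?_) p2⟩
  have h2 := (H64.SG.syl_iff.1 syl_map_UU).eq_of_le (p1.to_le inf_le_left)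
    (le_inf (le_sup_left.trans p2) (map_le_range _ _)) inf_le_right
  rw [mem_sup_zp h1 h.inv.1, ← h2]
  exact ((mem_sup_zp (H64.SG.Cs_le_Ns _ h.cen) h.inv.1).1 (p3 ha)).imp (fun h3 => ⟨ha, h3⟩)
    fun h3 => ⟨mul_mem ha (p2 (mem_sup_right (mem_zpowers t))), h3⟩

theorem jobJA : JobJA.{u} := by
  intro X _ _ _ _ G _ _ e t b te hN ⟨c, hz, hc, h0⟩
  obtain ⟨g, hg⟩ := isConj_iff.1 h0
  have ce : CE e t := ⟨b.toB1, two_le b (nr b) te hN hz hc hg⟩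
  refine ⟨ce, ?_⟩
  have h := ce.cje g
  have k0 : (UU X).map (cje g e) ⊔ zpowers (g * t * g⁻¹) = cjs g ((UU X).map e ⊔ zpowers t) := by
    rw [cjs, Subgroup.map_sup, map_cje, MonoidHom.map_zpowers]; rfl
  have k1 := k0 ▸ syl_zp h.toB1
  rw [hg] at h k1
  generalize cje g e = e' at h k1
  have u1 : (Cs (ZZ X)).map e ≤ Cz (t * e c) := by
    rintro _ ⟨u, hu, rfl⟩
    rw [mem_Cz, mul_assoc, ← map_mul, hu _ hz, map_mul, ← mul_assoc, b.comm,
      mul_assoc]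
  have u2 : (UU X).map e ≤ e'.range ⊔ zpowers (t * e c) :=
    (UU_le h.b0 u1).trans le_sup_left
  obtain ⟨k, k2, k3⟩ := k1.exists_cj_eq (k1.of_card_ge (syl_zp b.toB1).isPGroup (sup_le u2 (zpowers_le.2
    ((mul_mem_cancel_right (u2 ⟨_, ZZ_le_UU hz, rfl⟩)).1 (mem_sup_right (mem_zpowers _)))))
    (card_cjs _ _).le)
  have k4 : k ∈ Cz (t * e c) :=
    sup_le h.range_le (zpowers_le.2 (mem_Cz.2 rfl)) k2
  exact ⟨k * g, H98.cj_eq_self_iff.1 (by rw [← H98.cj_cj]; exact k3), c, hz, hc, by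
    rw [show k * g * t * (k * g)⁻¹ = k * (g * t * g⁻¹) * k⁻¹ by group, hg, ← mem_Cz.1 k4,
      mul_inv_cancel_right]⟩

theorem jobW2 : JobW2.{u} := by
  intro X _ _ _ _ G _ _ e t e₁ e₂ hE hC hG W b k y hp hW tn bn hb hk hr yy dw big o ho oo
  refine H81.W2.core hC.le_Cs' ?_ hE.inv.1 hC.cjs_range (fun w hw => hG.pm w (hW hw)) hp tn bn hb hk hr
    ⟨y, rfl⟩ (map_mul e₁ y y ▸ yy) dw (big.imp_left fun h => by rw [← map_mul, h, map_one]) ho oo
  exact hG.toW0.odd.of_dvd_nat (card_dvd_of_le (le_centralizer_iff.2 (sup_le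
    (le_centralizer_iff.1 inf_le_left) (le_centralizer_iff.1 inf_le_right))))

end H59.GB.A
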