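import Cfsg.Agent.H59.U5GK

/-! STD-U5 (row S1778), wreath case: `JobNQ` of `H59.GB`. -/

set_option autoImplicit false
set_option linter.unusedSectionVars false

namespace H59.GB.K

open H67 H67.GA

open H64.SG (O2 Syl Cz Cs Ns cjs Is2 Inv2 UF IsO2 fx mem_Cs mem_Cz mem_fx is2_of_sq
  isPGroup_iff_is2 mem_of_sq_mem)
open H57 H98 H67.GA Subgroup
open scoped commutatorElement

universe u

namespace NQ

section Gen

variable {G : Type u} [Group G] {M B C : Subgroup G} {g h r t : G}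

/-- The elements of `N(B) ⊓ N(C)` that act trivially on `B` modulo `C`. -/
def Tv (B C : Subgroup G) : Subgroup G where
  carrier := {g | g ∈ Ns B ∧ g ∈ Ns C ∧ ∀ w ∈ B, cm g w ∈ C}
  one_mem' := ⟨one_mem _, one_mem _, fun w _ => by simp [cm]⟩
  mul_mem' := fun {g h} hg hh => ⟨mul_mem hg.1 hh.1, mul_mem hg.2.1 hh.2.1, fun w hw => by
    have := mul_mem (conj_mem_of_mem_normalizer hg.2.1 (hh.2.2 w hw)) (hg.2.2 w hw)
    convert this using 1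
    simp only [cm]; group⟩
  inv_mem' := fun {g} hg => ⟨inv_mem hg.1, inv_mem hg.2.1, fun w hw => by
    have := inv_mem (hg.2.2 _ (conj_mem_of_mem_normalizer' hg.1 hw))
    convert this using 1
    simp only [cm]; group⟩

theorem Tv_cj (g : G) (hh : h ∈ Tv B C) : g * h * g⁻¹ ∈ Tv (cjs g B) (cjs g C) :=
  ⟨by rw [← H64.SG.cj_Ns]; exact conj_mem_cj hh.1, by rw [← H64.SG.cj_Ns]; exact conj_mem_cj hh.2.1,
    fun w hw => mem_cjs.2 (by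
      have := hh.2.2 _ (mem_cjs.1 hw)
      convert this using 1
      simp only [cm]; group)⟩

theorem Tv_conj (h1 : g ∈ Ns B) (h2 : g ∈ Ns C) (hh : h ∈ Tv B C) : g * h * g⁻¹ ∈ Tv B C := by
  have := Tv_cj g hh
  rwa [show cjs g B = B from cj_eq_self h1, show cjs g C = C from cj_eq_self h2] at this

/-- An involution that normalises `B` and is trivial on `B ^ t / C` lies in `M`. -/
theorem tr (h : UF M t) (h0 : t ∈ Ns C) (h1 : r ∈ Ns B) (h2 : r ∈ Tv (cjs t B) C)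
    (h3 : Tv B C ⊓ Tv (cjs t B) C ≤ M) (hr : r * r = 1) : r ∈ M := by
  have t1 : t⁻¹ = t := inv_eq_of_mul_eq_one_right h.inv.1
  have e : cjs t (cjs t B) = B := (cj_cj t t B).trans (by rw [h.inv.1, cj_one])
  have h4 : t * r * t⁻¹ ∈ Tv B C := by
    have := Tv_cj t h2
    rwa [e, show cjs t C = C from cj_eq_self h0] at this
  have h5 : t * r * t⁻¹ ∈ Ns (cjs t B) := by rw [← H64.SG.cj_Ns]; exact conj_mem_cj h1
  have h6 : r * (t * r * t⁻¹) ∈ M := h.uf _ (by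
    have : r * (t * r * t⁻¹) * t * (r * (t * r * t⁻¹))⁻¹ = cm r (t * r * t⁻¹) * t := by
      simp only [cm, mul_inv_rev, t1, mul_assoc]
      rw [← mul_assoc t t, h.inv.1, one_mul, mul_one]
    rw [this]
    refine mul_mem (h3 (mem_inf.2 ⟨mul_mem (Tv_conj h1 h2.2.1 h4) (inv_mem h4), ?_⟩)) h.mem
    have := mul_mem h2 (Tv_conj h5 h4.2.1 (inv_mem h2))
    simpa only [cm, mul_assoc] using this)
  refine h.uf r ?_
  rw [inv_eq_of_mul_eq_one_right hr]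
  simpa [mul_assoc] using mul_mem h6 h.mem

end Gen

variable {X : Type} [Group X] [Finite X] [Dat X] [Fa X] {G : Type u} [Group G] [Finite G]
  {e e₁ e₂ : X →* G} {g m t : G} {A : Subgroup X} {k : ℕ}

variable (h : HB e t e₁ e₂)
include h

theorem comm_nor {a b : G} (ha : a ∈ Ns (G12 e₁ e₂)) (hb : b ∈ Ns (G12 e₁ e₂)) :
    ⁅a, b⁆ ∈ Ns e₁.range := by
  have k : cj a⁻¹ (cj b⁻¹ e₁.range) = cj b⁻¹ (cj a⁻¹ e₁.range) := by
    rcases h.pm _ (inv_mem ha) with ⟨a1, a2⟩ | ⟨a1, a2⟩ <;>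
      rcases h.pm _ (inv_mem hb) with ⟨b1, b2⟩ | ⟨b1, b2⟩
    · rw [cj_eq_self a1, cj_eq_self b1, cj_eq_self a1]
    · rw [cj_eq_self a1, show cj b⁻¹ e₁.range = _ from b1, cj_eq_self a2]
    · rw [cj_eq_self b1, show cj a⁻¹ e₁.range = _ from a1, cj_eq_self b2]
    · rw [show cj a⁻¹ e₁.range = _ from a1, show cj b⁻¹ e₁.range = _ from b1]
      exact a2.trans b2.symm
  refine cj_eq_self_iff.1 ?_
  rw [commutatorElement_def, mul_assoc, ← cj_cj, ← cj_cj a⁻¹, k, cj_cj, cj_cj]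
  simp

/-- A perfect subgroup of `M` generated by involutions lies in `G₁`. -/
theorem le_G (f : X →* G) (h1 : A ≤ ⁅A, A⁆) (h2 : A ≤ Iv A)
    (h3 : ∀ v ∈ A, f v ∈ Ns (G12 e₁ e₂)) : A.map f ≤ G12 e₁ e₂ := by
  have k1 : A.map f ≤ Ns (G12 e₁ e₂) := map_le_iff_le_comap.2 h3
  have k2 : A.map f ≤ ⁅A.map f, A.map f⁆ := by rw [← map_commutator]; exact map_mono h1
  have k3 : A.map f ≤ Ns e₁.range := k2.trans (commutator_le.2 fun a ha b hb =>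
    comm_nor h (k1 ha) (k1 hb))
  have k4 : A.map f ≤ Ns e₂.range := k2.trans (commutator_le.2 fun a ha b hb =>
    comm_nor h.symm (G12_comm (e₁ := e₁) (e₂ := e₂) ▸ k1 ha) (G12_comm (e₁ := e₁) (e₂ := e₂) ▸ k1 hb))
  refine map_le_iff_le_comap.2 (h2.trans (Iv_le_iff.2 fun v hv v2 => ?_))
  have v3 : f v * f v = 1 := by rw [← map_mul, v2, map_one]
  obtain ⟨β₁, i1⟩ := exists_ind h.ker (k3 ⟨v, hv, rfl⟩)
  obtain ⟨β₂, i2⟩ := exists_ind h.ker₂ (k4 ⟨v, hv, rfl⟩)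
  obtain ⟨a, -, rfl⟩ := inner_of_out (H59.GB.A.out_of_commutator h.ker i1
    (commutator_mono k3 k3 (k2 ⟨v, hv, rfl⟩))) (is2_of_sq (i1.sq h.ker v3))
  obtain ⟨b, -, rfl⟩ := inner_of_out (H59.GB.A.out_of_commutator h.ker₂ i2
    (commutator_mono k4 k4 (k2 ⟨v, hv, rfl⟩))) (is2_of_sq (i2.sq h.ker₂ v3))
  exact h.mem_G i1 i2 v3

variable (hk : Rg X k)
include hk

theorem two_comm' {w n : G} (hw : w ∈ two e₁ e₂ (Qk X k)) (hn : n ∈ two e₁ e₂ (Mk X k)) :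
    n * w = w * n := by
  obtain ⟨a, ha, b, hb, rfl⟩ := h.mem_two.1 hw
  obtain ⟨c, hc, d, hd, rfl⟩ := h.mem_two.1 hn
  rw [h.mul_mul, h.mul_mul, FB.QM k hk ha c hc, FB.QM k hk hb d hd]

theorem two_sq {n : G} (hn : n ∈ two e₁ e₂ (Mk X k)) : n * n = 1 := by
  obtain ⟨c, hc, d, hd, rfl⟩ := h.mem_two.1 hn
  rw [h.mul_mul, FB.sqM k hk c hc, FB.sqM k hk d hd, map_one, map_one, mul_one]

theorem sq_cen (hg : g ∈ Tv (two e₁ e₂ (Qk X k)) (two e₁ e₂ (Mk X k))) :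
    g * g ∈ Cs (two e₁ e₂ (Qk X k)) := by
  have c3 : ∀ w ∈ two e₁ e₂ (Qk X k), w * w ∈ Cz g := fun w hw => by
    have h1 := two_comm' h hk hw (hg.2.2 w hw)
    have h2 := two_sq h hk (hg.2.2 w hw)
    have h3 : g * (w * w) * g⁻¹ = cm g w * (w * cm g w) * w := by simp only [cm]; group
    rw [← h1, ← mul_assoc (cm g w), h2, one_mul, mul_inv_eq_iff_eq_mul] at h3
    exact mem_Cz.2 h3
  have c4 : ∀ f : X →* G, (Qk X k).map f ≤ two e₁ e₂ (Qk X k) → (Mk X k).map f ≤ Cz g := fun f hf =>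
    map_le_iff_le_comap.2 ((FG.gM k hk).trans ((closure_le _).2 (by
      rintro _ ⟨u, hu, rfl⟩
      change f (u * u) ∈ Cz g
      rw [map_mul]
      exact c3 _ (hf ⟨u, hu, rfl⟩))))
  intro w hw
  have h1 := mem_Cz.1 (sup_le (c4 e₁ le_sup_left) (c4 e₂ le_sup_right) (hg.2.2 w hw))
  have h2 := two_sq h hk (hg.2.2 w hw)
  have h3 : g * g * w * (g * g)⁻¹ = g * cm g w * g⁻¹ * cm g w * w := by simp only [cm]; group
  rw [h1, mul_inv_cancel_right, h2, one_mul, mul_inv_eq_iff_eq_mul] at h3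
  exact h3.symm

theorem Tv_le (cu : Cs ((Qk X k).map e) ≤ Ns (G12 e₁ e₂)) :
    Tv (two e₁ e₂ (Qk X k)) (two e₁ e₂ (Mk X k)) ≤ Ns (G12 e₁ e₂) := by
  have t1 : t ∈ Ns (Tv (two e₁ e₂ (Qk X k)) (two e₁ e₂ (Mk X k))) := mem_normalizer_of_cj_le (by
    rintro _ ⟨w, hw, rfl⟩
    exact Tv_conj (h.t_mem_Ns h.tt _) (h.t_mem_Ns h.tt _) hw)
  refine le_sup_left.trans (jobK11 h.uf (IsConj.refl t) h.uf.mem _ (mem_sup_right (mem_zpowers t))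
    fun g hg ho => ?_)
  have h1 : g ∈ Tv (two e₁ e₂ (Qk X k)) (two e₁ e₂ (Mk X k)) :=
    ((H67.SA.mem_sup_zp t1 h.tt).1 hg).elim id fun h1 => mem_of_sq_mem (by
      have := mul_mem h1 (conj_mem_of_mem_normalizer t1 h1)
      rwa [show g * t * (t * (g * t) * t⁻¹) = g * (t * t) * g by group, h.tt, mul_one] at this) ho
  exact mem_of_sq_mem (cu (centralizer_anti (h.map_le _) (sq_cen h hk h1))) ho

theorem inf_eq : ((Qk X k).map e₁ ⊔ (Mk X k).map e₂) ⊓ ((Qk X k).map e₂ ⊔ (Mk X k).map e₁) =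
    two e₁ e₂ (Mk X k) := by
  refine le_antisymm (fun w hw => ?_) (le_inf (sup_le_sup_right (map_mono (Mk_le_Qk hk)) _)
    ((sup_comm _ _).le.trans (sup_le_sup_right (map_mono (Mk_le_Qk hk)) _)))
  obtain ⟨a, ha, b, hb, e1⟩ := h.mem_sup.1 hw.1
  obtain ⟨c, hc, d, hd, e2⟩ := h.mem_sup.1 (sup_comm ((Qk X k).map e₂) _ ▸ hw.2)
  obtain ⟨rfl, -⟩ := h.inj2 (is2_of_UU (Qk_le_UU hk ha)) (is2_of_UU (Mk_le_UU hk hb))
    (is2_of_UU (Mk_le_UU hk hc)) (is2_of_UU (Qk_le_UU hk hd)) (e1.symm.trans e2)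
  exact h.mem_two.2 ⟨a, hc, b, hb, e1⟩

theorem inf_Tv : Tv ((Qk X k).map e₁ ⊔ (Mk X k).map e₂) (two e₁ e₂ (Mk X k)) ⊓
    Tv ((Qk X k).map e₂ ⊔ (Mk X k).map e₁) (two e₁ e₂ (Mk X k)) ≤
      Tv (two e₁ e₂ (Qk X k)) (two e₁ e₂ (Mk X k)) := fun g hg => by
  have k1 : ∀ w ∈ two e₁ e₂ (Qk X k), cm g w ∈ two e₁ e₂ (Mk X k) := fun w hw => by
    obtain ⟨a, ha, b, hb, rfl⟩ := h.mem_two.1 hw
    have h1 := hg.1.2.2 (e₁ a) (mem_sup_left ⟨a, ha, rfl⟩)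
    have h2 := hg.2.2.2 (e₂ b) (mem_sup_left ⟨b, hb, rfl⟩)
    have h3 : cm g (e₁ a * e₂ b) = cm g (e₁ a) * (e₁ a * cm g (e₂ b) * (e₁ a)⁻¹) := by
      simp only [cm]; group
    rw [h3, ← two_comm' h hk (mem_sup_left ⟨a, ha, rfl⟩) h2, mul_inv_cancel_right]
    exact mul_mem h1 h2
  refine ⟨mem_normalizer_of_cj_le ?_, hg.1.2.1, k1⟩
  rintro _ ⟨w, hw, rfl⟩
  have := mul_mem (two_mono (Mk_le_Qk hk) (k1 w hw)) hw
  rwa [cm, inv_mul_cancel_right] at this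

theorem inv_mem_M (cu : Cs ((Qk X k).map e) ≤ Ns (G12 e₁ e₂))
    (n1 : m ∈ Ns ((Qk X k).map e₁ ⊔ (Mk X k).map e₂)) (n2 : m ∈ Ns ((Qk X k).map e₂ ⊔ (Mk X k).map e₁))
    {v : X} (v1 : v ∈ Ns (Qk X k)) (v2 : v ∈ Ns (Mk X k)) (v3 : v * v = 1) :
    m * e₁ v * m⁻¹ ∈ Ns (G12 e₁ e₂) := by
  have t1 : cjs t ((Qk X k).map e₁ ⊔ (Mk X k).map e₂) = (Qk X k).map e₂ ⊔ (Mk X k).map e₁ :=
    (cj_sup t _ _).trans (congrArg₂ _ (h.cjs_map _) (h.symm.cjs_map _))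
  have n3 : m ∈ Ns (two e₁ e₂ (Mk X k)) := by
    rw [← inf_eq h hk]
    exact le_normalizer_inf (zpowers_le.2 n1) (zpowers_le.2 n2) (mem_zpowers m)
  have c1 : ∀ A : Subgroup X, e₁ v ∈ Ns (A.map e₂) := fun A =>
    H64.SG.Cs_le_Ns _ (Cs_range_le _ (h.le_Cs' ⟨_, rfl⟩))
  have c2 : ∀ {A B : Subgroup G}, e₁ v ∈ Ns A → e₁ v ∈ Ns B → e₁ v ∈ Ns (A ⊔ B) := fun a b =>
    le_normalizer_sup (zpowers_le.2 a) (zpowers_le.2 b) (mem_zpowers _)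
  refine tr h.uf (h.t_mem_Ns h.tt _) (mul_mem (mul_mem n1 (c2 (map_mem_Ns v1) (c1 _))) (inv_mem n1))
    (t1 ▸ Tv_conj n2 n3 ⟨c2 (c1 _) (map_mem_Ns v2), c2 (map_mem_Ns v2) (c1 _), fun w hw => ?_⟩)
    (t1 ▸ (inf_Tv h hk).trans (Tv_le h hk cu)) (by rw [conj_mul, ← map_mul, v3, map_one]; simp)
  rw [sup_comm] at hw
  obtain ⟨a, ha, b, -, rfl⟩ := h.mem_sup.1 hw
  refine mem_sup_left ⟨cm v a, mul_mem (conj_mem_of_mem_normalizer v2 ha) (inv_mem ha), ?_⟩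
  rw [cm, cm, ← mul_assoc, mul_assoc _ (e₂ b), ← map_inv, ← h.comm]
  simp [mul_assoc]

omit hk

theorem half (cu : ∀ k, Rg X k → Cs ((Qk X k).map e) ≤ Ns (G12 e₁ e₂)) (hm : NB e₁ e₂ m) :
    cj m e₁.range ≤ G12 e₁ e₂ := by
  have k : (⊤ : Subgroup X) ≤ (Ns (G12 e₁ e₂)).comap (cje m e₁) := by
    rw [← FP.top]
    refine sup_le (Iv_le_iff.2 fun v hv v2 => ?_) (FP.ivS.trans (Iv_le_iff.2 fun v hv v2 => ?_))
    · exact inv_mem_M h rg1 (cu 1 rg1) (hm 1 rg1).1 (hm 1 rg1).2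
        ((FI.qk 1 (rg1 (X := X))).2.1 (mem_Cz.2 (PP_le_Cs hv _ (FB.xM 1 rg1))))
        (H64.SG.Cs_le_Ns _ (PP_le_Cs hv)) v2
    · exact inv_mem_M h rg2 (cu 2 rg2) (hm 2 rg2).1 (hm 2 rg2).2 (FP.SN hv) (FP.SM hv) v2
  rw [MonoidHom.range_eq_map]
  exact (map_cje (g := m) (e := e₁) _).ge.trans (le_G h _ perfect.ge
    (FP.top.ge.trans (sup_le (Iv_mono le_top) (FP.ivS.trans (Iv_mono le_top)))) fun v hv => k hv)

end NQ

theorem jobNQ : JobNQ.{u} := by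
  intro X _ _ _ _ G _ _ e t e₁ e₂ _ c w m hm
  have h := hb_of c w
  have hG : G12 e₂ e₁ = G12 e₁ e₂ := G12_comm
  refine mem_normalizer_of_cj_le ?_
  rw [cj_sup]
  exact sup_le (NQ.half h w.cu hm)
    ((NQ.half h.symm (hG ▸ w.cu) fun k hk => (hm k hk).symm).trans hG.le)

end H59.GB.K
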