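import Cfsg.Agent.H59.U5GDef
import Cfsg.Agent.H67.SAAB

/-! STD-UM: `H67.GA.JobAB` (port of `H67.SAAB`). -/

set_option autoImplicit false
set_option linter.unusedSectionVars false

namespace H59.GB.A

open H67 H67.GA

open H64.SG (O2 Syl Cz Cs Ns cjs Is2 Inv2 UF IsO2 fx mem_Cs mem_Cz mem_fx)
open H57 Subgroup H67.GA
open H67.SA (eq_bot_of_odd card_mul_rel le_O2_of_perfect)

universe u

variable {X : Type} [Group X] [Finite X] [Dat X] [Fa X] {G : Type u} [Group G] {e : X →* G} {g t : G}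
  {β : MulAut X}

/-- The elements `g` with `out (ind g) ∈ B`. -/
def oi (e : X →* G) (B : Subgroup (Dat.A X)) : Subgroup G where
  carrier := {g | ∃ β, Ind e g β ∧ out X β ∈ B}
  one_mem' := ⟨1, ind_one, by simp⟩
  mul_mem' := fun ⟨_, a, b⟩ ⟨_, c, d⟩ => ⟨_, a.mul c, by rw [map_mul]; exact mul_mem b d⟩
  inv_mem' := fun ⟨_, a, b⟩ => ⟨_, a.inv, by rw [map_inv]; exact inv_mem b⟩

theorem out_mem (hk : e.ker ≤ center X) (h : Ind e g β)
    {B : Subgroup (Dat.A X)} (hg : g ∈ oi e B) : out X β ∈ B := by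
  obtain ⟨α, h1, h2⟩ := hg
  exact h.unique hk h1 ▸ h2

/-- Commutators have trivial `out`. -/
theorem out_of_commutator (hk : e.ker ≤ center X) (h : Ind e g β)
    (hg : g ∈ ⁅Ns e.range, Ns e.range⁆) : out X β = 1 :=
  out_mem hk h (B := ⊥) (commutator_le.2 (fun a ha b hb => by
    obtain ⟨α, h1⟩ := exists_ind hk ha
    obtain ⟨α', h2⟩ := exists_ind hk hb
    exact ⟨_, h1.cm h2, out_cm ..⟩) hg)

/-- Elements of `O²` have `out` of odd order. -/
theorem out_of_O2 (hk : e.ker ≤ center X) (h : Ind e g β)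
    (hg : g ∈ O2 (Ns e.range)) : Odd (orderOf (out X β)) := by
  let B : Subgroup (Dat.A X) :=
    { carrier := {a | Odd (orderOf a)}
      one_mem' := by simp
      mul_mem' := fun a b => H64.SG.odd_orderOf_mul a b (out_comm _ _)
      inv_mem' := fun a => by simpa using a }
  refine out_mem hk h (B := B) ((closure_le _).2 (fun a ha => ?_) hg)
  obtain ⟨α, h1⟩ := exists_ind hk ha.1
  exact ⟨α, h1, (h1.odd hk ha.2).of_dvd_nat (orderOf_map_dvd _ _)⟩

variable [Finite G]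

/-- The image in `C(t) / L` of a `2`-group of inner elements is cyclic. -/
theorem cyclic (h : B0 e t) [(e.range.subgroupOf (Cz t)).Normal]
    {S : Subgroup (Cz t)} (hS : IsPGroup 2 S) (h1 : ∀ s ∈ S, s.1 ∈ oi e ⊥) :
    IsCyclic (S.map (QuotientGroup.mk' (e.range.subgroupOf (Cz t)))) := by
  let φ := QuotientGroup.mk' (e.range.subgroupOf (Cz t))
  obtain ⟨T, hT⟩ := H98.exists_isSyl 2 ((Cs e.range).subgroupOf (Cz t))
  have h2 : IsCyclic T := (equivMapOfInjective _ _ (Cz t).subtype_injective).isCyclic.2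
    (h.cyc _ (map_le_iff_le_comap.2 hT.le) (hT.isPGroup.map _))
  refine H64.SG.isCyclic_of_syl (hT.map φ)
    (isCyclic_of_surjective _ (φ.subgroupMap_surjective T)) (hS.map φ) ?_
  rintro _ ⟨s, hs, rfl⟩
  have s2 : Is2 (s : G) := (H64.SG.isPGroup_iff_is2.1 hS s hs).map (Cz t).subtype
  obtain ⟨β, h3, h4⟩ := h1 s hs
  obtain ⟨l, -, -, k, hk, -, h5, -⟩ := h3.inner h.ker h4 s2
  refine ⟨s * ⟨e l, h.mem_Cz l⟩⁻¹, ?_, ?_⟩
  · change s * (e l)⁻¹ ∈ Cs e.range
    rwa [h5, mul_inv_cancel_right]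
  · rw [map_mul, map_inv, show φ ⟨e l, h.mem_Cz l⟩ = 1 from (QuotientGroup.eq_one_iff _).2 ⟨l, rfl⟩,
      inv_one, mul_one]

theorem odd (h : B0 e t) [(e.range.subgroupOf (Cz t)).Normal] :
    Odd (Nat.card (((O2 (Cz t)).subgroupOf (Cz t)).map
      (QuotientGroup.mk' (e.range.subgroupOf (Cz t))))) := by
  obtain ⟨S, hS⟩ := H98.exists_isSyl 2 ((O2 (Cz t)).subgroupOf (Cz t))
  have h3 := H64.SG.odd_O2 (hS.map _) (cyclic h hS.isPGroup fun s hs => by
    obtain ⟨β, h1⟩ := exists_ind h.ker (h.cz s.2)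
    exact ⟨β, h1, ((h1.is2 h.ker ((H64.SG.isPGroup_iff_is2.1 hS.isPGroup s hs).map
      (Cz t).subtype)).map (out X)).eq_one
        (out_of_O2 h.ker h1 (H64.SG.O2_mono h.cz (hS.le hs)))⟩)
  rwa [H64.SG.O2_eq, H64.SG.O2_eq, H98.res_subgroupOf, ← H98.res_top, H98.map_res, H98.res_res,
    ← H98.map_res, H98.res_top, ← H98.res_subgroupOf, ← H64.SG.O2_eq] at h3

theorem pf (h : B0 e t) {N : Subgroup G} (n1 : N ≤ Cz t) (n2 : N ≤ ⁅N, N⁆) : N ≤ e.range := fun a ha => by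
  have : (e.range.subgroupOf (Cz t)).Normal := normal_subgroupOf_of_le_normalizer h.cz
  have h2 := eq_bot_of_odd (N := (N.subgroupOf (Cz t)).map
    (QuotientGroup.mk' (e.range.subgroupOf (Cz t)))) (by
      rw [← map_commutator]
      refine map_mono ?_
      rw [← map_le_map_iff_of_injective (subtype_injective _), map_commutator,
        subgroupOf_map_subtype, inf_eq_left.2 n1]
      exact n2) ((odd h).of_dvd_nat (card_dvd_of_le (map_mono (comap_mono
        ((le_O2_of_perfect n2).trans (H64.SG.O2_mono n1))))))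
  exact (QuotientGroup.eq_one_iff (⟨a, n1 ha⟩ : Cz t)).1
    (mem_bot.1 (h2.le (mem_map_of_mem (QuotientGroup.mk' _) ha)))

theorem ol (h : B0 e t) {y : G} (hy : y ∈ O2 (Cz t)) (y2 : Is2 y) : y ∈ e.range := by
  have : (e.range.subgroupOf (Cz t)).Normal := normal_subgroupOf_of_le_normalizer h.cz
  have y1 := H64.SG.O2_le _ hy
  exact (QuotientGroup.eq_one_iff (⟨y, y1⟩ : Cz t)).1 (Is2.eq_one
    (Is2.map (g := (⟨y, y1⟩ : Cz t)) (y2.imp fun _ e => Subtype.ext e) (QuotientGroup.mk' _))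
    (H64.SG.odd_orderOf_of_mem (odd h) (mem_map_of_mem _ hy)))

omit [Finite G] in
theorem map_O2_le {A : Subgroup X} {H : Subgroup G} (h : A.map e ≤ H) : (O2 A).map e ≤ O2 H :=
  map_le_iff_le_comap.2 ((closure_le _).2 fun a ha => H64.SG.mem_O2_of_odd (h ⟨a, ha.1, rfl⟩)
    (ha.2.of_dvd_nat (orderOf_map_dvd _ _)))

/-- If `C(Z)` centralises `s`, then `U` lies in the standard subgroup of `s`. -/
theorem UU_le {e' : X →* G} {s : G} (h : B0 e' s) (h1 : (Cs (ZZ X)).map e ≤ Cz s) :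
    (UU X).map e ≤ e'.range := by
  rintro _ ⟨u, hu, rfl⟩
  exact ol h (map_O2_le h1 ⟨u, FP.opU hu, rfl⟩) ((is2_of_UU hu).map e)

theorem nr (b : B0 e t) : NR e t := by
  rintro _ ⟨p, z, hz, -, rfl⟩ h1
  obtain ⟨g, hg⟩ := isConj_iff.1 (h1.trans (isConj_iff.2 ⟨(e p)⁻¹, rfl⟩))
  replace hg : g * t * g⁻¹ = e z := by rw [hg]; simp [mul_assoc]
  have h := b.cje g
  rw [hg] at h
  refine h.not_mem (UU_le (e := e) h ?_ ⟨z, ZZ_le_UU hz, rfl⟩)
  rintro _ ⟨u, hu, rfl⟩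
  exact mem_Cz.2 (by rw [← map_mul, ← map_mul, hu z hz])

theorem jobAB : JobAB.{u} := by
  intro X _ _ _ _ G _ _ e t
  refine ⟨fun h => ?_, fun h => ⟨fun y y1 y2 ⟨_, ⟨s, rfl⟩, h1⟩ => ?_, fun P p1 p2 => ?_⟩⟩
  · have : (e.range.subgroupOf (Cz t)).Normal := normal_subgroupOf_of_le_normalizer h.cz
    have h1 := odd h
    refine ⟨fun y hy y2 => ?_, fun N => pf h, fun y hy y2 => ?_, nr h⟩
    · have y1 := H64.SG.O2_le _ hy
      exact (QuotientGroup.eq_one_iff (⟨y, y1⟩ : Cz t)).1 (Is2.eq_one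
        (Is2.map (g := (⟨y, y1⟩ : Cz t)) (y2.imp fun _ e => Subtype.ext e) (QuotientGroup.mk' _))
        (H64.SG.odd_orderOf_of_mem h1 (mem_map_of_mem _ hy)))
    · have h2 := commutator_mono h.cz h.cz hy
      obtain ⟨β, h3⟩ := exists_ind h.ker (commutator_le_self _ h2)
      obtain ⟨s, s1, -, k, k1, -, rfl, -⟩ := h3.inner h.ker (out_of_commutator h.ker h3 h2) y2
      exact ⟨e s, ⟨s, rfl⟩, s1.map e, by simpa using k1⟩
  · obtain ⟨s, -, -, k, k1, k2, rfl, -⟩ := (ind_conj_iff.2 h1).inner h.ker (out_conj s) y2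
    have h2 : t * k = k * t := by
      have := mem_Cz.1 y1
      rwa [mul_assoc, ← h.comm, ← mul_assoc, ← mul_assoc, mul_left_inj] at this
    rcases h.eq_or k1 k2 h2 with rfl | rfl
    · exact Or.inl ⟨s, by simp⟩
    · exact Or.inr ⟨s, by rw [← mul_assoc, h.inv.1, one_mul]⟩
  · let ψ := (indH h.ker).comp (inclusion (p1.trans h.cz))
    rw [← ψ.ker.card_mul_index, index_ker]
    refine Nat.mul_le_mul ?_ (FD.sb _ (p2.of_surjective _ ψ.rangeRestrict_surjective))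
    rw [← card_map_of_injective P.subtype_injective]
    refine h.two _ ?_ ((p2.to_subgroup _).map _)
    rintro _ ⟨a, ha, rfl⟩
    exact (mem_ker_indH h.ker).1 ha

end H59.GB.A
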