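import Cfsg.Agent.H67.SAW0
import Cfsg.Agent.H59.U5GAB

/-! STD-UM (row S3128): `JobW0`, `JobWU` of the type-free tower `H67.GA` (port of `H67/SAW0`). -/

set_option autoImplicit false
set_option linter.unusedSectionVars false

namespace H59.GB.W

open H67 H67.GA

open H64.SG (O2 Syl Cz Cs Ns cjs Is2 Inv2 UF IsO2 fx mem_Cs mem_Cz mem_fx is2_of_sq
  isPGroup_iff_is2)
open H57 H98 Subgroup H67.GA
open H67.SA (IG mem_IG le_IG cm_mem_IG cjs_IG_le IG_le le_of_perfect_central cm_eq_of_odd cm_mul_t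
  rel_dvd mem_sup_zp)
open scoped commutatorElement

universe u

variable {X : Type} [Group X] [Finite X] [Dat X] [Fa X] {G : Type u} [Group G] [Finite G]
  {e e' e₁ e₂ : X →* G} {g t : G} {β : MulAut X}

theorem le_Ns_IG (h : B1 e t) : Cz t ≤ Ns (IG t e.range) := fun g hg =>
  mem_normalizer_of_cj_le ((cjs_IG_le g).trans (by
    rw [← H64.SG.mem_Cz.1 hg, mul_inv_cancel_right, show cjs g e.range = e.range from cj_eq_self (h.cz hg)]))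

theorem odd_of (h : CE e t) {C : Subgroup G} (h1 : C ≤ Cs e.range) (h2 : t ∈ Ns C) (h3 : t ∉ C) :
    Odd (Nat.card C) := H64.SG.odd_card_of_forall fun g hg => by
  obtain ⟨S, s1, s2⟩ := exists_isSyl_le (H9.UF.pg_zp h.inv.1) (le_sup_right : _ ≤ C ⊔ zpowers t)
  have h4 := s1.inf_of_le_normalizer le_sup_left
    (s1.le.trans (sup_le le_normalizer (zpowers_le.2 h2)))
  have h5 : Nat.card (zpowers t) = 2 := by
    rw [Nat.card_zpowers]; exact orderOf_eq_prime (by rw [pow_two, h.inv.1]) h.inv.2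
  have h6 : zpowers t = S := eq_of_le_of_card_ge s2 (h5 ▸ h.two S
    (s1.le.trans (sup_le h1 (zpowers_le.2 h.cen))) s1.isPGroup)
  have h7 : S ⊓ C = ⊥ := eq_bot_iff.2 fun a ha => by
    rcases (mem_sup_zp (A := ⊥) (t := t) (g := a) (le_normalizer_of_normal (mem_top t)) h.inv.1).1
      (by rw [bot_sup_eq, h6]; exact ha.1) with h8 | h8
    · exact h8
    · exact absurd (by rw [← h.inv_eq, ← eq_inv_of_mul_eq_one_left (mem_bot.1 h8)]; exact ha.2) h3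
  exact H64.SG.odd_orderOf_of_mem (Nat.not_even_iff_odd.1 fun h8 => h4.eq_bot_iff.1 h7
    (even_iff_two_dvd.1 h8)) hg

theorem range_eq_of_le (hk : e.ker ≤ center X) (hk' : e'.ker ≤ center X)
    (h : e'.range ≤ e.range) : e'.range = e.range := by
  let ρ := (indH hk).comp (e'.codRestrict (Ns e.range) fun a => le_normalizer (h ⟨a, rfl⟩))
  have i0 : ∀ a, Ind e (e' a) (ρ a) := fun a => ind_indH hk ⟨e' a, le_normalizer (h ⟨a, rfl⟩)⟩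
  have h1 : ρ.range ≤ (MulAut.conj (G := X)).range := by
    rintro _ ⟨a, rfl⟩
    obtain ⟨b, hb⟩ := h ⟨a, rfl⟩
    exact ⟨b, (ind_conj b).unique hk (hb ▸ i0 a)⟩
  have h2 : ρ.ker ≤ (MulAut.conj (G := X)).ker := fun a ha => conj_eq_one.2
    ((e_mem_Cs hk').1 (centralizer_le h (((i0 a).eq_one_iff hk).1 ha)))
  have h3 := eq_of_le_of_card_ge h1 (by rw [← index_ker, ← index_ker]; exact index_antitone h2)
  refine le_antisymm h (le_of_perfect_central (range_perfect) h ?_)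
  rintro _ ⟨b, rfl⟩
  obtain ⟨a, ha⟩ := h3.ge ⟨b, rfl⟩
  exact ⟨e' a, ⟨a, rfl⟩, (e' a)⁻¹ * e b, ind_one_iff.1 (by
    simpa [ha] using (i0 a).inv.mul (ind_conj b)), by group⟩

theorem of_range (h : CE e t) (hk : e'.ker ≤ center X) (h1 : e'.range = e.range) :
    CE e' t := ⟨⟨hk, h.inv, h1 ▸ h.cen, h1 ▸ h.cz⟩, h1 ▸ h.two⟩

theorem wconj (c : CW e t e₁ e₂) {u : X} (hu : u * u = 1) :
    e₁ u * t * (e₁ u)⁻¹ = e u * t := by
  rw [c.diag, ← c.sw, ← map_inv, inv_eq_of_mul_eq_one_right hu]; group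

theorem cm₁ (c : CW e t e₁ e₂) (a b : X) : cm (e₁ a) (e b) = e₁ (cm a b) := by
  rw [cm, c.diag, ← mul_assoc, mul_assoc _ (e₂ b), ← map_inv, ← c.comm]
  simp [mul_assoc]

theorem G12_le (c : CW e t e₁ e₂) {H : Subgroup G} (h1 : e.range ≤ H) {z : X} (z1 : z ∈ ZZ X)
    (z2 : z ≠ 1) (h2 : ∀ a, cm (e₁ z) (e a) ∈ H) : G12 e₁ e₂ ≤ H := by
  have i1 : ∀ a, Ind e₁ (e a) (MulAut.conj a) := fun a => c.diag a ▸ c.ind₁ a a
  have : (H.comap e₁).Normal := ⟨fun a ha b => by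
    change e₁ (MulAut.conj b a) ∈ H
    rw [← i1]
    exact mul_mem (mul_mem (h1 ⟨b, rfl⟩) ha) (inv_mem (h1 ⟨b, rfl⟩))⟩
  have h3 : e₁.range ≤ H := by
    rcases normal_le_center_or (H.comap e₁) with h3 | h3
    · exact absurd (eq_one_of_center (mem_center_of_cm fun a => h3 (show e₁ _ ∈ H from
        cm₁ c z a ▸ h2 a)) (is2_of_UU (ZZ_le_UU z1))) z2
    · rintro _ ⟨a, rfl⟩; exact (h3 ▸ mem_top a : a ∈ H.comap e₁)
  refine sup_le h3 ?_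
  rintro _ ⟨a, rfl⟩
  exact (mul_mem_cancel_left (h3 ⟨a, rfl⟩)).1 (c.diag a ▸ h1 ⟨a, rfl⟩)

theorem IG_eq (c : CW e t e₁ e₂) (h : B1 e t) : IG t e.range = G12 e₁ e₂ := by
  have h1 : e.range ≤ G12 e₁ e₂ := by
    rw [MonoidHom.range_eq_map, ← two_top]; exact c.map_le ⊤
  refine le_antisymm (IG_le h.cz h1 fun w hw => ?_) ?_
  · obtain ⟨u, u1, u2⟩ := exists_sq_range h.ker hw (by
      have h2 := h.cen _ hw
      have h3 : cm w t * t = w * t * w⁻¹ := inv_mul_cancel_right _ _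
      calc _ = cm w t * (cm w t * t) * t⁻¹ := by group
        _ = cm w t * t * (cm w t * t) := by
          nth_rewrite 1 [h2]; rw [h.inv_eq]; simp only [mul_assoc]
        _ = 1 := by rw [h3, conj_mul, h.inv.1]; simp)
    exact ⟨e₁ u, mem_sup_left ⟨u, rfl⟩, by rw [wconj c u1, u2, inv_mul_cancel_right]⟩
  obtain ⟨z, z1, z2⟩ := exists_ZZ (X := X)
  exact G12_le c le_IG z1 z2 fun a => cm_mem_IG (by
    rw [cm, wconj c (sq_of_ZZ z1)]; simp) ⟨a, rfl⟩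

theorem inv2_x0 (hk : e.ker ≤ center X) : Inv2 (e (xk X 1)) := inv2_e hk (inv2_xk rg1)

theorem wne (c : CW e t e₁ e₂) : ¬ e₂.range ≤ e₁.range := fun h =>
  (inv2_x0 c.ker₂).2 (c.eq_one (h ⟨_, rfl⟩) ⟨_, rfl⟩ (is2_of_sq (inv2_x0 c.ker₂).1))

theorem wchg (c : CW e t e₁ e₂) (h : CE e t)
    (h1 : cjs (g * t * g⁻¹) e₁.range = e₂.range) : ∃ e', e'.range = cjs g e.range ∧
      CE e' (g * t * g⁻¹) ∧ CW e' (g * t * g⁻¹) e₁ (H67.GA.cje (g * t * g⁻¹) e₁) := by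
  have h2 := h.cje g
  generalize g * t * g⁻¹ = s at *
  have h3 : ∀ a b, e₁ a * H67.GA.cje s e₁ b = H67.GA.cje s e₁ b * e₁ a := fun a b =>
    c.le_Cs (h1 ▸ range_cje (g := s) (e := e₁) ▸ ⟨b, rfl⟩) _ ⟨a, rfl⟩
  let e' := (e₁.noncommCoprod (H67.GA.cje s e₁) h3).comp ((MonoidHom.id _).prod (MonoidHom.id _))
  have c' : CW e' s e₁ (H67.GA.cje s e₁) := ⟨c.ker, h3, fun _ => rfl, fun _ => rfl⟩
  have h4 : e'.ker ≤ Subgroup.center X := fun a ha => (c'.center ha).1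
  have h5 := range_eq_of_le h2.ker h4 (((H59.GB.A.jobAB X G _ _).1 h2.b0).pf _ (by
    rintro _ ⟨a, rfl⟩
    rw [mem_Cz, ← mul_inv_eq_iff_eq_mul, c'.diag, ← conj_mul, c'.sw, (c'.symm h2.inv.1).sw, h3])
    (range_perfect))
  exact ⟨e', h5.trans range_cje, of_range h2 h4 h5, c'⟩

theorem jobW0 : JobW0.{u} := by
  intro X _ _ _ _ G _ _ e t e₁ e₂ h c
  have t1 : t ∈ Ns (G12 e₁ e₂) := two_top (e₁ := e₁) (e₂ := e₂) ▸ c.t_mem_Ns h.inv.1 ⊤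
  have ne : t ∉ Ns e₁.range := fun h1 => wne c (by rw [← c.cjs_range]; exact (cj_eq_self h1).le)
  refine ⟨odd_of h (centralizer_le (IG_eq c h.toB1 ▸ le_IG))
    (normalizer_le_normalizer_centralizer _ t1) fun h1 => ne (H64.SG.Cs_le_Ns _
      (centralizer_anti le_sup_left h1)), ne, fun m hm => ?_, fun s hs h1 => ?_, fun g hg => ?_⟩
  · have key : ∀ f : X →* G, f.ker ≤ center X → f.range ≤ G12 e₁ e₂ →
        G12 e₁ e₂ ≤ Ns f.range → Nat.card f.range = Nat.card e₁.range →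
        cjs m f.range = e₁.range ∨ cjs m f.range = e₂.range := fun f f1 f2 f3 f4 => by
      have f5 : G12 e₁ e₂ ≤ Ns (cjs m f.range) := by
        rw [← H64.SG.cj_Ns]; exact (cj_eq_self hm).ge.trans (cj_mono m f3)
      have f6 : cjs m f.range ≤ G12 e₁ e₂ := (cj_mono m f2).trans (cj_eq_self hm).le
      have k : ∀ f' : X →* G, f'.ker ≤ center X → f'.range ≤ G12 e₁ e₂ →
          G12 e₁ e₂ ≤ Ns f'.range → Nat.card f'.range = Nat.card e₁.range →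
          cjs m f.range ≠ f'.range → cjs m f.range ≤ Cs f'.range := fun f' a1 a2 a3 a4 a5 v hv => by
        rcases normal_range a1 (a2.trans f5) with h1 | h1
        · refine mem_Cs_of_cm a1 (a3 (f6 hv)) fun s => h1 (mem_inf.2 ⟨?_, mul_mem
            (conj_mem_of_mem_normalizer (a3 (f6 hv)) ⟨s, rfl⟩) (inv_mem ⟨s, rfl⟩)⟩)
          have := mul_mem hv (conj_mem_of_mem_normalizer (f5 (a2 ⟨s, rfl⟩)) (inv_mem hv))
          simpa only [mul_assoc] using this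
        · exact absurd (eq_of_le_of_card_ge h1 (by rw [card_cjs, f4, a4])).symm a5
      by_contra h1
      push Not at h1
      have h2 : cjs m f.range ≤ Cs (G12 e₁ e₂) := by
        rw [Cs, centralizer_sup]
        exact le_inf (k e₁ c.ker le_sup_left c.G12_le_Ns rfl h1.1)
          (k e₂ c.ker₂ le_sup_right c.G12_le_Ns' (by rw [← c.cjs_range, card_cjs]) h1.2)
      have h3 := hom_eq_one (cje m f) (fun a b => h2 (conj_mem_cjs.2 ⟨b, rfl⟩) _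
        (f6 (conj_mem_cjs.2 ⟨a, rfl⟩))) (xk X 1)
      exact (inv2_x0 f1).2 (by simpa [cje_apply] using h3)
    have h3 : cjs m e₁.range ≠ cjs m e₂.range := fun h3 =>
      wne c (map_injective (MulAut.conj m).injective h3).ge
    rcases key e₁ c.ker le_sup_left c.G12_le_Ns rfl with h1 | h1 <;>
      rcases key e₂ c.ker₂ le_sup_right c.G12_le_Ns' (by rw [← c.cjs_range, card_cjs]) with h2 | h2
    · exact absurd (h1.trans h2.symm) h3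
    · exact Or.inl ⟨cj_eq_self_iff.1 h1, cj_eq_self_iff.1 h2⟩
    · exact Or.inr ⟨h1, h2⟩
    · exact absurd (h1.trans h2.symm) h3
  · obtain ⟨g, rfl⟩ := isConj_iff.1 hs
    obtain ⟨e', -, h2⟩ := wchg c h h1
    exact ⟨e', h2⟩
  · obtain ⟨e', h1, h2, h3⟩ := wchg c h hg
    have h4 := cjs_IG_le (t := t) (L := e.range) g
    rw [← h1, IG_eq h3 h2.toB1, IG_eq c h.toB1, G12, G12, range_cje, hg] at h4
    exact mem_normalizer_of_cj_le h4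

/-- Against `AE.sz`. -/
theorem big (h : AE e t) {P : Subgroup G} (h1 : P ≤ Cz t) (h2 : IsPGroup 2 P)
    (h3 : qq X ^ (2 * bg X) ≤ Nat.card P) : False :=
  (FB.lt.trans_le h3).not_ge (h.sz P h1 h2)

theorem wu1 {s : G} (c : CW e t e₁ e₂) (h : CE e' s) (ab : AB e' s) (ae : AE e' s)
    {β₁ β₂ : MulAut X} (i1 : Ind e₁ s β₁) (i2 : Ind e₂ s β₂) (h2 : ∃ y ∈ ⁅fx β₂, fx β₂⁆, Inv2 y)
    (h1 : β₁ ≠ 1 ∧ ∃ N ≤ fx β₁, N ≤ ⁅N, N⁆ ∧
      ∃ ρ : ℕ, ρ ∣ (Subgroup.center X).relIndex N ∧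
        ∀ g : X, Inv2 g → ¬ ρ ∣ Nat.card (Cz g)) : False := by
  obtain ⟨b1, N, n1, n2, ρ, r1, r2⟩ := h1
  obtain ⟨y, y1, y2⟩ := h2
  have key : ∀ {f : X →* G} {β : MulAut X}, Ind f s β → (fx β).map f ≤ Cz s ∧
      ∀ y ∈ ⁅fx β, fx β⁆, y * y = 1 → f y ∈ e'.range ∨ s * f y ∈ e'.range := fun {f β} i => by
    have k1 : (fx β).map f ≤ Cz s := by rintro _ ⟨a, ha, rfl⟩; exact mem_Cz.2 (i.comm ha)
    refine ⟨k1, fun y hy y2 => ?_⟩
    have k2 : f y ∈ ⁅Cz s, Cz s⁆ := commutator_mono k1 k1 (map_commutator _ _ f ▸ mem_map_of_mem f hy)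
    have k3 := (is2_of_sq y2).map f
    obtain ⟨l, l1, -, l2⟩ := ab.cm _ k2 k3
    exact ae.inn _ (commutator_le_self _ k2) k3 ⟨l, l1, l2⟩
  have n3 := (map_mono n1).trans (key i1).1
  have n4 : N.map e₁ ≤ e'.range := ab.pf _ n3 (by rw [← map_commutator]; exact map_mono n2)
  have y3 := inv2_e c.ker₂ y2
  have y4 := mem_Cz.1 ((key i2).1 ⟨y, commutator_le_self _ y1, rfl⟩)
  obtain ⟨l, l1, l2, l3⟩ : ∃ l ∈ e'.range, Inv2 l ∧ N.map e₁ ≤ Cz l := by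
    have k : N.map e₁ ≤ Cz (e₂ y) := by rintro _ ⟨a, -, rfl⟩; exact mem_Cz.2 (c.comm a y).symm
    rcases (key i2).2 y y1 y2.1 with k1 | k1
    · exact ⟨_, k1, y3, k⟩
    · refine ⟨_, k1, ⟨by rw [mul_assoc, ← mul_assoc (e₂ y), ← y4, mul_assoc, y3.1, mul_one, h.inv.1],
        fun k2 => b1 ((i1.eq_one_iff c.ker).2 (c.le_Cs ⟨y⁻¹, by
          rw [map_inv, eq_inv_of_mul_eq_one_left k2]⟩))⟩, fun a ha => mem_Cz.2 ?_⟩
      rw [mul_assoc, mem_Cz.1 (k ha), ← mul_assoc, mem_Cz.1 (n3 ha), mul_assoc]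
  obtain ⟨g, g1, rfl⟩ := exists_sq_range h.ker l1 l2.1
  have g2 := (ind_conj (e := e') g).map_fx h.ker ((is2_of_sq g1).map MulAut.conj)
  rw [H64.SG.fx_conj] at g2
  exact r2 g ⟨g1, by rintro rfl; exact l2.2 (map_one _)⟩ (r1.trans ((rel_dvd c.ker N).trans
    ((card_dvd_of_le (g2 ▸ le_inf n4 l3)).trans (card_map_dvd _ _))))

theorem t_mem (h : CE e t) (c : CW e t e₁ e₂) : t ∈ Ns (G12 e₁ e₂) :=
  two_top (e₁ := e₁) (e₂ := e₂) ▸ c.t_mem_Ns h.inv.1 ⊤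

theorem le_G12 (h : CE e t) (c : CW e t e₁ e₂) : e.range ≤ G12 e₁ e₂ := IG_eq c h.toB1 ▸ le_IG

/-- The conjugates of `t` in `M` swap. -/
theorem wsw (h : CE e t) (c : CW e t e₁ e₂) (w : W0 t e₁ e₂) :
    ∀ s ∈ Ns (G12 e₁ e₂), IsConj t s → cjs s e₁.range = e₂.range := fun s hs h1 => by
  refine ((w.pm s hs).resolve_left fun ⟨h2, h3⟩ => ?_).1
  obtain ⟨g, rfl⟩ := isConj_iff.1 h1
  have h4 := h.cje g
  obtain ⟨ab, ae⟩ := H59.GB.A.jobAB X G (cje g e) (g * t * g⁻¹)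
  obtain ⟨β₁, i1⟩ := exists_ind c.ker h2
  obtain ⟨β₂, i2⟩ := exists_ind c.ker₂ h3
  obtain ⟨a1, a2⟩ := FH.fh β₁ (i1.sq c.ker h4.inv.1)
  obtain ⟨b1, b2⟩ := FH.fh β₂ (i2.sq c.ker₂ h4.inv.1)
  rcases a2 with ⟨P₁, p1, p2, p3⟩ | a2
  · rcases b2 with ⟨P₂, q1, q2, q3⟩ | b2
    · refine big (ae h4) (P := P₁.map e₁ ⊔ P₂.map e₂) (sup_le ?_ ?_) ?_ ?_
      · rintro _ ⟨a, ha, rfl⟩; exact mem_Cz.2 (i1.comm (p1 ha))
      · rintro _ ⟨a, ha, rfl⟩; exact mem_Cz.2 (i2.comm (q1 ha))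
      · exact (p2.map e₁).to_sup_of_normal_left' (q2.map e₂) (((map_le_range _ _).trans
          c.le_Cs).trans ((Cs_range_le _).trans (H64.SG.Cs_le_Ns _)))
      · rw [c.card_sup p2 q2, two_mul, pow_add]; exact Nat.mul_le_mul p3 q3
    · exact wu1 (c.symm h.inv.1) h4 (ab h4.b0) (ae h4) i2 i1 a1 b2
  · exact wu1 c h4 (ab h4.b0) (ae h4) i1 i2 b1 a2

theorem eb (h : CE e t) (c : CW e t e₁ e₂) (w : W0 t e₁ e₂) : EB e t (G12 e₁ e₂) :=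
  ⟨⟨h.inv, t_mem h c, fun g hg => w.ufs g (wsw h c w _ hg (isConj_iff.2 ⟨g, rfl⟩))⟩, le_G12 h c,
    w.odd, fun g hg => isConj_iff.2 ⟨e₁ g, by rw [wconj c hg, h.comm]⟩⟩

/-- The centraliser in `M` of a `2`-group `e A` with `C_{Aut X}(A) ≤ Mk l ≤ A`. -/
theorem cM (h : CE e t) (c : CW e t e₁ e₂) (w : W0 t e₁ e₂) {A : Subgroup X} (p0 : IsPGroup 2 A)
    {l : ℕ} (l1 : Rg X l) (p1 : Mk X l ≤ A)
    (hA : ∀ β : MulAut X, (∀ u ∈ A, β u = u) → β ∈ cI (Mk X l)) {m : G}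
    (m1 : m ∈ Ns (G12 e₁ e₂)) (m2 : m ∈ Cs (A.map e)) :
    (Is2 (cm m t) → cm m t ∈ A.map e) ∧ (Odd (orderOf m) → m ∈ Cs (G12 e₁ e₂)) := by
  have t1 := t_mem h c
  have le := le_G12 h c
  have key : ∀ m ∈ Ns e₁.range, m ∈ Ns e₂.range → m ∈ Cs (A.map e) →
      (Is2 (cm m t) → cm m t ∈ A.map e) ∧ m * m ∈ Cs (G12 e₁ e₂) := fun m a1 a2 a3 => by
    obtain ⟨β₁, i1⟩ := exists_ind c.ker a1
    obtain ⟨β₂, i2⟩ := exists_ind c.ker₂ a2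
    have k : ∀ u ∈ A, β₁ u = u ∧ β₂ u = u := fun u hu => by
      have u2 := isPGroup_iff_is2.1 p0 u hu
      refine c.inj2 (u2.map β₁.toMonoidHom) (u2.map β₂.toMonoidHom) u2 u2 ?_
      rw [← i1, ← i2, conj_mul, ← c.diag, ← a3 _ ⟨u, hu, rfl⟩, mul_inv_cancel_right]
    obtain ⟨ζ₁, z1, rfl⟩ := mem_cI.1 (hA β₁ fun u hu => (k u hu).1)
    obtain ⟨ζ₂, z2, rfl⟩ := mem_cI.1 (hA β₂ fun u hu => (k u hu).2)
    have k1 : m * (e₁ ζ₁ * e₂ ζ₂)⁻¹ ∈ Cs (G12 e₁ e₂) := by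
      rw [Cs, centralizer_sup]
      exact ⟨ind_one_iff.1 (by simpa using i1.mul (c.ind₁ ζ₁ ζ₂).inv),
        ind_one_iff.1 (by simpa using i2.mul (c.ind₂ ζ₁ ζ₂).inv)⟩
    have k0 : e₁ ζ₁ * e₂ ζ₂ ∈ G12 e₁ e₂ := c.mem_G12.2 ⟨_, _, rfl⟩
    have k2 : e₁ ζ₁ * e₂ ζ₂ * (e₁ ζ₁ * e₂ ζ₂) = 1 := by rw [c.mul_mul, FB.sqM l l1 _ z1, FB.sqM l l1 _ z2]; simp
    have k3 : cm (e₁ ζ₁ * e₂ ζ₂) t = e (ζ₁ * ζ₂) := by
      rw [cm, inv_eq_of_mul_eq_one_right k2, mul_assoc, mul_assoc, ← mul_assoc t, ← conj_mul, c.sw,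
        (c.symm h.inv.1).sw, ← c.comm, c.mul_mul, c.diag, Mk_le_Cs l1 z1 _ z2]
    obtain ⟨k, rfl⟩ : ∃ k, m = k * (e₁ ζ₁ * e₂ ζ₂) := ⟨m * _⁻¹, (inv_mul_cancel_right _ _).symm⟩
    rw [mul_inv_cancel_right] at k1
    refine ⟨fun k4 => ?_, ?_⟩
    · rw [cm_eq_of_odd w.odd (normalizer_le_normalizer_centralizer _ t1) k1 (k3 ▸ fun a ha =>
        (ha _ (le ⟨_, rfl⟩)).symm) (k3 ▸ (isPGroup_iff_is2.1 p0 _ (p1 (mul_mem z1 z2))).map e) k4, k3]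
      exact ⟨_, p1 (mul_mem z1 z2), rfl⟩
    · rw [mul_assoc, ← mul_assoc (e₁ ζ₁ * e₂ ζ₂), k1 _ k0, mul_assoc k, k2, mul_one]
      exact mul_mem k1 k1
  rcases w.pm m m1 with ⟨a1, a2⟩ | ⟨a1, a2⟩
  · exact ⟨(key m a1 a2 m2).1, H64.SG.mem_of_sq_mem (key m a1 a2 m2).2⟩
  · refine ⟨cm_mul_t (t := t) m ▸ (key (m * t) (cj_eq_self_iff.1 ?_) (cj_eq_self_iff.1 ?_)
      (mul_mem m2 (Cs_range_le _ h.cen))).1, fun ho => absurd ?_ (wne c)⟩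
    · rw [← cj_cj]; exact (congrArg _ c.cjs_range).trans a2
    · rw [← cj_cj]; exact (congrArg _ (c.symm h.inv.1).cjs_range).trans a1
    · have : m ∈ Ns e₁.range := H64.SG.mem_of_sq_mem (cj_eq_self_iff.1 (by
        rw [← cj_cj]; exact (congrArg _ a1).trans a2)) ho
      exact a1.ge.trans (cj_eq_self this).le

/-- An element of `C(L)` that stays in `C(L)` under `C_M(e U)` centralises `G₁`. -/
theorem gen (c : CW e t e₁ e₂) {o : G} (o1 : o ∈ Cs e.range)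
    (o2 : ∀ z ∈ ZZ X, (e₁ z)⁻¹ * o * (e₁ z)⁻¹⁻¹ ∈ Cs e.range) : o ∈ Cs (G12 e₁ e₂) := by
  obtain ⟨z, z0, z2⟩ := exists_ZZ (X := X)
  have z1 := o2 z z0
  have o3 : e.range ≤ Cz o := fun a ha => mem_Cz.2 (o1 a ha).symm
  refine fun a ha => (mem_Cz.1 (G12_le c o3 z0 z2 (fun a => mul_mem (mem_Cz.2 ?_)
    (inv_mem (o3 ⟨a, rfl⟩))) ha)).symm
  calc _ = e₁ z * ((e₁ z)⁻¹ * o * (e₁ z)⁻¹⁻¹ * e a) * (e₁ z)⁻¹ := by group
    _ = _ := by rw [← z1 _ ⟨a, rfl⟩]; group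

end H59.GB.W
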