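import Cfsg.Agent.H59.U5GW0

/-! STD-U5 (row S1778): `JobWU` of the type-free tower `H59.GB` (centralisers in the wreath case). -/

set_option autoImplicit false
set_option linter.unusedSectionVars false

namespace H59.GB.W

open H67 H67.GA

open H64.SG (O2 Syl Cz Cs Ns cjs Is2 Inv2 UF IsO2 fx mem_Cs mem_Cz mem_fx is2_of_sq
  isPGroup_iff_is2 mem_of_sq_mem odd_orderOf_of_mem)
open H57 H98 Subgroup H67.GA
open scoped commutatorElement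

universe u

section K6

variable {G : Type u} [Group G] {O : Subgroup G} {s t x : G}

theorem wu_dec (hO : Odd (Nat.card O)) (hn : t ∈ Ns O) (h2 : t * t = 1) (hx : x ∈ O) :
    ∃ i ∈ O, ∃ c ∈ O, t * i * t⁻¹ = i⁻¹ ∧ c * t = t * c ∧ x = i * c := by
  have hy : x * (t * x * t⁻¹)⁻¹ ∈ O := mul_mem hx (inv_mem (conj_mem_of_mem_normalizer hn hx))
  generalize hyd : x * (t * x * t⁻¹)⁻¹ = y at hy
  have e1 : t * y * t⁻¹ = y⁻¹ := by
    calc t * y * t⁻¹ = t * x * t⁻¹ * (t * t * x * (t * t)⁻¹)⁻¹ := by rw [← hyd]; group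
      _ = y⁻¹ := by rw [h2, ← hyd]; group
  obtain ⟨k, hk⟩ := mem_zpowers_iff.1 (mem_of_sq_mem (mem_zpowers (y * y)) (odd_orderOf_of_mem hO hy))
  have e2 : t * y ^ k * t⁻¹ = (y ^ k)⁻¹ := by rw [← conj_zpow, e1, inv_zpow]
  have e3 : y ^ k * y ^ k = y := by rw [← (Commute.refl y).mul_zpow, hk]
  refine ⟨y ^ k, zpow_mem hy k, (y ^ k)⁻¹ * x, mul_mem (inv_mem (zpow_mem hy k)) hx, e2,
    (mul_inv_eq_iff_eq_mul.1 ?_).symm, by group⟩
  calc t * ((y ^ k)⁻¹ * x) * t⁻¹ = (t * y ^ k * t⁻¹)⁻¹ * (x * (t * x * t⁻¹)⁻¹)⁻¹ * x := by group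
    _ = y ^ k * (y ^ k * y ^ k)⁻¹ * x := by rw [e2, e3, inv_inv, hyd]
    _ = (y ^ k)⁻¹ * x := by group

/-- K6': two involutions that commute modulo `C(O)`. -/
theorem k6' (hO : Odd (Nat.card O)) (hs : s ∈ Ns O) (ht : t ∈ Ns O) (s2 : s * s = 1) (t2 : t * t = 1)
    (h : s * t * (s * t) ∈ Cs O) (h1 : O ⊓ Cz s ≤ Cz (s * t)) (h2 : O ⊓ Cz t ≤ Cz (s * t)) :
    O ≤ Cz (s * t) := fun o ho => by
  obtain ⟨i, hi, c, hc, e1, e2, rfl⟩ := wu_dec hO ht t2 ho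
  refine mul_mem ?_ (h2 ⟨hc, mem_Cz.2 e2.symm⟩)
  obtain ⟨j, hj, d, hd, e3, e4, rfl⟩ := wu_dec hO hs s2 hi
  have e5 : s * t * d = d * (s * t) := mem_Cz.1 (h1 ⟨hd, mem_Cz.2 e4.symm⟩)
  have e6 : s * d * s⁻¹ = d := by rw [← e4, mul_inv_cancel_right]
  have e7 : t * d * t⁻¹ = d := by
    rw [mul_inv_eq_iff_eq_mul]
    exact mul_left_cancel (a := s) (by rw [← mul_assoc, e5, ← mul_assoc, e4, mul_assoc])
  have e8 : t * j * t⁻¹ = d⁻¹ * j⁻¹ * d⁻¹ := by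
    rw [← mul_inv_rev, ← e1, ← conj_mul, e7, mul_inv_cancel_right]
  have si : s⁻¹ = s := inv_eq_of_mul_eq_one_right s2
  have ti : t⁻¹ = t := inv_eq_of_mul_eq_one_right t2
  have e9 : s * (t * j * t⁻¹) * s⁻¹ = t * (s * j * s⁻¹) * t⁻¹ := by
    have e := h j hj
    rw [si, ti]
    calc s * (t * j * t) * s = t * s * (t * s * (s * s) * t * t)⁻¹ * (s * t * j * (t * s)) := by
          rw [s2, mul_one, mul_assoc (t * s) t, t2]; group
      _ = t * s * (s * t * (s * t) * j) * (t * s) := by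
          rw [s2, mul_one, mul_assoc (t * s) t, t2, mul_one, mul_inv_cancel, one_mul,
            show t * s * (s * t * (s * t) * j) * (t * s) = t * (s * s) * t * (s * t * j * (t * s)) by group,
            s2, mul_one, t2, one_mul]
      _ = t * (s * j * s) * t := by
          rw [← e, show t * s * (j * (s * t * (s * t))) * (t * s) = t * (s * j * s) * t * (s * (t * t) * s) by group,
            t2, mul_one, s2, mul_one]
  rw [e3, e8, ← conj_mul, ← conj_mul, ← conj_inv, ← conj_inv, ← conj_inv, e3, e6, e8] at e9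
  have e10 : d * d * j = j * (d * d)⁻¹ := by
    have : j = d * (d⁻¹ * j⁻¹ * d⁻¹)⁻¹ * d := by rw [← e9]; group
    calc d * d * j = (d * (d⁻¹ * j⁻¹ * d⁻¹)⁻¹ * d) * (d * d)⁻¹ := by group
      _ = _ := by rw [← this]
  have e11 : j ∈ Cz (d * d) := mem_of_sq_mem (mem_Cz.2 (by
    have e : (d * d)⁻¹ * j = j * (d * d) := by
      rw [inv_mul_eq_iff_eq_mul, ← mul_assoc, e10, inv_mul_cancel_right]
    rw [← mul_assoc, e10, mul_assoc, e, mul_assoc])) (odd_orderOf_of_mem hO hj)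
  have e12 : d = 1 := by
    have a := odd_orderOf_of_mem hO hd
    have b := odd_orderOf_of_mem hO (mul_mem hd hd)
    rw [mem_Cz.1 e11, mul_right_inj] at e10
    exact mem_bot.1 (mem_of_sq_mem (mem_of_sq_mem (mem_bot.2 (mul_eq_one_iff_eq_inv.2 e10)) b) a)
  rw [e12] at e8 ⊢
  rw [mul_one, mem_Cz, ← mul_inv_eq_iff_eq_mul]
  calc s * t * j * (s * t)⁻¹ = s * (t * j * t⁻¹) * s⁻¹ := by group
    _ = j := by rw [e8, inv_one, one_mul, mul_one, ← conj_inv, e3, inv_inv]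

end K6

variable {X : Type} [Group X] [Finite X] [Dat X] [Fa X] {G : Type u} [Group G] [Finite G]
  {e e₁ e₂ : X →* G} {t : G}

theorem D3_le : D3 X ≤ Qk X 2 := sup_le inf_le_right (Mk_le_Qk rg2)

theorem UU_le_Ns_D3 : UU X ≤ Ns (D3 X) := fun _ hu =>
  normalizer_inf_normalizer_le_normalizer_sup _ _
    ⟨inf_normalizer_le_normalizer_inf ⟨UU_le_Ns_Qk rg1 hu, UU_le_Ns_Qk rg2 hu⟩, UU_le_Ns_Mk rg2 hu⟩

theorem D3_le_Iv : D3 X ≤ Iv (PP X) :=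
  sup_le (inf_le_left.trans (FP.ivQ.trans (Iv_mono (QQ_le_UU.trans UU_le_PP))))
    fun m hm => mem_Iv (UU_le_PP (Mk_le_UU rg2 hm)) (FB.sqM 2 rg2 m hm)

theorem e1_mem (c : CW e t e₁ e₂) {A : Subgroup X} {m : X} (hm : m ∈ Cs A) : e₁ m ∈ Cs (A.map e) := by
  rintro _ ⟨a, ha, rfl⟩
  rw [c.diag, mul_assoc, ← c.comm, ← mul_assoc, ← mul_assoc, ← map_mul, ← map_mul, hm a ha]

theorem jobWU : JobWU.{u} := by
  intro X _ _ _ _ G _ _ e t e₁ e₂ hb c w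
  have h := eb hb c w
  have l1 : e.range ≤ Ns (G12 e₁ e₂) := h.le.trans le_normalizer
  have ht : ∀ A : Subgroup X, t ∈ Cs (A.map e) := fun A => Cs_range_le _ hb.cen
  have hC : ∀ A : Subgroup X, Cs (G12 e₁ e₂) ≤ Cs (A.map e) := fun A =>
    centralizer_le ((map_le_range _ _).trans h.le)
  let ok : Subgroup X → Prop := fun A => IsPGroup 2 A ∧ ∀ m ∈ Ns (G12 e₁ e₂), m ∈ Cs (A.map e) →
    (Is2 (cm m t) → cm m t ∈ A.map e) ∧ (Odd (orderOf m) → m ∈ Cs (G12 e₁ e₂))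
  have okQ : ∀ k, Rg X k → ok (Qk X k) := fun k hk => ⟨isP_Qk hk, fun m m1 m2 =>
    cM hb c w (isP_Qk hk) hk (Mk_le_Qk hk) (FA.ctK k hk) m1 m2⟩
  have okD : ok (D3 X) := ⟨(isP_Qk rg2).to_le D3_le, fun m m1 m2 =>
    cM hb c w ((isP_Qk rg2).to_le D3_le) rg2 le_sup_right FC.ct3 m1 m2⟩
  have key : ∀ A, ok A → Odd (Nat.card (O2 (Cs (A.map e)))) ∧
      ∀ g ∈ Cs (A.map e), ∃ o ∈ O2 (Cs (A.map e)), ∃ m ∈ Ns (G12 e₁ e₂), g = o * m :=
    fun A hA => by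
    obtain ⟨O, o1, o2, o3, o4⟩ := H9.UF.jobK5 h.uf (IsConj.refl t) h.uf.mem _
      (A.map e ⊓ Cs (A.map e)) (ht A)
      inf_le_right (H98.le_normalizer_of_le_centralizer (H98.centralizer_anti inf_le_left))
      ((hA.1.map e).to_le inf_le_left) (fun g hg _ => H98.centralizer_anti inf_le_left hg)
      (fun m a1 a2 a3 => ⟨(hA.2 m a2 a1).1 a3,
        (Cs _).mul_mem (mul_mem (mul_mem a1 (ht A)) (inv_mem a1)) (inv_mem (ht A))⟩)
    refine ⟨(H64.SG.odd_card_sup o3 h.odd ((hC A).trans o2)).of_dvd_nat (card_dvd_of_le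
      ((closure_le _).2 fun g hg => ?_)), fun g hg => ?_⟩
    · obtain ⟨o, ho, m, a1, a2, e⟩ := o4 g hg.1
      refine e ▸ mul_mem (mem_sup_left ho) (mem_sup_right ((hA.2 m a2 a1).2
        (H64.SG.odd_orderOf_of_pow_mem o3 hg.2 ?_)))
      have h0 := H64.SG.mul_pow_mem (inv_mem ho) (o2 hg.1) (orderOf g)
      rwa [pow_orderOf_eq_one, inv_one, mul_one, show o⁻¹ * g = m by rw [e]; group] at h0
    · obtain ⟨o, ho, m, -, a2, e⟩ := o4 g hg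
      exact ⟨o, H64.SG.mem_O2_of_odd (o1 ho) (odd_orderOf_of_mem o3 ho), m, a2, e⟩
  have oM : ∀ A, ok A → O2 (Cs (A.map e)) ⊓ Ns (G12 e₁ e₂) ≤ Cs (G12 e₁ e₂) := fun A hA o ho =>
    (hA.2 o ho.2 (H64.SG.O2_le _ ho.1)).2 (odd_orderOf_of_mem (key A hA).1 ho.1)
  have nO : ∀ A : Subgroup X, Ns (A.map e) ≤ Ns (O2 (Cs (A.map e))) := fun A =>
    (H98.normalizer_le_normalizer_centralizer _).trans (H64.SG.Ns_le_Ns_O2 _)
  have h1 : ∀ A, ok A → ∀ B H : Subgroup X, B ≤ Iv H → H ≤ Ns A →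
      O2 (Cs (A.map e)) ≤ Cs (B.map e) := fun A hA B H a1 a2 o ho =>
    mem_Cs_map_Iv a1 fun v v1 v2 => mem_Cz.1 (H9.UF.jobK6 h.uf (IsConj.refl t) h.uf.mem
      (h.tx v v2) (l1 ⟨v, rfl⟩) (by rw [← map_mul, v2, map_one]) (hb.comm v) _ (key A hA).1
      (H64.SG.Ns_le_Ns_O2 _ (le_normalizer (ht A))) (nO A (map_mem_Ns (a2 v1)))
      (fun o ho => mem_Cz.2 (oM A hA ho _ (h.le ⟨v, rfl⟩))) ho)
  have h2 : ∀ A B : Subgroup X, ok A → O2 (Cs (A.map e)) ≤ Cs (B.map e) →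
      O2 (Cs (A.map e)) ≤ O2 (Cs (B.map e)) := fun A B hA a o ho =>
    H64.SG.mem_O2_of_odd (a ho) (odd_orderOf_of_mem (key A hA).1 ho)
  have hP : PP X ≤ Ns (QQ X) := fun p hp => by
    have := (FI.qk 1 (rg1 (X := X))).2.1
    exact this (mem_Cz.2 (PP_le_Cs hp _ (FB.xM 1 rg1)))
  have h3 := h1 _ (okQ 1 rg1) _ _ le_rfl hP
  have ti : t⁻¹ = t := hb.inv_eq
  have cu : ∀ u ∈ Qk X 2, e₁ u * e₂ u⁻¹ ∈ Cs (O2 (Cs ((D3 X).map e))) := fun u hu => by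
    have u2 := FB.sqQ 2 rg2 u hu
    have u4 := FB.sqM 2 rg2 _ u2
    have e0 : e₁ u * t * (e₁ u)⁻¹ * t = e₁ u * e₂ u⁻¹ := by rw [← c.sw, map_inv, ti]; group
    have n1 : e₁ u * e₂ u⁻¹ ∈ Ns ((D3 X).map e) := by
      rw [show e₁ u * e₂ u⁻¹ = e u * e₂ (u * u)⁻¹ by rw [c.diag, mul_assoc, ← map_mul]; congr 2; group]
      exact mul_mem (map_mem_Ns (UU_le_Ns_D3 (Qk_le_UU rg2 hu))) (H64.SG.Cs_le_Ns _ (e1_mem (c.symm hb.inv.1)
        (centralizer_le D3_le (le_centralizer_iff.1 (FB.QM 2 rg2) (inv_mem u2)))))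
    have t1 : t ∈ Ns (O2 (Cs ((D3 X).map e))) := H64.SG.Ns_le_Ns_O2 _ (le_normalizer (ht _))
    have g1 : e₁ u ∈ G12 e₁ e₂ := mem_sup_left ⟨u, rfl⟩
    have k : ∀ s, UF (Ns (G12 e₁ e₂)) s →
        O2 (Cs ((D3 X).map e)) ⊓ Cz s ≤ Cz (e₁ u * t * (e₁ u)⁻¹ * t) := fun s hs o ho =>
      mem_Cz.2 (oM _ okD ⟨ho.1, H9.UF.cz_le hs ho.2⟩ _ (e0 ▸ c.mem_G12.2 ⟨_, _, rfl⟩))
    have := k6' (s := e₁ u * t * (e₁ u)⁻¹) (key _ okD).1
      ((mul_mem_cancel_right t1).1 (e0 ▸ nO _ n1)) t1 (by rw [conj_mul, hb.inv.1]; simp) hb.inv.1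
      (by
        rw [e0, c.mul_mul, ← mul_inv_rev, inv_eq_of_mul_eq_one_right u4, ← c.diag]
        exact fun o ho => (H64.SG.O2_le _ ho _ ⟨_, mem_sup_right u2, rfl⟩).symm)
      (k _ (H9.UF.of_conj h.uf (isConj_iff.2 ⟨_, rfl⟩) (mul_mem (mul_mem (le_normalizer g1) h.uf.mem)
        (inv_mem (le_normalizer g1))))) (k _ h.uf)
    rw [e0] at this
    exact fun o ho => (mem_Cz.1 (this ho)).symm
  have m2 : Mk X 2 ≤ (Cs (O2 (Cs ((D3 X).map e)))).comap e₂ := FG.cm2.trans (commutator_le.2 fun u hu v hv => by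
    have := mul_mem (inv_mem (cu _ (mul_mem hu hv))) (mul_mem (cu u hu) (cu v hv))
    rw [c.mul_mul, mul_inv_rev, mul_assoc, inv_mul_cancel_left, ← map_inv, ← map_mul, inv_inv, ← mul_assoc] at this
    exact this)
  have hc : O2 (Cs ((D3 X).map e)) ≤ Cs ((Qk X 2).map e) := le_centralizer_iff.1 (by
    rintro _ ⟨u, hu, rfl⟩
    have := mul_mem (cu u hu) (m2 (FB.sqQ 2 rg2 u hu))
    rwa [mul_assoc, ← map_mul, inv_mul_cancel_left, ← c.diag] at this)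
  have h4 : O2 (Cs ((QQ X).map e)) ≤ Cs e.range := by
    rw [MonoidHom.range_eq_map, ← FP.top, Subgroup.map_sup]
    exact le_centralizer_iff.1 (sup_le (le_centralizer_iff.2 h3) (le_centralizer_iff.2
      ((h2 _ _ (okQ 1 rg1) ((h2 _ _ (okQ 1 rg1) (h3.trans (centralizer_le (map_mono D3_le_Iv)))).trans
        hc)).trans (h1 _ (okQ 2 rg2) _ _ FP.ivS FP.SN))))
  have fin : ∀ A, ok A → UU X ≤ Ns A → Cs (A.map e) ≤ Ns (G12 e₁ e₂) := fun A hA hU g hg => by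
    obtain ⟨o, ho, m, hm, rfl⟩ := (key A hA).2 g hg
    have h5 := h2 A _ hA (h1 A hA _ _ FP.ivQ (QQ_le_UU.trans hU)) ho
    exact mul_mem (H64.SG.Cs_le_Ns _ (gen c (h4 h5) fun z hz => h4 (H98.conj_mem_of_mem_normalizer
      (H64.SG.Ns_le_Ns_O2 _ (le_normalizer (inv_mem (e1_mem c (le_centralizer_iff.1 (FB.QM 1 rg1) hz))))) h5))) hm
  exact ⟨⟨⟨h, fun k hk => fin _ (okQ k hk) (UU_le_Ns_Qk hk)⟩, w.ne, w.pm, w.chg, w.ufs, wsw hb c w⟩,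
    fin _ okD UU_le_Ns_D3⟩

end H59.GB.W
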