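import Cfsg.Agent.H67.SAAsm
import Cfsg.Agent.H59.U5GJA
import Cfsg.Agent.H59.U5GJB
import Cfsg.Agent.H59.U5GH
import Cfsg.Agent.H59.U5GW0
import Cfsg.Agent.H59.U5GW1
import Cfsg.Agent.H59.U5GNQ
import Cfsg.Agent.H59.U5GWE
import Cfsg.Agent.H59.U5GP2
import Cfsg.Agent.H59.U5GWU

/-! STD-U5: the type-free assembly.  In the configuration `Cfg` the construction ends in the field
case. -/

set_option autoImplicit false
set_option linter.unusedSectionVars false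

namespace H59.GB

open H67 H67.GA

open H64.SG (O2 Syl Cz Cs Ns cjs Is2 Inv2 UF IsO2 fx mem_Cs mem_Cz Cfg Cov)
open H57 Subgroup Cfsg
open scoped commutatorElement

universe u

variable {X : Type} [Group X] [Finite X] [Dat X] [Fa X] {G : Type u} [Group G] [Finite G]
  {F₀ L : Subgroup G} {t : G}

theorem range_le_F0 {Y : Type} [Group Y] (hp : commutator Y = ⊤) (h : Cfg F₀ L t) (e : Y →* G) :
    e.range ≤ F₀ := by
  have := h.normal
  have key : ∀ g : G, (g : G ⧸ F₀) = 1 ∨ (g : G ⧸ F₀) = (t : G ⧸ F₀)⁻¹ := fun g => by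
    rcases h.top g with h1 | h1
    · exact Or.inl ((QuotientGroup.eq_one_iff g).2 h1)
    · exact Or.inr (eq_inv_of_mul_eq_one_left ((QuotientGroup.eq_one_iff (g * t)).2 h1))
  rintro _ ⟨s, rfl⟩
  refine (QuotientGroup.eq_one_iff _).1 (hom_eq_one' hp ((QuotientGroup.mk' F₀).comp e)
    (fun a b => ?_) s)
  change (e a : G ⧸ F₀) * (e b : G ⧸ F₀) = (e b : G ⧸ F₀) * (e a : G ⧸ F₀)
  rcases key (e a) with h1 | h1 <;> rcases key (e b) with h2 | h2 <;> simp [h1, h2]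

theorem core {Y : Type} [Group Y] [Finite Y] {ι : X →* Y} {τ : MulAut Y} (hB : Big ι τ)
    (hH : ∀ (G : Type u) [Group G] [Finite G] (e : X →* G) (t : G), CH e t → CP e t → Res e t ι τ)
    {e : X →* G} (hk : e.ker ≤ center X) (h : Cfg F₀ e.range t) : CE e t ∧ ∃ Φ, CF e t ι τ Φ := by
  have b0 : B0 e t := ⟨⟨hk, h.inv, h.tL, h.ct⟩, h.cyc⟩
  have t2 : orderOf t = 2 := orderOf_eq_prime (by rw [pow_two, h.inv.1]) h.inv.2
  have i0 := H59.GB.W.inv2_x0 hk
  have h1 : ∃ s, IsConj t s ∧ s ≠ t ∧ s * t = t * s := by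
    by_contra hc
    push Not at hc
    have hO : oddCore G = ⊥ := h.normal_eq_bot fun h1 => i0.2 ((H64.SG.is2_of_sq i0.1).eq_one
      (H64.SG.odd_orderOf_of_mem H99.odd_card_oddCore (h1 (h.le ⟨_, rfl⟩))))
    have h2 := H84.zstar_center H14.zstarThm hO ⟨t2, fun g hg => by
      by_contra h3
      exact hc _ (isConj_iff.2 ⟨g, rfl⟩) h3 hg.symm⟩
    exact h.inv.2 (mem_bot.1 (h.cent ▸ fun a _ => mem_center_iff.1 h2 a))
  have ev : Even (Nat.card (Cs e.range)) := even_iff_two_dvd.2 (t2 ▸ orderOf_dvd_natCard _ h.tL)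
  have h2 : Ns (Cs e.range) ≤ Ns (e.range : Subgroup G) := fun g hg => by
    by_contra h3
    have h4 := h.te g h3
    rw [show H64.SG.cjs g (Cs e.range) = Cs e.range from mem_St_iff_map.1 (conj_mem_St.2 hg), inf_idem] at h4
    exact Nat.not_even_iff_odd.2 h4 ev
  have ca := H59.GB.A.jobJA X G e t b0
    ⟨ev, fun g hg => h.te g fun h3 => hg (H98.normalizer_le_normalizer_centralizer _ h3)⟩ h2
    (H59.GB.A.jobJB X G e t b0 h1)
  refine ⟨ca.toCE, (H59.GB.H.jobH X Y ι τ hB (fun G _ _ e t c =>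
    hH G e t c (H59.GB.P.jobP2a X G e t c)) G e t ca).resolve_right ?_⟩
  rintro ⟨e₁, e₂, c⟩
  have w0 := H59.GB.W.jobW0 X G e t e₁ e₂ ca.toCE c
  have gx := H59.GB.W.jobWU X G e t e₁ e₂ ca.toCE c w0
  have h3 := H59.GB.K.jobNQ X G e t e₁ e₂ ca.toCE c gx.toGW
  have h4 := H59.GB.W3.jobWE_of H59.GB.W.jobWU X G e t e₁ e₂ ca.toCE c gx fun W w1 w2 w3 m hm =>
    (H59.GB.K.jobW1 X G e t e₁ e₂ ca.toCE c gx.toGW W w1 w2 w3 m hm).elim (h3 m) fun q =>
      (mul_mem_cancel_left (H59.GB.W.t_mem ca.toCE c)).1 (h3 _ q)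
  have : (G12 e₁ e₂).Normal := normalizer_eq_top_iff.1 h4
  have i1 := H59.GB.W.inv2_x0 c.ker
  have h5 : F₀ ≤ G12 e₁ e₂ := by
    by_contra h5
    exact i1.2 (mem_bot.1 (h.normal_eq_bot h5 ▸ mem_sup_left ⟨_, rfl⟩))
  have h6 := range_le_F0 perfect h e₁
  rcases h.simple.eq_bot_or_eq_top_of_normal (e₁.range.subgroupOf F₀)
    ((normal_subgroupOf_iff_le_normalizer h6).2 (h5.trans c.G12_le_Ns)) with h7 | h7
  · exact i1.2 (mem_bot.1 ((subgroupOf_eq_bot.1 h7).eq_bot ▸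
      (⟨⟨_, rfl⟩, h6 ⟨_, rfl⟩⟩ : _ ∈ e₁.range ⊓ F₀)))
  · exact (H59.GB.W.inv2_x0 c.ker₂).2 (mem_bot.1 (h.cent ▸
      centralizer_le (subgroupOf_eq_top.1 h7) (c.le_Cs ⟨_, rfl⟩)))

/-- A quasisimple group with central quotient `X / Z(X)` is an image of `X`. -/
theorem exists_e (hL : IsQuasisimple L) (π : L →* X ⧸ center X) (hs : Function.Surjective π)
    (hz : π.ker ≤ center L) : ∃ e : X →* G, e.ker ≤ center X ∧ e.range = L := by
  obtain ⟨φ, hφ⟩ := H21.exists_lift_of_perfect perfect FO.mult (QuotientGroup.mk' (center X)) hs hz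
  refine ⟨L.subtype.comp φ, fun s h => (QuotientGroup.eq_one_iff s).1 ?_, ?_⟩
  · have : φ s = 1 := Subtype.ext h
    change QuotientGroup.mk' (center X) s = 1
    rw [← hφ, this, map_one]
  have h1 : φ.range = ⊤ := by
    have h2 : ∀ l : L, ∃ g ∈ φ.range, ∃ z ∈ center L, l = g * z := fun l => by
      obtain ⟨s, h⟩ := QuotientGroup.mk'_surjective _ (π l)
      exact ⟨φ s, ⟨s, rfl⟩, (φ s)⁻¹ * l, hz (by
        rw [MonoidHom.mem_ker, map_mul, map_inv, hφ, h, inv_mul_cancel]), by group⟩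
    rw [eq_top_iff, ← hL.1.commutator_eq_top, commutator_def, commutator_le]
    intro a _ b _
    obtain ⟨g, g1, z, z1, rfl⟩ := h2 a
    obtain ⟨g', g2, z', z2, rfl⟩ := h2 b
    have e1 : ⁅g * z, g' * z'⁆ = g * g' * g⁻¹ * g'⁻¹ := by
      rw [commutatorElement_def, mul_assoc g z, ← mem_center_iff.1 z1 (g' * z'),
        mem_center_iff.1 z2 g', show g * (z' * g' * z) * (g * z)⁻¹ * (z' * g')⁻¹ =
          g * z' * (g' * g⁻¹ * g'⁻¹) * z'⁻¹ by group, mul_assoc g z',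
        ← mem_center_iff.1 z2 (g' * g⁻¹ * g'⁻¹)]
      group
    rw [e1]
    exact mul_mem (mul_mem (mul_mem g1 g2) (inv_mem g1)) (inv_mem g2)
  rw [← MonoidHom.map_range, h1, ← MonoidHom.range_eq_map, range_subtype]

end H59.GB
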