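import Cfsg.Agent.H59.U5K0

/-! STD-U5: `JobCB`, `JobCC` (port of the UM file). -/

set_option autoImplicit false
set_option linter.unusedSectionVars false

namespace H59.UV

open H67

open H64.SG (O2 Syl Cz Cs Ns cjs Is2 Inv2 UF IsO2 fx mem_Cs mem_Cz is2_of_sq)
open Matrix H57 Subgroup
open H67.SA (SLn Au la St cI cm)
open H67.GA (Ind B1 CE CH CP CW CF)

universe u

variable {n : ℕ} {K : Type} [Field K] [StarRing K] [CharP K 2] [Finite K] [hp : Par n K] [FQ K]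
  [FV n K] [FW n K] [H59.GB.Fa (XU n K)] {G : Type u} [Group G] [Finite G] {e : XU n K →* G} {t : G}
  {τ : Vn n K → G} {u y₁ y₂ y₁' y₂' x₁ x₂ : Vn n K} {k k' l z : G}

theorem tr_add (a b : K) : tr (a + b) = tr a + tr b := by simp only [tr, star_add]; ring
theorem tr_hf (x y : Vn n K) : tr (hf x y) = tr (hf y x) := by rw [tr, tr, star_hf, star_hf, add_comm]
theorem tr_star (a : K) : tr (star a) = tr a := by rw [tr, tr, star_star, add_comm]
theorem tr_mul {a : K} (ha : star a = a) (b : K) : tr (a * b) = a * tr b := by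
  rw [tr, tr, star_mul', ha, mul_add]

theorem Pp.addB {u v w : Vn n K} (h1 : Pp u v) (h2 : Pp u w) (h3 : Pp v w) : Pp u (v + w) :=
  ⟨h1.l, h3.iso_add, by rw [hf_add_right, h1.p, h2.p, add_zero]⟩
theorem Iso.ppB {u : Vn n K} (h : Iso u) : Pp u u := ⟨h, h, h⟩
theorem Pp.smulB {u v : Vn n K} (h : Pp u v) (a : K) : Pp u (a • v) := by
  simpa using h.smul 1 a
theorem sig_symmB (T : TA e t τ) {u v : Vn n K} (h1 : Pp u v) : sig τ v u = sig τ u v := by
  rw [sig, sig, add_comm, mul_assoc, T.comm u v h1, mul_assoc]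

namespace CL

variable (C : CL e t τ)
include C

theorem zzero (hu : Iso u) : zt e τ u 0 0 = 1 := by
  have := C.zmul u 0 0 0 0 hu (star_zero K) (star_zero K) (star_zero K) (star_zero K)
  rwa [add_zero, left_eq_mul] at this

theorem zsq (hu : Iso u) (hz : InZ e τ u z) : z * z = 1 := by
  obtain ⟨a, b, ha, hb, rfl⟩ := hz
  rw [← C.zmul u a b a b hu ha hb ha hb, CharTwo.add_self_eq_zero, CharTwo.add_self_eq_zero, C.zzero hu]

theorem zext (h0 : u ≠ 0) (hu : Iso u) {a b a' b' : K} (ha : star a = a) (hb : star b = b)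
    (ha' : star a' = a') (hb' : star b' = b') (h : zt e τ u a b = zt e τ u a' b') : a = a' ∧ b = b' := by
  obtain ⟨h1, h2⟩ := C.zinj u (a + a') (b + b') h0 hu (by simp [ha, ha']) (by simp [hb, hb']) (by
    rw [C.zmul u a b a' b' hu ha hb ha' hb', h, C.zsq hu ⟨_, _, ha', hb', rfl⟩])
  exact ⟨by linear_combination h1 - a' * two0 K, by linear_combination h2 - b' * two0 K⟩

variable (h0 : u ≠ 0) (hu : Iso u)
include h0 hu

/-- Two elements of the same class differ by an element of `Z*`. -/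
theorem eq_mul (h : Cl e t τ u k y₁ y₂) (h' : Cl e t τ u k' y₁ y₂) : ∃ z, InZ e τ u z ∧ k = k' * z :=
  ⟨_, C.rigid u _ h0 hu (by simpa using C.mul _ _ _ _ _ _ _ hu (C.inv _ _ _ _ hu h') h),
    (mul_inv_cancel_left _ _).symm⟩

theorem cm_mem (h : Cl e t τ u k y₁ y₂) (h' : Cl e t τ u k' y₁' y₂') : InZ e τ u (cm k k') :=
  C.rigid u _ h0 hu (by
    have := C.mul _ _ _ _ _ _ _ hu (C.mul _ _ _ _ _ _ _ hu (C.mul _ _ _ _ _ _ _ hu h h')
      (C.inv _ _ _ _ hu h)) (C.inv _ _ _ _ hu h')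
    rwa [add_right_comm y₁, add_right_comm y₂, v_add_self, v_add_self, zero_add, zero_add, v_add_self,
      v_add_self] at this)

theorem cm_symm (h : Cl e t τ u k y₁ y₂) (h' : Cl e t τ u k' y₁' y₂') : cm k k' = cm k' k := by
  rw [← inv_eq_of_mul_eq_one_right (C.zsq hu (C.cm_mem h0 hu h h'))]; simp only [cm]; group

theorem cm_mul (h : Cl e t τ u k y₁ y₂) (h' : Cl e t τ u k' y₁' y₂') (h'' : Cl e t τ u l x₁ x₂) :
    cm k (k' * l) = cm k k' * cm k l := by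
  rw [← mul_inv_cancel_right (cm k l) k', ← h'.c1 _ (C.cm_mem h0 hu h h'')]; simp only [cm]; group

theorem mul_cm (h : Cl e t τ u k y₁ y₂) (h' : Cl e t τ u k' y₁' y₂') (h'' : Cl e t τ u l x₁ x₂) :
    cm (k * k') l = cm k l * cm k' l := by
  rw [C.cm_symm h0 hu (C.mul _ _ _ _ _ _ _ hu h h') h'', C.cm_mul h0 hu h'' h h', C.cm_symm h0 hu h'' h,
    C.cm_symm h0 hu h'' h']

theorem cm_congr (h : Cl e t τ u k y₁ y₂) (h' : Cl e t τ u k' y₁' y₂') (h'' : Cl e t τ u l y₁' y₂') :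
    cm k k' = cm k l := by
  obtain ⟨z, z1, rfl⟩ := C.eq_mul h0 hu h' h''
  rw [C.cm_mul h0 hu h h'' (C.zcl _ _ hu z1), GA.cm_eq_one.2 (h.c1 z z1), mul_one]

theorem cm_congr₂ {l' : G} (h : Cl e t τ u k y₁ y₂) (h' : Cl e t τ u k' y₁' y₂')
    (g : Cl e t τ u l y₁ y₂) (g' : Cl e t τ u l' y₁' y₂') : cm k k' = cm l l' := by
  rw [C.cm_congr h0 hu h h' g', C.cm_symm h0 hu h g', C.cm_congr h0 hu g' h g, C.cm_symm h0 hu g' g]

/-- The commutator with an element of class `(x, 0)`. -/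
theorem cm_e (h : Cl e t τ u k y₁ y₂) (h' : Cl e t τ u k' x₁ 0) :
    cm k k' = zt e τ u (tr (hf y₁ x₁)) (tr (hf y₂ x₁)) := by
  obtain ⟨c, hc⟩ := FQ.trs (hf x₁ x₁) (star_hf _ _)
  have o : Ok u x₁ c := ⟨hu, h'.p1, hc⟩
  rw [C.cm_congr h0 hu h h' (C.cl_e _ _ _ o), h.c2 _ _ o, tr_hf, tr_hf x₁]

/-- The second coordinate of the commutator of two elements of class `(0, y)`. -/
theorem cm_snd (h : Cl e t τ u k 0 y₂) (h' : Cl e t τ u k' 0 y₂') :
    ∃ a, star a = a ∧ cm k k' = zt e τ u a (tr (hf y₂ y₂')) := by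
  obtain ⟨a, b, ha, hb, h1⟩ := C.cm_mem h0 hu h h'
  obtain ⟨l, hl⟩ := C.exist u y₂ 0 hu h.p2 (hf_zero_left _)
  obtain ⟨l', hl'⟩ := C.exist u y₂' 0 hu h'.p2 (hf_zero_left _)
  have h2 : cm (t * k * t⁻¹) (t * k' * t⁻¹) = zt e τ u (a + b) b := by
    rw [← C.zt_t u a b hu ha hb, ← h1]; simp only [cm]; group
  have h3 := C.mul _ _ _ _ _ _ _ hu h hl
  have h4 := C.mul _ _ _ _ _ _ _ hu h' hl'
  rw [add_zero] at h3 h4
  have s := star_tr (hf y₂ y₂')
  rw [C.cm_congr₂ h0 hu (C.conj_t _ _ _ _ hu h) (C.conj_t _ _ _ _ hu h') h3 h4,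
    C.cm_mul h0 hu h3 h' hl', C.cm_e h0 hu h3 hl', C.mul_cm h0 hu h hl h', C.cm_symm h0 hu hl h',
    C.cm_e h0 hu h' hl, h1, zero_add, hf_zero_left, tr_hf y₂',
    ← C.zmul _ _ _ _ _ hu ha hb (star_tr _) s,
    ← C.zmul _ _ _ _ _ hu (by simp [ha]) (by rw [star_add, hb, s]) s s] at h2
  have h5 := (C.zext h0 hu (by rw [star_add, star_add, ha, s, star_tr])
    (by rw [star_add, star_add, hb, s]) (by rw [star_add, ha, hb]) hb h2).1
  refine ⟨a, ha, ?_⟩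
  rw [h1, show b = tr (hf y₂ y₂') by simpa using h5.symm]

end CL

theorem sig_conj (T : TA e t τ) {u v : Vn n K} (h : Pp u v) (g : XU n K) :
    e g * sig τ v u * (e g)⁻¹ = sig τ (ac g v) (ac g u) := by
  simp only [sig, ← conj_mul, T.eqv g _ h.l, T.eqv g _ h.r, T.eqv g _ h.iso_add, ac_add]

theorem jobCB : JobCB.{u} := by
  intro n K _ _ _ _ hp _ _ _ _ _ _ G _ _ e t h τ T C
  have i0 : (0 : Fin (n + 1)).val < 2 := by simp
  have i1 : (1 : Fin (n + 1)).val < 2 := by rw [v1 K]; omega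
  have I : ∀ {i j : Fin (n + 1)}, i.val < 2 → j.val < 2 → i ≠ j.rev := fun hi hj q => by
    have := congrArg Fin.val q
    have := hp.five
    simp only [Fin.val_rev] at *
    omega
  have u0 := iso0 (n := n) (K := K)
  have n0 := ev_ne (K := K) (0 : Fin (n + 1))
  have p1 := pp01 (n := n) (K := K)
  have p2 : Pp (ev 0 : Vn n K) (ev (Fin.rev 1)) := pp_ev (I i0 i0)
    (by rw [Fin.rev_rev]; exact (I i1 i1).symm) (by rw [Ne, Fin.rev_inj]; exact (ne01 (K := K)).symm)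
  have p3 : ∀ c : K, Pp (ev 0 : Vn n K) (star c • ev (Fin.rev 1)) := fun c => p2.smulB _
  have h1 : ∀ c : K, hf (ev 1 : Vn n K) (star c • ev (Fin.rev 1)) = c := fun c => by
    simp [hf_smul_right, hf_ev]
  choose f f1 f2 using fun c : K => C.cm_snd n0 u0 (C.cl_s _ _ p1) (C.cl_s _ _ (p3 c))
  simp only [h1] at f2
  have fa : ∀ c d, f (c + d) = f c + f d := fun c d => by
    have := f2 (c + d)
    rw [star_add, add_smul, T.sadd _ _ _ (p3 c) (p3 d) (p2.r.ppB.smul _ _), C.cm_mul n0 u0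
      (C.cl_s _ _ p1) (C.cl_s _ _ (p3 c)) (C.cl_s _ _ (p3 d)), f2, f2,
      ← C.zmul _ _ _ _ _ u0 (f1 c) (star_tr _) (f1 d) (star_tr _)] at this
    exact (C.zext n0 u0 (by rw [star_add, f1, f1]) (by rw [star_add, star_tr, star_tr]) (f1 _)
      (star_tr _) this).1.symm
  have f0 : f 0 = 0 := by simpa using fa 0 0
  have key : ∀ u v w, u ≠ 0 → Pp u v → Pp u w →
      cm (sig τ v u) (sig τ w u) = zt e τ u (f (hf v w)) (tr (hf v w)) := fun u v w hu q1 q2 => by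
    by_cases hc : hf v w = 0
    · have q3 : Pp v w := ⟨q1.r, q2.r, hc⟩
      rw [hc, f0, show tr (0 : K) = 0 by simp, C.zzero q1.l, GA.cm_eq_one, ← T.sadd _ _ _ q1 q2 q3,
        ← T.sadd _ _ _ q2 q1 q3.symm, add_comm]
    obtain ⟨g, g1, g2, g3⟩ := FW.wh1 u v w q1 q2 hu hc
    generalize hf v w = c at *
    rw [← g1, ← g2, ← g3, ← sig_conj T p1, ← sig_conj T (p3 c), ← C.zconj g _ _ _ u0 (f1 c), ← f2]
    simp only [cm]; group
  have fs : ∀ c, f (star c) = f c := fun c => by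
    have := key _ _ _ n0 (p3 c) p1
    rw [C.cm_symm n0 u0 (C.cl_s _ _ (p3 c)) (C.cl_s _ _ p1), f2, ← star_hf, h1] at this
    exact (C.zext n0 u0 (f1 _) (star_tr _) (f1 _) (star_tr _) this).1.symm
  have fn : ∀ a c, f (nm a * c) = nm a * f c := fun a c => by
    by_cases ha : a = 0
    · simp [ha, f0]
    have q1 : Pp (a • ev 0 : Vn n K) (ev 1) := (p1.symm.smulB a).symm
    have q2 := ((p3 c).symm.smulB a).symm
    have k1 := (C.scale a _ _ _ _ ha u0).1 (C.cl_s _ _ q1)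
    have k2 := (C.scale a _ _ _ _ ha u0).1 (C.cl_s _ _ q2)
    rw [smul_zero] at k1 k2
    have := key _ _ _ (smul_ne_zero ha n0) q1 q2
    rw [C.cm_congr₂ n0 u0 k1 k2 (C.cl_s _ _ (p1.smulB _)) (C.cl_s _ _ ((p3 c).smulB _)),
      key _ _ _ n0 (p1.smulB _) ((p3 c).smulB _), C.zsmul _ _ _ _ u0 (star_tr _),
      hf_smul_left, hf_smul_right, h1, star_star, ← mul_assoc, mul_comm (star a)] at this
    exact (C.zext n0 u0 (f1 _) (star_tr _) (by rw [star_mul', star_nm, f1])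
      (by rw [star_mul', star_nm, star_tr]) this).1
  have fF : ∀ a c, star a = a → f (a * c) = a * f c := fun a c ha => by
    have : nm (rt a) = a := by rw [nm, FQ.star_rt, ha, ← pow_two, rt_sq]
    rw [← this, fn]
  obtain ⟨η, hη⟩ := FQ.eta (K := K)
  have ff : ∀ c, f c = f η * tr c := fun c => by
    have h2 : star (c + tr c * η) = c + tr c * η := by
      rw [← tr_eq_zero, tr_add, tr_mul (star_tr c), hη, mul_one, CharTwo.add_self_eq_zero]
    obtain ⟨d, hd⟩ := FQ.trs _ h2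
    have h3 : f (c + tr c * η) = 0 := by rw [← hd, tr, fa, fs, CharTwo.add_self_eq_zero]
    rw [fa, fF _ _ (star_tr c)] at h3
    linear_combination h3 - tr c * f η * two0 K
  refine ⟨f η, f1 η, fun u k k' y₁ y₂ y₁' y₂' h0 hu c c' => ?_⟩
  have s : ∀ a, star (f η * tr a) = f η * tr a := fun a => by rw [star_mul', f1, star_tr]
  have ad : ∀ a b : K, zt e τ u (f η * tr (a + b)) (tr (a + b)) =
      zt e τ u (f η * tr a) (tr a) * zt e τ u (f η * tr b) (tr b) := fun a b => by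
    rw [tr_add, mul_add, C.zmul _ _ _ _ _ hu (s _) (star_tr _) (s _) (star_tr _)]
  have two : ∀ y, hf y u = 0 → ∀ y', hf y' u = 0 → ∀ k k', Cl e t τ u k 0 y → Cl e t τ u k' 0 y' →
      cm k k' = zt e τ u (f η * tr (hf y y')) (tr (hf y y')) := by
    refine FW.span u hu _ (fun v hv => FW.span u hu _ (fun w hw k k' c c' => ?_)
      fun x y hx hy Hx Hy k k' c c' => ?_) fun x y hx hy Hx Hy y' hy' k k' c c' => ?_
    · rw [C.cm_congr₂ h0 hu c c' (C.cl_s _ _ hv) (C.cl_s _ _ hw), key _ _ _ h0 hv hw, ff]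
    · obtain ⟨a, ha⟩ := C.exist u 0 x hu (hf_zero_left _) hx
      obtain ⟨b, hb⟩ := C.exist u 0 y hu (hf_zero_left _) hy
      rw [C.cm_congr h0 hu c c' (by simpa using C.mul _ _ _ _ _ _ _ hu ha hb), C.cm_mul h0 hu c ha hb,
        Hx _ _ c ha, Hy _ _ c hb, hf_add_right, ad]
    · obtain ⟨a, ha⟩ := C.exist u 0 x hu (hf_zero_left _) hx
      obtain ⟨b, hb⟩ := C.exist u 0 y hu (hf_zero_left _) hy
      rw [C.cm_congr₂ h0 hu c c' (by simpa using C.mul _ _ _ _ _ _ _ hu ha hb) c',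
        C.mul_cm h0 hu ha hb c', Hx _ hy' _ _ ha c', Hy _ hy' _ _ hb c', hf_add_left, ad]
  obtain ⟨a, ha⟩ := C.exist u y₁ 0 hu c.p1 (hf_zero_left _)
  obtain ⟨b, hb⟩ := C.exist u 0 y₂ hu (hf_zero_left _) c.p2
  obtain ⟨a', ha'⟩ := C.exist u y₁' 0 hu c'.p1 (hf_zero_left _)
  obtain ⟨b', hb'⟩ := C.exist u 0 y₂' hu (hf_zero_left _) c'.p2
  rw [C.cm_congr h0 hu c c' (by simpa using C.mul _ _ _ _ _ _ _ hu ha' hb'), C.cm_mul h0 hu c ha' hb',
    C.cm_e h0 hu c ha', C.cm_congr₂ h0 hu c hb' (by simpa using C.mul _ _ _ _ _ _ _ hu ha hb) hb',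
    C.mul_cm h0 hu ha hb hb', C.cm_symm h0 hu ha hb', C.cm_e h0 hu hb' ha, two _ c.p2 _ c'.p2 _ _ hb hb',
    ← C.zmul _ _ _ _ _ hu (star_tr _) (star_tr _) (s _) (star_tr _), ← C.zmul _ _ _ _ _ hu (star_tr _)
      (star_tr _) (by rw [star_add, star_tr, s]) (by rw [star_add, star_tr, star_tr]), tr_hf y₂' y₁]
  congr 1
  · simp
  · ring

theorem jobCC : JobCC.{u} := by
  intro n K _ _ _ _ hp _ _ _ _ _ _ G _ _ e t h τ δ T C hδ B u v k y₁ y₂ h0 p c
  have hu := p.l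
  have t2 : (τ v)⁻¹ = τ v := inv_eq_of_mul_eq_one_right (T.sq v p.r)
  have z1 : ∀ z, InZ e τ u z → τ v * z = z * τ v := by
    rintro _ ⟨a, b, ha, hb, rfl⟩
    have h1 := T.eqv (Tc a u) v p.r
    rw [ac_Tc hu ha, p.symm.p, mul_zero, zero_smul, add_zero] at h1
    rw [zt, ← mul_assoc, ← eq_mul_of_mul_inv_eq h1, mul_assoc, T.comm _ _ (p.symm.smulB _),
      mul_assoc]
  have z2 : ∀ z, InZ e τ u z → τ v * z * (τ v)⁻¹ = z := fun z hz => mul_inv_eq_of_eq_mul (z1 z hz)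
  have k1 : ∀ x d, Ok u x d → Cl e t τ u (τ v * e (EE u x d) * (τ v)⁻¹) x (hf x v • v) := fun x d o => by
    have h1 := T.eqv (EE u x d)⁻¹ v p.r
    rw [EE_inv o, ac_EE_perp o.star p.symm.p, ← EE_inv o, map_inv, inv_inv] at h1
    have q := p.symm.smulB (hf v x)
    have h2 : τ v * e (EE u x d) * (τ v)⁻¹ = e (EE u x d) * (sig τ (hf v x • u) v * τ (hf v x • u)) := by
      rw [sig, ← h1, t2, mul_assoc _ _ (τ (hf v x • u)), mul_assoc _ (τ v), T.sq _ q.r]; group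
    have h3 : InZ e τ u (τ (hf v x • u)) := by
      obtain ⟨b, b1, b2⟩ := FQ.dec (hf v x)
      refine ⟨0, nm (hf v x), star_zero K, star_nm _, ?_⟩
      rw [zt, Tc, EE_zero, map_one, one_mul, ← T.n1 b _ b1 (hu.smul (rt _)), smul_smul, mul_comm b, ← b2]
    rw [h2, T.sscal _ _ _ p.symm, star_hf, sig_symmB T (p.smulB _).symm]
    simpa using C.mul _ _ _ _ _ _ _ hu (C.cl_e _ _ _ o) (C.mul _ _ _ _ _ _ _ hu
      (C.cl_s _ _ (p.smulB (hf x v))) (C.zcl _ _ hu h3))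
  have pe : ∀ y : Vn n K, hf y u = 0 → ∀ a : K, hf (y + a • v) u = 0 := fun y hy a => by
    rw [hf_add_left, hy, hf_smul_left, p.symm.p, mul_zero, add_zero]
  refine ⟨pe _ c.p1 _, pe _ c.p2 _, fun z hz => ?_, fun x d o => ?_, ?_⟩
  · calc _ = τ v * (k * ((τ v)⁻¹ * z * (τ v)⁻¹⁻¹)) * (τ v)⁻¹ := by group
      _ = _ := by
        rw [inv_inv, t2, z1 z hz, mul_assoc z, T.sq v p.r, mul_one, c.c1 z hz, ← mul_assoc, z1 z hz]
        group
  · have h1 := B u _ _ _ _ _ _ h0 hu c (k1 x d o)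
    have h2 := C.cm_mem h0 hu c (k1 x d o)
    calc _ = τ v * cm k ((τ v)⁻¹ * e (EE u x d) * (τ v)⁻¹⁻¹) * (τ v)⁻¹ := by simp only [cm]; group
      _ = cm k (τ v * e (EE u x d) * (τ v)⁻¹) := by
        rw [← z2 _ h2, inv_inv, t2]
      _ = _ := by
        rw [h1]
        simp only [tr, hf_add_right, hf_smul_right, star_add, star_mul', star_hf, hδ, star_star]
        congr 1 <;> ring
  obtain ⟨d, z, o, hz, h1⟩ := c.c3
  have c1 : Cl e t τ u (cm k t) y₂ 0 := by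
    simpa [h1] using C.mul _ _ _ _ _ _ _ hu (C.cl_e _ _ _ o) (C.zcl _ _ hu hz)
  have c2 := C.conj_e (TT v) _ _ _ _ hu (C.inv _ _ _ _ hu c)
  simp only [ac_Tc p.r (star_one K), p.p, mul_zero, zero_smul, add_zero, one_mul] at c2
  have c3 := C.mul _ _ _ _ _ _ _ hu c1 (C.conj_t _ _ _ _ hu (C.mul _ _ _ _ _ _ _ hu c c2))
  simp only [← add_assoc, v_add_self, zero_add] at c3
  rw [add_assoc y₂, ← add_smul] at c3
  have h2 := pe _ c.p2 (hf y₁ v + hf y₂ v)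
  have h3 : hf (y₂ + (hf y₁ v + hf y₂ v) • v) v = hf y₂ v := by
    rw [hf_add_left, hf_smul_left, p.r, mul_zero, add_zero]
  generalize y₂ + (hf y₁ v + hf y₂ v) • v = x at *
  obtain ⟨d', hd⟩ := FQ.trs (hf x x) (star_hf _ _)
  have o' : Ok u x d' := ⟨hu, h2, hd⟩
  have q := p.smulB (hf y₂ v)
  obtain ⟨z', z3, z4⟩ := C.eq_mul h0 hu c3 (by
    simpa using C.mul _ _ _ _ _ _ _ hu (C.cl_e _ _ _ o') (C.cl_s _ _ q))
  have h4 : τ v * sig τ (hf y₂ v • v) u * (τ v)⁻¹ = sig τ (hf y₂ v • v) u := by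
    have a1 : Commute (τ v) (τ (u + hf y₂ v • v)) := T.comm _ _ (p.symm.addB (p.r.ppB.smulB _) q)
    have a2 : Commute (τ v) (τ u) := T.comm _ _ p.symm
    have a3 : Commute (τ v) (τ (hf y₂ v • v)) := T.comm _ _ (p.r.ppB.smulB _)
    exact mul_inv_eq_of_eq_mul ((a1.mul_right a2).mul_right a3)
  have c4 := C.mul _ _ _ _ _ _ _ hu (C.mul _ _ _ _ _ _ _ hu (k1 x d' o') (C.cl_s _ _ q))
    (C.zcl _ _ hu z3)
  simp only [h3, v_add_self, add_zero] at c4
  obtain ⟨z'', z5, z6⟩ := C.eq_mul h0 hu c4 (C.cl_e _ _ _ o')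
  refine ⟨d', z'', o', z5, ?_⟩
  have h5 : (τ v)⁻¹ * t * τ v = t * e (TT v) := by rw [← T.tt v p.r, t2]
  rw [← z6, ← h4, ← z2 _ z3, conj_mul, conj_mul, ← z4]
  calc _ = τ v * cm k ((τ v)⁻¹ * t * τ v) * (τ v)⁻¹ := by simp only [cm]; group
    _ = _ := by rw [h5]; simp only [cm]; group

end H59.UV
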