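import Cfsg.Agent.H59.U5Amb

/-! STD-U5 (port of `H67/UAK0`): a kit for the ambient slots (indices, `W_k`, `K0`, diagonal elements). -/

set_option autoImplicit false
set_option linter.unusedSectionVars false

namespace H59.UV

open H67

open H64.SG (O2 Syl Cz Cs Ns cjs Is2 Inv2 UF IsO2 fx mem_Cs mem_Cz is2_of_sq)
open Matrix H57 Subgroup
open H67.SA (SLn Au la St cI cm)
open H67.GA (Ind B1 CE CH CP CW CF)

universe u

variable {n : ℕ} {K : Type} [Field K] [StarRing K] [CharP K 2] [Finite K]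

section Idx

theorem Wk.add {k : ℕ} {u v : Vn n K} (h : Wk k u) (h' : Wk k v) : Wk k (u + v) := fun i hi => by
  rw [Pi.add_apply, h i hi, h' i hi, add_zero]
theorem Wk.smul {k : ℕ} {u : Vn n K} (h : Wk k u) (a : K) : Wk k (a • u) := fun i hi => by
  rw [Pi.smul_apply, h i hi, smul_zero]
theorem Wk.mono {k l : ℕ} {u : Vn n K} (h : Wk k u) (hl : k ≤ l) : Wk l u := fun i hi =>
  h i (hl.trans hi)
theorem wk_ev {k : ℕ} {i : Fin (n + 1)} (h : i.val < k) : Wk k (ev i : Vn n K) := fun j hj => by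
  rw [ev_apply, if_neg (by rintro rfl; omega)]
theorem Wk.perp {k l : ℕ} {u v : Vn n K} (h : Wk k u) (h' : Wk l v) (hk : k + l ≤ n + 1) :
    hf u v = 0 := Finset.sum_eq_zero fun i _ => by
  by_cases hi : k ≤ i.val
  · rw [h i hi, zero_mul]
  · rw [h' i.rev (by rw [Fin.val_rev]; omega), star_zero, mul_zero]
theorem Wk.pp {k : ℕ} {u v : Vn n K} (h : Wk k u) (h' : Wk k v) (hk : 2 * k ≤ n + 1) : Pp u v :=
  ⟨h.perp h (by omega), h'.perp h' (by omega), h.perp h' (by omega)⟩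

variable (K) [hp : Par n K]
include hp

theorem v1 : (1 : Fin (n + 1)).val = 1 := by
  have := hp.five
  rw [Fin.val_one', Nat.mod_eq_of_lt (by omega)]
theorem v2 : (2 : Fin (n + 1)).val = 2 := by
  have := hp.five
  exact Nat.mod_eq_of_lt (show 2 < n + 1 by omega)
theorem four : 2 * 2 ≤ n + 1 := by have := hp.five; omega
theorem rgk {k : ℕ} (h1 : 1 ≤ k) (h3 : k ≤ 2) : GA.Rg (XU n K) k :=
  rg_iff.2 ⟨h1, by have := hp.five; omega⟩
variable {K}
theorem w0 {k : ℕ} (h : 1 ≤ k) : Wk k (ev 0 : Vn n K) := wk_ev h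
theorem w1 {k : ℕ} (h : 2 ≤ k) : Wk k (ev 1 : Vn n K) := wk_ev (by rw [v1 K]; omega)
theorem w2 {k : ℕ} (h : 3 ≤ k) : Wk k (ev 2 : Vn n K) := wk_ev (by rw [v2 K]; omega)
theorem iso0 : Iso (ev 0 : Vn n K) := ((w0 le_rfl).pp (w0 le_rfl) (by have := hp.five; omega)).l
theorem pp01 : Pp (ev 0 : Vn n K) (ev 1) := (w0 (by omega)).pp (w1 (by omega)) (four K)
theorem rev2 : (2 : Fin (n + 1)).rev = 2 := Fin.ext (by
  have := hp.five
  rw [Fin.val_rev, v2 K]; omega)
theorem mid_iff {i : Fin (n + 1)} : i = i.rev ↔ i = 2 := by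
  have := hp.five
  rw [Fin.ext_iff, Fin.ext_iff, Fin.val_rev, v2 K]; omega
theorem ne01 : (0 : Fin (n + 1)) ≠ 1 := fun h => by
  have := congrArg Fin.val h
  rw [v1 K] at this; simp at this
theorem ne02 : (0 : Fin (n + 1)) ≠ 2 := fun h => by
  have := congrArg Fin.val h
  rw [v2 K] at this; simp at this
theorem ne12 : (1 : Fin (n + 1)) ≠ 2 := fun h => by
  have := congrArg Fin.val h
  rw [v1 K, v2 K] at this; omega
theorem li3_ev : Li3 (ev 0 : Vn n K) (ev 1) (ev 2) := fun a b c h =>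
  ⟨by simpa [ev_apply, ne01 (K := K), ne02 (K := K)] using congrFun h 0,
    by simpa [ev_apply, (ne01 (K := K)).symm, ne12 (K := K)] using congrFun h 1,
    by simpa [ev_apply, (ne02 (K := K)).symm, (ne12 (K := K)).symm] using congrFun h 2⟩
theorem li_ev : Li (ev 0 : Vn n K) (ev 1) := fun a b h =>
  have := li3_ev (n := n) a b 0 (by simpa using h)
  ⟨this.1, this.2.1⟩

end Idx

theorem Li.symm {u v : Vn n K} (h : Li u v) : Li v u := fun a b e =>
  (h b a (by rwa [add_comm])).symm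
theorem Li.ne {u v : Vn n K} (h : Li u v) : u ≠ 0 := fun e =>
  one_ne_zero (h 1 0 (by simp [e])).1
theorem exists_smul_of_not_li {u v : Vn n K} (hu : u ≠ 0) (h : ¬ Li u v) : ∃ c : K, v = c • u := by
  simp only [Li, not_forall] at h
  obtain ⟨a, b, h1, h2⟩ := h
  have hb : b ≠ 0 := by
    rintro rfl
    exact h2 ⟨(smul_eq_zero.1 (by simpa using h1)).resolve_right hu, rfl⟩
  refine ⟨b⁻¹ * a, ?_⟩
  rw [mul_smul, eq_neg_of_add_eq_zero_left h1, neg_eq_iff_add_eq_zero.2 (v_add_self _), smul_smul,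
    inv_mul_cancel₀ hb, one_smul]

/-- `λ` on `e_i, e_i'`, `λ⁻¹` on `e_j, e_j'`, `1` elsewhere. -/
theorem exists_dg [FV n K] {i j : Fin (n + 1)} (hi : i ≠ i.rev) (hj : j ≠ j.rev) (h1 : i ≠ j)
    (h2 : i ≠ j.rev) {a : K} (ha : nm a = 1) : ∃ g : XU n K, Odd (orderOf g) ∧ ∀ r,
      ac g (ev r) = (if r = i ∨ r = i.rev then a else if r = j ∨ r = j.rev then star a else 1) • ev r := by
  obtain ⟨g, -, g1, g2⟩ := FV.diag (n := n) (fun r => if r = i ∨ r = i.rev then a else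
    if r = j ∨ r = j.rev then star a else 1) (fun r => by
      simp only [Fin.rev_eq_iff, Fin.rev_rev, or_comm (a := r = i.rev), or_comm (a := r = j.rev)]
      split_ifs
      · exact ha
      · rw [star_star, mul_comm]; exact ha
      · simp) (by
      have h3 : i.rev ≠ j := fun e => h2 (by rw [← e, Fin.rev_rev])
      have h4 : i.rev ≠ j.rev := fun e => h1 (Fin.rev_inj.1 e)
      rw [← Finset.prod_subset (Finset.subset_univ {i, i.rev, j, j.rev}) (fun r _ hr => by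
        simp only [Finset.mem_insert, Finset.mem_singleton, not_or] at hr
        simp [hr]), Finset.prod_insert (by simp [hi, h1, h2]), Finset.prod_insert (by simp [h3, h4]),
        Finset.prod_pair hj]
      simp only [true_or, or_true, if_true, h1.symm, h2.symm, h3.symm, h4.symm, or_self, if_false]
      linear_combination (a * star a + 1) * ha)
  exact ⟨g, g1, fun r => funext fun s => by
    rw [g2, Pi.smul_apply, ev_apply, smul_eq_mul]
    by_cases h : s = r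
    · rw [h]
    · rw [if_neg h, mul_zero, mul_zero]⟩

/-- `λ` on `e_i, e_i'`, `λ⁻²` on the middle vector `e_μ`, `1` elsewhere. -/
theorem exists_dm [FV n K] {i μ : Fin (n + 1)} (hi : i ≠ i.rev) (hμ : μ = μ.rev) {a : K}
    (ha : nm a = 1) : ∃ g : XU n K, Odd (orderOf g) ∧ ∀ r,
      ac g (ev r) = (if r = i ∨ r = i.rev then a else if r = μ then star a ^ 2 else 1) • ev r := by
  have h1 : i ≠ μ := fun e => hi (by rw [e]; exact hμ)
  have h3 : i.rev ≠ μ := fun e => h1 (by rw [hμ, ← e, Fin.rev_rev])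
  obtain ⟨g, -, g1, g2⟩ := FV.diag (n := n) (fun r => if r = i ∨ r = i.rev then a else
    if r = μ then star a ^ 2 else 1) (fun r => by
      have e : r.rev = μ ↔ r = μ := by rw [Fin.rev_eq_iff, ← hμ]
      simp only [e]
      simp only [Fin.rev_eq_iff, Fin.rev_rev, or_comm (a := r = i.rev)]
      split_ifs
      · exact ha
      · rw [star_pow, star_star, ← mul_pow, mul_comm, show a * star a = 1 from ha, one_pow]
      · simp) (by
      rw [← Finset.prod_subset (Finset.subset_univ {i, i.rev, μ}) (fun r _ hr => by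
        simp only [Finset.mem_insert, Finset.mem_singleton, not_or] at hr
        simp [hr]), Finset.prod_insert (by simp [hi, h1]), Finset.prod_pair h3]
      simp only [true_or, or_true, if_true, h1.symm, h3.symm, or_self, if_false]
      linear_combination (a * star a + 1) * ha)
  exact ⟨g, g1, fun r => funext fun s => by
    rw [g2, Pi.smul_apply, ev_apply, smul_eq_mul]
    by_cases h : s = r
    · rw [h]
    · rw [if_neg h, mul_zero, mul_zero]⟩

/-- the swap of `e_i, e_j` and of `e_i', e_j'` -/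
theorem exists_sw [FV n K] {i j : Fin (n + 1)} (hi : i ≠ i.rev) (hj : j ≠ j.rev) (h2 : i ≠ j.rev) :
    ∃ g : XU n K, ac g (ev i) = ev j ∧ ac g (ev j) = ev i ∧ ac g (ev i.rev) = ev j.rev ∧
      ac g (ev j.rev) = ev i.rev := by
  have h3 : j ≠ i.rev := fun e => h2 (by rw [e, Fin.rev_rev])
  obtain ⟨g, -, hg⟩ := FV.perm (K := K) (Equiv.swap i j * Equiv.swap i.rev j.rev) fun r => by
    simp only [Equiv.Perm.mul_apply, Equiv.swap_apply_def, Fin.rev_inj, Fin.rev_eq_iff]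
    split_ifs <;> simp_all [Fin.rev_eq_iff]
  refine ⟨g, ?_, ?_, ?_, ?_⟩ <;> rw [hg, Equiv.Perm.mul_apply]
  · rw [Equiv.swap_apply_of_ne_of_ne hi h2, Equiv.swap_apply_left]
  · rw [Equiv.swap_apply_of_ne_of_ne h3 hj, Equiv.swap_apply_right]
  · rw [Equiv.swap_apply_left, Equiv.swap_apply_of_ne_of_ne h2.symm hj.symm]
  · rw [Equiv.swap_apply_right, Equiv.swap_apply_of_ne_of_ne hi.symm h3.symm]

theorem Tc_mem [FV n K] {k : ℕ} (hk : 2 * k ≤ n + 1) {w : Vn n K} (h : Wk k w) {c : K}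
    (hc : star c = c) : Tc c w ∈ GA.Mk (XU n K) k :=
  FV.EE_M k hk _ _ _ (ok_zero (h.pp h hk).l hc) h fun _ _ => rfl

theorem Qk_fix [FV n K] {k : ℕ} (hk : 2 * k ≤ n + 1) {g : XU n K} (hg : g ∈ GA.Qk (XU n K) k)
    {w : Vn n K} (h : Wk k w) : ac g w = w := ((FV.mem_Qk k hk g).1 hg).1 w h

/-- An element of `Mk k` is determined by its upper right `k × k` corner. -/
theorem Mk_ext {k : ℕ} (hk : 2 * k ≤ n + 1) {g g' : XU n K} (hg : g ∈ GA.Mk (XU n K) k)
    (hg' : g' ∈ GA.Mk (XU n K) k) (h : ∀ i j : Fin (n + 1), i.val < k → j.val < k →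
      hf (ac g (ev j.rev)) (ev i.rev) = hf (ac g' (ev j.rev)) (ev i.rev)) : g = g' := by
  obtain ⟨h1, h2⟩ := (SA.mem_Mk hk).1 (mem_Mk.1 hg)
  obtain ⟨h3, h4⟩ := (SA.mem_Mk hk).1 (mem_Mk.1 hg')
  refine X_ext (Matrix.ext fun a b => ?_)
  by_cases e : a = b
  · rw [e]; exact (h1 b).trans (h3 b).symm
  by_cases e' : a.val < k ∧ n + 1 ≤ b.val + k
  · simpa only [hf_ev_right, Fin.rev_rev, ac_ev] using h a b.rev e'.1 (by rw [Fin.val_rev]; omega)
  · exact (h2 a b e e').trans (h4 a b e e').symm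

variable [H59.GB.Fa (XU n K)] {G : Type u} [Group G] [Finite G] {e : XU n K →* G} {t : G}

/-- K0 -/
theorem k0 (h : CH e t) {k : ℕ} (hr : GA.Rg (XU n K) k) {w : G} (h1 : t * w = w * t)
    (h2 : w ∈ Cs ((GA.Qk (XU n K) k).map e)) :
    ∃ m ∈ GA.Mk (XU n K) k, w = e m ∨ w = t * e m := by
  have h3 : w ∈ Cz t := mem_Cz.2 h1
  obtain ⟨z, z1, z2⟩ := GA.cqk h.ker hr (h.cz h3) h2
  refine ⟨z⁻¹, inv_mem z1, (h.ck _ (mul_mem h3 (h.toB1.mem_Cz z)) z2).imp (fun e => ?_) fun e => ?_⟩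
  · rw [map_inv, eq_inv_of_mul_eq_one_left e]
  · rw [map_inv, eq_mul_inv_of_mul_eq e]

theorem e_inj (h : e.ker ≤ center (XU n K)) {k : ℕ} (hr : GA.Rg (XU n K) k) {a b : XU n K}
    (ha : a ∈ GA.Mk (XU n K) k) (p : XU n K) (hb : b * b = 1) (e1 : e (p * a * p⁻¹) = e b) :
    p * a * p⁻¹ = b :=
  GA.inj2 h ((is2_of_sq (GA.FB.sqM k hr a ha)).conj p) (is2_of_sq hb) e1

theorem e_Tc_eq_one (h : e.ker ≤ center (XU n K)) {u : Vn n K} (hu : u ≠ 0) (h1 : Iso u) {c : K}
    (hc : star c = c) (e1 : e (Tc c u) = 1) : c = 0 :=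
  Tc_eq_one hu h1 hc (GA.eq_one2 h (is2_of_sq (Tc_mul_self h1 hc)) e1)

end H59.UV
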