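import Cfsg.Agent.H59.U5YK
import Cfsg.Agent.H59.U5K0

/-! STD-UM, slot CL: the calculus of `Z*_u` and of the classes. -/

set_option autoImplicit false
set_option linter.unusedSectionVars false

namespace H59.UVC

open H67

open H64.SG (Cz Cs mem_Cz mem_Cs is2_of_sq)
open Matrix Subgroup H67 H59.UV H59.UVW
open H67.SA (SLn la cm)
open H67.GA (B1 CH)

universe u

section Grp

variable {G : Type*} [Group G]

theorem cm_mul (a b c : G) : cm (a * b) c = a * cm b c * a⁻¹ * cm a c := by simp only [cm]; group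
theorem cm_inv (a c : G) : cm a⁻¹ c = a⁻¹ * (cm a c)⁻¹ * a⁻¹⁻¹ := by simp only [cm]; group
theorem cm_cj (g a c : G) : cm (g * a * g⁻¹) (g * c * g⁻¹) = g * cm a c * g⁻¹ := by
  simp only [cm]; group
theorem cm_def (a c : G) : cm a c = a * (c * a * c⁻¹)⁻¹ := by simp only [cm]; group
theorem cj_eq {a b : G} (h : a * b = b * a) : a * b * a⁻¹ = b := by rw [h, mul_inv_cancel_right]

end Grp

variable {n : ℕ} {K : Type} [Field K] [StarRing K] [CharP K 2] [Finite K]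

theorem rt_add (a b : K) : rt (a + b) = rt a + rt b := map_add (frobeniusEquiv K 2).symm a b
theorem star_rt [FQ K] {b : K} (hb : star b = b) : star (rt b) = rt b := by rw [FQ.star_rt, hb]
theorem nm_rt [FQ K] {b : K} (hb : star b = b) : nm (rt b) = b := by
  rw [nm, star_rt hb, ← sq, rt_sq]
theorem s_add {a b : K} (ha : star a = a) (hb : star b = b) : star (a + b) = a + b := by
  rw [star_add, ha, hb]
theorem s_nm {a : K} (c : K) (ha : star a = a) : star (nm c * a) = nm c * a := by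
  rw [star_mul', star_nm, ha]
theorem tr_hf (x y : Vn n K) : tr (hf x y) = tr (hf y x) := by
  rw [tr, tr, star_hf, star_hf, add_comm]
theorem tr_add (a b : K) : tr (a + b) = tr a + tr b := by simp only [tr, star_add]; ring
theorem ok_smul {u x : Vn n K} {a c : K} (hu : Iso u) (h : Ok (a • u) x c) :
    Ok u (star a • x) (nm a * c) := ⟨hu, by rw [hf_smul_left, ← hf_smul_right, h.perp], by
  rw [hf_smul_left, hf_smul_right, ← h.tr, tr, star_mul', star_nm, tr, star_star]; ring⟩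
theorem exists_hf {u : Vn n K} (hu : u ≠ 0) : ∃ z, hf z u = 1 := by
  obtain ⟨i, hi⟩ := Function.ne_iff.1 hu
  exact ⟨(star (u i))⁻¹ • ev i.rev, by
    rw [hf_smul_left, hf_ev_left, Fin.rev_rev, inv_mul_cancel₀ (by simpa using hi)]⟩

variable [Par n K] [FQ K] [FV n K] [FW n K] [H59.GB.Fa (XU n K)] {G : Type u} [Group G] [Finite G]
  {e : XU n K →* G} {t : G} {τ : Vn n K → G}

theorem e_dis (h : B1 e t) {u v : Vn n K} (hu : Iso u) (hv : Iso v) (l : Li u v) {a b : K}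
    (ha : star a = a) (hb : star b = b) (h1 : e (Tc a u) = e (Tc b v)) : a = 0 := by
  have h2 := GA.inj2 h.ker (is2_of_sq (Tc_mul_self hu ha)) (is2_of_sq (Tc_mul_self hv hb)) h1
  obtain ⟨z, hz⟩ := exists_hf l.ne
  have h3 := ac_Tc hu ha z
  rw [h2, ac_Tc hv hb, hz, mul_one, add_right_inj] at h3
  exact (l a (b * hf z v) (by rw [h3, v_add_self])).1

variable (e τ) in
/-- `g ∈ e(EE u y ·) Z*_u` -/
def R (u y : Vn n K) (g : G) : Prop := ∃ c z, Ok u y c ∧ InZ e τ u z ∧ g = e (EE u y c) * z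

variable (T : TA e t τ) {u : Vn n K} (hu : Iso u) {a b a' b' : K} {z z' k k' g g' : G}
  {y y' y₁ y₂ y₁' y₂' : Vn n K}
include T

theorem z_left (a : K) : zt e τ u a 0 = e (Tc a u) := by rw [zt, rt_zero, zero_smul, T.zero, mul_one]
theorem z_zero : zt e τ u 0 0 = 1 := by rw [z_left T, Tc, EE_zero, map_one]
theorem Z_one : InZ e τ u 1 := ⟨0, 0, star_zero K, star_zero K, (z_zero T).symm⟩

include hu

theorem zmul (ha : star a = a) (hb : star b = b) (ha' : star a' = a') (hb' : star b' = b') :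
    zt e τ u (a + a') (b + b') = zt e τ u a b * zt e τ u a' b' := by
  have c := e_τ T.toT1 (hu.smul (rt b))
    (ac_EE_fix (ok_zero hu ha') (pp_smul (pp_self hu) (rt b)).symm.p (by simp))
  rw [zt, zt, zt, rt_add, T.nadd _ _ _ (star_rt hb) (star_rt hb') hu, Tc_add hu ha ha', map_mul,
    mul_assoc, mul_assoc, ← mul_assoc (τ _), ← c.eq, mul_assoc]

theorem zt_t (h : B1 e t) (ha : star a = a) (hb : star b = b) :
    t * zt e τ u a b * t⁻¹ = zt e τ u (a + b) b := by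
  rw [zt, zt, ← conj_mul, h.conj_eq, t_τ h T.toT1 (hu.smul _), TT, Tc_smul, nm_rt hb, mul_one,
    Tc_add hu ha hb, map_mul, mul_assoc]

theorem zconj (g : XU n K) (ha : star a = a) (b : K) :
    e g * zt e τ u a b * (e g)⁻¹ = zt e τ (ac g u) a b := by
  rw [zt, zt, ← conj_mul, T.eqv _ _ (hu.smul _), ac_smul, ← map_inv, ← map_mul, ← map_mul,
    Tc_conj hu ha]

theorem zsmul (c a : K) :
    zt e τ (c • u) a b = zt e τ u (nm c * a) (nm c * b) := by
  obtain ⟨β, h1, h2⟩ := FQ.dec c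
  rw [zt, zt, Tc_smul, rt_mul, ← T.n1 β _ h1 (hu.smul (rt (nm c) * rt b)), smul_smul, smul_smul]
  congr 3
  linear_combination rt b * h2

theorem z_sq (ha : star a = a) (hb : star b = b) : zt e τ u a b * zt e τ u a b = 1 := by
  rw [← zmul T hu ha hb ha hb, CharTwo.add_self_eq_zero, CharTwo.add_self_eq_zero, z_zero T]

theorem z_inv (ha : star a = a) (hb : star b = b) : (zt e τ u a b)⁻¹ = zt e τ u a b :=
  inv_eq_of_mul_eq_one_right (z_sq T hu ha hb)

theorem z_tt (h : B1 e t) (ha : star a = a) (hb : star b = b) :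
    zt e τ u a b * (t * zt e τ u a b * t⁻¹) = e (Tc b u) := by
  rw [zt_t T hu h ha hb, ← zmul T hu ha hb (s_add ha hb) hb, ← add_assoc, CharTwo.add_self_eq_zero,
    CharTwo.add_self_eq_zero, zero_add, z_left T]

theorem zinj (h : B1 e t) (u0 : u ≠ 0) (ha : star a = a) (hb : star b = b)
    (h1 : zt e τ u a b = 1) : a = 0 ∧ b = 0 := by
  have h2 := z_tt T hu h ha hb
  rw [h1] at h2
  obtain rfl := e_Tc_eq_one h.ker u0 hu hb (h2.symm.trans (by simp))
  exact ⟨e_Tc_eq_one h.ker u0 hu ha ((z_left T a).symm.trans h1), rfl⟩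

theorem zdis (h : B1 e t) {v : Vn n K} (hv : Iso v) (l : Li u v) (h1 : InZ e τ u z)
    (h2 : InZ e τ v z) : z = 1 := by
  obtain ⟨a, b, ha, hb, rfl⟩ := h1
  obtain ⟨a', b', ha', hb', h2⟩ := h2
  have h3 := z_tt T hu h ha hb
  rw [h2, z_tt T hv h ha' hb'] at h3
  obtain rfl := e_dis h hu hv l hb hb' h3.symm
  obtain rfl := e_dis h hv hu l.symm hb' hb h3
  rw [z_left T, z_left T] at h2
  rw [e_dis h hu hv l ha ha' h2, z_zero T]

theorem τ_one : τ u = zt e τ u 0 1 := by rw [zt, rt_one, one_smul, Tc, EE_zero, map_one, one_mul]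

theorem τ_smul (c : K) : τ (c • u) = zt e τ u 0 (nm c) := by
  rw [τ_one T (hu.smul c), zsmul T hu, mul_zero, mul_one]

theorem sig_self (a : K) : sig τ (a • u) u = zt e τ u 0 (tr a) := by
  have s0 := star_zero K
  rw [sig, show u + a • u = (1 + a) • u by rw [add_smul, one_smul], τ_smul T hu, τ_smul T hu,
    τ_one T hu, ← zmul T hu s0 (star_nm _) s0 (star_one K), ← zmul T hu (s_add s0 s0)
      (s_add (star_nm _) (star_one K)) s0 (star_nm _), add_zero, add_zero]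
  congr 1
  simp only [nm, tr, star_add, star_one]
  linear_combination (1 + a * star a) * two0 K

theorem Z_mul (h1 : InZ e τ u z) (h2 : InZ e τ u z') : InZ e τ u (z * z') := by
  obtain ⟨a, b, ha, hb, rfl⟩ := h1
  obtain ⟨a', b', ha', hb', rfl⟩ := h2
  exact ⟨_, _, s_add ha ha', s_add hb hb', (zmul T hu ha hb ha' hb').symm⟩

theorem Z_inv (h1 : InZ e τ u z) : InZ e τ u z⁻¹ := by
  obtain ⟨a, b, ha, hb, rfl⟩ := h1
  exact ⟨a, b, ha, hb, z_inv T hu ha hb⟩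

theorem Z_t (h : B1 e t) (h1 : InZ e τ u z) : InZ e τ u (t * z * t⁻¹) := by
  obtain ⟨a, b, ha, hb, rfl⟩ := h1
  exact ⟨_, _, s_add ha hb, hb, zt_t T hu h ha hb⟩

theorem Z_e (g : XU n K) (h1 : InZ e τ u z) : InZ e τ (ac g u) (e g * z * (e g)⁻¹) := by
  obtain ⟨a, b, ha, hb, rfl⟩ := h1
  exact ⟨a, b, ha, hb, zconj T hu g ha b⟩

theorem Z_smul (c : K) (h1 : InZ e τ (c • u) z) : InZ e τ u z := by
  obtain ⟨a, b, ha, hb, rfl⟩ := h1
  exact ⟨_, _, s_nm c ha, s_nm c hb, zsmul T hu c a⟩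

omit hu in
theorem Z_comm {v : Vn n K} (p : Pp u v) (h1 : InZ e τ u z) (h2 : InZ e τ v z') : Commute z z' := by
  obtain ⟨a, b, ha, -, rfl⟩ := h1
  obtain ⟨a', b', ha', -, rfl⟩ := h2
  exact zt_comm T.toT1 p ha ha'

theorem Z_τ : InZ e τ u (τ u) := ⟨0, 1, star_zero K, star_one K, τ_one T hu⟩

omit hu in
theorem E_Z {x : Vn n K} {c : K} (o : Ok u x c) (h1 : InZ e τ u z) :
    e (EE u x c) * z = z * e (EE u x c) := by
  obtain ⟨a, b, ha, -, rfl⟩ := h1
  have := zconj T o.iso (EE u x c) ha b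
  rwa [ac_EE_self o, mul_inv_eq_iff_eq_mul] at this

theorem R_mul (h1 : R e τ u y g) (h2 : R e τ u y' g') : R e τ u (y + y') (g * g') := by
  obtain ⟨c, z, o, hz, rfl⟩ := h1
  obtain ⟨c', z', o', hz', rfl⟩ := h2
  refine ⟨_, _, o.add o', Z_mul T hu hz hz', ?_⟩
  rw [← EE_mul o o', map_mul, mul_assoc, mul_assoc, ← mul_assoc z, ← E_Z T o' hz, mul_assoc]

theorem R_inv (h1 : R e τ u y g) : R e τ u y g⁻¹ := by
  obtain ⟨c, z, o, hz, rfl⟩ := h1
  refine ⟨_, _, o.star, Z_inv T hu hz, ?_⟩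
  rw [_root_.mul_inv_rev, ← map_inv, EE_inv o, E_Z T o.star (Z_inv T hu hz)]

theorem R_Z (h1 : InZ e τ u z) : R e τ u 0 z := ⟨0, z, ok_zero hu (star_zero K), h1, by simp⟩

theorem R_cj (c1 : ∀ z, InZ e τ u z → k * z = z * k)
    (c2 : ∀ x c, Ok u x c → InZ e τ u (cm k (e (EE u x c)))) (h1 : R e τ u y g) :
    R e τ u y (k * g * k⁻¹) := by
  obtain ⟨c, z, o, hz, rfl⟩ := h1
  refine ⟨c, _, o, Z_mul T hu (c2 _ _ o) hz, ?_⟩
  rw [← conj_mul, cj_eq (c1 z hz), ← mul_assoc (e _) (cm _ _), E_Z T o (c2 _ _ o), cm, inv_mul_cancel_right]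

omit hu T in
theorem c2Z (c : Cl e t τ u k y₁ y₂) (x : Vn n K) (d : K) (o : Ok u x d) :
    InZ e τ u (cm k (e (EE u x d))) := ⟨_, _, star_tr _, star_tr _, c.c2 x d o⟩

theorem zcl (h : B1 e t) (h1 : InZ e τ u z) : Cl e t τ u z 0 0 where
  p1 := by simp
  p2 := by simp
  c1 z' h2 := Z_comm T (pp_self hu) h1 h2
  c2 x c o := by rw [SA.cm_eq_one.2 (E_Z T o h1).symm]; simp [z_zero T]
  c3 := R_Z T hu (cm_def z t ▸ Z_mul T hu h1 (Z_inv T hu (Z_t T hu h h1)))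

theorem cl_mul (c : Cl e t τ u k y₁ y₂) (c' : Cl e t τ u k' y₁' y₂') :
    Cl e t τ u (k * k') (y₁ + y₁') (y₂ + y₂') where
  p1 := by rw [hf_add_left, c.p1, c'.p1, add_zero]
  p2 := by rw [hf_add_left, c.p2, c'.p2, add_zero]
  c1 z hz := Commute.mul_left (c.c1 z hz) (c'.c1 z hz)
  c2 x d o := by
    rw [cm_mul, cj_eq (c.c1 _ (c2Z c' x d o)), c.c2 x d o, c'.c2 x d o, hf_add_right, hf_add_right,
      tr_add, tr_add, add_comm (tr _), add_comm (tr (hf x y₂)),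
      zmul T hu (star_tr _) (star_tr _) (star_tr _) (star_tr _)]
  c3 := by
    rw [cm_mul, add_comm]
    exact R_mul T hu (R_cj T hu c.c1 (c2Z c) c'.c3) c.c3

theorem cl_inv (c : Cl e t τ u k y₁ y₂) : Cl e t τ u k⁻¹ y₁ y₂ := by
  have c1 : ∀ z, InZ e τ u z → k⁻¹ * z = z * k⁻¹ := fun z hz => Commute.inv_left (c.c1 z hz)
  have c2 : ∀ x d, Ok u x d → cm k⁻¹ (e (EE u x d)) = zt e τ u (tr (hf x y₁)) (tr (hf x y₂)) :=
    fun x d o => by
      rw [cm_inv, cj_eq (c1 _ (Z_inv T hu (c2Z c x d o))), c.c2 x d o, z_inv T hu (star_tr _) (star_tr _)]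
  refine ⟨c.p1, c.p2, c1, c2, ?_⟩
  rw [cm_inv]
  exact R_cj T hu c1 (fun x d o => ⟨_, _, star_tr _, star_tr _, c2 x d o⟩) (R_inv T hu c.c3)

omit T in
theorem cl_shift (a b : K) (c : Cl e t τ u k y₁ y₂) : Cl e t τ u k (y₁ + a • u) (y₂ + b • u) where
  p1 := by rw [hf_add_left, c.p1, hf_smul_left, hu]; simp
  p2 := by rw [hf_add_left, c.p2, hf_smul_left, hu]; simp
  c1 := c.c1
  c2 x d o := by simp only [c.c2 x d o, hf_add_right, hf_smul_right, o.perp, mul_zero, add_zero]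
  c3 := by
    obtain ⟨d, z, o, hz, h1⟩ := c.c3
    refine ⟨d + tr b, z, ⟨hu, by rw [hf_add_left, c.p2, hf_smul_left, hu]; simp, ?_⟩, hz, ?_⟩
    · have h0 : hf u u = 0 := hu
      rw [tr_add, tr_tr]
      simp only [o.tr, hf_add_left, hf_add_right, hf_smul_left, hf_smul_right, h0, c.p2,
        hf_symm c.p2, mul_zero, add_zero]
    · rw [h1, EE_shift, add_assoc, CharTwo.add_self_eq_zero, add_zero]

omit hu in
theorem cl_e (h : B1 e t) {x : Vn n K} {c : K} (o : Ok u x c) : Cl e t τ u (e (EE u x c)) x 0 where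
  p1 := o.perp
  p2 := by simp
  c1 _ hz := E_Z T o hz
  c2 x' d o' := by
    have := congrArg e (EE_cm o o')
    simp only [cm, map_mul, map_inv] at this
    rw [cm, this, tr_hf]
    simp [z_left T]
  c3 := by
    rw [SA.cm_eq_one.2 (h.comm _).symm]
    exact R_Z T o.iso (Z_one T)

omit hu in
theorem cl_s (h : B1 e t) {v : Vn n K} (p : Pp u v) : Cl e t τ u (sig τ v u) 0 v := by
  have p1 := pp_add p (pp_self p.l) p.symm
  have c1 : ∀ z, InZ e τ u z → sig τ v u * z = z * sig τ v u := fun z hz =>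
    Commute.mul_left (Commute.mul_left (Z_comm T p1 (Z_τ T p1.l) hz)
      (Z_comm T (pp_self p.l) (Z_τ T p.l) hz)) (Z_comm T p.symm (Z_τ T p.r) hz)
  refine ⟨by simp, p.symm.p, c1, fun x d o => ?_, 0, 1, p.ok, Z_one T, ?_⟩
  · rw [cm_def, sig_conj T.toT1 _ p, ac_EE_self o, ac_EE_perp o p.symm.p,
      T.sadd _ _ _ p (pp_smul (pp_self p.l) _) (pp_smul p.symm _), sig_self T p.l, _root_.mul_inv_rev,
      z_inv T p.l (star_zero K) (star_tr _), ← mul_assoc,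
      cj_eq (c1 _ ⟨_, _, star_zero K, star_tr _, rfl⟩), tr_hf]
    simp
  · rw [cm_def, t_sig h T.toT1 p, _root_.mul_inv_rev, mul_inv_cancel_left, ← map_inv, EE_inv p.ok]
    simp

theorem cl_ex (h : B1 e t) (h1 : hf y₁ u = 0) (h2 : hf y₂ u = 0) : ∃ k, Cl e t τ u k y₁ y₂ := by
  obtain ⟨k, c⟩ := FW.span u hu (fun y => ∃ k, Cl e t τ u k 0 y) (fun x p => ⟨_, cl_s T h p⟩)
    (fun x y _ _ ⟨k, c⟩ ⟨k', c'⟩ => ⟨k * k', by simpa using cl_mul T hu c c'⟩) y₂ h2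
  obtain ⟨d, hd⟩ := FQ.trs (hf y₁ y₁) (star_hf _ _)
  exact ⟨_, by simpa using cl_mul T hu (cl_e T h ⟨hu, h1, hd⟩) c⟩

theorem conj_e (h : B1 e t) (g : XU n K) (c : Cl e t τ u k y₁ y₂) :
    Cl e t τ (ac g u) (e g * k * (e g)⁻¹) (ac g y₁) (ac g y₂) where
  p1 := by rw [hf_ac, c.p1]
  p2 := by rw [hf_ac, c.p2]
  c1 z hz := by
    have h1 := Z_e T (hu.ac g) g⁻¹ hz
    rw [ac_inv_ac] at h1
    have h2 := congrArg (fun a => e g * a * (e g)⁻¹) (c.c1 _ h1)
    simp only [← conj_mul, map_inv] at h2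
    simpa [mul_assoc] using h2
  c2 x d o := by
    obtain ⟨x, rfl⟩ : ∃ x', x = ac g x' := ⟨_, (ac_ac_inv g x).symm⟩
    have o' : Ok u x d := by simpa using o.ac g⁻¹
    rw [← EE_conj o', map_mul, map_mul, map_inv, cm_cj, c.c2 x d o', zconj T hu g (star_tr _), hf_ac,
      hf_ac]
  c3 := by
    obtain ⟨d, z, o, hz, h1⟩ := c.c3
    refine ⟨d, _, o.ac g, Z_e T hu g hz, ?_⟩
    rw [← EE_conj o, map_mul, map_mul, map_inv, conj_mul, ← h1, ← cm_cj, h.conj_t]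

theorem conj_t (h : B1 e t) (c : Cl e t τ u k y₁ y₂) : Cl e t τ u (t * k * t⁻¹) (y₁ + y₂) y₂ where
  p1 := by rw [hf_add_left, c.p1, c.p2, add_zero]
  p2 := c.p2
  c1 z hz := by
    have h2 := congrArg (fun a => t * a * t⁻¹) (c.c1 _ (Z_t T hu h hz))
    simpa only [← conj_mul, conj2 h.inv.1] using h2
  c2 x d o := by
    rw [← h.conj_eq (EE u x d), cm_cj, c.c2 x d o, zt_t T hu h (star_tr _) (star_tr _), hf_add_right,
      tr_add]
  c3 := by
    obtain ⟨d, z, o, hz, h1⟩ := c.c3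
    refine ⟨d, _, o, Z_t T hu h hz, ?_⟩
    rw [← h.conj_eq (EE u y₂ d), conj_mul, ← h1, ← cm_cj, mul_inv_cancel_right t t]

theorem scale {s : K} (s0 : s ≠ 0) (c : Cl e t τ (s • u) k y₁ y₂) :
    Cl e t τ u k (star s • y₁) (star s • y₂) := by
  have e1 : s⁻¹ • s • u = u := by rw [smul_smul, inv_mul_cancel₀ s0, one_smul]
  have s1 : star s ≠ 0 := star_ne_zero.2 s0
  have e2 : ∀ x y : Vn n K, nm s * tr (hf (star s⁻¹ • x) y) = tr (hf x (star s • y)) := fun x y => by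
    simp only [nm, tr, hf_smul_left, hf_smul_right, star_mul', star_star, star_inv₀]
    field_simp
  refine ⟨by rw [hf_smul_left, ← hf_smul_right, c.p1], by rw [hf_smul_left, ← hf_smul_right, c.p2],
    fun z hz => c.c1 z (Z_smul T (hu.smul s) s⁻¹ (e1.symm ▸ hz)), fun x d o => ?_, ?_⟩
  · have := c.c2 _ _ (ok_smul (hu.smul s) (e1.symm ▸ o : Ok (s⁻¹ • s • u) x d))
    rw [← EE_smul, e1] at this
    rw [this, zsmul T hu, e2, e2]
  · obtain ⟨d, z, o, hz, h1⟩ := c.c3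
    exact ⟨_, z, ok_smul hu o, Z_smul T hu s hz, by rw [h1, EE_smul]⟩

omit hu in
theorem rigid0 (h : CH e t) (c : Cl e t τ (ev 0) k 0 0) : InZ e τ (ev 0) k := by
  have hu : Iso (ev 0 : Vn n K) := iso0
  have b := h.toB1
  obtain ⟨d, z, o, hz, h1⟩ := c.c3
  have hd : star d = d := tr_eq_zero.1 (o.tr.trans (by simp))
  obtain ⟨a, β, ha, hb, h2⟩ := Z_mul T hu ⟨d, 0, hd, star_zero K, rfl⟩ hz
  rw [z_left T, ← h1] at h2
  have h3 := z_tt T hu b ha hb
  have h4 : cm k t * (t * cm k t * t⁻¹) = k * (t * t) * k⁻¹ * (t * t)⁻¹ := by rw [cm]; group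
  rw [← h2, h4, b.inv.1] at h3
  obtain rfl := e_Tc_eq_one h.ker (ev_ne 0) hu hb (h3.symm.trans (by simp))
  have hz : InZ e τ (ev 0) (τ (rt a • ev 0)) := Z_smul T hu _ (Z_τ T (hu.smul _))
  have h5 := T.tt _ (hu.smul (rt a))
  rw [TT, Tc_smul, nm_rt ha, mul_one, b.comm, ← z_left T, ← h2, cm, inv_mul_cancel_right] at h5
  have c0 := c.c1 _ (Z_τ T hu)
  obtain ⟨m, hm, h6⟩ := k0 h (rgk K le_rfl (by omega)) (w := (τ (rt a • ev 0))⁻¹ * k) (by
    calc _ = (τ (rt a • ev 0))⁻¹ * (τ (rt a • ev 0) * t * (τ (rt a • ev 0))⁻¹) * k := by group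
      _ = _ := by rw [h5]; group) (mul_mem (inv_mem (mem_Cs.2 (by
      rintro _ ⟨q, hq, rfl⟩
      obtain ⟨x, d, o, rfl⟩ := (FV.mem_Q q).1 hq
      exact E_Z T o hz))) (mem_Cs.2 (by
      rintro _ ⟨q, hq, rfl⟩
      obtain ⟨x, d, o, rfl⟩ := (FV.mem_Q q).1 hq
      exact (SA.cm_eq_one.1 ((c.c2 x d o).trans (by simp [z_zero T]))).symm)))
  obtain ⟨f, hf, rfl⟩ := (FV.mem_Z m).1 hm
  have hm : InZ e τ (ev 0) (e (Tc f (ev 0))) := ⟨f, 0, hf, star_zero K, (z_left T f).symm⟩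
  rcases h6 with h6 | h6 <;> rw [inv_mul_eq_iff_eq_mul] at h6
  · exact h6 ▸ Z_mul T hu hz hm
  · have c1 : Commute (τ (ev 0)) t := by
      have : t = (τ (rt a • ev 0))⁻¹ * k * (e (Tc f (ev 0)))⁻¹ := by rw [h6]; group
      rw [this]
      exact ((Z_comm T (pp_self hu) (Z_τ T hu) hz).inv_right.mul_right c0.symm).mul_right
        (Z_comm T (pp_self hu) (Z_τ T hu) hm).inv_right
    have h7 := T.tt _ hu
    rw [cj_eq c1.eq, left_eq_mul] at h7
    exact absurd (e_Tc_eq_one h.ker (ev_ne 0) hu (star_one K) h7) one_ne_zero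

theorem rigid (h : CH e t) (u0 : u ≠ 0) (c : Cl e t τ u k 0 0) : InZ e τ u k := by
  obtain ⟨g, rfl⟩ := FW.w1 u u0 hu
  have c' := conj_e T hu h.toB1 g⁻¹ c
  rw [ac_inv_ac, ac_zero] at c'
  simpa [mul_assoc] using Z_e T iso0 g (rigid0 T h c')

omit hu in
theorem cl (h : CH e t) : CL e t τ where
  zmul _ _ _ _ _ hu := zmul T hu
  zt_t _ _ _ hu := zt_t T hu h.toB1
  zconj g _ _ b hu ha := zconj T hu g ha b
  zsmul c _ a _ hu _ := zsmul T hu c a
  zinj _ _ _ u0 hu := zinj T hu h.toB1 u0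
  zdis _ _ _ hu := zdis T hu h.toB1
  sig_self a _ hu := sig_self T hu a
  zcl _ _ hu := zcl T hu h.toB1
  rigid _ _ u0 hu := rigid T hu h u0
  mul _ _ _ _ _ _ _ hu := cl_mul T hu
  inv _ _ _ _ hu := cl_inv T hu
  shift _ _ _ _ a b hu := cl_shift hu a b
  cl_e _ _ _ := cl_e T h.toB1
  cl_s _ _ := cl_s T h.toB1
  exist _ _ _ hu := cl_ex T hu h.toB1
  conj_e g _ _ _ _ hu := conj_e T hu h.toB1 g
  conj_t _ _ _ _ hu := conj_t T hu h.toB1
  scale c u k y₁ y₂ c0 hu := ⟨scale T hu c0, fun h1 => by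
    have e1 : ∀ v : Vn n K, star c⁻¹ • star c • v = v := fun v => by
      rw [smul_smul, ← star_mul', inv_mul_cancel₀ c0, star_one, one_smul]
    have := scale T (hu.smul c) (inv_ne_zero c0) (k := k) (y₁ := star c • y₁) (y₂ := star c • y₂)
      (by rwa [smul_smul, inv_mul_cancel₀ c0, one_smul])
    rwa [e1, e1] at this⟩

omit T hu in
theorem jobCL : JobCL.{u} := fun _ _ _ _ _ _ _ _ _ _ _ _ _ _ _ _ _ _ h _ T => cl T h

end H59.UVC
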