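import Cfsg.Agent.H59.U5K0

/-! STD-UM: the orders of the pattern subgroups of `SU_(n+1)(q)` (Cayley transform). -/

set_option autoImplicit false
set_option linter.unusedSectionVars false

namespace H59.UM5c

open H67

open H64.SG (fx)
open Matrix H57 Subgroup
open H67 H59.UV
open H67.SA (SLn Au la Pat Uni)

variable {n : ℕ} {K : Type} [Field K] [StarRing K] [CharP K 2]

/-- the adjoint for the antidiagonal form -/
def ad (M : Matrix (Fin (n + 1)) (Fin (n + 1)) K) : Matrix (Fin (n + 1)) (Fin (n + 1)) K :=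
  of fun i j => star (M j.rev i.rev)

section
variable (M N : Matrix (Fin (n + 1)) (Fin (n + 1)) K)
theorem ad_apply (i j : Fin (n + 1)) : ad M i j = star (M j.rev i.rev) := rfl
theorem ad_add : ad (M + N) = ad M + ad N := by ext i j; simp [ad_apply]
theorem ad_smul (c : K) : ad (c • M) = star c • ad M := by ext i j; simp [ad_apply]
theorem ad_ad : ad (ad M) = M := by ext i j; simp [ad_apply]
theorem ad_one : ad (1 : Matrix (Fin (n + 1)) (Fin (n + 1)) K) = 1 := by
  ext i j; simp [ad_apply, one_apply, eq_comm, apply_ite star]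
theorem ad_mul : ad (M * N) = ad N * ad M := by
  ext i j
  simp only [ad_apply, mul_apply, star_sum, star_mul']
  rw [← Equiv.sum_comp Fin.revPerm]
  simp [mul_comm]
theorem m_add_self : M + M = 0 := by ext i j; simp [CharTwo.add_self_eq_zero]
end

theorem mem_X {g : SLn n K} : g ∈ fx (tau n K) ↔ g.1 * ad g.1 = 1 := mem_XU_iff

/-- the matrices with support in `S` -/
def Sup (S : Fin (n + 1) → Fin (n + 1) → Prop) : Submodule K (Matrix (Fin (n + 1)) (Fin (n + 1)) K) where
  carrier := {N | ∀ i j, (i ≠ j → ¬ S i j) → N i j = 0}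
  zero_mem' _ _ _ := rfl
  add_mem' ha hb i j h := by simp [ha i j h, hb i j h]
  smul_mem' c _ ha i j h := by simp [ha i j h]

variable {S : Fin (n + 1) → Fin (n + 1) → Prop}

theorem mem_iff (hS : Uni S) {g : SLn n K} : g ∈ Pat n K S ↔ 1 + g.1 ∈ (Sup S : Submodule K _) := by
  rw [SA.mem_Pat hS]
  refine ⟨fun h i j e => ?_, fun h => ⟨fun i => ?_, fun i j e r => ?_⟩⟩
  · rcases eq_or_ne i j with rfl | r
    · simp [h.1, CharTwo.add_self_eq_zero]
    · simp [r, h.2 i j r (e r)]
  · have := h i i fun e => (e rfl).elim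
    rw [Matrix.add_apply, one_apply_eq] at this
    linear_combination this - two0 K
  · simpa [e] using h i j fun _ => r

theorem exists_un (hS : Uni S) {N : Matrix (Fin (n + 1)) (Fin (n + 1)) K} (h : N ∈ (Sup S : Submodule K _)) :
    ∃ g ∈ Pat n K S, g.1 = 1 + N :=
  SA.exists_Pat hS _ (fun i => by simp [h i i fun e => (e rfl).elim]) fun i j e r => by
    simp [e, h i j fun _ => r]

theorem card_Sup (hS : Uni S) : Nat.card (Pat n K S) = Nat.card (Sup S : Submodule K _) :=
  Nat.card_eq_of_bijective (fun g => ⟨1 + g.1.1, (mem_iff hS).1 g.2⟩) ⟨fun _ _ e =>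
    Subtype.ext (Subtype.ext (add_left_cancel (congrArg Subtype.val e))), fun N => by
    obtain ⟨g, hg, e⟩ := exists_un hS N.2
    exact ⟨⟨g, hg⟩, Subtype.ext (by simp only [e, ← add_assoc, m_add_self, zero_add])⟩⟩

variable [Finite K]

theorem card_fix (hS : Uni S) (sy : ∀ i j, S j.rev i.rev → S i j) {η : K} (hη : tr η = 1) :
    Nat.card ((Pat n K S).subgroupOf (fx (tau n K))) ^ 2 = Nat.card (Pat n K S) := by
  let A : Submodule K (Matrix (Fin (n + 1)) (Fin (n + 1)) K) := Sup S
  have aA : ∀ N ∈ A, ad N ∈ A := fun N h i j e => by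
    rw [ad_apply, h _ _ fun r r' => e (fun q => r (by rw [q])) (sy _ _ r'), star_zero]
  let f : A →+ A := AddMonoidHom.mk' (fun N => ⟨N.1 + ad N.1, A.add_mem N.2 (aA _ N.2)⟩) fun a b =>
    Subtype.ext (by simp only [Submodule.coe_add, ad_add]; abel)
  have k : ∀ N : A, N ∈ f.ker ↔ ad N.1 = N.1 := fun N => ⟨fun h => by
    have : N.1 + ad N.1 = 0 := congrArg Subtype.val h
    rw [← m_add_self N.1] at this
    exact add_left_cancel this, fun h => Subtype.ext (by
    change N.1 + ad N.1 = 0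
    rw [h, m_add_self])⟩
  have r : f.range = f.ker := AddSubgroup.ext fun N => ⟨by
    rintro ⟨M, rfl⟩
    exact (k _).2 (by change ad (M.1 + ad M.1) = M.1 + ad M.1; rw [ad_add, ad_ad, add_comm M.1]), fun h =>
    ⟨η • N, Subtype.ext (by
      change η • N.1 + ad (η • N.1) = N.1
      rw [ad_smul, (k N).1 h, ← add_smul, show η + star η = 1 from hη, one_smul])⟩⟩
  have c : Nat.card f.ker ^ 2 = Nat.card A := by
    rw [← f.ker.card_mul_index, AddSubgroup.index_ker, r, sq]
  rw [card_Sup hS, ← c]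
  congr 1
  have e1 : η + star η = 1 := hη
  -- the relation
  have R : ∀ (g N : Matrix (Fin (n + 1)) (Fin (n + 1)) K), g * (1 + star η • N) = 1 + η • N ↔
      (1 + star η • (1 + g)) * N = 1 + g := fun g N => by
    have : (1 + star η • (1 + g)) * N + (1 + g) = g * (1 + star η • N) + (1 + η • N) := by
      rw [show η • N = N + star η • N by
        rw [← one_smul K N, smul_smul, smul_smul, ← add_smul]; congr 1
        linear_combination e1 - star η * two0 K]
      simp only [add_mul, mul_add, smul_add, one_mul, mul_one, smul_mul_assoc, mul_smul_comm]; abel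
    constructor <;> intro h
    · rw [h, m_add_self, ← m_add_self (1 + g)] at this; exact add_right_cancel this
    · rw [h, m_add_self, ← m_add_self (1 + η • N)] at this; exact (add_right_cancel this).symm
  have ex : ∀ g : (Pat n K S).subgroupOf (fx (tau n K)), ∃ N : f.ker,
      (1 + star η • (1 + g.1.1.1)) * N.1.1 = 1 + g.1.1.1 := fun g => by
    have h1 : 1 + g.1.1.1 ∈ A := (mem_iff hS).1 g.2
    obtain ⟨u, hu, e⟩ := exists_un hS (A.smul_mem (star η) h1)
    have h2 : ad g.1.1.1 * g.1.1.1 = 1 := mul_eq_one_comm.1 (mem_X.1 g.1.2)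
    have i1 : u.1 * (u⁻¹).1 = 1 := by rw [← SA.val_mul, mul_inv_cancel, SA.val_one]
    have i2 : (u⁻¹).1 * u.1 = 1 := mul_eq_one_comm.1 i1
    set a := g.1.1.1
    have h3 : u.1 * ((u⁻¹).1 * (1 + a)) = 1 + a := by rw [← mul_assoc, i1, one_mul]
    refine ⟨⟨⟨(u⁻¹).1 * (1 + a), ?_⟩, (k _).2 ?_⟩, e ▸ h3⟩
    · have := A.add_mem ((mem_iff hS).1 (inv_mem hu)) ((mem_iff hS).1 (mul_mem (inv_mem hu) g.2))
      rwa [add_add_add_comm, m_add_self, zero_add, SA.val_mul, ← mul_one_add] at this
    · have h4 : ad u.1 * a = u.1 := by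
        rw [e, ad_add, ad_one, ad_smul, star_star, ad_add, ad_one, add_mul, smul_mul_assoc, add_mul, h2,
          one_mul, show star η • (1 + a) = 1 + a + η • (1 + a) by
            rw [← one_smul K (1 + a), smul_smul, smul_smul, ← add_smul]; congr 1
            linear_combination e1 - η * two0 K, ← add_assoc, ← add_assoc, m_add_self, zero_add, add_comm a 1]
      have h5 := congrArg (fun M => ad M * a * (u⁻¹).1) h3
      simp only [ad_mul _ (_ * _), mul_assoc (ad _) (ad _), h4] at h5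
      rw [mul_assoc, i1, mul_one, ad_add, ad_one, add_mul, h2, one_mul, add_comm a] at h5
      have h6 : (1 + a) * u.1 = u.1 * (1 + a) := by
        rw [e]; simp only [add_mul, mul_add, smul_add, one_mul, mul_one, smul_mul_assoc, mul_smul_comm]; abel
      change ad ((u⁻¹).1 * (1 + a)) = (u⁻¹).1 * (1 + a)
      generalize 1 + a = b at h5 h6 ⊢
      rw [h5, ← one_mul (b * _), ← i2, mul_assoc, ← mul_assoc u.1, ← h6, mul_assoc, i1, mul_one]
  choose φ hφ using ex
  refine Nat.card_eq_of_bijective φ ⟨fun g g' e => ?_, fun N => ?_⟩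
  · obtain ⟨u, -, r⟩ := exists_un hS (A.smul_mem (star η) (φ g).1.2)
    have h1 := (R _ _).2 (hφ g)
    have h2 := (R _ _).2 (hφ g')
    rw [← e, ← h1, ← r, ← SA.val_mul, ← SA.val_mul] at h2
    exact Subtype.ext (Subtype.ext (mul_right_cancel (show g'.1.1 * u = g.1.1 * u from Subtype.ext h2)).symm)
  · obtain ⟨u, hu, r⟩ := exists_un hS (A.smul_mem (star η) N.1.2)
    obtain ⟨v, hv, r'⟩ := exists_un hS (A.smul_mem η N.1.2)
    have a1 : ad u.1 = v.1 := by rw [r, r', ad_add, ad_one, ad_smul, star_star, (k _).1 N.2]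
    have a2 : u * v = v * u := Subtype.ext (by
      rw [SA.val_mul, SA.val_mul, r, r']
      simp only [add_mul, mul_add, one_mul, mul_one, smul_mul_assoc, mul_smul_comm, smul_add, smul_smul,
        mul_comm η]; abel)
    have a3 : (v * u⁻¹).1 * u.1 = v.1 := by rw [← SA.val_mul, inv_mul_cancel_right]
    have a4 : v * u⁻¹ ∈ fx (tau n K) := mem_X.2 (by
      have := congrArg (fun M => (u⁻¹).1 * ad M) a3
      simp only [ad_mul, a1, show ad v.1 = u.1 from a1 ▸ ad_ad u.1] at this
      rw [← mul_assoc, ← SA.val_mul, ← SA.val_mul, inv_mul_cancel, SA.val_one] at this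
      rwa [show v * u⁻¹ = u⁻¹ * v by rw [eq_inv_mul_iff_mul_eq, ← mul_assoc, a2, mul_inv_cancel_right]] at this ⊢)
    refine ⟨⟨⟨_, a4⟩, mul_mem hv (inv_mem hu)⟩, Subtype.ext (Subtype.ext ?_)⟩
    obtain ⟨w, -, e⟩ := exists_un hS (A.smul_mem (star η) ((mem_iff hS).1 (mul_mem hv (inv_mem hu))))
    have h1 := hφ ⟨⟨_, a4⟩, mul_mem hv (inv_mem hu)⟩
    have h2 := (R _ _).1 (r ▸ r' ▸ a3)
    have h3 := congrArg ((w⁻¹).1 * ·) (h1.trans h2.symm)
    simp only [← e, ← mul_assoc, ← SA.val_mul, inv_mul_cancel, SA.val_one, one_mul] at h3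
    exact h3

variable [FQ K]

theorem card_of (hS : Uni S) (sy : ∀ i j, S j.rev i.rev → S i j) {e : ℕ}
    (h : Nat.card (Pat n K S) = Nat.card K ^ e) : Nat.card ((Pat n K S).subgroupOf (fx (tau n K))) = qK K ^ e := by
  obtain ⟨η, hη⟩ := FQ.eta (K := K)
  refine Nat.pow_left_injective two_ne_zero ?_
  simp only [card_fix hS sy hη, h, FQ.card (K := K), ← pow_mul, mul_comm]

theorem card_UU : Nat.card (GA.UU (XU n K)) = qK K ^ SA.NN n :=
  card_of SA.uni_UU (fun _ _ h => Fin.rev_lt_rev.1 h) SA.card_UU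

theorem card_Mk {k : ℕ} (h : 2 * k ≤ n + 1) : Nat.card (GA.Mk (XU n K) k) = qK K ^ (k * k) :=
  card_of (SA.uni_Mk h) (fun i j h => by simp only [Fin.val_rev] at h; omega) (SA.card_Mk h)

theorem card_Qk {k e : ℕ} (h : k ≤ n + 1) (c : Nat.card (SA.Qk n K k) = Nat.card K ^ e) :
    Nat.card (GA.Qk (XU n K) k) = qK K ^ e := by
  change Nat.card ((SA.Qk n K k).subgroupOf _) = _
  rw [SA.Qk_eq] at c ⊢
  exact card_of (SA.uni_Qk k) (fun i j h => by simp only [Fin.val_rev] at h; omega) c

theorem card_Ql : Nat.card (GA.Qk (XU n K) (GA.ll (XU n K))) = qK K ^ SA.bg n :=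
  card_Qk (by rw [ll_eq]; omega) SA.card_Qk_bg

end H59.UM5c
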