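import Cfsg.Agent.H59.U5FU
import Cfsg.Agent.H67.SAEF
import Cfsg.Agent.H67.SAAsm
import Cfsg.Agent.S1769

/-! STD-UM: `JobEF` (the field case for `X = SU_(n+1)(q)`: identification of `F₀`). -/

set_option autoImplicit false
set_option linter.unusedSectionVars false

namespace H59.UVE

open H67

open H64.SG (O2 Syl Cz Cs Ns cjs Is2 Inv2 UF IsO2 fx mem_Cs mem_Cz mem_fx is2_of_sq
  isPGroup_iff_is2 Cfg)
open H57 H98 Subgroup
open H67 H59.UV
open H67.SA (SLn Au la St cI cm Gen)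
open H67.GA (B1 CE CF)

universe u

/-- If every element of `B` is `a²` or `a² w`, the `2`-elements of `B` are `1` and `w`. -/
theorem two_elts {A : Type*} [CommGroup A] [Finite A] {B : Subgroup A} {w : A} (s2 : w * w = 1)
    (k1 : ∀ r ∈ B, ∃ a ∈ B, r = a ^ 2 ∨ r = a ^ 2 * w) {r : A} (r1 : r ∈ B) (r2 : Is2 r) :
    r = 1 ∨ r = w := by
  let R : Subgroup A :=
    { carrier := {a | Is2 a}
      one_mem' := H64.SG.is2_one
      mul_mem' := fun a b => a.mul b (mul_comm _ _)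
      inv_mem' := fun a => a.inv }
  obtain ⟨N, hN⟩ := (isPGroup_iff_is2.2 fun _ h => h : IsPGroup 2 R).exists_card_eq
  have k3 : ∀ r ∈ B, r ∈ R → ∃ a ∈ B, a ∈ R ∧ (r = a ^ 2 ∨ r = a ^ 2 * w) := fun r r1 r2 => by
    obtain ⟨a, a1, a2⟩ := k1 r r1
    refine ⟨a, a1, Is2.of_pow (k := 1) ?_, a2⟩
    rcases a2 with rfl | rfl
    · exact r2
    · exact (mul_mem_cancel_right (is2_of_sq s2 : _ ∈ R)).1 r2
  have k2 : ∀ k, ∀ r ∈ B, r ∈ R → ∃ a ∈ B, a ∈ R ∧
      (r = a ^ 2 ^ (k + 1) ∨ r = a ^ 2 ^ (k + 1) * w) := fun k => by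
    induction k with
    | zero => exact k3
    | succ k ih =>
      intro r r1 r2
      obtain ⟨a, a1, a2, a3⟩ := ih r r1 r2
      obtain ⟨b, b1, b2, b3⟩ := k3 a a1 a2
      have : a ^ 2 ^ (k + 1) = b ^ 2 ^ (k + 1 + 1) := by
        rcases b3 with rfl | rfl
        · rw [← pow_mul, ← pow_succ']
        · rw [mul_pow, ← pow_mul, ← pow_succ', pow_succ' 2 k, pow_mul w, pow_two, s2, one_pow,
            mul_one]
      exact ⟨b, b1, b2, this ▸ a3⟩
  obtain ⟨a, -, a1, a2⟩ := k2 N _ r1 r2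
  have : a ^ 2 ^ (N + 1) = 1 := by
    rw [pow_succ, pow_mul, ← hN, show a ^ Nat.card R = 1 from
      congrArg Subtype.val (pow_card_eq_one' (x := (⟨a, a1⟩ : R))), one_pow]
  simpa [this] using a2

/-- The `2`-elements of the image of `lam` are `1` and `lam t`. -/
theorem two_lam {G : Type u} [Group G] [Finite G] {M : Subgroup G} {t : G} (uf : UF M t)
    (gen : Gen t) {A : Type} [CommGroup A] [Finite A] (lam : M →* A)
    (ft : ∀ s ∈ M, IsConj t s → ∃ m : M, lam m = 1 ∧ s = m * t * m⁻¹) (m : M) (h : Is2 (lam m)) :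
    lam m = 1 ∨ lam m = lam ⟨t, uf.mem⟩ := by
  obtain ⟨V, hV⟩ := H9.UF.jobK3 uf ((QuotientGroup.mk' (powMonoidHom 2 : lam.range →* _).range).comp
    lam.rangeRestrict)
  have hV' := fun x hx e => hV x hx t (IsConj.refl t) uf.mem e (Or.inr fun y => by
    obtain ⟨y, rfl⟩ := QuotientGroup.mk_surjective y
    exact (QuotientGroup.eq_one_iff (y * y)).2 ⟨y, pow_two y⟩)
  refine two_elts (B := lam.range) (by
    rw [← map_mul, show (⟨t, uf.mem⟩ * ⟨t, uf.mem⟩ : M) = 1 from Subtype.ext uf.inv.1, map_one])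
    ?_ ⟨m, rfl⟩ h
  rintro _ ⟨m, rfl⟩
  obtain ⟨m', i', m2⟩ := ft _ (mul_mem (mul_mem m.2 uf.mem) (inv_mem m.2)) (isConj_iff.2 ⟨_, rfl⟩)
  have e1 : lam m = lam ⟨m'.1⁻¹ * m, mul_mem (inv_mem m'.2) m.2⟩ := by
    change _ = lam (m'⁻¹ * m)
    rw [map_mul, map_inv, i', inv_one, one_mul]
  have e2 := hV' _ (mul_mem (inv_mem m'.2) m.2) (by
    calc _ = m'.1⁻¹ * (m' * t * m'.1⁻¹) * m := by group
      _ = _ := by rw [← show m.1 * t * m.1⁻¹ = m' * t * m'.1⁻¹ from m2]; group)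
  rcases gen _ V (m'.1⁻¹ * m) with e3 | e3
  · obtain ⟨a, ha⟩ := (QuotientGroup.eq_one_iff _).1 (e2.symm.trans e3)
    exact ⟨a, a.2, Or.inl (e1.trans (congrArg Subtype.val ha).symm)⟩
  · obtain ⟨a, ha⟩ := QuotientGroup.eq.1 ((hV' t uf.mem rfl).symm.trans (e3.symm.trans e2))
    have := congrArg Subtype.val ha
    change a.1 ^ 2 = (lam _)⁻¹ * lam _ at this
    exact ⟨a, a.2, Or.inr (by rw [this, ← e1, mul_comm, mul_inv_cancel_left])⟩

section SL

variable {n : ℕ} {K : Type} [Field K] [CharP K 2] [Finite K] {G : Type u} [Group G] [Finite G]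

theorem iso_map {H : Type*} [Group H] {Φ : SLn n K →* H} (hk : Φ.ker ≤ center (SLn n K))
    {A : Subgroup (SLn n K)} (hA : IsPGroup 2 A) : Nonempty (A ≃* A.map Φ) :=
  ⟨MulEquiv.ofBijective (Φ.subgroupMap A) ⟨fun a b h => Subtype.ext (SA.eq_of_is2
    (isPGroup_iff_is2.1 hA _ a.2) (isPGroup_iff_is2.1 hA _ b.2) (hk (by
      have : Φ a = Φ b := congrArg Subtype.val h
      simp [MonoidHom.mem_ker, this]))), Φ.subgroupMap_surjective A⟩⟩

/-- A simple group with the Sylow `2`-subgroup `Φ(U)` is `PSL`. -/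
theorem psl_of_syl (hn : 2 ≤ n) {r : ℕ} (hr : 2 ≤ r) (hK : Nat.card K = 2 ^ r) {Φ : SLn n K →* G}
    (hk : Φ.ker ≤ center (SLn n K)) {F₀ : Subgroup G} (hs : IsSimpleGroup F₀)
    (h : IsSyl 2 ((SA.UU n K).map Φ) F₀) :
    Nonempty (F₀ ≃* Matrix.ProjectiveSpecialLinearGroup (Fin (n + 1)) K) := by
  classical
  let _ := Fintype.ofFinite K
  let μ : SLn n K →* Matrix.ProjectiveSpecialLinearGroup (Fin (n + 1)) K := QuotientGroup.mk' _
  have h1 : IsSyl 2 ((SA.UU n K).map μ) ⊤ := by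
    have := (H64.SG.syl_iff.1 (SA.syl_UU (n := n) (F := K))).map μ
    rwa [← MonoidHom.range_eq_map, MonoidHom.range_eq_top.2 (QuotientGroup.mk'_surjective _)] at this
  obtain ⟨S, hS⟩ := h.exists_sylow
  obtain ⟨i1⟩ := iso_map hk (SA.isP_UU (n := n) (F := K))
  obtain ⟨i2⟩ := iso_map (Φ := μ) (QuotientGroup.ker_mk' _).le (SA.isP_UU (n := n) (F := K))
  refine Cfsg.Agent.S1769.result (fun h3 => ?_) r hr (by rw [← hK, Nat.card_eq_fintype_card])
    (n + 1) (by omega) S h1.toSylowTop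
    ⟨((MulEquiv.subgroupCongr hS).trans (subgroupOfEquivOfLe h.1)).trans (i1.symm.trans i2)⟩
  have h4 : (SA.Ml n K 1).map Φ ≤ F₀ := (map_mono (SA.Ml_le_UU 1)).trans h.1
  have h5 := h3 (((SA.Ml n K 1).map Φ).subgroupOf F₀) ⟨⟨fun a b => Subtype.ext (Subtype.ext (by
    obtain ⟨x, x1, x2⟩ := a.2
    obtain ⟨y, y1, y2⟩ := b.2
    change a.1.1 * b.1.1 = b.1.1 * a.1.1
    rw [← show Φ x = a.1.1 from x2, ← show Φ y = b.1.1 from y2, ← map_mul, ← map_mul,
      SA.Ml_le_Cs 1 x1 y y1]))⟩⟩ fun a ⟨x, x1, x2⟩ => Subtype.ext (by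
    change a.1 ^ 2 = 1
    rw [← show Φ x = a.1 from x2, pow_two, ← map_mul, SA.sq_Ml x1, map_one])
  rw [Nat.card_congr (subgroupOfEquivOfLe h4).toEquiv, SA.card_map2 hk
    (SA.isP_UU.to_le (SA.Ml_le_UU 1)), SA.card_Ml (by omega), hK, ← pow_mul,
    Nat.pow_le_pow_iff_right one_lt_two, one_mul, Nat.add_sub_cancel] at h5
  nlinarith

end SL

variable {n : ℕ} {K : Type} [Field K] [StarRing K] [CharP K 2] [Finite K] [Par n K] [FQ K] [FV n K]
  [FK n K] [H59.GB.Fa (XU n K)] {G : Type u} [Group G] [Finite G] {e : XU n K →* G} {t : G}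
  {Φ : SLn n K →* G} {F₀ : Subgroup G}

theorem le_ker (hk : e.ker ≤ center (XU n K)) (h : Cfg F₀ e.range t) {A : Type} [CommGroup A]
    (V : G →* A) : F₀ ≤ V.ker := by
  by_contra h3
  have h4 : e (GA.xk (XU n K) 1) ∈ V.ker := GA.hom_eq_one (V.comp e) (fun _ _ => mul_comm _ _) _
  exact (GB.W.inv2_x0 hk).2 (mem_bot.1 (h.normal_eq_bot h3 ▸ h4))

theorem gen (hk : e.ker ≤ center (XU n K)) (h : Cfg F₀ e.range t) : Gen t := fun A _ V g => by
  have h3 := le_ker hk h V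
  rcases h.top g with h4 | h4
  · exact Or.inl (h3 h4)
  · have h5 : V g * V t = 1 := by rw [← map_mul]; exact h3 h4
    have h6 : V t * V t = 1 := by rw [← map_mul, h.inv.1, map_one]
    exact Or.inr (mul_right_cancel (h5.trans h6.symm))

theorem ef (h : CE e t) (c : CF e t (io n K) (tau n K) Φ) (f : GF t Φ) (g : Cfg F₀ e.range t) :
    Nonempty (F₀ ≃* Matrix.ProjectiveSpecialLinearGroup (Fin (n + 1)) K) := by
  have hn := two_le n K
  let _ : CommGroup (RingAut K × Multiplicative (ZMod 2)) :=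
    { (inferInstance : Group _) with mul_comm := SA.out_comm }
  have : Finite (RingAut K) := Finite.of_injective _ DFunLike.coe_injective
  let lam := (SA.out n K).comp (SA.indH hn c.ker)
  have l0 : ∀ {m β} (i : SA.Ind Φ m β), lam ⟨m, i.mem_Ns⟩ = SA.out n K β := fun i =>
    congrArg (SA.out n K) (i.indH_eq hn c.ker)
  have l1 : lam ⟨t, f.uf.mem⟩ = SA.out n K (tau n K) := l0 (act c)
  have h3 : ∀ m, Is2 m → ∀ β, SA.Ind Φ m β →
      SA.out n K β = 1 ∨ SA.out n K β = SA.out n K (tau n K) := fun m m2 β i => by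
    rw [← l1, ← l0 i]
    refine two_lam f.uf (gen h.ker g) lam (fun s s1 s2 => ?_) _
      (l0 i ▸ (i.is2 hn c.ker m2).map (SA.out n K))
    obtain ⟨m, m1, ⟨β, i, i'⟩, m2⟩ := f.ft s s1 s2
    exact ⟨⟨m, m1⟩, (l0 i).trans i', m2⟩
  have t1 : t ∈ Ns ((SA.UU n K).map Φ) := (act c).mem_Ns_map (SA.mem_St_Pat fun i j _ hs a => by
    rw [tau_x]; exact SA.x_mem_UU (Fin.rev_lt_rev.2 hs) _)
  have S1 : IsSyl 2 ((SA.UU n K).map Φ ⊔ zpowers t) ⊤ := by
    refine ⟨le_top, H64.SG.isPGroup_sup_zpowers (SA.isP_UU.map Φ) t1 (is2_of_sq h.inv.1),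
      fun P p1 p2 _ => le_antisymm (fun a ha => ?_) p2⟩
    have p3 := (H9.UF.jobK1 f.uf (IsConj.refl t) f.uf.mem).2 P p1
      (p2 (mem_sup_right (mem_zpowers t)))
    have h2 := (H64.SG.syl_iff.1 SA.syl_map_UU).eq_of_le (p1.to_le inf_le_left)
      (le_inf (le_sup_left.trans p2) (map_le_range _ _)) inf_le_right
    have key : ∀ a ∈ P, ∀ β, SA.Ind Φ a β → SA.out n K β = 1 → a ∈ P ⊓ Φ.range :=
      fun a ha β i i' => by
        obtain ⟨y, -, -, k, k1, k2, k3, -⟩ := i.inner hn c.ker i' (isPGroup_iff_is2.1 p1 a ha)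
        rw [k2.eq_one (H64.SG.odd_orderOf_of_mem f.odd k1), one_mul] at k3
        exact ⟨ha, y, k3.symm⟩
    rw [SA.mem_sup_zp t1 h.inv.1, ← h2]
    obtain ⟨β, i⟩ := SA.exists_ind hn c.ker (p3 ha)
    exact (h3 a (isPGroup_iff_is2.1 p1 a ha) β i).imp (key a ha β i) fun i' =>
      key _ (mul_mem ha (p2 (mem_sup_right (mem_zpowers t)))) _ (i.mul (act c))
        (by rw [map_mul, i', ← map_mul, tau_mul_self, map_one])
  obtain ⟨V, hV⟩ := H9.UF.jobK3 f.uf lam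
  have v1 : t ∉ F₀ := fun h1 => by
    have := le_ker h.ker g V h1
    rw [MonoidHom.mem_ker, hV t f.uf.mem t (IsConj.refl t) f.uf.mem rfl (Or.inl h.inv.1), l1,
      FV.out_tau] at this
    exact absurd (show Multiplicative.ofAdd (1 : ZMod 2) = 1 from congrArg Prod.snd this)
      (by decide)
  have u1 : (SA.UU n K).map Φ ≤ F₀ := (map_le_range _ _).trans (SA.range_le_F0 hn g Φ)
  have S2 := S1.inf_of_le_normalizer (N := F₀) le_top
    (le_top.trans (normalizer_eq_top_iff.2 g.normal).ge)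
  rw [show ((SA.UU n K).map Φ ⊔ zpowers t) ⊓ F₀ = (SA.UU n K).map Φ from
    le_antisymm (fun a ha => ((SA.mem_sup_zp t1 h.inv.1).1 ha.1).resolve_right fun h4 =>
      v1 ((mul_mem_cancel_left ha.2).1 (u1 h4))) (le_inf le_sup_left u1)] at S2
  obtain ⟨r, r1, r2⟩ := FQ.pow2 (K := K)
  exact psl_of_syl hn (r := r * 2) (by omega) (by rw [FQ.card, r2, pow_mul]) c.ker g.simple S2

theorem jobEF : JobEF.{u} := fun _ _ _ _ _ _ _ _ _ _ _ _ _ _ _ _ _ _ _ _ h c f g => ef h c f g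

end H59.UVE
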