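import Cfsg.Agent.H59.U5FA

/-! STD-U5: `JobFC` (more centralisers in `Aut X`). -/

set_option autoImplicit false
set_option linter.unusedSectionVars false

namespace H59.UVK

open H67

open H64.SG (O2 Syl Cz Cs Ns cjs Is2 Inv2 UF IsO2 fx mem_fx is2_of_sq mem_Cz)
open Matrix H57 Subgroup
open H67 H59.UV
open H67.SA (SLn Au la St cI cm)

variable {n : ℕ} {K : Type} [Field K] [StarRing K] [CharP K 2] [Finite K] [hp : Par n K]

theorem comm_single {M : Matrix (Fin (n + 1)) (Fin (n + 1)) K} {i j : Fin (n + 1)}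
    (h : M * single i j 1 = single i j 1 * M) :
    (∀ a, a ≠ i → M a i = 0) ∧ (∀ b, b ≠ j → M j b = 0) ∧ M i i = M j j := by
  have e1 := fun a b => congrFun (congrFun h a) b
  refine ⟨fun a ha => ?_, fun b hb => ?_, ?_⟩
  · have := e1 a j
    rwa [mul_single_apply_same, single_mul_apply_of_ne _ _ _ _ _ ha, mul_one] at this
  · have := e1 i b
    rw [mul_single_apply_of_ne _ _ _ _ _ hb, single_mul_apply_same, one_mul] at this
    exact this.symm
  · have := e1 i j
    rwa [mul_single_apply_same, single_mul_apply_same, mul_one, one_mul] at this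

variable [Base n K]

theorem comm_fix {β : MulAut (XU n K)} {g : GL (Fin (n + 1)) K}
    (e : ∀ s, (β s).1 = slDiag _ K g s.1) {i j : Fin (n + 1)} (hi : i.val < 2) (hj : j.val < 3)
    (h0 : ∀ u ∈ GA.Mk (XU n K) 2, β u = u)
    (h1 : ∀ (a c : K), Ok (ev i) (a • ev j) c → β (EE (ev i) (a • ev j) c) = EE (ev i) (a • ev j) c) :
    g.1 * single i j.rev 1 = single i j.rev 1 * g.1 ∧
      g.1 * single j i.rev 1 = single j i.rev 1 * g.1 := by
  have h5 := hp.five
  have wi : Wk 2 (ev i : Vn n K) := wk_ev hi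
  have wj : Wk 3 (ev j : Vn n K) := wk_ev hj
  obtain ⟨η, d, d', rfl, rfl, h3⟩ := comm_op e (wi.pp wi (four K)).l (wj.perp wi (by omega))
    (h0 _ (Tc_mem (four K) wi (star_one K))) (D := (· = 0)) fun a c o =>
      ⟨0, rfl, by rwa [add_zero], by rw [add_zero, h1 a c o]⟩
  rw [← op_ev, ← op_ev, Fin.rev_rev, Fin.rev_rev]
  simpa using h3

theorem dg_of_M2 {β : MulAut (XU n K)} (h : ∀ u ∈ GA.Mk (XU n K) 2, β u = u) :
    ∃ g : GL (Fin (n + 1)) K, (∀ s, (β s).1 = slDiag _ K g s.1) ∧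
      ∀ i j : Fin (n + 1), i.val < 2 → 3 ≤ j.val → g.1 * single i j 1 = single i j 1 * g.1 := by
  have h5 := hp.five
  obtain ⟨g, e⟩ := exists_dg (β := β) (h _ (Tc_mem (four K) (w0 (by omega)) (star_one K))) fun a => by
    have p := (pp01 (n := n) (K := K)).smul 1 a
    rw [one_smul] at p
    exact ⟨0, p.ok, h _ (FV.EE_M 2 (four K) _ _ _ p.ok (w0 (by omega)) ((w1 le_rfl).smul a))⟩
  refine ⟨g, e, fun i j hi hj => ?_⟩
  have hj' : j.rev.val < 2 := by rw [Fin.val_rev]; omega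
  have := (comm_fix e hi (j := j.rev) (by omega) h fun a c o =>
    h _ (FV.EE_M 2 (four K) _ _ _ o (wk_ev hi) ((wk_ev hj').smul a))).1
  rwa [Fin.rev_rev] at this

theorem ct3 (β : MulAut (XU n K)) (h : ∀ u ∈ GB.D3 (XU n K), β u = u) :
    β ∈ cI (GA.Mk (XU n K) 2) := by
  have h5 := hp.five
  have h0 : ∀ u ∈ GA.Mk (XU n K) 2, β u = u := fun u hu => h u (mem_sup_right hu)
  obtain ⟨g, e, k1⟩ := dg_of_M2 h0
  have k2 := comm_fix e (i := 0) (j := 2) (by simp) (by rw [v2 K]; omega) h0 fun a c o =>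
    h _ (mem_sup_left ⟨(FV.mem_Q _).2 ⟨_, _, o, rfl⟩,
      FV.EE_Q 2 (four K) _ _ _ o (w0 (by omega)) ((w2 (by omega)).smul a)⟩)
  rw [rev2 (K := K)] at k2
  have a1 := comm_single k2.1
  have a2 := comm_single k2.2
  have l4 : 3 ≤ (la n).val := by simp [la]; omega
  have k3 := fun i j a b => comm_single (k1 i j a b)
  obtain ⟨ζ, z1, z2⟩ := SA.exists_conj_Pat (SA.uni_Mk (four K)) (g := g)
    (SA.col_ne (k3 0 _ (by simp) l4).1) (fun i => by
      rcases lt_trichotomy i.val 2 with hi | hi | hi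
      · rw [(k3 i _ hi l4).2.2, (k3 0 _ (by simp) l4).2.2]
      · rw [show i = 2 from Fin.ext (hi.trans (v2 K).symm), a1.2.2]
      · rw [(k3 0 i (by simp) hi).2.2]) fun i j hij hs => by
      rcases lt_trichotomy j.val 2 with hj | hj | hj
      · exact (k3 j _ hj l4).1 i hij
      · obtain rfl : j = 2 := Fin.ext (hj.trans (v2 K).symm)
        exact a2.1 i hij
      rcases lt_trichotomy i.val 2 with hi | hi | hi
      · exact absurd ⟨hi, by omega⟩ hs
      · obtain rfl : i = 2 := Fin.ext (hi.trans (v2 K).symm)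
        exact a1.2.1 j hij.symm
      · exact (k3 0 i (by simp) hi).2.1 j hij.symm
  exact mem_cI_of e (SA.Mk_le_Ml le_rfl (by omega) |>.trans (SA.Ml_le_UU 2))
    (SA.mem_cI.2 ⟨ζ, z1, z2⟩)

theorem pow_diag {M : Matrix (Fin (n + 1)) (Fin (n + 1)) K} (h : ∀ a b, b < a → M a b = 0)
    (N : ℕ) : (∀ a b, b < a → (M ^ N) a b = 0) ∧ ∀ a, (M ^ N) a a = M a a ^ N := by
  induction N with
  | zero => exact ⟨fun a b hb => by simp [one_apply_ne hb.ne'], fun a => by simp⟩
  | succ N ih =>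
    refine ⟨fun a b hb => ?_, fun a => ?_⟩
    · rw [pow_succ, mul_apply]
      refine Finset.sum_eq_zero fun c _ => ?_
      by_cases hc : c < a
      · rw [ih.1 a c hc, zero_mul]
      · rw [h c b (hb.trans_le (not_lt.1 hc)), mul_zero]
    · rw [pow_succ, mul_apply, Finset.sum_eq_single a, ih.2, pow_succ]
      · intro c _ hc
        rcases lt_or_gt_of_ne hc with hc | hc
        · rw [ih.1 a c hc, zero_mul]
        · rw [h c a hc, mul_zero]
      · simp

theorem cM2 (β : MulAut (XU n K)) (h2 : Is2 β) (h : ∀ u ∈ GA.Mk (XU n K) 2, β u = u) :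
    β ∈ cI (GA.Qk (XU n K) 2) := by
  have h5 := hp.five
  obtain ⟨g, e, k1⟩ := dg_of_M2 h
  have l4 : 3 ≤ (la n).val := by simp [la]; omega
  have k3 := fun i j a b => comm_single (k1 i j a b)
  have k4 : ∀ i j : Fin (n + 1), i ≠ j → j.val < 2 ∨ 3 ≤ i.val → g.1 i j = 0 := fun i j hij hs => by
    rcases hs with hj | hi
    · exact (k3 j _ hj l4).1 i hij
    · exact (k3 0 i (by simp) hi).2.1 j hij.symm
  have k5 : g.1 2 2 = g.1 0 0 := by
    obtain ⟨k, hk⟩ := h2
    have e' : ∀ (N : ℕ) s, ((β ^ N) s).1 = slDiag _ K (g ^ N) s.1 := fun N => by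
      induction N with
      | zero => intro s; simp
      | succ N ih => intro s; rw [pow_succ, pow_succ, MulAut.mul_apply, ih, e, map_mul, MulAut.mul_apply]
    have a1 := (comm_single (comm_fix (e' (2 ^ k)) (i := 0) (j := 2) (by simp) (by rw [v2 K]; omega)
      (fun u _ => by rw [hk]; rfl) fun a c _ => by rw [hk]; rfl).2).2.2
    have a2 := (pow_diag (M := g.1) (fun a b hb => k4 a b hb.ne' (by
      rw [Fin.lt_def] at hb; omega)) (2 ^ k)).2
    rw [Units.val_pow_eq_pow_val, a2, a2] at a1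
    rw [(k3 0 (Fin.rev 0) (by simp) (by rw [Fin.val_rev]; simp; omega)).2.2]
    have := sub_pow_char_pow (R := K) (p := 2) (g.1 2 2) (g.1 (Fin.rev 0) (Fin.rev 0)) k
    rw [a1, sub_self] at this
    exact sub_eq_zero.1 (pow_eq_zero_iff (by positivity) |>.1 this)
  obtain ⟨ζ, z1, z2⟩ := SA.exists_conj_Pat (SA.uni_Qk 2) (g := g)
    (SA.col_ne (k3 0 _ (by simp) l4).1) (fun i => by
      rcases lt_trichotomy i.val 2 with hi | hi | hi
      · rw [(k3 i _ hi l4).2.2, (k3 0 _ (by simp) l4).2.2]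
      · rw [show i = 2 from Fin.ext (hi.trans (v2 K).symm), k5]
      · rw [(k3 0 i (by simp) hi).2.2]) fun i j hij hs => k4 i j hij (by
      have : i.val ≠ j.val := fun e => hij (Fin.ext e)
      omega)
  rw [← SA.Qk_eq] at z1
  exact mem_cI_of e (SA.Qk_le_UU 2) (SA.mem_cI.2 ⟨ζ, z1, z2⟩)

theorem oZ (β : MulAut (XU n K)) (h : ∀ z ∈ GA.ZZ (XU n K), β z = z) :
    GA.out (XU n K) (β * β) = 1 := by
  have h5 := hp.five
  obtain ⟨γ, e⟩ := FX.ext β
  have h0 := SA.zero_ne_la (n := n) (by omega)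
  have k : ∀ c : K, star c = c → γ (SA.x 0 (la n) c) = SA.x 0 (la n) c := fun c hc => by
    rw [← Tc0_val hc, ← e.1, h _ ((FV.mem_Z _).2 ⟨c, hc, rfl⟩)]
  rw [map_mul, FX.out_eq β γ e]
  rcases FQ.gal (SA.out n K γ).1 (fun c hc => SA.x_inj h0 (by
    rw [← k c hc, ← mul_one c, ← SA.sc_x, SA.lin (two_le n K) _ _ _ (SA.x_mul_self ..),
      k 1 (star_one K), SA.sc_x, mul_one, mul_one])) with e1 | e1
  · rw [e1, mul_one]
  · rw [e1]; exact RingEquiv.ext fun a => star_star a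

theorem jobFC : JobFC := fun _ _ _ _ _ _ _ B _ _ =>
  have := B
  ⟨ct3, cM2, oZ⟩

end H59.UVK
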