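import Cfsg.Agent.H59.U5K0
import Cfsg.Agent.H67.SAFA
import Cfsg.Agent.H57.PslAutTwo

/-! STD-UM, slot FD1: `2`-subgroups of `Aut X` and fixed points on `U`, `X = SU_(n+1)(q)`. -/

set_option autoImplicit false
set_option linter.unusedSectionVars false

namespace H59.UM5a

open H67

open H64.SG (Inv2 Is2 fx mem_fx)
open H67 H59.UV Matrix H57 Subgroup
open H67.SA (St cI)

variable {n : ℕ} {K : Type} [Field K] [StarRing K] [CharP K 2] [Finite K] [hp : Par n K]
  [B : Base n K]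

theorem sb (D : Subgroup (MulAut (XU n K))) (hD : IsPGroup 2 D) :
    Nat.card D ≤ qK K ^ (SA.NN n + 1) := by
  have e : Nat.card D = Nat.card ↥(D ⊓ (GA.out (XU n K)).ker) * Nat.card (D.map (GA.out (XU n K))) := by
    rw [← relIndex_ker, inf_comm, ← inf_relIndex_right, ← Nat.card_congr (subgroupOfEquivOfLe
      (inf_le_right : (GA.out (XU n K)).ker ⊓ D ≤ D)).toEquiv]
    exact (card_mul_index _).symm
  rw [e, pow_succ]
  refine Nat.mul_le_mul ?_ ?_
  · have s : H98.IsSyl 2 (cI (GA.UU (XU n K))) (cI ⊤) := (H64.SG.syl_iff.1 GA.syl_UU).map _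
    refine (s.card_le hD.to_inf_left fun β h => ?_).trans ?_
    · obtain ⟨s, -, rfl⟩ := GA.inner_of_out h.2 (H64.SG.isPGroup_iff_is2.1 hD β h.1)
      exact mem_map_of_mem _ trivial
    · rw [← qq_eq (n := n), ← NN_eq (K := K), ← GA.FB.cardU]
      exact Nat.le_of_dvd Nat.card_pos (card_map_dvd _ _)
  · obtain ⟨f, h1, hf⟩ := FQ.pow2 (K := K)
    cases nonempty_fintype K
    have c : Nat.card (RingAut K) = f * 2 := card_ringAut_finite_field (p := 2) (by
      rw [← Nat.card_eq_fintype_card, FQ.card, hf, pow_mul])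
    have : Finite (GA.Dat.A (XU n K)) := inferInstanceAs (Finite (RingAut K))
    refine (Nat.le_of_dvd Nat.card_pos (card_subgroup_dvd_card _)).trans ?_
    change Nat.card (RingAut K) ≤ _
    rw [c, hf]
    obtain ⟨f, rfl⟩ := Nat.exists_eq_add_of_le' h1
    rw [pow_succ]
    exact Nat.mul_le_mul_right _ Nat.lt_two_pow_self

/-- `1 + c (g - 1)` for an involution `g` of `X` and `c ∈ F`. -/
noncomputable def sx (c : K) (g : XU n K) : XU n K :=
  open Classical in if h : SA.sc c g.1 ∈ fx (tau n K) then ⟨_, h⟩ else 1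

omit hp B in
theorem sq_val {g : XU n K} (h : g * g = 1) : g.1 * g.1 = 1 := congrArg Subtype.val h

theorem sx_val {c : K} (hc : star c = c) {g : XU n K} (h : g * g = 1) : (sx c g).1 = SA.sc c g.1 := by
  have : SA.sc c g.1 ∈ fx (tau n K) := by
    rw [mem_fx, FV.tau_sc _ _ (sq_val h), hc, mem_fx.1 g.2]
  rw [sx, dif_pos this]

theorem fix_inv {β : MulAut (XU n K)} (h : (fx β).relIndex (GA.UU (XU n K)) < qK K) :
    ∀ u ∈ GA.UU (XU n K), u * u = 1 → β u = u := by
  obtain ⟨γ, hγ, -⟩ := FX.ext β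
  have hn : 2 ≤ n := by have := hp.five; omega
  have iv : ∀ {u : SA.SLn n K}, u * u = 1 → u⁻¹ = u := inv_eq_of_mul_eq_one_right
  have un : ∀ {u : SA.SLn n K} {c : K}, u * u = 1 → c ≠ 0 → SA.sc c⁻¹ (SA.sc c u) = u := fun h hc => by
    rw [SA.sc_sc h, inv_mul_cancel₀ hc, SA.sc_one h]
  have val : ∀ {a b : XU n K}, a⁻¹ * b ∈ fx β → γ (a.1⁻¹ * b.1) = a.1⁻¹ * b.1 := fun {a b} e =>
    (hγ _).symm.trans (congrArg Subtype.val (mem_fx.1 e))
  by_cases ht : ∀ c : K, star c = c → (SA.out n K γ).1 c = c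
  · intro u u1 u2
    by_contra u3
    have m : ∀ c : selfAdjoint K, sx (c : K) u ∈ GA.UU (XU n K) := fun c => by
      rw [mem_UU, sx_val c.2 u2]; exact SA.sc_mem SA.uni_UU (sq_val u2) u1 c
    refine h.not_ge (Nat.card_le_card_of_injective (fun c : selfAdjoint K =>
      (QuotientGroup.mk ⟨sx (c : K) u, m c⟩ : GA.UU (XU n K) ⧸ (fx β).subgroupOf _)) fun c d e => ?_)
    by_contra hc
    have e0 := QuotientGroup.eq.1 e
    have e1 := val (a := sx c u) (b := sx d u) e0
    simp only [sx_val c.2 u2, sx_val d.2 u2] at e1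
    rw [iv (SA.sc_sq (sq_val u2) _), ← SA.sc_add (sq_val u2)] at e1
    have e2 : (c : K) + d ≠ 0 := fun e => hc (Subtype.ext (CharTwo.add_eq_zero.1 e))
    refine u3 (Subtype.ext ?_)
    rw [hγ, ← un (sq_val u2) e2, SA.lin hn _ _ _ (SA.sc_sq (sq_val u2) _), ht _ (by
      rw [star_inv₀, star_add, c.2, d.2]), e1]
  · exfalso
    push Not at ht
    obtain ⟨c, c1, c2⟩ := ht
    have hc : (SA.out n K γ).1 c + c ≠ 0 := fun e => c2 (CharTwo.add_eq_zero.1 e)
    have h4 : 2 * 2 ≤ n + 1 := by have := hp.five; omega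
    let E := GA.Mk (XU n K) 2
    have sq : ∀ v ∈ E, v * v = 1 := GA.FB.sqM 2 GA.rg2
    have m : ∀ v ∈ E, sx c v ∈ E := fun v hv => by
      change _ ∈ GA.Mk (XU n K) 2
      rw [mem_Mk, sx_val c1 (sq v hv)]; exact SA.sc_mem (SA.uni_Mk h4) (sq_val (sq v hv)) hv c
    have e1 : Nat.card ((fx β).subgroupOf E) ≤ (fx β).relIndex E :=
      Nat.card_le_card_of_injective (fun v => (QuotientGroup.mk ⟨sx c v.1, m _ v.1.2⟩ :
        E ⧸ (fx β).subgroupOf E)) fun v w e => by
      have v1 := sq _ v.1.2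
      have w1 := sq _ w.1.2
      have e0 := QuotientGroup.eq.1 e
      have e1 := val (a := sx c v.1.1) (b := sx c w.1.1) e0
      simp only [sx_val c1 v1, sx_val c1 w1] at e1
      rw [map_mul, map_inv, SA.lin hn _ _ _ (sq_val v1), SA.lin hn _ _ _ (sq_val w1), ← hγ, ← hγ,
        show β v.1.1 = v.1.1 from v.2, show β w.1.1 = w.1.1 from w.2] at e1
      have e2 : SA.sc ((SA.out n K γ).1 c + c) v.1.1.1 = SA.sc ((SA.out n K γ).1 c + c) w.1.1.1 := by
        rw [SA.sc_add (sq_val v1), SA.sc_add (sq_val w1), eq_mul_of_inv_mul_eq e1,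
          iv (SA.sc_sq (sq_val v1) c), mul_assoc, mul_assoc, SA.sc_sq (sq_val w1), mul_one]
      exact Subtype.ext (Subtype.ext (Subtype.ext (by
        rw [← un (sq_val v1) hc, e2, un (sq_val w1) hc])))
    have ok : ∀ a : K, Ok (ev 0 : Vn n K) (a • ev 1) 0 := fun a => by
      simpa using ((pp01 (n := n) (K := K)).smul 1 a).ok
    have e3 : Nat.card K ≤ Nat.card E := Nat.card_le_card_of_injective (fun a : K =>
      (⟨EE (ev 0) (a • ev 1) 0, FV.EE_M 2 h4 _ _ _ (ok a) (w0 (by omega)) ((w1 le_rfl).smul a)⟩ : E))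
      fun a b e => by
      obtain ⟨t, e', -⟩ := EE_inj (ev_ne 0) (ok a) (ok b) (congrArg Subtype.val e)
      have := congrFun e' 1
      simp [ev_apply, (ne01 (n := n) (K := K)).symm] at this
      exact this.symm
    have e2 := ((fx β).subgroupOf E).card_mul_index
    have e4 : (fx β).relIndex E < qK K :=
      (relIndex_le_of_le_right (GA.Mk_le_UU GA.rg2) FiniteIndex.index_ne_zero).trans_lt h
    rw [FQ.card, ← e2, pow_two] at e3
    exact (Nat.mul_lt_mul'' (e1.trans_lt e4) e4).not_ge e3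

theorem si1 [GA.FA (XU n K)] (β : MulAut (XU n K)) :
    β ∈ cI (GA.ZZ (XU n K)) ∨ qK K ≤ (fx β).relIndex (GA.UU (XU n K)) := by
  refine or_iff_not_imp_right.2 fun h => GA.ctQ β fun u hu => ?_
  have f := fix_inv (not_le.1 h)
  have i0 := iso0 (n := n) (K := K)
  have f1 : ∀ x c, Ok (ev 0 : Vn n K) x c → Iso x → β (EE (ev 0) x c) = EE (ev 0) x c :=
    fun x c o i => f _ (GA.QQ_le_UU ((FV.mem_Q _).2 ⟨x, c, o, rfl⟩)) (by
      rw [EE_mul o o, v_add_self, CharTwo.add_self_eq_zero, show hf x x = 0 from i, add_zero, EE_zero])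
  obtain ⟨x, c, o, rfl⟩ := (FV.mem_Q u).1 hu
  refine FW.span (ev 0) i0 (fun x => ∀ c, Ok (ev 0) x c → β (EE (ev 0) x c) = EE (ev 0) x c)
    (fun x p c o => f1 x c o p.r) (fun x y hx hy px py c o => ?_) x o.perp c o
  obtain ⟨a, ha⟩ := FQ.trs (hf x x) (star_hf x x)
  obtain ⟨b, hb⟩ := FQ.trs (hf y y) (star_hf y y)
  have oa : Ok (ev 0) x a := ⟨i0, hx, ha⟩
  have ob : Ok (ev 0) y b := ⟨i0, hy, hb⟩
  have oc : Ok (ev 0 : Vn n K) 0 (c + (a + b + hf y x)) := by
    have := o.add (oa.add ob)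
    rw [v_add_self] at this
    refine ⟨i0, by simp, ?_⟩
    have h1 := o.tr
    have h2 := (oa.add ob).tr
    simp only [tr, star_add, hf_zero_left] at h1 h2 ⊢
    linear_combination h1 + h2 + hf (x + y) (x + y) * two0 K
  have e : EE (ev 0) (x + y) c = EE (ev 0) x a * EE (ev 0) y b * EE (ev 0) 0 (c + (a + b + hf y x)) := by
    rw [EE_mul oa ob, EE_mul (oa.add ob) oc, add_zero]
    congr 1
    simp only [hf_zero_left]
    linear_combination -(a + b + hf y x) * two0 K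
  rw [e, map_mul, map_mul, px a oa, py b ob, f1 _ _ oc (by simp [Iso])]

theorem jobFD1 : JobFD1 := fun n K _ _ _ _ hp B _ A => by
  have := B
  have := A
  exact ⟨sb, fun β _ => si1 β⟩

end H59.UM5a
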