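import Cfsg.Agent.H59.U5FE1
import Cfsg.Agent.H59.U5FA
import Cfsg.Agent.H31.U5Q2

/-! STD-UM, slot FE: every automorphism of `P` extends to `X`. -/

set_option autoImplicit false
set_option linter.unusedSectionVars false

namespace H59.UM5

open H67

open H64.SG (Cz Cs Ns IsO2 mem_Cz Is2 O2)
open H67 H59.UV Module Matrix
open H67.SA (la St cm cI mem_cI mem_St_of_finite cm_eq_one)
open H67.GA (PP QQ ZZ)

variable {n : ℕ} {K : Type} [Field K] [StarRing K] [CharP K 2] [Finite K] [hp : Par n K]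

/-- An additive `F`-valued function whose increments under `P` are `F`-linear is `tr h(·, y)`. -/
theorem exists_tr_eq (ψ : WW n K →+ K) (h0 : ∀ w, star (ψ w) = ψ w)
    (h : ∀ p ∈ PP (XU n K), ∃ y : Vn n K, ∀ w, ψ (pr (ac p w.1)) = ψ w + tr (hf y w.1)) :
    ∃ y : WW n K, ∀ w, ψ w = tr (hf y.1 w.1) := by
  have := hp.five
  have h1 := v1 hp.five
  have h2 := v2 hp.five
  have hl : ∀ r, star r = r → ∀ w, ψ (r • w) = r * ψ w := fun r hr => by
    let a : WW n K := ⟨ev 1, ev_mem (by omega) (by omega)⟩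
    have k1 : ∀ w : WW n K, w ≠ 0 → Iso w.1 → ψ (r • w) + r * ψ w = ψ (r • a) + r * ψ a := fun w w0 hw => by
      obtain ⟨g, g0, g1⟩ := w2 ⟨iso0, hw, hf_symm (W_u w)⟩ (li_u w0)
      obtain ⟨y, hy⟩ := h g g0
      have e1 := hy a
      have e2 := hy (r • a)
      rw [Submodule.coe_smul, ac_smul, map_smul, hf_smul_right] at e2
      rw [g1, pr_coe] at e1 e2
      rw [e1, e2]
      simp only [tr, star_mul', hr]
      linear_combination r * (hf y a.1 + star (hf y a.1)) * two0 K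
    have ia : Iso a.1 := by rw [Iso, hf_evv, if_neg (by omega)]
    have a0 : a ≠ 0 := fun e => ev_ne 1 (congrArg Subtype.val e)
    obtain ⟨c, hc⟩ := hp.ne
    have e1 := k1 (c • a) (smul_ne_zero (by rintro rfl; simp at hc) a0) (ia.smul c)
    have e0 : a + c • a = (1 + c) • a := by rw [add_smul, one_smul]
    have e2 := k1 (a + c • a) (by
      rw [e0]
      exact smul_ne_zero (fun e => hc (by rw [← CharTwo.add_eq_zero.1 e, star_one])) a0)
      (by rw [e0]; exact ia.smul _)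
    rw [smul_add, map_add, map_add] at e2
    have e3 : ψ (r • a) + r * ψ a = 0 := by linear_combination e2 - e1
    intro w
    rw [← pr_coe w]
    refine span iso0 (fun x => ψ (r • pr x) = r * ψ (pr x)) (fun x hx => ?_)
      (fun x y _ _ e1 e2 => by rw [map_add, smul_add, map_add, map_add, e1, e2, mul_add]) _ (W_u w)
    by_cases x0 : pr x = 0
    · simp [x0]
    linear_combination k1 _ x0 ((hf_pr hx.symm.p hx.symm.p).trans hx.r) + e3 - r * ψ (pr x) * two0 K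
  obtain ⟨η, hη⟩ := exists_tr (star_one K)
  have hη' : star η = η + 1 := by linear_combination hη - η * two0 K
  have hs : ∀ (a : K) w, ψ (a • w) = (a + tr a * η) * ψ w + tr a * ψ (η • w) := fun a w => by
    rw [← hl _ (star_tr a), ← hl (a + tr a * η) (by
      rw [star_add, star_mul', star_tr, hη', tr]; linear_combination star a * two0 K), ← map_add,
      smul_smul, ← add_smul]
    congr 2
    linear_combination -(tr a * η) * two0 K
  let l : Vn n K →ₗ[K] K :=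
    { toFun := fun x => ψ (η • pr x) + star η * ψ (pr x)
      map_add' := fun x y => by simp only [map_add, smul_add]; ring
      map_smul' := fun a x => by
        rw [LinearMap.map_smul, smul_smul, hs (η * a), hs a]
        simp only [RingHom.id_apply, smul_eq_mul, tr, star_mul', hη']
        linear_combination ((η ^ 2 * a + η ^ 2 * star a + η * a + η * star a) * ψ (pr x) +
          (η * a + η * star a + star a) * ψ (η • pr x)) * two0 K }
  have hy : ∀ x, l x = hf x fun i => star (l (ev i.rev)) := fun x => by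
    conv_lhs => rw [pi_eq_sum_univ' x, map_sum]
    simp [hf, ev]
  have y0 : hf (fun i => star (l (ev i.rev))) (ev 0) = 0 := hf_symm (by rw [← hy]; simp [l, pr_u])
  refine ⟨pr fun i => star (l (ev i.rev)), fun w => ?_⟩
  rw [← pr_coe w, hf_pr y0 (W_u w), ← star_hf, ← hy, pr_coe]
  simp only [l, LinearMap.coe_mk, AddHom.coe_mk, pr_coe, tr, star_add, star_mul', star_star, h0, hη',
    star_one]
  linear_combination -(ψ (η • w) + η * ψ w + 2 * ψ w) * two0 K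

theorem grp1 {G : Type*} [Group G] {p r q z z' : G} (h : r * (z * q) * r⁻¹ = z' * (p * q * p⁻¹))
    (hz : z * r = r * z) (h2 : z * z = 1) (h3 : z * z' * p = p * (z * z')) :
    cm (p⁻¹ * r) q = z * z' := by
  have h1 : r * q * r⁻¹ = z * z' * p * q * p⁻¹ := by
    rw [mul_assoc (z * z'), mul_assoc (z * z'), mul_assoc z, ← h, ← mul_assoc r, ← hz, ← mul_assoc,
      ← mul_assoc, ← mul_assoc, h2, one_mul]
  calc _ = p⁻¹ * (r * q * r⁻¹) * p * q⁻¹ := by rw [cm]; group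
    _ = _ := by rw [h1, h3]; group

variable [FV n K]

theorem Tc_inj {c d : K} (hc : star c = c) (hd : star d = d)
    (e : Tc c (ev 0 : Vn n K) = Tc d (ev 0)) : c = d := by
  have := ac_Tc (n := n) iso0 hc (ev (la n))
  rw [e, ac_Tc iso0 hd, hfL0, add_right_inj] at this
  simpa using (smul_left_injective K (ev_ne 0) this).symm

variable [GA.FO (XU n K)] [GA.FB (XU n K)] [GA.FA (XU n K)]

theorem eq_of_center {a b : XU n K} (ha : a ∈ PP (XU n K)) (hb : b ∈ PP (XU n K))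
    (h : a * b⁻¹ ∈ Subgroup.center (XU n K)) : a = b :=
  mul_inv_eq_one.1 (Subgroup.mem_bot.1 (GA.FB.Pc (X := XU n K) ▸
    Subgroup.mem_inf.2 ⟨mul_mem ha (inv_mem hb), h⟩))

theorem Z_comm {z p : XU n K} (hz : z ∈ ZZ (XU n K)) (h : p ∈ PP (XU n K)) : z * p = p * z :=
  GA.PP_le_Cs h z hz

theorem inner_Q (θ : MulAut (PP (XU n K)))
    (h : ∀ q : PP (XU n K), q.1 ∈ QQ (XU n K) → (θ q).1 * q.1⁻¹ ∈ ZZ (XU n K)) :
    ∃ s ∈ QQ (XU n K), ∀ q : PP (XU n K), q.1 ∈ QQ (XU n K) → (θ q).1 = s * q.1 * s⁻¹ := by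
  have hQ : ∀ q : PP (XU n K), q.1 ∈ QQ (XU n K) → (θ q).1 ∈ QQ (XU n K) := fun q hq => by
    simpa using mul_mem (GA.ZZ_le_QQ (h q hq)) hq
  have hx : ∀ q : PP (XU n K), q.1 ∈ QQ (XU n K) → cx (θ q).1 = cx q.1 := fun q hq =>
    (mul_inv_mem_Z (hQ q hq) hq).1 (h q hq)
  have hZ : ∀ z : PP (XU n K), z.1 ∈ ZZ (XU n K) → θ z = z := fun z hz => by
    obtain ⟨a, ha, b, hb, e⟩ := exists_cm hz
    obtain rfl : z = cm ⟨a, GA.QQ_le_PP ha⟩ ⟨b, GA.QQ_le_PP hb⟩ := Subtype.ext e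
    have := cm_Q (hQ ⟨a, GA.QQ_le_PP ha⟩ ha) (hQ ⟨b, GA.QQ_le_PP hb⟩ hb)
    rw [hx _ ha, hx _ hb, ← cm_Q ha hb] at this
    rw [cm, map_mul, map_mul, map_mul, map_inv, map_inv]
    exact Subtype.ext this
  choose E hE hE' using exists_QP (n := n) (K := K)
  choose ψ h0 hψ using fun w => (FV.mem_Z _).1 (h (E w) (hE w))
  have k1 : ∀ q : PP (XU n K), q.1 ∈ QQ (XU n K) → (θ q).1 = Tc (ψ (cx q.1)) (ev 0) * q.1 := fun q hq => by
    have h1 := (mul_inv_mem_Z hq (hE (cx q.1))).2 (hE' _).symm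
    have h2 := congrArg Subtype.val (hZ (q * (E (cx q.1))⁻¹) h1)
    rw [map_mul, map_inv, Subgroup.coe_mul, Subgroup.coe_inv, mul_inv_eq_iff_eq_mul] at h2
    rw [← hψ, h2, Z_comm (z := (q * (E (cx q.1))⁻¹).1) h1 (θ _).2, Subgroup.coe_mul, Subgroup.coe_inv,
      ← mul_assoc, mul_assoc _ _⁻¹ q.1, ← inv_mul_eq_iff_eq_mul]
    have h3 := Z_comm h1 (E (cx q.1)).2
    rw [inv_mul_cancel_right] at h3
    rw [← mul_assoc, ← mul_assoc, inv_mul_cancel, one_mul, eq_inv_mul_iff_mul_eq, ← mul_assoc]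
    rwa [← mul_assoc, eq_comm] at h3
  have tz : ∀ w, Tc (ψ w) (ev 0) ∈ ZZ (XU n K) := fun w => (FV.mem_Z _).2 ⟨_, h0 w, rfl⟩
  have add : ∀ v w, ψ (v + w) = ψ v + ψ w := fun v w => by
    have h1 := k1 (E v * E w) (mul_mem (hE v) (hE w))
    rw [map_mul, Subgroup.coe_mul, Subgroup.coe_mul, k1 _ (hE v), k1 _ (hE w), cx_mul (hE v) (hE w),
      hE', hE', mul_assoc, ← mul_assoc (E v).1, ← Z_comm (tz w) (E v).2, mul_assoc, ← mul_assoc,
      mul_left_inj, ← Tc_add iso0 (h0 v) (h0 w)] at h1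
    exact (Tc_inj (by rw [star_add, h0, h0]) (h0 _) h1).symm
  obtain ⟨y, hy⟩ := exists_tr_eq (AddMonoidHom.mk' ψ add) h0 fun p hp => by
    have k2 : ∀ q : PP (XU n K), q.1 ∈ QQ (XU n K) → cm (p⁻¹ * (θ ⟨p, hp⟩).1) q.1 =
        Tc (ψ (cx q.1)) (ev 0) * Tc (ψ (pr (ac p (cx q.1).1))) (ev 0) := fun q hq => by
      have h1 := k1 ⟨p * q.1 * p⁻¹, GA.QQ_le_PP (conj_memQ hp hq).1⟩ (conj_memQ hp hq).1
      rw [show (⟨p * q.1 * p⁻¹, GA.QQ_le_PP (conj_memQ hp hq).1⟩ : PP (XU n K)) =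
        (⟨p, hp⟩ : PP (XU n K)) * q * (⟨p, hp⟩ : PP (XU n K))⁻¹ from rfl, map_mul, map_mul, map_inv,
        Subgroup.coe_mul, Subgroup.coe_mul, Subgroup.coe_inv, k1 q hq] at h1
      rw [← (conj_memQ hp hq).2]
      exact grp1 h1 (Z_comm (tz _) (θ _).2) (Tc_mul_self iso0 (h0 _)) (Z_comm (mul_mem (tz _) (tz _)) hp)
    have k3 := mul_mem (inv_mem hp) (θ ⟨p, hp⟩).2
    generalize p⁻¹ * (θ ⟨p, hp⟩).1 = c at k2 k3
    obtain ⟨g, hg, e⟩ := mem_cI.1 (GA.FA.n2 (MulAut.conj c) (fun q hq => by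
      have := k2 ⟨q, GA.QQ_le_PP hq⟩ hq
      exact (show cm c q ∈ _ from this ▸ mul_mem (tz _) (tz _))) fun z hz => by
      rw [MulAut.conj_apply, ← Z_comm hz k3, mul_inv_cancel_right])
    obtain rfl := eq_of_center k3 (GA.QQ_le_PP hg) (GA.conj_eq_one.1 (by
      rw [map_mul, map_inv, e, mul_inv_cancel]))
    refine ⟨(cx c).1, fun w => ?_⟩
    have h1 := k2 _ (hE w)
    rw [cm_Q hg (hE w), hE', ← Tc_add iso0 (h0 _) (h0 _)] at h1
    have h2 := Tc_inj (star_tr _) (by rw [star_add, h0, h0]) h1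
    change ψ _ = ψ w + _
    linear_combination -h2 - ψ w * two0 K
  refine ⟨E y, hE y, fun q hq => ?_⟩
  have h1 := cm_Q (hE y) hq
  rw [hE', ← hy, cm, mul_inv_eq_iff_eq_mul] at h1
  exact (k1 q hq).trans h1.symm

/-- The automorphism of `A` induced by `β`. -/
def stAut {G : Type*} [Group G] {A : Subgroup G} {β : MulAut G} (h : β ∈ St A) : MulAut A where
  toFun := fun p => ⟨β p.1, (h _).1 p.2⟩
  invFun := fun p => ⟨β⁻¹ p.1, (inv_mem h _).1 p.2⟩
  left_inv := fun p => Subtype.ext (MulAut.inv_apply_self _ β _)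
  right_inv := fun p => Subtype.ext (MulAut.apply_inv_self _ β _)
  map_mul' := fun a b => Subtype.ext (map_mul β _ _)

/-- The restriction of an automorphism of `B` to `A ≤ B`. -/
def resAut {G : Type*} [Group G] {A B : Subgroup G} (h : A ≤ B)
    (h' : ∀ θ : MulAut B, ∀ p : B, p.1 ∈ A → (θ p).1 ∈ A) (θ : MulAut B) : MulAut A where
  toFun := fun p => ⟨θ ⟨p.1, h p.2⟩, h' θ _ p.2⟩
  invFun := fun p => ⟨θ⁻¹ ⟨p.1, h p.2⟩, h' θ⁻¹ _ p.2⟩
  left_inv := fun p => Subtype.ext (congrArg B.subtype (MulAut.inv_apply_self _ θ ⟨p.1, h p.2⟩))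
  right_inv := fun p => Subtype.ext (congrArg B.subtype (MulAut.apply_inv_self _ θ ⟨p.1, h p.2⟩))
  map_mul' := fun a b => by
    have := congrArg B.subtype (map_mul θ ⟨a.1, h a.2⟩ ⟨b.1, h b.2⟩)
    exact Subtype.ext this

theorem ext_of (hQ : QK n K) (h : FE1 n K) {P : Subgroup (XU n K)} (p1 : PP (XU n K) ≤ P)
    (p3 : P ⊓ Subgroup.center (XU n K) = ⊥)
    (p4 : ∀ θ : MulAut P, ∀ p : P, p.1 ∈ PP (XU n K) → (θ p).1 ∈ PP (XU n K))
    (p5 : ∀ β ∈ St (PP (XU n K)), β ∈ St P)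
    (p6 : ∀ δ : MulAut P, (∀ p, (δ p * p⁻¹).1 ∈ ZZ (XU n K)) → ∀ p, δ p = p)
    (p7 : P ≤ Ns (QQ (XU n K))) (θ : MulAut P) :
    ∃ β : MulAut (XU n K), ∀ p : P, β p = θ p := by
  obtain ⟨β, hβ, h1⟩ := h (resAut p1 p4 θ)
  obtain ⟨s, hs, k4⟩ := inner_Q (resAut p1 p4 (stAut (inv_mem (p5 β hβ)) * θ)) fun q hq => by
    have := aut_Z hQ (stAut (inv_mem hβ)) (z := resAut p1 p4 θ q * (stAut hβ q)⁻¹) (h1 q hq)
    rw [map_mul, map_inv] at this
    exact (show (stAut (inv_mem hβ) (stAut hβ q)).1 = q.1 from MulAut.inv_apply_self _ β _) ▸ this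
  obtain ⟨s, rfl⟩ : ∃ s' : P, s'.1 = s := ⟨⟨s, p1 (GA.QQ_le_PP hs)⟩, rfl⟩
  have k6 := p6 (MulAut.conj s⁻¹ * (stAut (inv_mem (p5 β hβ)) * θ)) fun p => by
    generalize hδ : MulAut.conj s⁻¹ * (stAut (inv_mem (p5 β hβ)) * θ) = δ
    have h1 : ∀ q : P, q.1 ∈ QQ (XU n K) → δ q = q := fun q hq => by
      have : (stAut (inv_mem (p5 β hβ)) * θ) q = s * q * s⁻¹ :=
        Subtype.ext (k4 ⟨q.1, GA.QQ_le_PP hq⟩ hq)
      rw [← hδ, MulAut.mul_apply, this, MulAut.conj_apply]; group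
    obtain ⟨m, hm, e⟩ := GA.exists_of_Cs_Qk GA.rg1 (g := (δ p * p⁻¹).1) fun q hq => by
      obtain ⟨q, rfl⟩ : ∃ q' : P, q'.1 = q := ⟨⟨q, p1 (GA.QQ_le_PP hq)⟩, rfl⟩
      have h3 := H98.conj_mem_of_mem_normalizer (p7 (p⁻¹).2) hq
      rw [← Subgroup.coe_inv, ← Subgroup.coe_mul, ← Subgroup.coe_mul] at h3
      have h2 := h1 _ h3
      rw [map_mul, map_mul, h1 _ hq, inv_inv, map_inv] at h2
      rw [← Subgroup.coe_mul, ← Subgroup.coe_mul, Subtype.coe_inj, ← mul_assoc, mul_inv_eq_iff_eq_mul,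
        mul_assoc, mul_assoc, ← mul_assoc p⁻¹, ← h2]
      group
    have h3 := Subgroup.mem_inf.2 ⟨mul_mem (δ p * p⁻¹).2 (inv_mem (p1 (GA.ZZ_le_PP hm))), e⟩
    rw [p3, Subgroup.mem_bot, mul_inv_eq_one] at h3
    exact h3 ▸ hm
  refine ⟨β * MulAut.conj s.1, fun p => ?_⟩
  have h1 : s.1⁻¹ * β⁻¹ (θ p).1 * s.1⁻¹⁻¹ = p := congrArg Subtype.val (k6 p)
  rw [MulAut.mul_apply, MulAut.conj_apply, ← h1, ← MulAut.apply_inv_self _ β (θ p).1]
  congr 1
  rw [MulAut.inv_apply_self]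
  group

omit [FV n K] [GA.FO (XU n K)] [GA.FB (XU n K)] [GA.FA (XU n K)] hp in
theorem is2_EE {u x : Vn n K} {c : K} (h : Ok u x c) : Is2 (EE u x c) := by
  have h1 := h.add h
  refine H64.SG.Is2.of_pow (k := 1) (H64.SG.is2_of_sq ?_)
  rw [pow_one, sq, EE_mul h h]
  rw [v_add_self] at h1 ⊢
  exact Tc_mul_self h.iso (tr_eq_zero.1 (by simpa using h1.tr))

theorem is2_of_fix {g : XU n K} (h0 : ac g (ev 0) = ev 0) (h1 : ac g (ev 1) = ev 1) : Is2 g := by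
  obtain rfl := hp.five
  have c0 : ∀ i, mt g i 0 = if i = 0 then 1 else 0 := fun i => by rw [← ac_ev, h0, ev_apply]
  have c1 : ∀ i, mt g i 1 = if i = 1 then 1 else 0 := fun i => by rw [← ac_ev, h1, ev_apply]
  have r : ∀ k : Fin 5, ac g (ev k) = ev k → ∀ j, mt g k.rev j = if k.rev = j then 1 else 0 :=
    fun k hk j => by
      rw [← ac_ev, ← hf_ev_right (ac g (ev j)) k, ← hk, hf_ac, hf_ev_right, ev_apply]
  have r4 : ∀ j, mt g 4 j = if 4 = j then 1 else 0 := r 0 h0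
  have r3 : ∀ j, mt g 3 j = if 3 = j then 1 else 0 := r 1 h1
  have t : ∀ i j, j < i → mt g i j = 0 := fun i j h => by
    fin_cases i <;> fin_cases j <;> simp [c0, c1, r3, r4] at h ⊢
  have d := mt_det g
  rw [det_of_upperTriangular fun i j h => t i j h, Fin.prod_univ_five] at d
  refine GA.is2_of_UU (mem_UU.2 (SA.mem_UU.2 ⟨fun i => ?_, t⟩))
  change mt g i i = 1
  fin_cases i <;> simp [c0, c1, r3, r4] at d ⊢
  exact d

/-- For `q = 2` the group `P` is generated by its `2`-elements. -/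
theorem gen2 [FQ K] (hq : qK K = 2) (H : Subgroup (XU n K))
    (hH : ∀ g ∈ PP (XU n K), Is2 g → g ∈ H) : PP (XU n K) ≤ H := by
  have step : ∀ u f y : Vn n K, Pp (ev 0) u → Pp (ev 0) f → Pp (ev 0) y → hf f u = 1 → hf y u = 1 →
      ∃ h ∈ H ⊓ PP (XU n K), ac h f = y := fun u f y hu hf0 hy e1 e2 => by
    obtain ⟨x, c, o, h5, e⟩ := exists_EE hu.r hf0.r hy.r e1 e2
    have h6 := hy.symm.p
    rw [← e, ac_EE o, hf_symm h5, e1] at h6
    simp only [hf_add_left, hf_smul_left, hu.symm.p, hf0.symm.p, mul_zero, add_zero, zero_add,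
      one_mul] at h6
    have h7 : EE u x c ∈ PP (XU n K) := ac_EE_fix o hu.p (hf_symm h6)
    exact ⟨_, ⟨hH _ h7 (is2_EE o), h7⟩, e⟩
  obtain rfl := hp.five
  have p1 : Pp (ev 0 : Vn 4 K) (ev 1) := ⟨iso0, by simp [Iso, hf_evv], by simp [hf_evv]⟩
  have p3 : Pp (ev 0 : Vn 4 K) (ev 3) := ⟨iso0, by simp [Iso, hf_evv], by simp [hf_evv]⟩
  have h13 : hf (ev 1 : Vn 4 K) (ev 3) = 1 := by simp [hf_evv]
  have s1 : ∀ b : K, b ≠ 0 → ∃ h ∈ H ⊓ PP (XU 4 K), ac h (ev 1) = b • ev 1 := fun b b0 => by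
    by_cases b1 : b = 1
    · exact ⟨1, one_mem _, by simp [b1]⟩
    have h3 := H31.U5.cube hq b0
    have h4 : b ^ 2 + b + 1 = 0 := mul_left_cancel₀ (sub_ne_zero.2 b1) (by linear_combination h3)
    have h5 : star b = b ^ 2 := by rw [FQ.star_eq, hq]
    have p13 : Pp (ev 0 : Vn 4 K) (ev 1 + ev 3) := ⟨iso0, by
      simp [Iso, hf_add_left, hf_add_right, hf_evv, CharTwo.add_self_eq_zero], by
      simp [hf_add_right, hf_evv]⟩
    obtain ⟨a, ha, e⟩ := step (ev 3) _ _ p3 p1 p13 h13 (by simp [hf_add_left, hf_evv])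
    obtain ⟨a', ha', e'⟩ := step (b ^ 2 • ev 1 + ev 2 + b • ev 3) _ (b • ev 1) ⟨iso0, by
      simp [Iso, hf_add_left, hf_add_right, hf_smul_left, hf_smul_right, hf_evv, h5]
      linear_combination (b ^ 2 + b) * h3 + h4, by
      simp [hf_add_right, hf_smul_right, hf_evv]⟩ p13 (by simpa using p1.smul 1 b) (by
      simp [hf_add_left, hf_add_right, hf_smul_right, hf_evv, h5]
      linear_combination b * h3 + h4 - two0 K) (by
      simp [hf_add_right, hf_smul_left, hf_smul_right, hf_evv, h5]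
      linear_combination h3)
    exact ⟨a' * a, mul_mem ha' ha, by rw [ac_mul, e, e']⟩
  have s2 : ∀ y : Vn 4 K, Pp (ev 0) y → hf y (ev 3) ≠ 0 → ∃ h ∈ H ⊓ PP (XU 4 K), ac h (ev 1) = y :=
    fun y hy y0 => by
      obtain ⟨a, ha, e⟩ := s1 _ y0
      obtain ⟨a', ha', e'⟩ := step (ev 3) _ ((hf y (ev 3))⁻¹ • y) p3 p1 (by simpa using hy.smul 1 _) h13
        (by rw [hf_smul_left, inv_mul_cancel₀ y0])
      exact ⟨a' * a, mul_mem ha' ha, by rw [ac_mul, e, ac_smul, e', smul_inv_smul₀ y0]⟩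
  intro g hg
  have hy : Pp (ev 0) (ac g (ev 1)) := mem_PP.1 hg ▸ p1.ac g
  obtain ⟨h, hh, e⟩ : ∃ h ∈ H ⊓ PP (XU 4 K), ac h (ev 1) = ac g (ev 1) := by
    by_cases y0 : hf (ac g (ev 1)) (ev 3) = 0
    · have t1 : TT (ev 1) ∈ PP (XU 4 K) := ac_EE_fix (ok_zero p1.r (star_one K)) p1.p (by simp)
      have t2 : TT (ev 1) ∈ H ⊓ PP (XU 4 K) := ⟨hH _ t1 (is2_EE (ok_zero p1.r (star_one K))), t1⟩
      obtain ⟨h, hh, e⟩ := s2 _ (mem_PP.1 t1 ▸ hy.ac (TT (ev 1))) (by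
        rw [ac_Tc p1.r (star_one K), hf_add_left, y0, hf_smul_left, h13, zero_add, one_mul, mul_one]
        intro y1
        have h0 := hy.r
        have h4 := hy.symm.p
        generalize hv : ac g (ev 1) = y at y0 y1 h0 h4
        simp only [hf_ev_right] at y0 y1 h4
        have e1 : y 1 = 0 := y0
        have e3 : y 3 = 0 := y1
        have e4 : y 4 = 0 := h4
        have e2 : y 2 = 0 := by simpa [Iso, hf, Fin.sum_univ_five, Fin.rev, e1, e3, e4] using h0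
        have : ev 1 = y 0 • (ev 0 : Vn 4 K) := ac_inj g (by
          rw [hv, ac_smul, mem_PP.1 hg]
          ext i; fin_cases i <;> simp [ev_apply, e1, e2, e3, e4])
        simpa [ev_apply] using congrFun this 1)
      exact ⟨_, mul_mem (inv_mem t2) hh, by rw [ac_mul, e, ac_inv_ac]⟩
    · exact s2 _ hy y0
  have h1 := mul_mem (inv_mem (Subgroup.mem_inf.1 hh).2) hg
  simpa using mul_mem (Subgroup.mem_inf.1 hh).1 (hH _ h1 (is2_of_fix h1 (by rw [ac_mul, ← e, ac_inv_ac])))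

theorem fix_of_perf {P : Subgroup (XU n K)} (p2 : P ≤ Cs (ZZ (XU n K))) (h : P ≤ ⁅P, P⁆)
    (δ : MulAut P) (k5 : ∀ p, (δ p * p⁻¹).1 ∈ ZZ (XU n K)) (p : P) : δ p = p :=
  congrArg (fun f => f p) (GA.hom_eq_of_central' (Y := P) (Subgroup.map_injective
    (Subgroup.subtype_injective _) (by
      rw [Subgroup.map_subtype_commutator, ← MonoidHom.range_eq_map, Subgroup.range_subtype]
      exact le_antisymm (Subgroup.commutator_le.2 fun a ha b hb =>
        mul_mem (mul_mem (mul_mem ha hb) (inv_mem ha)) (inv_mem hb)) h))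
    δ.toMonoidHom (MonoidHom.id _) (fun a b => Subtype.ext (p2 b.2 _ (k5 a)))
    fun a b => Subtype.ext (p2 (Subtype.prop _) _ (k5 a)))

theorem fix_of_O2 {P : Subgroup (XU n K)} (p2 : P ≤ Cs (ZZ (XU n K))) (h : P ≤ O2 P)
    (δ : MulAut P) (k5 : ∀ p, (δ p * p⁻¹).1 ∈ ZZ (XU n K)) (p : P) : δ p = p := by
  have : O2 P ≤ (δ.toMonoidHom.eqLocus (MonoidHom.id _)).map P.subtype :=
    (Subgroup.closure_le _).2 fun g hg => ⟨⟨g, hg.1⟩, by
      generalize ha : (⟨g, hg.1⟩ : P) = a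
      have ho : Odd (orderOf a) := by rw [← Subgroup.orderOf_coe, ← ha]; exact hg.2
      have hc : Commute (δ a) a⁻¹ := by
        have : δ a * a⁻¹ * a = a * (δ a * a⁻¹) := Subtype.ext (p2 a.2 _ (k5 a))
        rw [inv_mul_cancel_right, ← mul_assoc, eq_mul_inv_iff_mul_eq] at this
        exact Commute.inv_right this
      refine mul_inv_eq_one.1 (H64.SG.Is2.eq_one (g := δ a * a⁻¹)
        (H64.SG.is2_of_sq (Subtype.ext (GA.sq_of_ZZ (k5 a)))) (ho.of_dvd_nat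
          (orderOf_dvd_of_pow_eq_one ?_)))
      rw [hc.mul_pow, ← map_pow, inv_pow, pow_orderOf_eq_one, map_one, inv_one, mul_one], rfl⟩
  obtain ⟨a, ha, e⟩ := this (h p.2)
  obtain rfl : a = p := Subtype.ext e
  exact ha

theorem jobFE : JobFE := fun n K _ _ _ _ _ B _ _ pf hQ h => by
  haveI := B
  have x1 : GA.xk (XU n K) 1 ∈ ZZ (XU n K) := GA.FB.xM 1 GA.rg1
  have cq : Cs (ZZ (XU n K)) ≤ Ns (QQ (XU n K)) := fun g hg =>
    (hQ 1 GA.rg1).2.1 (mem_Cz.2 (hg _ x1))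
  rcases H31.U5.q_cases (K := K) with hq | hq
  · have hc := H31.U5.cenX (n := n) hq
    have p3 : Cs (ZZ (XU n K)) ⊓ Subgroup.center (XU n K) = ⊥ := by rw [hc, inf_bot_eq]
    have t2 : ∀ g ∈ Cs (ZZ (XU n K)), Is2 g → g ∈ PP (XU n K) := fun g hg ⟨k, hk⟩ => by
      obtain ⟨κ, hκ⟩ := H59.UVK.line_of_Ns (Subgroup.centralizer_le_normalizer _ hg)
      have h1 : ∀ j : ℕ, ac (g ^ j) (ev 0) = κ ^ j • ev 0 := fun j => by
        induction j with
        | zero => simp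
        | succ j ih => rw [pow_succ, ac_mul, hκ, ac_smul, ih, smul_smul, pow_succ']
      have h2 := h1 (2 ^ k)
      rw [hk, ac_one] at h2
      have h3 : κ ^ 2 ^ k = 1 := by simpa [ev_apply] using (congrFun h2 0).symm
      have h4 : (κ + 1) ^ 2 ^ k = 0 := by rw [add_pow_char_pow, h3, one_pow, CharTwo.add_self_eq_zero]
      rw [mem_PP, hκ, CharTwo.add_eq_zero.1 ((pow_eq_zero_iff (by positivity)).1 h4), one_smul]
    have o2 : Cs (ZZ (XU n K)) ≤ O2 (Cs (ZZ (XU n K))) := fun g hg => by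
      obtain ⟨i, j, e, hi, hj⟩ := H64.SG.exists_two_odd g
      obtain ⟨a, ha, h1⟩ := ((H64.SG.syl_iff.1 GA.syl_UU).of_le GA.UU_le_Cs le_top).exists_le_cj
        hi.zpowers ((Subgroup.zpowers_le).2 (pow_mem hg i))
      obtain ⟨u, hu, e'⟩ := h1 (Subgroup.mem_zpowers _)
      rw [e, ← e']
      exact mul_mem (H98.conj_mem_of_mem_normalizer (H64.SG.Ns_le_Ns_O2 _ (Subgroup.le_normalizer ha))
        (H59.GB.FP.opU hu)) (H64.SG.mem_O2_of_odd (pow_mem hg j) hj)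
    refine ⟨Cs (ZZ (XU n K)), GA.PP_le_Cs, le_rfl, p3, ext_of hQ h GA.PP_le_Cs p3 (fun θ p hp => ?_)
      (fun β hβ => mem_St_of_finite fun g hg z hz => ?_) (fix_of_O2 le_rfl o2) cq,
      Or.inr ⟨o2, H31.U5.odd_inner hq, fun z hz z1 g hg z' hz' => ?_⟩⟩
    · obtain ⟨a, ha, e⟩ := gen2 hq ((((PP (XU n K)).subgroupOf _).comap θ.toMonoidHom).map
        (Cs (ZZ (XU n K))).subtype) (fun g hg ⟨k, hk⟩ => ⟨⟨g, GA.PP_le_Cs hg⟩, t2 _ (Subtype.prop _) ⟨k, by
          rw [← map_pow, ← map_pow, show (⟨g, GA.PP_le_Cs hg⟩ : Cs (ZZ (XU n K))) ^ 2 ^ k = 1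
            from Subtype.ext hk, map_one, map_one]⟩, rfl⟩) hp
      obtain rfl : a = p := Subtype.ext e
      exact ha
    · have := congrArg β (hg _ (aut_Z hQ (stAut (inv_mem hβ)) (z := ⟨z, GA.ZZ_le_PP hz⟩) hz))
      rw [map_mul, map_mul] at this
      exact (MulAut.apply_inv_self _ β z) ▸ this
    · obtain ⟨c, hc, rfl⟩ := (FV.mem_Z _).1 hz
      obtain ⟨c', hc', rfl⟩ := (FV.mem_Z _).1 hz'
      rcases H31.U5.sa01 hq hc' with rfl | rfl
      · simp [Tc]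
      rcases H31.U5.sa01 hq hc with rfl | rfl
      · exact absurd (EE_zero _) z1
      · exact mem_Cz.1 hg
  · exact ⟨PP (XU n K), le_rfl, GA.PP_le_Cs, GA.FB.Pc, ext_of hQ h le_rfl GA.FB.Pc (fun θ p _ => (θ p).2)
      (fun _ h => h) (fix_of_perf GA.PP_le_Cs (pf hq)) (GA.PP_le_Cs.trans cq), Or.inl ⟨pf hq, le_rfl⟩⟩

end H59.UM5
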