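import Cfsg.Agent.H59.U5FW
import Cfsg.Agent.H59.Heis

/-! STD-UM, slot FE1: an automorphism of `P` acts on `Q/Z` like an automorphism of `X`. -/

set_option autoImplicit false
set_option linter.unusedSectionVars false

namespace H59.UM5

open H67

open H64.SG (Cz Cs Ns IsO2 mem_Cz)
open H67 H59.UV Module Matrix
open H67.SA (la St cm mem_St_of_finite cm_eq_one)
open H67.GA (PP QQ ZZ)

variable {n : ℕ} {K : Type} [Field K] [StarRing K] [CharP K 2] [Finite K] [hp : Par n K]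

/-- A semilinear similitude induces an automorphism of `X`. -/
theorem exists_aut_of_semi (τ : K ≃+* K) (Φ : Vn n K →+ Vn n K) {κ : K} (κ0 : κ ≠ 0)
    (hκ : star κ = κ) (h1 : ∀ (c : K) x, Φ (c • x) = τ c • Φ x)
    (h2 : ∀ x y, hf (Φ x) (Φ y) = κ * τ (hf x y)) :
    Function.Bijective Φ ∧ ∃ β : MulAut (XU n K), ∀ g v, ac (β g) (Φ v) = Φ (ac g v) := by
  have inj : Function.Injective Φ := (injective_iff_map_eq_zero Φ).2 fun x hx => eq_of_hf fun z => by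
    have := h2 x z
    rw [hx, hf_zero_left, eq_comm, mul_eq_zero, map_eq_zero] at this
    rw [this.resolve_left κ0, hf_zero_left]
  have sur := Finite.injective_iff_surjective.1 inj
  let H : Subgroup (XU n K) :=
    { carrier := {g | ∃ g', ∀ v, ac g' (Φ v) = Φ (ac g v)}
      one_mem' := ⟨1, by simp⟩
      mul_mem' := fun ⟨a, ha⟩ ⟨b, hb⟩ => ⟨a * b, fun v => by rw [ac_mul, hb, ha, ac_mul]⟩
      inv_mem' := fun {g} ⟨a, ha⟩ => ⟨a⁻¹, fun v => ac_inj a (by rw [ac_ac_inv, ha, ac_ac_inv])⟩ }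
  have h3 : H = ⊤ := genT H fun v hv => ⟨Tc κ⁻¹ (Φ v), fun x => by
    rw [ac_Tc (by rw [Iso, h2, hv]; simp) (by rw [star_inv₀, hκ]), ac_Tc hv (star_one K), map_add, h1,
      h2, inv_mul_cancel_left₀ κ0, one_mul]⟩
  choose b hb using fun g => show g ∈ H from h3 ▸ Subgroup.mem_top g
  let b' : XU n K →* XU n K := MonoidHom.mk' b fun g h => ac_ext fun v => by
    obtain ⟨v, rfl⟩ := sur v
    rw [hb, ac_mul, ac_mul, hb, hb]
  have h4 : Function.Injective b' := fun g h e => ac_ext fun v => inj (by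
    rw [← hb, ← hb, show b g = b h from e])
  exact ⟨⟨inj, sur⟩, MulEquiv.ofBijective b' (Finite.injective_iff_bijective.1 h4), hb⟩

variable (n K) in
theorem hyp : IsHyp (BB n K) (ev 0) (ev (la n)) := ⟨herm n K, iso0, isoL, hfL0⟩

variable (n K) in
/-- `W = ⟨e_0, e_n⟩^⊥` -/
abbrev WW : Submodule K (Vn n K) := hypPerp (BB n K) (ev 0) (ev (la n))

/-- the projection onto `W` -/
abbrev pr : Vn n K →ₗ[K] WW n K := (hyp n K).proj

omit hp in
theorem W_u (w : WW n K) : hf w.1 (ev 0) = 0 := IsHyp.ew w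
omit hp in
theorem W_f (w : WW n K) : hf w.1 (ev (la n)) = 0 := IsHyp.fw w

theorem pr_perp {x : Vn n K} (hx : hf x (ev 0) = 0) : x = (pr x).1 + hf x (ev (la n)) • ev 0 := by
  simp [IsHyp.coe_proj, BB_apply, hx]

theorem pr_u : pr (ev 0 : Vn n K) = 0 := (hyp n K).proj_e
theorem pr_f : pr (ev (la n) : Vn n K) = 0 := (hyp n K).proj_f
theorem pr_coe (w : WW n K) : pr w.1 = w := (hyp n K).proj_coe w

theorem hf_pr {x y : Vn n K} (hx : hf x (ev 0) = 0) (hy : hf y (ev 0) = 0) :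
    hf (pr x).1 (pr y).1 = hf x y := by
  have := (hyp n K).form_eq y x
  simp only [BB_apply, hx, hy, map_zero, mul_zero, zero_mul, zero_add] at this
  exact this.symm

theorem li_u {w : WW n K} (h : w ≠ 0) : Li (ev 0) w.1 := fun a b e => by
  have h1 := congrArg pr e
  simp only [map_add, map_smul, pr_u, pr_coe, smul_zero, zero_add, map_zero, smul_eq_zero, h,
    or_false] at h1
  subst h1
  simpa [ev_ne] using e

theorem ev_mem {i : Fin (n + 1)} (h0 : i.val ≠ 0) (h1 : i.val ≠ n) : ev i ∈ WW n K :=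
  mem_perp_pair.2 ⟨by rw [BB_apply, hf_evv, if_neg (by simpa)],
    by rw [BB_apply, hf_evv, if_neg (by rw [Fin.val_last]; omega)]⟩

/-- the class in `W = Q/Z` -/
noncomputable def cx (g : XU n K) : WW n K := pr (ac g (ev (la n)))

theorem cx_EE {x : Vn n K} {c : K} (h : Ok (ev 0) x c) : cx (EE (ev 0) x c) = pr x := by
  simp [cx, ac_EE h, hfL0, pr_u, pr_f]

theorem P_perp {p : XU n K} (h : p ∈ PP (XU n K)) {x : Vn n K} (hx : hf x (ev 0) = 0) :
    hf (ac p x) (ev 0) = 0 := by rw [← mem_PP.1 h, hf_ac, hx]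

theorem pr_ac_pr {p : XU n K} (h : p ∈ PP (XU n K)) {x : Vn n K} (hx : hf x (ev 0) = 0) :
    pr (ac p (pr x).1) = pr (ac p x) := by
  conv_rhs => rw [pr_perp hx, ac_add, ac_smul, mem_PP.1 h]
  simp [pr_u]

/-- An additive map of `W` that commutes with `P` is a scalar. -/
theorem scalar_of_comm (φ : WW n K →+ WW n K)
    (h : ∀ p ∈ PP (XU n K), ∀ w : WW n K, φ (pr (ac p w.1)) = pr (ac p (φ w).1)) :
    ∃ d : K, ∀ w, φ w = d • w := by
  have := hp.five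
  have h1 := v1 hp.five
  let a : WW n K := ⟨ev 1, ev_mem (by omega) (by omega)⟩
  let b : WW n K := ⟨ev (Fin.rev 1), ev_mem (by rw [Fin.val_rev]; omega) (by rw [Fin.val_rev]; omega)⟩
  have ia : Iso a.1 := by rw [Iso, hf_evv, if_neg (by omega)]
  have h2 := h (TT a.1) (ac_EE_fix (ok_zero ia (star_one K)) (hf_symm (W_u a)) (by simp)) b
  simp only [ac_Tc ia (star_one K), map_add, map_smul, pr_coe, add_right_inj, one_mul] at h2
  rw [show hf b.1 a.1 = 1 by rw [hf_evv, if_pos (by rw [Fin.val_rev]; omega)], one_smul] at h2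
  generalize hf (φ b).1 a.1 = d at h2
  refine ⟨d, fun w => ?_⟩
  rw [← pr_coe w]
  refine span iso0 (fun x => φ (pr x) = d • pr x) (fun x hx => ?_)
    (fun x y _ _ e1 e2 => by rw [map_add, map_add, e1, e2, smul_add]) _ (W_u w)
  by_cases x0 : pr x = 0
  · simp [x0]
  obtain ⟨g, g0, g1⟩ := w2 ⟨iso0, (hf_pr hx.symm.p hx.symm.p).trans hx.r, hf_symm (W_u (pr x))⟩ (li_u x0)
  have h3 := h g g0 a
  rwa [h2, Submodule.coe_smul, ac_smul, map_smul, g1, pr_coe] at h3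

variable [FV n K]

theorem EE_memQ {x : Vn n K} {c : K} (h : Ok (ev 0) x c) : EE (ev 0) x c ∈ QQ (XU n K) :=
  (FV.mem_Q _).2 ⟨x, c, h, rfl⟩

theorem eq_EE {q : XU n K} (h : q ∈ QQ (XU n K)) :
    ∃ c, Ok (ev 0) (cx q).1 c ∧ q = EE (ev 0) (cx q).1 c := by
  obtain ⟨x, c, o, rfl⟩ := (FV.mem_Q _).1 h
  refine ⟨c + tr (hf x (ev (la n))), ⟨iso0, W_u _, ?_⟩, ?_⟩
  · rw [cx_EE o, hf_pr o.perp o.perp, ← o.tr, ← add_zero (tr c), ← tr_tr (hf x (ev (la n)))]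
    simp only [tr, star_add]; ring
  · rw [cx_EE o, ← EE_shift, ← pr_perp o.perp]

theorem exists_Q (w : WW n K) : ∃ q ∈ QQ (XU n K), cx q = w := by
  obtain ⟨c, hc⟩ := exists_tr (star_hf w.1 w.1)
  have o : Ok (ev 0) w.1 c := ⟨iso0, W_u w, hc⟩
  exact ⟨_, EE_memQ o, by rw [cx_EE o, pr_coe]⟩

theorem cx_mul {q q' : XU n K} (h : q ∈ QQ (XU n K)) (h' : q' ∈ QQ (XU n K)) :
    cx (q * q') = cx q + cx q' := by
  obtain ⟨x, c, o, rfl⟩ := (FV.mem_Q _).1 h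
  obtain ⟨y, d, o', rfl⟩ := (FV.mem_Q _).1 h'
  rw [EE_mul o o', cx_EE (o.add o'), cx_EE o, cx_EE o', map_add]

theorem mem_Z_iff {q : XU n K} (h : q ∈ QQ (XU n K)) : q ∈ ZZ (XU n K) ↔ cx q = 0 := by
  rw [FV.mem_Z]
  constructor
  · rintro ⟨c, hc, rfl⟩
    rw [cx_EE (ok_zero iso0 hc), map_zero]
  · intro e
    obtain ⟨c, o, e'⟩ := eq_EE h
    rw [e] at o e'
    exact ⟨c, tr_eq_zero.1 (by simpa using o.tr), e'⟩

theorem mul_inv_mem_Z {q q' : XU n K} (h : q ∈ QQ (XU n K)) (h' : q' ∈ QQ (XU n K)) :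
    q * q'⁻¹ ∈ ZZ (XU n K) ↔ cx q = cx q' := by
  have h1 := mul_mem h (inv_mem h')
  have h2 := cx_mul h1 h'
  rw [inv_mul_cancel_right] at h2
  rw [mem_Z_iff h1, h2, add_eq_right]

theorem conj_memQ {p q : XU n K} (h : p ∈ PP (XU n K)) (h' : q ∈ QQ (XU n K)) :
    p * q * p⁻¹ ∈ QQ (XU n K) ∧ cx (p * q * p⁻¹) = pr (ac p (cx q).1) := by
  obtain ⟨x, c, o, rfl⟩ := (FV.mem_Q _).1 h'
  have o' := o.ac p
  rw [mem_PP.1 h] at o'
  rw [EE_conj o, mem_PP.1 h, cx_EE o', cx_EE o, pr_ac_pr h o.perp]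
  exact ⟨EE_memQ o', rfl⟩

theorem cm_Q {q q' : XU n K} (h : q ∈ QQ (XU n K)) (h' : q' ∈ QQ (XU n K)) :
    cm q q' = Tc (tr (hf (cx q).1 (cx q').1)) (ev 0) := by
  obtain ⟨x, c, o, rfl⟩ := (FV.mem_Q _).1 h
  obtain ⟨y, d, o', rfl⟩ := (FV.mem_Q _).1 h'
  rw [EE_cm o o', cx_EE o, cx_EE o', hf_pr o.perp o'.perp]

theorem cm_Q_eq_one {q q' : XU n K} (h : q ∈ QQ (XU n K)) (h' : q' ∈ QQ (XU n K)) :
    cm q q' = 1 ↔ tr (hf (cx q).1 (cx q').1) = 0 := by
  rw [cm_Q h h']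
  exact ⟨Tc_eq_one (ev_ne 0) iso0 (star_tr _), fun e => by rw [e, Tc, EE_zero]⟩

/-- every element of `Z` is a commutator in `Q` -/
theorem exists_cm {z : XU n K} (h : z ∈ ZZ (XU n K)) :
    ∃ a ∈ QQ (XU n K), ∃ b ∈ QQ (XU n K), z = cm a b := by
  have := hp.five
  have h1 := v1 hp.five
  obtain ⟨c, hc, rfl⟩ := (FV.mem_Z _).1 h
  obtain ⟨d, rfl⟩ := exists_tr hc
  obtain ⟨a, ha, e1⟩ := exists_Q (d • ⟨ev 1, ev_mem (by omega) (by omega)⟩ : WW n K)
  obtain ⟨b, hb, e2⟩ := exists_Q (⟨ev (Fin.rev 1), ev_mem (by rw [Fin.val_rev]; omega)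
    (by rw [Fin.val_rev]; omega)⟩ : WW n K)
  refine ⟨a, ha, b, hb, ?_⟩
  rw [cm_Q ha hb, e1, e2, Submodule.coe_smul, hf_smul_left, hf_evv,
    if_pos (by rw [Fin.val_rev]; omega), mul_one]

theorem Cz_le_Ns : Cz (GA.xk (XU n K) 1) ≤ Ns (PP (XU n K)) := by
  have key : ∀ g ∈ Cz (GA.xk (XU n K) 1), ∀ p ∈ PP (XU n K), g * p * g⁻¹ ∈ PP (XU n K) := by
    intro g hg p h
    have h1 : g⁻¹ * TT (ev 0) * g⁻¹⁻¹ = TT (ev 0) := by
      rw [FV.xk_one, mem_Cz] at hg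
      rw [inv_inv, mul_assoc, hg, inv_mul_cancel_left]
    rw [Tc_conj iso0 (star_one K)] at h1
    have h2 := ac_Tc (iso0.ac g⁻¹) (star_one K) (ev (la n))
    rw [h1, ac_Tc iso0 (star_one K), hfL0, add_right_inj, one_mul, one_mul, one_smul] at h2
    generalize hf (ev (la n)) (ac g⁻¹ (ev 0)) = a at h2
    have a0 : a ≠ 0 := by rintro rfl; exact ev_ne 0 (h2.trans (zero_smul _ _))
    have h3 : ac p (ac g⁻¹ (ev 0)) = ac g⁻¹ (ev 0) := smul_right_injective _ a0 (by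
      simp only [← ac_smul p, ← h2]; exact h)
    rw [mem_PP, ac_mul, ac_mul, h3, ac_ac_inv]
  exact fun g hg => Subgroup.mem_normalizer_iff.2 fun p => ⟨key g hg p, fun h => by
    simpa [mul_assoc] using key _ (inv_mem hg) _ h⟩

variable [GA.FB (XU n K)]

theorem aut_Q (hQ : QK n K) (θ : MulAut (PP (XU n K))) {q : PP (XU n K)} (h : q.1 ∈ QQ (XU n K)) :
    (θ q).1 ∈ QQ (XU n K) := by
  obtain ⟨-, -, h1, h2⟩ := hQ 1 GA.rg1
  refine h2 _ ((H98.pCoreOf_le _).trans fun p hp => ?_) (H98.le_normalizer_pCoreOf Cz_le_Ns)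
    (H98.isPGroup_pCoreOf _) (H98.le_pCoreOf (H := PP (XU n K))
      (A := (((QQ (XU n K)).subgroupOf _).map θ.toMonoidHom).map (PP (XU n K)).subtype)
      ((h1.comap_subtype.map _).map _) (Subgroup.map_subtype_le _) ?_ ⟨_, ⟨q, h, rfl⟩, rfl⟩)
  · exact mem_Cz.2 (GA.PP_le_Cs hp _ (GA.FB.xM 1 GA.rg1))
  · have : ((QQ (XU n K)).subgroupOf (PP (XU n K))).Normal := ⟨fun a ha p => (conj_memQ p.2 ha).1⟩
    have : (((QQ (XU n K)).subgroupOf _).map θ.toMonoidHom).Normal := this.map _ θ.surjective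
    exact (Subgroup.normal_subgroupOf_iff_le_normalizer (Subgroup.map_subtype_le _)).1 (by
      rwa [Subgroup.subgroupOf, Subgroup.comap_map_eq_self_of_injective (Subgroup.subtype_injective _)])

theorem aut_Z (hQ : QK n K) (θ : MulAut (PP (XU n K))) {z : PP (XU n K)} (h : z.1 ∈ ZZ (XU n K)) :
    (θ z).1 ∈ ZZ (XU n K) := by
  obtain ⟨a, ha, b, hb, e⟩ := exists_cm h
  obtain rfl : z = cm ⟨a, GA.QQ_le_PP ha⟩ ⟨b, GA.QQ_le_PP hb⟩ := Subtype.ext e
  have := GA.FB.cmQ 1 GA.rg1 _ (aut_Q hQ θ (q := ⟨a, GA.QQ_le_PP ha⟩) ha) _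
    (aut_Q hQ θ (q := ⟨b, GA.QQ_le_PP hb⟩) hb)
  rw [cm, map_mul, map_mul, map_mul, map_inv, map_inv]
  exact this

theorem exists_add (hQ : QK n K) (θ : MulAut (PP (XU n K))) : ∃ A : WW n K →+ WW n K,
    ∀ q : PP (XU n K), q.1 ∈ QQ (XU n K) → cx (θ q).1 = A (cx q.1) := by
  have key : ∀ q q' : PP (XU n K), q.1 ∈ QQ (XU n K) → q'.1 ∈ QQ (XU n K) → cx q.1 = cx q'.1 →
      cx (θ q).1 = cx (θ q').1 := fun q q' h h' e =>
    (mul_inv_mem_Z (aut_Q hQ θ h) (aut_Q hQ θ h')).1 (by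
      simpa using aut_Z hQ θ (z := q * q'⁻¹) ((mul_inv_mem_Z h h').2 e))
  choose E hE hE' using exists_Q (n := n) (K := K)
  refine ⟨AddMonoidHom.mk' (fun w => cx (θ ⟨E w, GA.QQ_le_PP (hE w)⟩).1) fun v w => ?_,
    fun q h => key _ _ h (hE _) (hE' _).symm⟩
  rw [← cx_mul (aut_Q hQ θ (hE v)) (aut_Q hQ θ (hE w)), ← Subgroup.coe_mul, ← map_mul]
  exact key _ _ (hE _) (mul_mem (hE v) (hE w)) (by
    rw [hE']; exact ((cx_mul (hE v) (hE w)).trans (by rw [hE', hE'])).symm)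

theorem exists_QP (w : WW n K) : ∃ q : PP (XU n K), q.1 ∈ QQ (XU n K) ∧ cx q.1 = w := by
  obtain ⟨q, h, e⟩ := exists_Q w
  exact ⟨⟨q, GA.QQ_le_PP h⟩, h, e⟩

theorem fe1 [FQ K] (hQ : QK n K) : FE1 n K := fun θ => by
  obtain ⟨A, hA⟩ := exists_add hQ θ
  obtain ⟨A', hA'⟩ := exists_add hQ θ⁻¹
  have a1 : ∀ w, A' (A w) = w := fun w => by
    obtain ⟨q, h, rfl⟩ := exists_QP w
    rw [← hA q h, ← hA' _ (aut_Q hQ θ h), MulAut.inv_apply_self]
  have a2 : ∀ w, A (A' w) = w := fun w => by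
    obtain ⟨q, h, rfl⟩ := exists_QP w
    rw [← hA' q h, ← hA _ (aut_Q hQ θ⁻¹ h), MulAut.apply_inv_self]
  have inj : Function.Injective A := Function.LeftInverse.injective a1
  have b1 : ∀ (p : PP (XU n K)) (w : WW n K), A (pr (ac p.1 w.1)) = pr (ac (θ p).1 (A w).1) := fun p w => by
    obtain ⟨q, h, rfl⟩ := exists_QP w
    rw [← (conj_memQ p.2 h).2, ← hA q h, ← (conj_memQ (θ p).2 (aut_Q hQ θ h)).2]
    simpa using (hA (p * q * p⁻¹) (conj_memQ p.2 h).1).symm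
  have b2 : ∀ c : K, ∃ d : K, ∀ w, A' (c • A w) = d • w := fun c =>
    scalar_of_comm (A'.comp ((DistribSMul.toAddMonoidHom _ c).comp A)) fun p h w => inj (by
      change A (A' (c • A _)) = A (pr (ac p (A' (c • A w)).1))
      rw [a2, b1 ⟨p, h⟩, b1 ⟨p, h⟩, a2, Submodule.coe_smul, ac_smul, map_smul])
  choose s hs using b2
  have := hp.five
  have h1 := v1 hp.five
  have w0 : (⟨ev 1, ev_mem (by omega) (by omega)⟩ : WW n K) ≠ 0 := fun e =>
    ev_ne 1 (congrArg Subtype.val e)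
  have : Nontrivial (WW n K) := ⟨_, _, w0⟩
  have b3 : ∀ c v, A (s c • v) = c • A v := fun c v => by rw [← hs, a2]
  have hinj := smul_left_injective K w0
  let τ' : K →+* K :=
    { toFun := s
      map_one' := hinj (by simp [← hs, a1])
      map_mul' := fun a b => hinj (inj (by simp only [mul_smul, b3]))
      map_zero' := hinj (by simp [← hs])
      map_add' := fun a b => hinj (inj (by simp only [add_smul, b3, map_add])) }
  obtain ⟨τ, hτ⟩ : ∃ τ : K ≃+* K, ∀ c v, A (c • v) = τ c • A v := by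
    let τ'' : K ≃+* K := RingEquiv.ofBijective τ' (Finite.injective_iff_bijective.1 τ'.injective)
    refine ⟨τ''.symm, fun c v => ?_⟩
    obtain ⟨c, rfl⟩ := τ''.surjective c
    rw [RingEquiv.symm_apply_apply]
    exact b3 c v
  have c1 : ∀ v w : WW n K, tr (hf v.1 w.1) = 0 ↔ tr (hf (A v).1 (A w).1) = 0 := fun v w => by
    obtain ⟨q, h, rfl⟩ := exists_QP v
    obtain ⟨q', h', rfl⟩ := exists_QP w
    rw [← hA q h, ← hA q' h', ← cm_Q_eq_one h h', ← cm_Q_eq_one (aut_Q hQ θ h) (aut_Q hQ θ h'),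
      cm_eq_one, cm_eq_one, ← Subgroup.coe_mul, ← Subgroup.coe_mul, ← Subgroup.coe_mul,
      ← Subgroup.coe_mul, ← map_mul, ← map_mul, Subtype.coe_inj, Subtype.coe_inj, θ.injective.eq_iff]
  have hW := (herm n K).isHerm_hypForm iso0 hfL0
  obtain ⟨κ, κ0, hκ, hB⟩ := exists_form_eq_mul hW hW (A := A) (τ := τ) (FQ.aut_star τ) hτ fun v w => by
    change hf w.1 v.1 = 0 ↔ hf (A w).1 (A v).1 = 0
    refine ⟨fun e => eq_zero_of_tr fun b => ?_, fun e => eq_zero_of_tr fun b => ?_⟩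
    · obtain ⟨b, rfl⟩ := τ.surjective b
      have := (c1 (b • w) v).1 (by rw [Submodule.coe_smul, hf_smul_left, e]; simp)
      rwa [hτ, Submodule.coe_smul, hf_smul_left] at this
    · have := (c1 (b • w) v).2 (by rw [hτ, Submodule.coe_smul, hf_smul_left, e]; simp)
      rwa [Submodule.coe_smul, hf_smul_left] at this
  replace hB : ∀ v w : WW n K, hf (A v).1 (A w).1 = κ * τ (hf v.1 w.1) := fun v w => hB w v
  replace hκ : star κ = κ := hκ
  let Φ : Vn n K →+ Vn n K := AddMonoidHom.mk' (fun x => (κ * τ (hf x (ev (la n)))) • ev 0 +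
    τ (hf x (ev 0)) • ev (la n) + (A (pr x)).1) fun x y => by
      simp only [hf_add_left, map_add, Submodule.coe_add]
      module
  have hΦ : ∀ x, Φ x = (κ * τ (hf x (ev (la n)))) • ev 0 + τ (hf x (ev 0)) • ev (la n) +
    (A (pr x)).1 := fun _ => rfl
  obtain ⟨bij, β, hβ⟩ := exists_aut_of_semi τ Φ κ0 hκ (fun c x => by
    simp only [hΦ, hf_smul_left, map_smul, hτ, map_mul, Submodule.coe_smul]
    module) fun x y => by
    have := (hyp n K).form_eq y x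
    simp only [BB_apply, starRingEnd_apply] at this
    rw [this]
    simp only [hΦ, hf_add_left, hf_add_right, hf_smul_left, hf_smul_right, iso0, isoL, hf0L, hfL0, W_u,
      W_f, hf_symm (W_u _), hf_symm (W_f _), hB, map_add, map_mul, star_mul', hκ, FQ.aut_star]
    ring
  have d1 : Φ (ev 0) = κ • ev 0 := by simp [hΦ, hf0L, iso0, pr_u]
  have d2 : Φ (ev (la n)) = ev (la n) := by simp [hΦ, hfL0, isoL, pr_f]
  have d3 : ∀ x, pr (Φ x) = A (pr x) := fun x => by simp [hΦ, pr_u, pr_f, pr_coe]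
  have hP : ∀ g ∈ PP (XU n K), β g ∈ PP (XU n K) := fun g hg => smul_right_injective _ κ0 (by
    simp only [← ac_smul]; rw [← d1, hβ, mem_PP.1 hg])
  refine ⟨β, mem_St_of_finite hP, fun q h => (mul_inv_mem_Z (aut_Q hQ θ h) ?_).2 ?_⟩
  · let β' : PP (XU n K) →* PP (XU n K) :=
      (β.toMonoidHom.comp (Subgroup.subtype _)).codRestrict _ fun g => hP _ g.2
    exact aut_Q hQ (MulEquiv.ofBijective β' (Finite.injective_iff_bijective.1 fun a b e =>
      Subtype.ext (β.injective (congrArg Subtype.val e)))) h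
  · rw [hA q h, cx, cx, ← d3, ← hβ, d2]

theorem jobFE1 : JobFE1 := fun n K _ _ _ _ _ B _ _ hQ => by
  haveI := B
  exact fe1 hQ

end H59.UM5
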