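import Cfsg.Agent.H59.U5TR
import Cfsg.Agent.H31.U5Q2

/-! STD-U5, slot FF: outer involutions of `SU₅(q)`. -/

set_option autoImplicit false
set_option linter.unusedSectionVars false

namespace H59.UVK

open H67

open H64.SG (O2 Syl Cz Cs Ns cjs Is2 Inv2 UF IsO2 fx mem_fx is2_of_sq)
open Matrix H57 Subgroup
open H67 H59.UV
open H67.SA (SLn Au la St cI cm)
open H29.SA (gr Z4 um pmul Good)

section Gen

variable {G : Type*} [Group G] {us : Z4 → G} {P : Subgroup G}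

theorem good_of (us_mul : ∀ p q, us p * us q = us (pmul p q)) (us_zero : us 0 = 1)
    (us_inj : Function.Injective us) (hP : ∀ y, y ∈ P ↔ ∃ p, us p = y)
    (not_conj : ∀ g, g * us (0, 0, 1, 0) ≠ us (0, 1, 0, 0) * g) : Good P := by
  have mem : ∀ p, us p ∈ P := fun p => (hP _).2 ⟨p, rfl⟩
  have mem_z : ∀ {y}, y ∈ P ⊓ Cs P ↔ ∃ b c, y = us (0, b, c, 0) := fun {y} => by
    constructor
    · rintro ⟨h0, h⟩
      obtain ⟨p, rfl⟩ := (hP _).1 h0
      have h1 := mem_centralizer_iff.1 h _ (mem (1, 0, 0, 0))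
      have h2 := mem_centralizer_iff.1 h _ (mem (0, 0, 0, 1))
      rw [us_mul, us_mul] at h1 h2
      have := (by decide : ∀ p, pmul (1, 0, 0, 0) p = pmul p (1, 0, 0, 0) →
        pmul (0, 0, 0, 1) p = pmul p (0, 0, 0, 1) → p = (0, p.2.1, p.2.2.1, 0)) p (us_inj h1) (us_inj h2)
      exact ⟨_, _, congrArg us this⟩
    · rintro ⟨b, c, rfl⟩
      refine ⟨mem _, mem_centralizer_iff.2 fun y hy => ?_⟩
      obtain ⟨p, rfl⟩ := (hP _).1 hy
      rw [us_mul, us_mul, (by decide : ∀ p b c, pmul p (0, b, c, 0) = pmul (0, b, c, 0) p)]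
  refine ⟨?_, fun y hy => ?_, fun g hg => mem_centralizer_iff.2 fun y hy => ?_⟩
  · have : Finite P := Finite.of_surjective (fun p => (⟨us p, mem p⟩ : P)) fun y =>
      ((hP _).1 y.2).imp fun _ e => Subtype.ext e
    have : Finite ↥(P ⊓ Cs P) := Finite.of_injective _ (inclusion_injective inf_le_left)
    have := Nat.card_le_card_of_injective (fun p : ZMod 2 × ZMod 2 =>
      (⟨us (0, p.1, p.2, 0), mem_z.2 ⟨_, _, rfl⟩⟩ : ↥(P ⊓ Cs P))) fun p q e => by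
        simpa [Prod.ext_iff] using us_inj (congrArg Subtype.val e)
    simpa using this
  · obtain ⟨b, c, rfl⟩ := mem_z.1 hy
    rw [us_mul, (by decide : ∀ b c, pmul (0, b, c, 0) (0, b, c, 0) = 0), us_zero]
  have ne1 : ∀ p, p ≠ 0 → g * us p * g⁻¹ ≠ us 0 := fun p hp e =>
    hp (us_inj (by rw [us_zero] at e ⊢; simpa [mul_inv_eq_one] using e))
  have h3 : g * us (0, 1, 1, 0) * g⁻¹ = us (0, 1, 1, 0) := by
    obtain ⟨p, hp⟩ := (hP _).1 ((mem_normalizer_iff.1 hg _).1 (mem (1, 0, 0, 1)))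
    have e : g * us (0, 1, 1, 0) * g⁻¹ = us (pmul p p) := by
      rw [← us_mul, hp, show ((0, 1, 1, 0) : Z4) = pmul (1, 0, 0, 1) (1, 0, 0, 1) by decide, ← us_mul]; group
    rcases (by decide : ∀ p, pmul p p = 0 ∨ pmul p p = (0, 1, 1, 0)) p with h | h
    · exact absurd (h ▸ e) (ne1 _ (by decide))
    · rw [e, h]
  have h1 : g * us (0, 0, 1, 0) * g⁻¹ = us (0, 0, 1, 0) := by
    have hz : g ∈ Ns (P ⊓ Cs P) :=
      inf_normalizer_le_normalizer_inf ⟨hg, H7.normalizer_le_normalizer_centralizer _ hg⟩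
    obtain ⟨b, c, e⟩ := mem_z.1 ((mem_normalizer_iff.1 hz _).1 (mem_z.2 ⟨0, 1, rfl⟩))
    rcases (by decide : ∀ b c : ZMod 2, b = 0 ∧ c = 0 ∨ b = 0 ∧ c = 1 ∨ b = 1 ∧ c = 0 ∨ b = 1 ∧ c = 1) b c with
      ⟨rfl, rfl⟩ | ⟨rfl, rfl⟩ | ⟨rfl, rfl⟩ | ⟨rfl, rfl⟩
    · exact absurd e (ne1 _ (by decide))
    · exact e
    · exact absurd (mul_inv_eq_iff_eq_mul.1 e) (not_conj g)
    · rw [← h3, mul_left_inj, mul_right_inj] at e
      exact absurd (us_inj e) (by decide)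
  obtain ⟨b, c, rfl⟩ := mem_z.1 hy
  rw [eq_comm, ← mul_inv_eq_iff_eq_mul]
  rcases (by decide : ∀ b c : ZMod 2, b = 0 ∧ c = 0 ∨ b = 0 ∧ c = 1 ∨ b = 1 ∧ c = 0 ∨ b = 1 ∧ c = 1) b c with
    ⟨rfl, rfl⟩ | ⟨rfl, rfl⟩ | ⟨rfl, rfl⟩ | ⟨rfl, rfl⟩
  · rw [show ((0, 0, 0, 0) : Z4) = 0 from rfl, us_zero]; group
  · exact h1
  · rw [show ((0, 1, 0, 0) : Z4) = pmul (0, 0, 1, 0) (0, 1, 1, 0) by decide, ← us_mul]
    conv_rhs => rw [← h1, ← h3]
    group
  · exact h3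

end Gen

variable {n : ℕ} {K : Type} [Field K] [StarRing K] [CharP K 2] [Finite K] [hp : Par n K]

theorem exists_theta [Base n K] (β : MulAut (XU n K)) (h2 : β * β = 1) (ho : GA.out (XU n K) β ≠ 1) :
    ∃ (γ θ : Au n K) (J : GL (Fin (n + 1)) (selfAdjoint K)), (∀ g, (β g).1 = γ g.1) ∧
      θ * γ * θ⁻¹ = slField _ K (sg K) ∧ J.1ᵀ = J.1 ∧
      θ * (γ * tau n K) * θ⁻¹ = gr (GeneralLinearGroup.map (io0 K) J) := by
  have hn := two_le n K
  have z : (1 : Multiplicative (ZMod 2)) ≠ Multiplicative.ofAdd 1 := by decide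
  obtain ⟨γ, g1, g2⟩ := FX.ext β
  have g3 : γ * γ = 1 := (FX.cX (γ * γ) fun g => by
      rw [MulAut.mul_apply, ← g1, ← g1, ← MulAut.mul_apply, h2]; rfl).resolve_right fun h => by
    have := congrArg (fun a => (SA.out n K a).2) h
    simp only [map_mul, Prod.snd_mul, g2, mul_one, FV.out_tau] at this
    exact z this
  rw [FX.out_eq β γ ⟨g1, g2⟩] at ho
  obtain ⟨θ, hθ⟩ : ∃ θ, θ * γ * θ⁻¹ = slField _ K (sg K) := by
    rcases H29.SA.rep hn g3 (fun h => ho (by rw [h]; rfl)) with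
      ⟨σ, s1, s2, e⟩ | ⟨J, rfl⟩ | ⟨σ, s1, s2, e⟩
    · rw [(SA.out_sq_eq_one (sg_ne n) sg_sq s2).resolve_left s1] at e
      exact isConj_iff.1 e
    · rw [H29.SA.out_gr hn] at g2; exact absurd g2.symm z
    · rw [H29.SA.out_of_isConj e, map_mul, SA.out_slField hn, SA.out_slGraph hn] at g2
      exact absurd g2.symm z
  have c1 := FX.comm β γ g1
  obtain ⟨J, j1, j2⟩ := exists_gr (α := θ * (γ * tau n K) * θ⁻¹) (by
      rw [conj_mul, mul_assoc γ, ← mul_assoc (tau n K), ← c1, mul_assoc γ, tau_mul_self, mul_one, g3]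
      simp)
    (by
      rw [SA.out_conj_eq, map_mul, ← SA.out_conj_eq θ γ, hθ, SA.out_slField hn, FV.out_tau]
      exact Prod.ext sg_sq rfl)
    (by rw [← hθ, conj_mul, conj_mul, mul_assoc γ, ← c1])
  exact ⟨γ, θ, J, g1, hθ, j1, j2⟩

/-- The outer involutions are conjugate in `Aut X`. -/
theorem conj_aut [Base n K] {β β' : MulAut (XU n K)} (h2 : β * β = 1) (ho : GA.out (XU n K) β ≠ 1)
    (h2' : β' * β' = 1) (ho' : GA.out (XU n K) β' ≠ 1) : ∃ a, β' = a * β * a⁻¹ := by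
  have hn := two_le n K
  obtain ⟨γ, θ, J, g1, g2, g3, g4⟩ := exists_theta β h2 ho
  obtain ⟨γ', θ', J', g1', g2', g3', g4'⟩ := exists_theta β' h2' ho'
  obtain ⟨g, c, e⟩ := H58.fsim_toBilin'_iff.1 (H58.fsim_of_odd
    ⟨(H29.SA.symm_of_sq (H29.SA.gr_sq hn g3)).1, .inl (H29.SA.isSymm_of g3)⟩
    ⟨(H29.SA.symm_of_sq (H29.SA.gr_sq hn g3')).1, .inl (H29.SA.isSymm_of g3')⟩ rfl (by
      rw [Fintype.card_fin, hp.five]; decide))
  generalize hD : slDiag _ K (GeneralLinearGroup.map (io0 K) g) = D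
  have d1 : D * gr (GeneralLinearGroup.map (io0 K) J) * D⁻¹ = gr (GeneralLinearGroup.map (io0 K) J') :=
    SA.quot_injective hn (by
      rw [map_mul, map_mul, map_inv, H29.SA.quot_gr, H29.SA.quot_gr, ← hD]
      refine H58.conj_pslGr_eq_iff.2 ⟨Units.map (io0 K).toMonoidHom c, ?_⟩
      change (g.1.map (io0 K))ᵀ * J'.1.map (io0 K) * g.1.map (io0 K) = io0 K c • J.1.map (io0 K)
      rw [← transpose_map, ← Matrix.map_mul, ← Matrix.map_mul, e]
      ext i j; simp)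
  have d2 : D * slField _ K (sg K) * D⁻¹ = slField _ K (sg K) := by
    rw [mul_inv_eq_iff_eq_mul, ← hD, slField_mul_slDiag]
    congr 2
    exact Units.ext (Matrix.ext fun i j => (g.1 i j).2.symm)
  have a1 : θ'⁻¹ * D * θ * γ * (θ'⁻¹ * D * θ)⁻¹ = γ' := by
    calc _ = θ'⁻¹ * (D * (θ * γ * θ⁻¹) * D⁻¹) * θ' := by group
      _ = _ := by rw [g2, d2, ← g2']; group
  have a2 : θ'⁻¹ * D * θ * (γ * tau n K) * (θ'⁻¹ * D * θ)⁻¹ = γ' * tau n K := by
    calc _ = θ'⁻¹ * (D * (θ * (γ * tau n K) * θ⁻¹) * D⁻¹) * θ' := by group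
      _ = _ := by rw [g4, d1, ← g4']; group
  generalize θ'⁻¹ * D * θ = α at a1 a2
  obtain ⟨a, ha⟩ := FX.res α (by
    rw [← a1, mul_inv_eq_iff_eq_mul] at a2
    calc α * tau n K = α * γ⁻¹ * α⁻¹ * (α * (γ * tau n K)) := by group
      _ = _ := by rw [a2]; group)
  refine ⟨a, eq_mul_inv_of_mul_eq (MulEquiv.ext fun s => Subtype.ext ?_)⟩
  rw [MulAut.mul_apply, MulAut.mul_apply, g1', ha, ha, g1, ← a1]
  simp

variable (K) in
/-- `𝔽₂ ≤ K` -/
abbrev i2 : ZMod 2 →+* K := ZMod.castHom (dvd_refl 2) K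

omit hp in
theorem star_i2 (a : ZMod 2) : star (i2 K a) = i2 K a := by
  rcases (by decide : ∀ a : ZMod 2, a = 0 ∨ a = 1) a with rfl | rfl <;> simp

variable (K) in
/-- the model of a Sylow `2`-subgroup of `Sp₄(2)` in `SU₅(q)` -/
def vs (p : Z4) : XU 4 K := ⟨SpecialLinearGroup.map (i2 K) (H29.SA.us p), mem_XU_iff.2 (by
  have h : (of fun i j : Fin 5 => star ((um p).map (i2 K) j.rev i.rev)) =
      (of fun i j : Fin 5 => um p j.rev i.rev).map (i2 K) := Matrix.ext fun i j => star_i2 _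
  refine (congrArg ((um p).map (i2 K) * ·) h).trans ?_
  rw [← Matrix.map_mul, (by decide +kernel : ∀ p, um p * (of fun i j : Fin 5 => um p j.rev i.rev) = 1) p]
  exact Matrix.map_one _ (map_zero _) (map_one _))⟩

omit hp in
theorem vs_mul (p q : Z4) : vs K p * vs K q = vs K (pmul p q) :=
  Subtype.ext ((map_mul _ _ _).symm.trans (congrArg _ (H29.SA.us_mul p q)))

omit hp in
theorem vs_zero : vs K 0 = 1 := Subtype.ext ((congrArg _ H29.SA.us_zero).trans (map_one _))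

omit hp in
theorem vs_inj : Function.Injective (vs K) := fun p q h => H29.SA.us_inj (Subtype.ext
  (Matrix.map_injective (i2 K).injective (congrArg UV.mt h)))

omit hp in
theorem vs_nc (g : XU 4 K) : g * vs K (0, 0, 1, 0) ≠ vs K (0, 1, 0, 0) * g := fun e => by
  have e' : UV.mt g * (um (0, 0, 1, 0)).map (i2 K) = (um (0, 1, 0, 0)).map (i2 K) * UV.mt g :=
    congrArg UV.mt e
  have a := fun i j => congrFun (congrFun e' i) j
  have b := fun i j => congrFun (congrFun (SA.val_mul_inv g.1) i) j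
  have a0 := a 0 0; have a1 := a 0 1; have a2 := a 0 2; have a3 := a 0 3
  have c0 := a 1 0; have c1 := a 1 1; have c2 := a 1 2; have c3 := a 1 3
  have b1 := b 3 3; have b2 := b 4 4; have b3 := b 3 4
  generalize (g.1⁻¹).1 = h at b1 b2 b3
  simp [um, UV.mt, Matrix.mul_apply, Fin.sum_univ_succ] at a0 a1 a2 a3 c0 c1 c2 c3
  simp [Matrix.mul_apply, Fin.sum_univ_five, a0, a1, a2, a3, c0, c1, c2, c3] at b1 b2 b3
  rcases b3 with h | h
  · simp [h] at b1
  · simp [h] at b2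

variable (K) in
/-- the subgroup of the `vs p` -/
def P1 : Subgroup (XU 4 K) where
  carrier := Set.range (vs K)
  one_mem' := ⟨0, vs_zero⟩
  mul_mem' := by rintro _ _ ⟨p, rfl⟩ ⟨q, rfl⟩; exact ⟨_, (vs_mul p q).symm⟩
  inv_mem' := by
    rintro _ ⟨p, rfl⟩
    obtain ⟨q, h⟩ := (by decide : ∀ p, ∃ q, pmul p q = 0) p
    exact ⟨q, (inv_eq_of_mul_eq_one_right (by rw [vs_mul, h, vs_zero])).symm⟩

theorem fx_sp [Base n K] (β : MulAut (XU n K)) (h2 : β * β = 1) (ho : GA.out (XU n K) β ≠ 1) :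
    Nonempty (fx β ≃* symplecticGroup (Fin 2) (selfAdjoint K)) := by
  obtain ⟨J, j1, ⟨e⟩⟩ := tr_gr β h2 ho
  obtain ⟨e'⟩ := (H29.SA.fx_gr (H29.SA.gr_sq (two_le n K) j1)).1 2 (by rw [hp.five])
  exact ⟨e.trans e'⟩

theorem good_syl [Base n K] (hq : qK K = 2) (β : MulAut (XU n K)) (h2 : β * β = 1)
    (ho : GA.out (XU n K) β ≠ 1) (P : Subgroup (XU n K)) (hP : Syl P (fx β)) : Good P := by
  have hn := two_le n K
  obtain rfl := hp.five
  obtain ⟨β₀, h0⟩ := FX.res (n := 4) (slField _ K (sg K)) (by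
    have : (slField _ K (sg K) * tau 4 K).toMonoidHom = (tau 4 K * slField _ K (sg K)).toMonoidHom :=
      SA.hom_ext fun i j _ c => by
        change slField _ K (sg K) (tau 4 K _) = tau 4 K (slField _ K (sg K) _)
        rw [tau_x, SA.slField_x, SA.slField_x, tau_x]; rfl
    exact MulEquiv.toMonoidHom_injective this)
  have b2 : β₀ * β₀ = 1 := MulEquiv.ext fun s => Subtype.ext (by
    rw [MulAut.mul_apply, h0, h0, ← MulAut.mul_apply, ← map_mul, sg_sq, map_one]; rfl)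
  have bo : GA.out (XU 4 K) β₀ ≠ 1 := by
    rw [FX.out_eq β₀ _ ⟨h0, by rw [SA.out_slField hn]⟩, SA.out_slField hn]
    exact sg_ne 4
  obtain ⟨a, rfl⟩ := conj_aut b2 bo h2 ho
  rw [H29.SA.fx_conj] at hP
  refine H29.SA.good_all a (good_of vs_mul vs_zero vs_inj (P := P1 K) (fun _ => Iff.rfl) vs_nc) ?_ P hP
  have c : Nat.card (P1 K) = 2 ^ 4 := by
    refine (Nat.card_congr (Equiv.ofInjective (vs K) vs_inj)).symm.trans ?_
    simp
  have le : P1 K ≤ fx β₀ := by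
    rintro _ ⟨p, rfl⟩
    exact mem_fx.2 (Subtype.ext ((h0 _).trans (Subtype.ext (Matrix.ext fun i j => star_i2 _))))
  refine ⟨le, IsPGroup.of_card c, ?_⟩
  obtain ⟨e⟩ := fx_sp β₀ b2 bo
  have := H7.relIndex_mul_card le
  rw [c, Nat.card_congr e.toEquiv, H54.card_sp, show Nat.card (selfAdjoint K) = 2 from hq,
    Fintype.card_fin, show H54.spOrder 2 2 = 720 by decide] at this
  rw [show (P1 K).relIndex (fx β₀) = 45 by omega]
  decide

theorem jobFF : JobFF := fun n K _ _ _ _ hp B _ _ _ => ⟨fun β h2 ho => by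
  rcases H31.U5.q_cases (K := K) with hq | hq
  · have h1 : ∀ a b : RingAut K, a ≠ 1 → b ≠ 1 → a = b := fun a b ha hb =>
      ((H31.U5.aut2 hq a).resolve_left ha).trans ((H31.U5.aut2 hq b).resolve_left hb).symm
    refine .inr ⟨h1, fun g hg => ?_, good_syl hq β h2 ho⟩
    obtain ⟨a, e⟩ := conj_aut h2 ho hg (by rwa [map_mul, GA.FO.out_conj, one_mul])
    rw [e]
    by_cases ha : GA.out (XU n K) a = 1
    · obtain ⟨s, rfl⟩ := H31.U5.inn2 hq ha
      exact ⟨s, rfl⟩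
    · obtain ⟨s, hs⟩ := H31.U5.inn2 hq (β := a * β⁻¹) (by
        rw [map_mul, map_inv, h1 _ _ ha ho, mul_inv_cancel])
      exact ⟨s, by rw [← hs]; group⟩
  · obtain ⟨e⟩ := fx_sp β h2 ho
    exact .inl (H29.SA.First.sub e (.of_perfect (H54.sp_commutator_eq_top (.inr (.inr hq)))))⟩

end H59.UVK
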