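import Cfsg.Agent.H59.U5K0

/-! STD-U5 (row S1778), job FG: involutions and squares in `Qk k` (port of the STD-UM file). -/

set_option autoImplicit false
set_option linter.unusedSectionVars false

namespace H59.UM5FG

open H67

open H64.SG (Cz Cs Ns mem_Cs mem_Cz)
open Matrix Subgroup H67 H59.UV

variable {n : ℕ} {K : Type} [Field K] [StarRing K] [CharP K 2] [Finite K]

theorem wk_ind {k : ℕ} (P : Vn n K → Prop) (h0 : P 0) (ha : ∀ x y, P x → P y → P (x + y))
    (h : ∀ i : Fin (n + 1), i.val < k → ∀ a : K, P (a • ev i)) {x : Vn n K} (hx : Wk k x) : P x := by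
  rw [show x = ∑ i, x i • ev i by ext j; simp [ev_apply, Finset.sum_apply]]
  refine Finset.sum_induction _ P ha h0 fun i _ => ?_
  by_cases c : i.val < k
  · exact h i c _
  · rwa [hx i (by omega), zero_smul]

theorem add_add (v w : Vn n K) : v + w + w = v := by rw [add_assoc, v_add_self, add_zero]

theorem sq_EE {u x : Vn n K} (h : Pp u x) : EE u x 0 * EE u x 0 = 1 := by
  rw [EE_mul h.ok h.ok, v_add_self, h.r]; simp

/-- the span of the `e_j`, `l < j` -/
def Up (l : ℕ) (u : Vn n K) : Prop := ∀ j : Fin (n + 1), j.val ≤ l → u j = 0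

theorem Up.add {l : ℕ} {u v : Vn n K} (h : Up l u) (h' : Up l v) : Up l (u + v) := fun i hi => by
  simp [h i hi, h' i hi]
theorem Up.smul {l : ℕ} {u : Vn n K} (h : Up l u) (a : K) : Up l (a • u) := fun i hi => by
  simp [h i hi]
theorem up_ev {l : ℕ} (hn : n = 2 * l) {i : Fin (n + 1)} (h : i.val < l) :
    Up l (ev i.rev : Vn n K) := fun j hj => by
  rw [ev_apply, if_neg]; rintro rfl; rw [Fin.val_rev] at hj; omega
theorem Up.iso {l : ℕ} (hn : n = 2 * l) {u : Vn n K} (h : Up l u) : Iso u :=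
  Finset.sum_eq_zero fun i _ => by
    by_cases c : i.val ≤ l
    · rw [h i c, zero_mul]
    · rw [h i.rev (by rw [Fin.val_rev]; omega), star_zero, mul_zero]

variable [FV n K]

theorem mem_M_of_fix {k : ℕ} (hk : 2 * k ≤ n + 1) {g : XU n K}
    (h : ∀ v, Wk (n + 1 - k) v → ac g v = v) : g ∈ GA.Mk (XU n K) k := by
  refine (FV.mem_M k hk g).2 fun v => ?_
  have := (FV.wk_perp (n + 1 - k) (by omega) (ac g v + v)).2 fun w hw => by
    rw [hf_add_left, ← hf_ac g v, h w hw, CharTwo.add_self_eq_zero]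
  rwa [show n + 1 - (n + 1 - k) = k by omega] at this

theorem xk_ev {k : ℕ} (hk : 2 * k ≤ n + 1) {r t : Fin (n + 1)} (h : r.val + t.val + 1 = k) :
    ac (GA.xk (XU n K) k) (ev r.rev) = ev r.rev + ev t := by
  ext i
  rw [ac_ev, UV.mt, FV.xk_val k hk, SA.xk_apply, Pi.add_apply, ev_apply, ev_apply]
  congr 1
  refine if_congr ?_ rfl rfl
  simp only [Fin.lt_def, Fin.ext_iff, Fin.val_rev]
  omega

section Odd

variable {l : ℕ} (hn : n = 2 * l) {μ : Fin (n + 1)} (hμ : μ.val = l)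
include hn hμ

theorem wμ : Wk (n + 1 - l) (ev μ : Vn n K) := wk_ev (by omega)

theorem hfμ (v : Vn n K) : hf (ev μ) v = star (v μ) := by
  rw [hf_ev_left, show μ.rev = μ from Fin.ext (by rw [Fin.val_rev]; omega)]

theorem mem_M_of_mu {g : XU n K} (hg : g ∈ GA.Qk (XU n K) l) (h : ac g (ev μ) = ev μ) :
    g ∈ GA.Mk (XU n K) l := mem_M_of_fix (by omega) fun v hv => by
  refine wk_ind (fun v => ac g v = v) (ac_zero g) (fun x y a b => by rw [ac_add, a, b])
    (fun i hi a => ?_) hv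
  rw [ac_smul]
  by_cases c : i = μ
  · rw [c, h]
  · rw [Qk_fix (by omega) hg (wk_ev (by have := mt Fin.ext c; omega))]

omit hn hμ in
/-- `w` is realised in `H`. -/
def DD (l : ℕ) (μ : Fin (n + 1)) (H : Subgroup (XU n K)) (w : Vn n K) : Prop :=
  ∃ g ∈ GA.Qk (XU n K) l, g ∈ H ∧ ac g (ev μ) = ev μ + w

variable {H : Subgroup (XU n K)}

omit hn hμ in
theorem DD.zero : DD l μ H 0 := ⟨1, one_mem _, one_mem _, by simp⟩

theorem Q_wk {g : XU n K} (hg : g ∈ GA.Qk (XU n K) l) : Wk l (ac g (ev μ) + ev μ) :=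
  ((FV.mem_Qk l (by omega) g).1 hg).2 _ (wμ hn hμ)

theorem DD.add {v w : Vn n K} (a : DD l μ H v) (b : DD l μ H w) : DD l μ H (v + w) := by
  obtain ⟨g, g1, g2, g3⟩ := a
  obtain ⟨h, h1, h2, h3⟩ := b
  have := Q_wk hn hμ h1
  rw [h3, add_comm (ev μ), add_add] at this
  exact ⟨g * h, mul_mem g1 h1, mul_mem g2 h2, by
    rw [ac_mul, h3, ac_add, g3, Qk_fix (by omega) g1 this, add_assoc]⟩

theorem Q_le (hM : GA.Mk (XU n K) l ≤ H) (h : ∀ i : Fin (n + 1), i.val < l → ∀ a : K,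
    DD l μ H (a • ev i)) : GA.Qk (XU n K) l ≤ H := fun g hg => by
  obtain ⟨g', g1, g2, g3⟩ := wk_ind _ DD.zero (fun _ _ => DD.add hn hμ) h (Q_wk hn hμ hg)
  rw [add_comm (ev μ), add_add] at g3
  have := hM (mem_M_of_mu hn hμ (mul_mem (inv_mem g1) hg) (by rw [ac_mul, ← g3, ac_inv_ac]))
  exact (H.mul_mem_cancel_left (inv_mem g2)).1 this

theorem s_mu {a u : Vn n K} (ha : Wk l a) (hu : Up l u) (p : Pp a u) :
    ac (EE a u 0) (ev μ) = ev μ :=
  ac_EE_fix p.ok (by rw [hfμ hn hμ, ha μ hμ.ge, star_zero]) (by rw [hfμ hn hμ, hu μ hμ.le, star_zero])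

theorem DD_of [FQ K] {a u : Vn n K} (ha : Wk l a) (hu : Up l u) (u0 : u ≠ 0) (p : Pp a u)
    (h : ∀ g ∈ GA.Qk (XU n K) l, g * EE a u 0 * g⁻¹ ∈ H) : DD l μ H a := by
  obtain ⟨j, hj⟩ := Function.ne_iff.1 u0
  obtain ⟨η, hη⟩ := FQ.eta (K := K)
  have hk : 2 * l ≤ n + 1 := by omega
  obtain ⟨w, w1, w2⟩ : ∃ w, Wk l w ∧ hf w u = 1 := ⟨(star (u j))⁻¹ • ev j.rev,
    (wk_ev (by have := mt (hu j) hj; rw [Fin.val_rev]; omega)).smul _, by
      rw [hf_smul_left, hf_ev_left, Fin.rev_rev, inv_mul_cancel₀ (by simpa using hj)]⟩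
  have e1 : hf (ev μ : Vn n K) (ev μ) = 1 := by simp [hfμ hn hμ, ev_apply]
  have ok : ∀ v, Wk l v → Ok v (ev μ) η := fun v hv =>
    ⟨(hv.pp hv hk).l, (wμ hn hμ).perp hv (by omega), hη.trans e1.symm⟩
  have q : ∀ v, Wk l v → EE v (ev μ) η ∈ GA.Qk (XU n K) l := fun v hv =>
    FV.EE_Q l hk _ _ _ (ok v hv) hv (wμ hn hμ)
  have e2 : EE a u 0 * EE w (ev μ) η * (EE a u 0)⁻¹ = EE (w + a) (ev μ) η := by
    rw [EE_conj (ok w w1), s_mu hn hμ ha hu p, ac_EE_perp p.ok (w1.pp ha hk).p, w2, one_smul]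
  refine ⟨EE (w + a) (ev μ) η * (EE w (ev μ) η)⁻¹, mul_mem (q _ (w1.add ha)) (inv_mem (q w w1)),
    ?_, ?_⟩
  · have := mul_mem (h 1 (one_mem _)) (inv_mem (h _ (q w w1)))
    rw [← e2]
    convert this using 1
    group
  · rw [ac_mul, EE_inv (ok w w1), ac_EE_perp (ok w w1).star (ok w w1).perp, e1, one_smul, ac_add,
      Qk_fix hk (q _ (w1.add ha)) w1, ac_EE_perp (ok _ (w1.add ha)) (ok _ (w1.add ha)).perp, e1,
      one_smul, add_comm w, ← add_assoc, add_add]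

end Odd

variable [FQ K] [GA.FB (XU n K)] [hp : Par n K]

theorem ig3 (k : ℕ) (hr : GA.Rg (XU n K) k) :
    GA.Qk (XU n K) k ≤ GA.Iv (Cz (GA.xk (XU n K) k)) := by
  obtain ⟨k1, hk⟩ := rg_iff.1 hr
  have h5 := hp.five
  have xM := GA.FB.xM k hr
  have QC : GA.Qk (XU n K) k ≤ Cz (GA.xk (XU n K) k) := fun g hg =>
    mem_Cz.2 (mem_Cs.1 (GA.FB.QM k hr hg) _ xM)
  have MH : GA.Mk (XU n K) k ≤ GA.Iv (Cz (GA.xk (XU n K) k)) := fun g hg =>
    GA.mem_Iv (QC (GA.FB.MQ k hr hg)) (GA.FB.sqM k hr g hg)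
  by_cases hn : n = 2 * k
  · obtain ⟨μ, hμ⟩ : ∃ μ : Fin (n + 1), μ.val = k := ⟨⟨k, by omega⟩, rfl⟩
    have key : ∀ u v, Up k u → Wk k v → ac (GA.xk (XU n K) k) u = u + v → hf v u = 0 →
        DD k μ (GA.Iv (Cz (GA.xk (XU n K) k))) v := fun u v hu hv e h => by
      by_cases u0 : u = 0
      · rw [u0, ac_zero, zero_add] at e
        exact e ▸ DD.zero
      have p : Pp v u := ⟨(hv.pp hv hk).l, hu.iso hn, h⟩
      have c : EE v u 0 ∈ Cz (GA.xk (XU n K) k) := by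
        refine mem_Cz.2 (mul_inv_eq_iff_eq_mul.1 ?_)
        rw [EE_conj p.ok, Qk_fix hk (GA.FB.MQ k hr xM) hv, e]
        simpa [tr_eq_zero.2 (star_one K)] using EE_shift 1 v u 0
      refine DD_of hn hμ hv hu u0 p fun g hg => GA.mem_Iv
        (mul_mem (mul_mem (QC hg) c) (inv_mem (QC hg))) ?_
      rw [conj_mul, sq_EE p, mul_one, mul_inv_cancel]
    have k2 : ∀ i t : Fin (n + 1), t.val + i.val + 1 = k → i ≠ t → ∀ a : K,
        DD k μ (GA.Iv (Cz (GA.xk (XU n K) k))) (a • ev i) := fun i t e c a =>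
      key (a • ev t.rev) _ ((up_ev hn (by omega)).smul a) ((wk_ev (by omega)).smul a)
        (by rw [ac_smul, xk_ev hk e, smul_add])
        (by rw [hf_smul_left, hf_smul_right, hf_ev, if_neg (by simpa using c.symm)]; simp)
    refine Q_le hn hμ MH fun i hi a => ?_
    by_cases c : 2 * i.val + 1 = k
    swap
    · exact k2 i ⟨k - 1 - i, by omega⟩ (by simp only; omega) (fun e => c (by
        have := congrArg Fin.val e; simp only at this; omega)) a
    obtain ⟨z, hz⟩ : ∃ z : Fin (n + 1), z.val + 1 = k := ⟨⟨k - 1, by omega⟩, by simp only; omega⟩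
    obtain ⟨η, hη⟩ := FQ.trs (nm a) (star_nm a)
    have n1 : (0 : Fin (n + 1)) ≠ z := fun e => by rw [← e, Fin.val_zero] at hz; omega
    have n2 : i ≠ 0 := fun e => by rw [e, Fin.val_zero] at c; omega
    have n3 : i ≠ z := fun e => by rw [e] at c; omega
    have a1 := key (a • ev i.rev + (1 : K) • ev (0 : Fin (n + 1)).rev + η • ev z.rev)
      (a • ev i + (1 : K) • ev z + η • ev 0)
      ((((up_ev hn hi).smul a).add ((up_ev hn (i := 0) k1).smul 1)).add
        ((up_ev hn (by omega)).smul η))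
      ((((wk_ev hi).smul a).add ((wk_ev (by omega)).smul 1)).add ((wk_ev (i := 0) k1).smul η))
      (by
        rw [ac_add, ac_add, ac_smul, ac_smul, ac_smul, xk_ev hk (t := i) (by omega),
          xk_ev hk (t := z) (by simpa using hz), xk_ev hk (t := 0) (by simpa using hz)]
        module)
      (by
        simp only [hf_add_left, hf_add_right, hf_smul_left, hf_smul_right, hf_ev, Fin.rev_inj, n1, n2,
          n3, n1.symm, n2.symm, n3.symm, if_true, if_false, star_one]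
        linear_combination hη + a * star a * two0 K)
    have := (a1.add hn hμ (k2 0 z (by simpa using hz) n1 η)).add hn hμ
      (k2 z 0 (by simpa using hz) n1.symm 1)
    rwa [add_add, add_add] at this
  refine FV.gen_Q k hk _ fun u x c ok hu hx => ?_
  have iu := (hu.pp hu hk).l
  have a0 : ∀ y, Wk (n + 1 - k) y → Iso y →
      ∃ c, Ok u y c ∧ EE u y c ∈ GA.Iv (Cz (GA.xk (XU n K) k)) := fun y hy iy => by
    have p : Pp u y := ⟨iu, iy, hu.perp hy (by omega)⟩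
    exact ⟨0, p.ok, GA.mem_Iv (QC (FV.EE_Q k hk _ _ _ p.ok hu hy)) (sq_EE p)⟩
  have ad : ∀ y z, (∃ c, Ok u y c ∧ EE u y c ∈ GA.Iv (Cz (GA.xk (XU n K) k))) →
      (∃ c, Ok u z c ∧ EE u z c ∈ GA.Iv (Cz (GA.xk (XU n K) k))) →
      ∃ c, Ok u (y + z) c ∧ EE u (y + z) c ∈ GA.Iv (Cz (GA.xk (XU n K) k)) :=
    fun y z ⟨c, c1, c2⟩ ⟨d, d1, d2⟩ => ⟨_, c1.add d1, EE_mul c1 d1 ▸ mul_mem c2 d2⟩
  obtain ⟨d, d1, d2⟩ := wk_ind _ (a0 0 (fun _ _ => rfl) (hf_zero_left _)) ad (fun i hi a => by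
    by_cases c : i = i.rev
    swap
    · exact a0 _ ((wk_ev hi).smul a) ((ev_iso c).smul a)
    have c' := congrArg Fin.val c
    rw [Fin.val_rev] at c'
    obtain ⟨z, hz⟩ : ∃ z : Fin (n + 1), z.val = k := ⟨⟨k, by omega⟩, rfl⟩
    obtain ⟨η, hη⟩ := FQ.trs (nm a) (star_nm a)
    have n1 : z ≠ z.rev := fun e => by have := congrArg Fin.val e; rw [Fin.val_rev] at this; omega
    have n2 : i ≠ z := fun e => n1 (e ▸ c)
    have n3 : i ≠ z.rev := fun e => n2 (Fin.rev_injective (c.symm.trans e))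
    have b1 : Wk (n + 1 - k) (ev z : Vn n K) := wk_ev (by omega)
    have b2 : Wk (n + 1 - k) (ev z.rev : Vn n K) := wk_ev (by rw [Fin.val_rev]; omega)
    have a1 := a0 (a • ev i + ev z + η • ev z.rev) ((((wk_ev hi).smul a).add b1).add (b2.smul η)) (by
      simp only [Iso, hf_add_left, hf_add_right, hf_smul_left, hf_smul_right, hf_ev, Fin.rev_rev, ← c,
        n1, n2, n3, n1.symm, n2.symm, n3.symm, if_true, if_false]
      linear_combination hη + a * star a * two0 K)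
    have := ad _ _ (ad _ _ a1 (a0 _ (b2.smul η) ((ev_iso (by simpa using n1.symm)).smul η)))
      (a0 _ b1 (ev_iso n1))
    rwa [add_add, add_add] at this) hx
  have r : star (c + d) = c + d := tr_eq_zero.1 (by
    have := ok.tr.trans d1.tr.symm
    simp only [tr, star_add] at this ⊢
    linear_combination this + (d + star d) * two0 K)
  have := mul_mem d2 (MH (Tc_mem hk hu r))
  rwa [EE_mul d1 (ok_zero iu r), add_zero, hf_zero_left, add_zero,
    show d + (c + d) = c by linear_combination d * two0 K] at this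

theorem hf22 : hf (ev 2 : Vn n K) (ev 2) = 1 := by rw [hf_ev, rev2 (K := K), if_pos rfl]

theorem ok2 {k : ℕ} (hk : k ≤ 2) {v : Vn n K} (hv : Wk k v) {a c : K} (h : tr c = nm a) :
    Ok v (a • ev 2) c ∧ EE v (a • ev 2) c ∈ GA.Qk (XU n K) k := by
  have h5 := hp.five
  have h1 : Wk (n + 1 - k) (a • ev 2 : Vn n K) := (w2 (by omega)).smul a
  have h2 : Ok v (a • ev 2) c := ⟨(hv.pp hv (by omega)).l, h1.perp hv (by omega), by
    rw [hf_smul_left, hf_smul_right, hf22, mul_one, h]⟩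
  exact ⟨h2, FV.EE_Q k (by omega) _ _ _ h2 hv h1⟩

theorem exists_sq {k : ℕ} (hk : k ≤ 2) {v : Vn n K} (hv : Wk k v) :
    ∃ u ∈ GA.Qk (XU n K) k, TT v = u * u := by
  obtain ⟨η, hη⟩ := FQ.eta (K := K)
  obtain ⟨h1, h2⟩ := ok2 hk hv (a := 1) (c := η) (by simpa using hη)
  exact ⟨_, h2, by rw [EE_mul h1 h1, v_add_self, CharTwo.add_self_eq_zero, zero_add, one_smul, hf22]⟩

theorem cm2 : GA.Mk (XU n K) 2 ≤ ⁅GA.Qk (XU n K) 2, GA.Qk (XU n K) 2⁆ := by
  refine FV.gen_M 2 (four K) _ fun v hv => ?_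
  obtain ⟨η, hη⟩ := FQ.eta (K := K)
  obtain ⟨d, hd⟩ := FQ.trs (nm η) (star_nm η)
  obtain ⟨h1, h2⟩ := ok2 le_rfl hv (a := η) hd
  obtain ⟨h3, h4⟩ := ok2 le_rfl hv (a := 1) (c := η) (by simpa using hη)
  have := EE_cm h1 h3
  rw [one_smul, hf_smul_left, hf22, mul_one, hη] at this
  rw [one_smul] at h4
  rw [TT, ← this]
  exact commutator_mem_commutator h2 h4

theorem gM (k : ℕ) (hr : GA.Rg (XU n K) k) :
    GA.Mk (XU n K) k ≤ closure {v | ∃ u ∈ GA.Qk (XU n K) k, v = u * u} := by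
  obtain ⟨-, hk⟩ := rg_iff.1 hr
  have h5 := hp.five
  exact FV.gen_M k hk _ fun v hv => subset_closure (exists_sq (by omega) hv)

theorem w1_of {v : Vn n K} (h : Wk 2 v) (h1 : v 1 = 0) : Wk 1 v := fun i hi => by
  by_cases c : i = 1
  · rwa [c]
  · exact h i (by have := mt Fin.ext c; rw [v1 K] at this; omega)

theorem gM2 : GA.Mk (XU n K) 2 ≤ GA.ZZ (XU n K) ⊔
    closure {v | ∃ u ∈ GA.Qk (XU n K) 2, v = u * u ∧ v ∉ GA.QQ (XU n K)} := by
  have h5 := hp.five
  refine FV.gen_M 2 (four K) _ fun v hv => ?_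
  by_cases c : v 1 = 0
  · exact mem_sup_left (Tc_mem (by omega) (w1_of hv c) (star_one K))
  obtain ⟨u, h1, h2⟩ := exists_sq le_rfl hv
  refine mem_sup_right (subset_closure ⟨u, h1, h2, fun h => c ?_⟩)
  have := ((FV.mem_Qk 1 (by omega) _).1 h).2 (ev (1 : Fin (n + 1)).rev)
    (wk_ev (by rw [Fin.val_rev, v1 K]; omega)) 1 (v1 K).ge
  rw [ac_Tc (hv.pp hv (four K)).l (star_one K), add_comm (ev _), add_add, hf_ev_left, Fin.rev_rev] at this
  simpa using this

theorem w2_of {v : Vn n K} (h : Wk 3 v) (h1 : Iso v) : Wk 2 v := fun i hi => by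
  have h5 := hp.five
  by_cases c : i = 2
  · rw [Iso, hf, Finset.sum_eq_single 2 (fun j _ hj => by
      have := mt Fin.ext hj
      rw [v2 K] at this
      by_cases e : 3 ≤ j.val
      · rw [h j e, zero_mul]
      · rw [h j.rev (by rw [Fin.val_rev]; omega), star_zero, mul_zero]) (by simp), rev2 (K := K)] at h1
    simpa [c] using h1
  · exact h i (by have := mt Fin.ext c; rw [v2 K] at this; omega)

theorem iU (u : XU n K) (hu : u ∈ GA.UU (XU n K)) (h2 : u * u = 1) :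
    u ∈ GA.QQ (XU n K) ∨ u ∈ GA.Mk (XU n K) 2 := by
  have h5 := hp.five
  have hU := (FV.mem_U u).1 hu
  have sa : ∀ x y, hf (ac u x + x) y = hf x (ac u y + y) := fun x y => by
    rw [hf_add_left, hf_add_right, hf_ac_left, inv_eq_of_mul_eq_one_right h2]
  have nn : ∀ x, ac u (ac u x + x) = ac u x + x := fun x => by
    rw [ac_add, ← ac_mul, h2, ac_one, add_comm]
  have iso : ∀ x, Iso (ac u x + x) := fun x => by rw [Iso, sa, nn, v_add_self, hf_zero_right]
  have f1 : ∀ x, Wk 1 x → ac u x = x := fun x hx => by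
    rw [← add_add (ac u x) x, show ac u x + x = 0 from funext fun i => hU 0 x hx i (Nat.zero_le _),
      zero_add]
  by_cases c : ac u (ev 1) + ev 1 = 0
  · refine Or.inr ((FV.mem_M 2 (four K) u).2 fun v => w2_of (fun i hi => ?_) (iso v))
    by_cases e : i = (1 : Fin (n + 1)).rev
    · rw [e, ← hf_ev_right (ac u v + v), sa, c, hf_zero_right]
    · exact hU 4 v (fun j hj => by omega) i (by
        have := mt Fin.ext e; rw [Fin.val_rev, v1 K] at this; omega)
  refine Or.inl ((FV.mem_Qk 1 (by omega) u).2 ⟨f1, fun v hv => ?_⟩)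
  have h3 := w2_of (hU 3 v (hv.mono (by omega))) (iso v)
  have h4 := nn v
  generalize ac u v + v = w at h3 h4
  have h6 : Wk 1 (w + w 1 • ev 1) := w1_of (h3.add ((w1 le_rfl).smul _)) (by
    simp [ev_apply, CharTwo.add_self_eq_zero])
  have h7 := f1 _ h6
  rw [ac_add, h4, add_right_inj, ac_smul] at h7
  exact w1_of h3 ((smul_eq_zero.1 (by rw [smul_add, h7, v_add_self])).resolve_right c)

theorem jobFG : JobFG := fun _ _ _ _ _ _ _ _ => ⟨ig3, cm2, gM, gM2, iU⟩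

end H59.UM5FG
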