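import Cfsg.Agent.H59.U5Spec
import Cfsg.Agent.H67.SAFA
import Cfsg.Agent.H76.SAFB
import Cfsg.Agent.H29.SAFG
import Cfsg.Agent.H10.FH2

/-! STD-UM: `JobFK` (facts on `SL_(n+1)(K)` and `τ`). -/

set_option autoImplicit false
set_option linter.unusedSectionVars false

namespace H59.UVK

open H67

open H64.SG (O2 Syl Cz Cs Ns cjs Is2 Inv2 UF IsO2 fx mem_fx is2_of_sq)
open Matrix H57 Subgroup
open H67 H59.UV
open H67.SA (SLn Au la St cI cm)

theorem ppd_iff {q d r : ℕ} (hq : 1 ≤ q) (hd : 0 < d) (h1 : r ∣ q ^ d - 1)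
    (h2 : ∀ k, 0 < k → k < d → ¬ r ∣ q ^ k - 1) (j : ℕ) : r ∣ q ^ j - 1 ↔ d ∣ j := by
  have e : ∀ j, r ∣ q ^ j - 1 ↔ 1 ≡ q ^ j [MOD r] := fun j =>
    (Nat.modEq_iff_dvd' (Nat.one_le_pow _ _ hq)).symm
  have h3 : q ^ j ≡ q ^ (j % d) [MOD r] := by
    conv_lhs => rw [← Nat.div_add_mod j d, pow_add, pow_mul]
    simpa using (((e d).1 h1).symm.pow (j / d)).mul_right (q ^ (j % d))
  refine ⟨fun h => Nat.dvd_of_mod_eq_zero ?_, fun h => ?_⟩
  · by_contra h4
    exact h2 _ (Nat.pos_of_ne_zero h4) (Nat.mod_lt _ hd) ((e _).2 (((e j).1 h).trans h3))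
  · rw [Nat.mod_eq_zero_of_dvd h, pow_zero] at h3
    exact (e j).2 h3.symm

variable {n : ℕ} {K : Type} [Field K] [StarRing K] [CharP K 2] [Finite K] [hp : Par n K]

theorem two_le (n : ℕ) (K : Type) [Field K] [StarRing K] [Par n K] : 2 ≤ n :=
  (Par.five (n := n) K).symm ▸ by decide

theorem par (n : ℕ) (K : Type) [Field K] [StarRing K] [Par n K] : SA.Par n K :=
  ⟨two_le n K, fun h => by have := Par.five (n := n) K; omega⟩

variable (n) in
include hp in
theorem sg_ne : sg K ≠ 1 := fun h => by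
  obtain ⟨a, ha⟩ := hp.ne
  exact ha (RingEquiv.congr_fun h a)

omit [CharP K 2] [Finite K] in
theorem sg_sq : sg K * sg K = 1 := RingEquiv.ext fun a => star_star a

include hp in
theorem iso0 : Iso (ev 0 : Vn n K) := by
  have := hp.five
  exact ev_iso (by rw [Ne, Fin.ext_iff]; simp; omega)

/-! ### `gen` -/

/-- `1 + M ∈ L` -/
def In (L : Subgroup (SLn n K)) (M : Matrix (Fin (n + 1)) (Fin (n + 1)) K) : Prop :=
  ∃ s ∈ L, s.1 = 1 + M

theorem In.add {L : Subgroup (SLn n K)} {A B : Matrix (Fin (n + 1)) (Fin (n + 1)) K} (h : In L A)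
    (h' : In L B) (e : A * B = 0) : In L (A + B) := by
  obtain ⟨s, s1, s2⟩ := h
  obtain ⟨t, t1, t2⟩ := h'
  exact ⟨s * t, mul_mem s1 t1, by rw [SA.val_mul, s2, t2, add_mul, mul_add, mul_add, e]; simp [add_assoc, add_comm]⟩

theorem top_of [FV n K] [FW n K] {η : K} (hη : tr η = 1) {L : Subgroup (SLn n K)}
    (h1 : fx (tau n K) ≤ L) (h2 : SA.x 0 (la n) η ∈ L) : L = ⊤ := by
  have two := two0 K
  have i0 := iso0 (n := n) (K := K)
  have k1 : ∀ v : Vn n K, Iso v → In L (η • op v v) := fun v hv => by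
    by_cases v0 : v = 0
    · exact ⟨1, one_mem _, by simp [v0]⟩
    obtain ⟨g, rfl⟩ := FW.w1 v v0 hv
    have t0 : (TT (ev 0 : Vn n K)).1 = SA.x 0 (la n) 1 := by
      rw [FV.Tc_val 0 1 (by have := hp.five; rw [Ne, Fin.ext_iff]; simp; omega) (star_one K)]; simp
    have t1 : (TT (ac g (ev 0))).1 = g.1 * SA.x 0 (la n) 1 * g.1⁻¹ := by
      rw [← t0]; exact congrArg Subtype.val (Tc_conj i0 (star_one K) g).symm
    refine ⟨g.1 * SA.x 0 (la n) η * g.1⁻¹, mul_mem (mul_mem (h1 g.2) h2) (inv_mem (h1 g.2)), ?_⟩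
    rw [← mul_one η, ← SA.sc_x, SA.sc_conj (SA.x_mul_self ..), ← t1, SA.sc_val (by
      rw [t1, conj_mul, SA.x_mul_self]; simp), mul_one]
    change 1 + η • (UV.mt (TT _) - 1) = _
    rw [mt_EE (ok_zero hv (star_one K))]
    simp [mE]
  have k2 : ∀ u v : Vn n K, Pp u v → In L (op v u) := fun u v h => by
    have p := h.smul 1 (η + 1)
    rw [one_smul] at p
    have a0 : In L (op u ((η + 1) • v) + op ((η + 1) • v) u) := ⟨_, h1 (qq ((η + 1) • v) u).2, by
      change UV.mt _ = _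
      rw [mt_EE p.ok]; simp [mE, add_assoc]⟩
    have e1 : hf u u = 0 := h.l
    have e2 : hf v v = 0 := h.r
    have e3 := h.p
    have e4 := h.symm.p
    have a1 := ((a0.add (k1 _ h.iso_add) ?_).add (k1 _ h.l) ?_).add (k1 _ h.r) ?_
    · convert a1 using 1
      have e5 : star η = η + 1 := by linear_combination hη - η * two
      ext i j
      simp only [op_apply, Matrix.add_apply, Matrix.smul_apply, Pi.add_apply, Pi.smul_apply,
        smul_eq_mul, star_add, star_mul', star_one, e5]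
      linear_combination -(u i * star (v j.rev) * (η + 1) + η * v i * star (u j.rev) +
        η * u i * star (u j.rev) + η * v i * star (v j.rev)) * two
    all_goals simp [add_mul, mul_add, op_mul, op_add_left, op_add_right, op_smul_left, op_smul_right,
      e1, e2, e3, e4]
  have k3 : ∀ u x : Vn n K, Iso u → hf x u = 0 → In L (op x u) := fun u x hu =>
    FW.span u hu (fun x => In L (op x u)) (k2 u) (fun x y _ hy a b => by
      rw [op_add_left]; exact a.add b (by rw [op_mul, hy, zero_smul])) x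
  have k4 : ∀ u x : Vn n K, Iso u → hf x u = 0 → In L (op u x) := fun u x hu =>
    FW.span u hu (fun x => In L (op u x)) (fun x h => k2 x u h.symm) (fun x y hx _ a b => by
      rw [op_add_right]; exact a.add b (by rw [op_mul, hf_symm hx, zero_smul])) x
  rw [eq_top_iff, ← SA.Pat_top, SA.Pat_le]
  intro i j hij _ a
  have e : op (a • ev i : Vn n K) (ev j.rev) = single i j a := by
    rw [op_smul_left, op_ev]; simp
  have e0 : hf (ev i : Vn n K) (ev j.rev) = 0 := by rw [hf_ev, if_neg (by simpa using hij.symm)]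
  obtain ⟨s, s1, s2⟩ : In L (single i j a) := by
    rw [← e]
    by_cases hj : j = j.rev
    · rw [op_smul_left, ← star_star a, ← op_smul_right]
      exact k4 _ _ (ev_iso fun h => hij (by
        have := congrArg Fin.val h; have := congrArg Fin.val hj
        simp only [Fin.val_rev] at *; exact Fin.ext (by omega)))
        (by rw [hf_smul_left, hf_symm e0, mul_zero])
    · exact k3 _ _ (ev_iso (by simpa [eq_comm] using hj)) (by rw [hf_smul_left, e0, mul_zero])
  rwa [show SA.x i j a = s from Subtype.ext (by rw [s2, SA.x_coe hij])]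

theorem gen [FV n K] [FW n K] (η : K) (hη : tr η = 1) :
    fx (tau n K) ⊔ cjs (SA.x 0 (la n) η) (fx (tau n K)) = ⊤ := by
  have h1 : Ns (fx (tau n K) ⊔ cjs (SA.x 0 (la n) η) (fx (tau n K))) = ⊤ :=
    top_of hη (le_sup_left.trans le_normalizer) (SA.conj_mem_St.1 (SA.mem_St_iff_map.2 (by
      rw [Subgroup.map_sup, sup_comm]
      exact congrArg (· ⊔ _) (SA.cjs_swap (SA.x_mul_self ..) rfl))))
  have := normalizer_eq_top_iff.1 h1
  refine (SA.normal_le_center_or (two_le n K) _).resolve_left fun h => ?_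
  exact one_ne_zero ((SA.x_mem_center (SA.zero_ne_la (by have := hp.five; omega))).1
    (h (mem_sup_left (mem_fx.2 (by simp [tau_x])))))

/-! ### `uf` -/

theorem q2 [FQ K] : 2 ≤ qK K := by
  obtain ⟨f, f1, f2⟩ := FQ.pow2 (K := K)
  rw [f2]; exact Nat.le_self_pow (by omega) 2

theorem uf [FQ K] [FV n K] (D : PD n K) (β : Au n K) (h2 : β * β = 1) :
    (∃ P ≤ fx β, IsPGroup 2 P ∧ Nat.card K ^ SA.bg n ≤ Nat.card P) ∨
    (∃ N ≤ fx β, N ≤ ⁅N, N⁆ ∧ ∃ r : ℕ, r ∣ (center (SLn n K)).relIndex N ∧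
      ¬ r ∣ Nat.card (XU n K)) ∨ SA.out n K β = SA.out n K (tau n K) := by
  have hn := two_le n K
  have h5 := hp.five
  have q1 : 1 < qK K := q2
  have hK := FQ.card (K := K)
  by_cases ho : SA.out n K β = 1
  · obtain ⟨y, y1, rfl⟩ := SA.inner_of_out hn ho (is2_of_sq h2)
    rw [H64.SG.fx_conj]
    exact .inl ((H76.SAFB.jobFB n K (par n K)).big y (SA.eq_one_of_center
      (SA.conj_eq_one.1 (by rw [map_mul, h2])) (y1.mul y1 rfl)))
  rcases H29.SA.rep hn h2 ho with ⟨σ, s1, s2, e⟩ | ⟨J, rfl⟩ | ⟨σ, s1, s2, e⟩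
  · obtain ⟨e⟩ := H29.SA.fx_field e
    have c1 : Nat.card (fixedSub σ) = qK K := Nat.pow_left_injective two_ne_zero (by
      have := card_eq_card_fixedSub_pow σ
      rw [orderOf_eq_prime (p := 2) (by rw [sq, s2]) s1, hK] at this
      exact this.symm)
    obtain ⟨j, j1, j2, j3, -⟩ := H10.FH.exists_odd hn
    obtain ⟨r, r1, r2, r3⟩ := H27.zsigmondy (qK K) j q1 (by omega)
      (by rintro ⟨-, rfl⟩; exact absurd j1 (by decide)) (by omega)
    refine .inr (.inl ⟨_, le_rfl, (H29.SA.comm_eq_of_equiv e (SA.perfect hn)).ge, r,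
      H29.SA.dvd_relIndex r1 ?_ (hK ▸ r3 2 two_pos (by omega)),
      D.all r j r1 (H10.FH.ppd_ne_two q1 (by omega) r2 r3) (ppd_iff q1.le (by omega) r2 r3)
        (.inl ⟨j1, by omega⟩)⟩)
    cases nonempty_fintype (fixedSub σ)
    rw [Nat.card_congr e.toEquiv, card_sl_fin_eq, ← Nat.card_eq_fintype_card, c1]
    refine Dvd.dvd.mul_left (r2.trans ?_) _
    obtain ⟨i, rfl⟩ : ∃ i, j = i + 2 := ⟨j - 2, by omega⟩
    exact Finset.dvd_prod_of_mem (fun i => qK K ^ (i + 2) - 1) (Finset.mem_range.2 (by omega))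
  · rcases Nat.even_or_odd (n + 1) with hm | ⟨l, hl⟩
    · exact .inl (H29.SA.big_gr_even h2 hm)
    obtain ⟨e⟩ := (H29.SA.fx_gr h2).1 l hl
    obtain ⟨r, r1, r2, r3⟩ := H27.zsigmondy (qK K) (4 * l) q1 (by omega) (by omega) (by omega)
    refine .inr (.inl ⟨_, le_rfl, (H29.SA.comm_eq_of_equiv e (H54.sp_commutator_eq_top
      (.inr (.inr (by rw [hK]; nlinarith))))).ge, r,
      H29.SA.dvd_relIndex r1 ?_ (hK ▸ r3 2 two_pos (by omega)),
      D.all r (4 * l) r1 (H10.FH.ppd_ne_two q1 (by omega) r2 r3) (ppd_iff q1.le (by omega) r2 r3)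
        (.inr ⟨dvd_mul_right _ _, by omega⟩)⟩)
    obtain ⟨k, rfl⟩ : ∃ k, l = k + 1 := ⟨l - 1, by omega⟩
    rw [Nat.card_congr e.toEquiv, H54.card_sp, Fintype.card_fin, H54.spOrder_succ, hK, ← pow_mul,
      show 2 * (2 * (k + 1)) = 4 * (k + 1) by ring]
    exact r2.mul_right _
  · refine .inr (.inr ?_)
    rw [H29.SA.out_of_isConj e, map_mul, SA.out_slField hn, SA.out_slGraph hn, FV.out_tau,
      (SA.out_sq_eq_one (sg_ne n) sg_sq s2).resolve_left s1]
    rfl

/-! ### `ft` -/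

theorem isConj_gf [FV n K] {β : Au n K} (h2 : β * β = 1)
    (ho : SA.out n K β = SA.out n K (tau n K)) : IsConj β (slField _ K (sg K) * slGraph _ K) := by
  have hn := two_le n K
  have z : (1 : Multiplicative (ZMod 2)) ≠ Multiplicative.ofAdd 1 := by decide
  rw [FV.out_tau] at ho
  rcases H29.SA.rep hn h2 (fun h => z (congrArg Prod.snd (h.symm.trans ho))) with
    ⟨σ, s1, s2, e⟩ | ⟨J, rfl⟩ | ⟨σ, s1, s2, e⟩
  · rw [H29.SA.out_of_isConj e, SA.out_slField hn] at ho
    exact absurd (congrArg Prod.snd ho) z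
  · rw [H29.SA.out_gr hn] at ho
    exact absurd (congrArg Prod.fst ho).symm (sg_ne n)
  · rwa [(SA.out_sq_eq_one (sg_ne n) sg_sq s2).resolve_left s1] at e

theorem au_ext {α β : Au n K} (h : ∀ i j, i ≠ j → ∀ c, α (SA.x i j c) = β (SA.x i j c)) : α = β :=
  MulEquiv.toMonoidHom_injective (SA.hom_ext h)

theorem diag_tau (d : Fin (n + 1) → Kˣ) :
    slDiag _ K (diagGL d) * tau n K * (slDiag _ K (diagGL d))⁻¹ =
      slDiag _ K (diagGL fun i => d i * star (d i.rev)) * tau n K := by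
  rw [mul_inv_eq_iff_eq_mul]
  refine au_ext fun i j _ c => ?_
  simp only [MulAut.mul_apply, tau_x, SA.dg_diag, Fin.rev_rev]
  congr 1
  simp only [star_mul', Units.val_mul, Units.coe_star, Units.val_inv_eq_inv_val, star_inv₀]
  have h1 : star (d i : K) ≠ 0 := star_ne_zero.2 (d i).ne_zero
  have h2 : star (d j : K) ≠ 0 := star_ne_zero.2 (d j).ne_zero
  field_simp

theorem tau_conj (s : SLn n K) : tau n K * MulAut.conj s = MulAut.conj (tau n K s) * tau n K :=
  MulEquiv.ext fun a => by simp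

theorem ft [FQ K] [FV n K] (y : SLn n K) (hy : y * tau n K y ∈ center (SLn n K)) :
    ∃ h : SLn n K, MulAut.conj y * tau n K = MulAut.conj h * tau n K * (MulAut.conj h)⁻¹ := by
  have hn := two_le n K
  have h0 := SA.zero_ne_la (n := n) (by omega)
  obtain ⟨θ, hθ⟩ := isConj_iff.1 ((isConj_gf tau_mul_self rfl).trans (isConj_gf
    (β := MulAut.conj y * tau n K) (by
      rw [mul_assoc, ← mul_assoc (tau n K), tau_conj, mul_assoc, tau_mul_self, mul_one, ← map_mul,
        SA.conj_eq_one.2 hy]) (by rw [map_mul, SA.out_conj hn, one_mul])).symm)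
  have c1 : ∀ σ : RingAut K, slField _ K σ * tau n K * (slField _ K σ)⁻¹ = tau n K := fun σ =>
    mul_inv_eq_iff_eq_mul.2 (au_ext fun i j _ c => by
      simp only [MulAut.mul_apply, tau_x, SA.slField_x, FQ.aut_star])
  have c2 : SA.gam n K * tau n K * (SA.gam n K)⁻¹ = tau n K :=
    mul_inv_eq_iff_eq_mul.2 (au_ext fun i j _ c => by
      simp only [MulAut.mul_apply, tau_x, SA.gam_x])
  obtain ⟨g, hg⟩ : ∃ g, slDiag _ K g * tau n K * (slDiag _ K g)⁻¹ = MulAut.conj y * tau n K := by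
    obtain ⟨g, ⟨-, e⟩ | ⟨-, e⟩⟩ := SA.exists_dfgam hn θ
    · exact ⟨g, by rw [← hθ, e, ← c1 (SA.out n K θ).1, c1]; conv_lhs => rw [← c1 (SA.out n K θ).1]
                   group⟩
    · exact ⟨g, by
        rw [← hθ, e]; conv_lhs => rw [← c1 (SA.out n K θ).1, ← c2]
        group⟩
  obtain ⟨δ, hδ⟩ : ∃ δ, δ = GeneralLinearGroup.det g := ⟨_, rfl⟩
  have dd : ∀ d : Fin (n + 1) → Kˣ, GeneralLinearGroup.det (diagGL d) = ∏ i, d i := fun d =>
    Units.ext (by simp [diagGL])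
  obtain ⟨s, hs⟩ : g * (diagGL (Pi.mulSingle 0 δ))⁻¹ ∈
      (SpecialLinearGroup.toGL : SLn n K →* GL (Fin (n + 1)) K).range := by
    rw [range_toGL_eq_ker_det]
    simp [MonoidHom.mem_ker, dd, hδ]
  have e1 : slDiag _ K (diagGL fun i => (Pi.mulSingle 0 δ : _ → Kˣ) i *
      star ((Pi.mulSingle 0 δ : _ → Kˣ) i.rev)) = MulAut.conj (s⁻¹ * y * tau n K s) := by
    rw [eq_mul_of_mul_inv_eq hs.symm, map_mul, SA.slDiag_toGL'] at hg
    refine mul_right_cancel (b := tau n K) ?_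
    rw [← diag_tau, map_mul, map_mul, mul_assoc _ _ (tau n K), ← tau_conj, mul_assoc (MulAut.conj s⁻¹),
      ← mul_assoc (MulAut.conj y), ← hg, map_inv]
    group
  obtain ⟨c, hc⟩ : ∃ c : Kˣ, c ^ (n + 1) = δ * star δ := by
    rw [← SA.slDiag_toGL', ← mul_inv_eq_one, ← map_inv, ← map_mul] at e1
    obtain ⟨c, hc⟩ := pslDiag_eq_one_iff.1 ((congrArg (quotCenterAut _) e1).trans (map_one _))
    have := congrArg GeneralLinearGroup.det hc
    rw [map_mul, map_inv, dd, Finset.prod_mul_distrib, ← Equiv.prod_comp Fin.revPerm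
      (fun i => star ((Pi.mulSingle 0 δ : _ → Kˣ) i.rev))] at this
    refine ⟨c, Units.ext ?_⟩
    have := congrArg Units.val this
    simpa [← star_prod] using this
  have c3 : rt (nm (c : K)) ^ (n + 1) = nm (δ : K) := sq_inj (by
    have := congrArg Units.val hc
    simp only [Units.val_pow_eq_pow_val, Units.val_mul, Units.coe_star] at this
    rw [← pow_mul, mul_comm, pow_mul, rt_sq, mul_pow, ← star_pow, this, star_mul', star_star]; ring)
  obtain ⟨a, a1, a2⟩ : ∃ a : Kˣ, star a = a ∧ (a * a) ^ (n + 1) = δ * star δ :=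
    ⟨Units.mk0 (rt (rt (nm (c : K)))) (rt_ne (rt_ne (mul_ne_zero c.ne_zero (star_ne_zero.2 c.ne_zero)))),
      Units.ext (by simp only [Units.coe_star, Units.val_mk0, FQ.star_rt, star_nm]), Units.ext (by
        simp only [Units.val_pow_eq_pow_val, Units.val_mul, Units.coe_star, Units.val_mk0]
        rw [← pow_two, rt_sq, c3])⟩
  obtain ⟨b, b0, hb⟩ := FQ.h90 ((δ * (a ^ (n + 1))⁻¹ : Kˣ) : K) (by
    rw [nm, ← Units.coe_star, ← Units.val_mul, star_mul', star_inv, star_pow, a1, mul_mul_mul_comm,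
      ← a2, ← mul_inv, ← mul_pow, mul_inv_cancel, Units.val_one])
  obtain ⟨b, rfl⟩ : ∃ b' : Kˣ, b = b' := ⟨Units.mk0 b b0, rfl⟩
  rw [← Units.coe_star, ← Units.val_mul, Units.val_inj] at hb
  let d : Fin (n + 1) → Kˣ := fun i =>
    a⁻¹ * (Pi.mulSingle 0 (δ * b⁻¹) : _ → Kˣ) i * (Pi.mulSingle (la n) (star b) : _ → Kˣ) i
  have d1 : ∏ i, d i = 1 := by
    simp only [d, Finset.prod_mul_distrib, Finset.prod_const, Finset.card_univ, Fintype.card_fin,
      Finset.prod_pi_mulSingle', Finset.mem_univ, if_true]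
    rw [inv_pow, ← mul_inv_cancel b]
    exact Eq.trans (by simp only [mul_assoc, mul_left_comm, mul_comm]) (congrArg (· * b⁻¹) hb)
  have d2 : ∀ i, d i * star (d i.rev) = a⁻¹ * a⁻¹ * ((Pi.mulSingle 0 δ : _ → Kˣ) i *
      star ((Pi.mulSingle 0 δ : _ → Kˣ) i.rev)) := fun i => by
    by_cases i0 : i = 0
    · subst i0
      simp [d, h0, h0.symm, a1, mul_assoc, mul_left_comm, mul_comm]
    by_cases i1 : i = la n
    · subst i1
      simp [d, h0, h0.symm, a1, mul_assoc, mul_left_comm, mul_comm]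
    have i2 : i.rev ≠ 0 := by simpa [Fin.rev_eq_iff] using i1
    have i3 : i.rev ≠ la n := by simpa [Fin.rev_eq_iff] using i0
    simp [d, i0, i1, i2, i3, a1]
  have d3 : MulAut.conj (SA.hd d d1) = slDiag _ K (diagGL d) := au_ext fun i j _ c => by
    rw [MulAut.conj_apply, SA.hd_conj, SA.dg_diag]
  have d4 : MulAut.conj (SA.hd d d1) * tau n K * (MulAut.conj (SA.hd d d1))⁻¹ =
      MulAut.conj (s⁻¹ * y * tau n K s) * tau n K := by
    rw [d3, diag_tau, ← e1]
    congr 1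
    refine au_ext fun i j _ c => ?_
    rw [SA.dg_diag, SA.dg_diag, d2, d2]
    congr 1
    simp only [Units.val_mul, Units.val_inv_eq_inv_val]
    field_simp
  refine ⟨s * SA.hd d d1, ?_⟩
  rw [map_mul, _root_.mul_inv_rev, mul_assoc (MulAut.conj s), mul_assoc (MulAut.conj s),
    ← mul_assoc _ _ (MulAut.conj s)⁻¹, d4, map_mul, map_mul, mul_assoc _ _ (tau n K), ← tau_conj,
    map_inv]
  group

theorem jobFK : JobFK := fun _ _ _ _ _ _ _ B D =>
  have := B
  ⟨gen, ft, uf D⟩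

end H59.UVK
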