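import Cfsg.Agent.H59.U5Cay
import Cfsg.Agent.H59.U5FK
import Cfsg.Agent.S0247

/-! STD-U5: `JobFH` (fixed points of automorphisms of order at most two). -/

set_option autoImplicit false
set_option linter.unusedSectionVars false

namespace H59.UM5c

open H67

open H64.SG (O2 Syl Cz Cs Ns cjs Is2 Inv2 fx is2_of_sq)
open Matrix H57 Subgroup
open H67 H59.UV H10.FH
open H67.SA (SLn Au la)

variable {n : ℕ} {K : Type} [Field K] [StarRing K] [CharP K 2] [Finite K] [hp : Par n K] [Base n K]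

theorem Ql_le {k : ℕ} (h : GA.Rg (XU n K) k) : GA.Qk (XU n K) (GA.ll (XU n K)) ≤ Cz (GA.xk (XU n K) k) :=
  fun _ hg => mem_centralizer_singleton_iff.2 (mem_centralizer_iff.1 (GA.FB.QM _ GA.rgl hg) _
    (mem_Mk.2 (SA.Mk_mono h.2 (mem_Mk.1 (GA.FB.xM k h))))).symm

theorem invc_xk {k : ℕ} (h : GA.Rg (XU n K) k) : Invc (Cz (GA.xk (XU n K) k)) := by
  obtain ⟨k1, k2⟩ := rg_iff.1 h
  have h5 := hp.five
  obtain ⟨η, hη⟩ := FQ.eta (K := K)
  have Q : GA.Qk (XU n K) k ≤ Cz (GA.xk (XU n K) k) := fun _ hg => mem_centralizer_singleton_iff.2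
    (mem_centralizer_iff.1 (GA.FB.QM _ h hg) _ (GA.FB.xM k h)).symm
  let i : Fin (n + 1) := ⟨k, by omega⟩
  have ok : ∀ x : Vn n K, hf x (ev 0) = 0 → ∃ c, Ok (ev 0) x c := fun x hx =>
    (FQ.trs _ (star_hf x x)).imp fun c hc => ⟨iso0, hx, hc⟩
  obtain ⟨c, hc⟩ := ok (ev i) (by rw [hf_ev, if_neg]; simp [Fin.ext_iff, i]; omega)
  obtain ⟨d, hd⟩ := ok (η • ev i.rev) (by rw [hf_smul_left, hf_ev, if_neg, mul_zero]; simp [Fin.ext_iff, i]; omega)
  have h1 : EE (ev 0) (ev i) c ∈ Cz (GA.xk (XU n K) k) := by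
    rcases k2.lt_or_eq with l | l
    · exact Q (FV.EE_Q k k2 _ _ _ hc (w0 k1) (wk_ev (by simp [i]; omega)))
    rw [mem_centralizer_singleton_iff, eq_comm, ← mul_inv_eq_iff_eq_mul, EE_conj hc,
      Qk_fix k2 (GA.Mk_le_Qk h (GA.FB.xM k h)) (w0 k1),
      show ac (GA.xk (XU n K) k) (ev i) = ev i + (1 : K) • ev 0 from funext fun a => ?_, EE_shift]
    · rw [tr_eq_zero.2 (star_one K), add_zero]
    rw [ac_ev, UV.mt, FV.xk_val k k2, SA.xk_apply]
    simp only [Pi.add_apply, one_smul, ev_apply, Fin.ext_iff, Fin.lt_def, i, Fin.val_zero]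
    congr 1
    exact if_congr (by omega) rfl rfl
  refine ⟨_, commutator_mem_commutator h1 (Q (FV.EE_Q k k2 _ _ _ hd (w0 k1)
    ((wk_ev (by simp [i]; omega)).smul _))), ?_⟩
  have e : tr (hf (ev i : Vn n K) (η • ev i.rev)) = 1 := by
    rw [hf_smul_right, hf_ev, if_pos rfl, mul_one, tr, star_star, add_comm]; exact hη
  have := EE_cm hc hd
  rw [e] at this
  change Inv2 (GA.cm _ _)
  rw [this]
  exact ⟨Tc_mul_self iso0 (star_one K), fun r => one_ne_zero (Tc_eq_one (ev_ne 0) iso0 (star_one K) r)⟩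

theorem inner (C : IC n K) {s : XU n K} (hs : s * s = 1) : Invc (Cz s) ∧
    ∃ P ≤ Cz s, IsPGroup 2 P ∧ qK K ^ SA.bg n ≤ Nat.card P := by
  obtain ⟨h, k, hk, e⟩ : ∃ h k, GA.Rg (XU n K) k ∧
      (Cz (GA.xk (XU n K) k)).map (MulAut.conj h).toMonoidHom ≤ Cz s := by
    by_cases h1 : s = 1
    · exact ⟨1, 1, GA.rg1, fun c _ => mem_centralizer_singleton_iff.2 (by simp [h1])⟩
    obtain ⟨h, k, hk, e⟩ := C.ic s ⟨hs, h1⟩
    refine ⟨h⁻¹, k, hk, ?_⟩
    rintro _ ⟨c, hc, rfl⟩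
    replace hc := mem_centralizer_singleton_iff.1 hc
    rw [← e] at hc
    rw [mem_centralizer_singleton_iff]
    change h⁻¹ * c * h⁻¹⁻¹ * s = s * (h⁻¹ * c * h⁻¹⁻¹)
    calc _ = h⁻¹ * (c * (h * s * h⁻¹)) * h := by group
      _ = _ := by rw [hc]; group
  exact ⟨(invc_xk hk).map (MulAut.conj h).injective e, _, (map_mono (Ql_le hk)).trans e,
    (GA.isP_Qk GA.rgl).map _, by rw [card_map_of_injective (MulAut.conj h).injective, card_Ql]⟩

theorem dvd_rel {N : Subgroup (XU n K)} {r : ℕ} (hr : r.Prime) (h1 : r ∣ Nat.card N)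
    (h2 : ¬ r ∣ Nat.card K - 1) : r ∣ (center (XU n K)).relIndex N := by
  rw [← ((center (XU n K)).subgroupOf N).card_mul_index, hr.dvd_mul] at h1
  refine h1.resolve_left fun h => h2 (h.trans ?_)
  have c := card_center_sl (ι := Fin (n + 1)) (F := K)
  refine Dvd.dvd.trans ?_ (c ▸ Nat.gcd_dvd_right _ _ : Nat.card (center (SLn n K)) ∣ _)
  rw [← card_map_of_injective (f := (io n K).comp N.subtype) (Subtype.val_injective.comp Subtype.val_injective)]
  refine card_dvd_of_le ?_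
  rintro _ ⟨g, hg, rfl⟩
  exact (FV.cen' _).1 hg

/-- `Sp₄(q)` has a perfect subgroup of index at most two. -/
theorem sp4_perf (F : Type) [Field F] [Finite F] : ∃ N : Subgroup (Matrix.symplecticGroup (Fin 2) F),
    N ≤ ⁅N, N⁆ ∧ N.index ∣ 2 := by
  by_cases h : 3 ≤ Nat.card F
  · refine ⟨⊤, (H54.sp_commutator_eq_top (.inr (.inl ⟨Fintype.card_fin 2, h⟩))).ge, by simp⟩
  cases nonempty_fintype F
  have h1 : 1 < Nat.card F := Finite.one_lt_card
  obtain ⟨e⟩ := Cfsg.Agent.S0247.result (F := F) (by rw [← Nat.card_eq_fintype_card]; omega)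
  refine ⟨(alternatingGroup (Fin 6)).map e.symm.toMonoidHom, ?_, ?_⟩
  · rw [← map_commutator, commutator_alternatingGroup_eq_self (by simp)]
  · rw [MulEquiv.toMonoidHom_eq_coe, Subgroup.index_map_equiv, alternatingGroup.index_eq_two]

theorem jobFH : JobFH := by
  intro n K _ _ _ _ hp B C T D
  refine ⟨fun β h2 => ?_⟩
  have h5 := hp.five
  by_cases ho : GA.out (XU n K) β = 1
  · obtain ⟨s, s1, rfl⟩ := GA.inner_of_out ho (is2_of_sq h2)
    have := inner C (GA.eq_one_of_center (GA.conj_eq_one.1 (by rw [map_mul, h2])) (s1.mul s1 rfl))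
    rw [H64.SG.fx_conj]
    exact ⟨this.1, .inl this.2⟩
  obtain ⟨β', b1, b2, ⟨e⟩⟩ := T β h2 ho
  have : CharP (selfAdjoint K) 2 := CharTwo.of_one_ne_zero_of_two_eq_zero one_ne_zero (Subtype.ext (two0 K))
  have hn : 2 ≤ n := by omega
  let ι : fx β' →* XU n K := (fx β).subtype.comp e.symm.toMonoidHom
  have i1 : Function.Injective ι := Subtype.val_injective.comp e.symm.injective
  have i2 : ∀ N : Subgroup (fx β'), N.map ι ≤ fx β := by
    rintro N _ ⟨a, -, rfl⟩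
    exact (e.symm a).2
  refine ⟨?_, ?_⟩
  · obtain ⟨y, y1, y2, y3⟩ := (H10.FH.jobFH H76.SAFB.jobFB n (selfAdjoint K) ⟨hn, by omega⟩ β' b1).1
    rw [← map_subtype_commutator] at y1
    obtain ⟨y, y1, rfl⟩ := y1
    exact Invc.map i1 (i2 ⊤) ⟨y, y1, Subtype.ext y2, fun h => y3 (congrArg Subtype.val h)⟩
  obtain ⟨J, rfl⟩ : ∃ J, β' = H29.SA.gr J := by
    have ne : Multiplicative.ofAdd (1 : ZMod 2) ≠ 1 := by decide
    rcases H29.SA.rep hn b1 (fun h => ne (Prod.ext_iff.1 (b2.symm.trans h)).2) with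
      ⟨σ, s1, -, r⟩ | r | ⟨σ, s1, -, r⟩
    · rw [H29.SA.out_of_isConj r, SA.out_slField hn] at b2
      exact (s1 (Prod.ext_iff.1 b2).1).elim
    · exact r
    · rw [H29.SA.out_of_isConj r, map_mul, SA.out_slField hn, SA.out_slGraph hn] at b2
      exact (s1 (by simpa using (Prod.ext_iff.1 b2).1)).elim
  rcases Nat.even_or_odd (n + 1) with hm | ⟨l, hl⟩
  · obtain ⟨P, p1, p2, p3⟩ := H29.SA.big_gr_even b1 hm
    refine .inl ⟨_, i2 (P.subgroupOf _), (p2.of_equiv (subgroupOfEquivOfLe p1).symm).map _, ?_⟩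
    rwa [card_map_of_injective i1, Nat.card_congr (subgroupOfEquivOfLe p1).toEquiv]
  obtain ⟨e'⟩ := (H29.SA.fx_gr b1).1 l hl
  have q1 : 1 < qK K := H59.UVK.q2
  obtain ⟨d, d1, d2, d3, d4⟩ : ∃ d, 3 ≤ d ∧ d ≠ 6 ∧ d ∣ 2 * l ∧ (Odd d ∧ n ≤ 2 * d ∨ 4 ∣ d ∧ n ≤ d) := by
    rcases Nat.even_or_odd l with ⟨j, hj⟩ | ⟨j, hj⟩
    · exact ⟨2 * l, by omega, by omega, dvd_rfl, .inr ⟨by omega, by omega⟩⟩
    · exact ⟨l, by omega, by omega, dvd_mul_left _ _, .inl ⟨⟨j, hj⟩, by omega⟩⟩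
  obtain ⟨r, r1, r2, r3⟩ := H27.zsigmondy (qK K) d q1 (by omega) (by omega) (by omega)
  have r4 := H59.UVK.ppd_iff q1.le (by omega) r2 r3
  obtain rfl : l = 2 := by omega
  obtain ⟨N, n1, n2⟩ := sp4_perf (selfAdjoint K)
  have i3 : Function.Injective (ι.comp e'.symm.toMonoidHom) := i1.comp e'.symm.injective
  have r5 := ppd_ne_two q1 (by omega) r2 r3
  refine .inr ⟨fun h => ho (h ▸ map_one _), N.map (ι.comp e'.symm.toMonoidHom), ?_, ?_, r,
    dvd_rel r1 ?_ (FQ.card (K := K) ▸ r3 2 two_pos (by omega)), D.cz r d r1 r5 r4 d4⟩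
  · rw [← Subgroup.map_map]; exact i2 _
  · rw [← map_commutator]; exact map_mono n1
  rw [card_map_of_injective i3]
  have : r ∣ Nat.card N * N.index := by
    rw [N.card_mul_index, H54.card_sp, Fintype.card_fin, H54.spOrder_succ]
    exact ((r4 _).2 d3).mul_right _
  exact (r1.dvd_mul.1 this).resolve_right fun h =>
    r5 ((Nat.prime_dvd_prime_iff_eq r1 Nat.prime_two).1 (h.trans n2))

end H59.UM5c
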