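import Cfsg.Agent.H59.U5K0

/-! STD-U5: `JobFP`. -/

set_option autoImplicit false
set_option linter.unusedSectionVars false

namespace H59.UV

open H67

open H64.SG (O2 Syl Cz Cs Ns cjs Is2 Inv2 UF IsO2 fx mem_Cs mem_Cz is2_of_sq)
open Matrix H57 Subgroup
open H67.SA (SLn Au la St cI cm)
open scoped commutatorElement

variable {n : ℕ} {K : Type} [Field K] [StarRing K] [CharP K 2] [Finite K]

theorem qq_mul_self {u v : Vn n K} (h : Pp u v) : qq v u * qq v u = 1 := by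
  rw [← qq_add h h h.r, v_add_self, qq, EE_zero]

/-- the stabiliser of `W_k` -/
def StW (k : ℕ) : Subgroup (XU n K) where
  carrier := {g | ∀ v, Wk k v ↔ Wk k (ac g v)}
  one_mem' := fun v => by rw [ac_one]
  mul_mem' := fun {a b} ha hb v => by rw [ac_mul, ← ha, ← hb]
  inv_mem' := fun {a} ha v => by rw [ha (ac a⁻¹ v), ac_ac_inv]

theorem StW_le [FV n K] {k : ℕ} (hk : 2 * k ≤ n + 1) :
    StW k ≤ Ns (GA.Qk (XU n K) k) ⊓ Ns (GA.Mk (XU n K) k) := fun g hg => by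
  have h1 : ∀ u v, ac (g * u * g⁻¹) v + v = ac g (ac u (ac g⁻¹ v) + ac g⁻¹ v) := fun u v => by
    rw [ac_add, ac_ac_inv, ac_mul, ac_mul]
  refine ⟨GA.conj_mem_St.1 (GA.mem_St_of_finite fun u hu => ?_),
    GA.conj_mem_St.1 (GA.mem_St_of_finite fun u hu => ?_)⟩
  · rw [FV.mem_Qk k hk] at hu ⊢
    refine ⟨fun v hv => ?_, fun v hv => ?_⟩
    · rw [MulAut.conj_apply, ac_mul, ac_mul, hu.1 _ ((inv_mem hg v).1 hv), ac_ac_inv]
    · rw [MulAut.conj_apply, h1, ← hg]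
      refine hu.2 _ ((FV.wk_perp k (by omega) _).2 fun w hw => ?_)
      rw [hf_ac_left, inv_inv]
      exact (FV.wk_perp k (by omega) _).1 hv _ ((hg w).1 hw)
  · rw [FV.mem_M k hk] at hu ⊢
    exact fun v => by rw [MulAut.conj_apply, h1, ← hg]; exact hu _

theorem mem_StW {k : ℕ} {g : XU n K} (h2 : g * g = 1) (h : ∀ v, Wk k v → Wk k (ac g v)) :
    g ∈ StW k := fun v => ⟨h v, fun hv => by simpa [← ac_mul, h2] using h _ hv⟩

namespace FP

theorem sr {u v : Vn n K} (h : Pp u v) (a : K) : Pp u (a • v) := by simpa using h.smul 1 a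

theorem exists_ok [FQ K] {u x : Vn n K} (hu : Iso u) (hx : hf x u = 0) : ∃ c, Ok u x c :=
  (FQ.trs (hf x x) (star_hf _ _)).imp fun _ h => ⟨hu, hx, h⟩

theorem cmO {G : Type*} [Group G] {A : Subgroup G} {h u : G} (hh : h ∈ O2 A) (hu : u ∈ A) :
    h * u * h⁻¹ * u⁻¹ ∈ O2 A := by
  have := (mem_normalizer_iff.1 (H64.SG.Ns_le_Ns_O2 A (le_normalizer hu)) _).1 (inv_mem hh)
  simpa only [mul_assoc] using mul_mem hh this

/-- The elements `EE u x c`, `x ∈ R`, are in `O²(A)` if an odd element is fixed point free on `R`. -/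
theorem key [FQ K] {A : Subgroup (XU n K)} {u : Vn n K} (hu : Iso u) (R : Vn n K → Prop)
    (rp : ∀ x, R x → hf x u = 0) (hA : ∀ x c, R x → Ok u x c → EE u x c ∈ A) {h : XU n K} (h1 : h ∈ A)
    (h2 : Odd (orderOf h)) (h3 : ac h u = u) (on : ∀ x, R x → ∃ y, R y ∧ ∃ s : K, x = ac h y + y + s • u)
    {v w : Vn n K} (hv : ∀ a : K, R (a • v)) (hw : R w) (vw : hf v w = 1) :
    ∀ x c, R x → Ok u x c → EE u x c ∈ O2 A := by
  have k1 : ∀ x, R x → ∃ c, Ok u x c ∧ EE u x c ∈ O2 A := fun x hx => by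
    obtain ⟨y, hy, s, rfl⟩ := on x hx
    obtain ⟨d, o⟩ := exists_ok hu (rp y hy)
    have o' := o.ac h
    have := cmO (H64.SG.mem_O2_of_odd h1 h2) (hA y d hy o)
    rw [h3] at o'
    rw [EE_conj o, h3, EE_inv o, EE_mul o' o.star] at this
    have o2 := o'.add o.star
    generalize ac h y + y = z at *
    generalize d + star d + hf y (ac h y) = c at *
    refine ⟨c + tr s, ⟨hu, rp _ hx, ?_⟩, by
      rwa [EE_shift, add_assoc, CharTwo.add_self_eq_zero, add_zero]⟩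
    have := o2.tr
    simp only [hf_add_left, hf_add_right, hf_smul_left, hf_smul_right, show hf u u = 0 from hu,
      o2.perp, hf_symm o2.perp, UV.tr, star_add, star_star] at this ⊢
    linear_combination this + (s + star s) * two0 K
  have k2 : ∀ c, star c = c → Tc c u ∈ O2 A := fun c hc => by
    obtain ⟨a, rfl⟩ := FQ.trs c hc
    obtain ⟨d, o, m⟩ := k1 _ (hv a)
    obtain ⟨d', o'⟩ := exists_ok hu (rp w hw)
    have := cmO m (hA w d' hw o')
    rwa [show _ * _ * _ * _ = GA.cm _ _ from rfl, EE_cm o o', hf_smul_left, vw, mul_one] at this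
  intro x c hx o
  obtain ⟨d, o', m⟩ := k1 x hx
  have hc : star (d + c) = d + c := tr_eq_zero.1 (by
    have := o.tr.trans o'.tr.symm
    simp only [UV.tr, star_add] at this ⊢
    linear_combination this + (d + star d) * two0 K)
  have := mul_mem m (k2 _ hc)
  rwa [EE_mul o' (ok_zero hu hc), add_zero, hf_zero_left, add_zero, ← add_assoc,
    CharTwo.add_self_eq_zero, zero_add] at this

theorem ir {i j : Fin (4 + 1)} (hi : i.val < 2) (hj : j.val < 2) : i ≠ j.rev := fun h => by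
  have := congrArg Fin.val h
  rw [Fin.val_rev] at this; omega

theorem ac_dg {g : XU 4 K} {d : Fin (4 + 1) → K} (h : ∀ r, ac g (ev r) = d r • ev r) (v : Vn 4 K)
    (i : Fin (4 + 1)) : ac g v i = d i * v i := by
  have : ∀ a b, mt g a b = if a = b then d b else 0 := fun a b => by
    rw [← ac_ev, h, Pi.smul_apply, ev_apply]; split_ifs <;> simp
  simp [ac, mulVec, dotProduct, this]

theorem ok_sm {u x : Vn n K} {a c : K} (hu : Iso u) (o : Ok (a • u) x c) :
    Ok u (star a • x) (nm a * c) :=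
  ⟨hu, by rw [hf_smul_left, ← hf_smul_right, o.perp], by
    rw [hf_smul_left, hf_smul_right, ← o.tr, UV.tr, star_mul', star_nm, star_star, UV.tr, nm]; ring⟩

theorem w2_eq {u : Vn 4 K} (hu : Wk 2 u) : u = u 0 • ev 0 + u 1 • ev 1 := funext fun i => by
  have h2 := hu 2 (by decide)
  have h3 := hu 3 (by decide)
  have h4 := hu 4 (by decide)
  fin_cases i <;> simp [ev_apply, h2, h3, h4]

variable [Par 4 K] [Base 4 K]

theorem cz {g : XU 4 K} {a : K} (ha : nm a = 1) (hg : ac g (ev 0) = a • ev 0) :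
    g ∈ Cs (GA.ZZ (XU 4 K)) := fun z hz => by
  obtain ⟨c, hc, rfl⟩ := (FV.mem_Z z).1 hz
  rw [eq_comm, ← mul_inv_eq_iff_eq_mul, Tc_conj iso0 hc, hg, Tc_smul, ha, one_mul]

theorem cz1 {g : XU 4 K} (hg : ac g (ev 0) = ev 0) : g ∈ Cs (GA.ZZ (XU 4 K)) :=
  cz (a := 1) (by simp) (by simpa using hg)

theorem lam : ∃ l : K, nm l = 1 ∧ l + 1 ≠ 0 ∧ star l ^ 2 + 1 ≠ 0 := by
  obtain ⟨l, hl, l1⟩ := FQ.n1 (K := K)
  have m1 : l + 1 ≠ 0 := fun e => l1 (by linear_combination e - two0 K)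
  exact ⟨l, hl, m1, fun e => m1 (star_eq_zero.1 (pow_eq_zero_iff two_ne_zero |>.1
    (by rw [star_add, star_one]; linear_combination e + star l * two0 K : star (l + 1) ^ 2 = 0)))⟩

theorem kQ {x : Vn 4 K} {c : K} (o : Ok (ev 0) x c) : EE (ev 0) x c ∈ O2 (Cs (GA.ZZ (XU 4 K))) := by
  obtain ⟨l, hl, m1, m2⟩ := lam (K := K)
  obtain ⟨h1, o1, e1⟩ := exists_dm (n := 4) (i := 1) (μ := 2) (by decide) (by decide) hl
  exact key iso0 (fun x => hf x (ev 0) = 0) (fun _ h => h)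
    (fun x c _ o => cz1 (ac_EE_self o)) (cz1 (by simpa using e1 0)) o1 (by simpa using e1 0)
    (fun x hx => ⟨![0, x 1 / (l + 1), x 2 / (star l ^ 2 + 1), x 3 / (l + 1), 0], by
      rw [hf_ev_right]; rfl, x 0, funext fun i => by
        rw [hf_ev_right] at hx
        rw [Pi.add_apply, Pi.add_apply, ac_dg e1]
        fin_cases i <;> simp [ev_apply] <;> first | exact hx | (field_simp)⟩)
    (v := ev 1) (w := ev 3) (fun a => by simp [hf_smul_left, hf_ev]) (by simp [hf_ev])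
    (by simp [hf_ev]) x c o.perp o

theorem kq {v : Vn 4 K} (a : K) (p : Pp (ev 0) v) : qq (a • ev 0) v ∈ O2 (Cs (GA.ZZ (XU 4 K))) := by
  rw [qq_smul, qq_comm]
  exact kQ (sr p _).ok

theorem k1 {x : Vn 4 K} {c : K} (hx : Wk 3 x) (o : Ok (ev 1) x c) :
    EE (ev 1) x c ∈ O2 (Cs (GA.ZZ (XU 4 K))) := by
  obtain ⟨l, hl, m1, m2⟩ := lam (K := K)
  obtain ⟨h0, o0, e0⟩ := exists_dm (n := 4) (i := 0) (μ := 2) (by decide) (by decide) hl
  have k := key (A := Cs (GA.ZZ (XU 4 K))) o.iso (fun x => ∃ a b : K, x = a • ev 2 + b • ev 1)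
    (by rintro _ ⟨a, b, rfl⟩; simp [hf_add_left, hf_smul_left, hf_ev])
    (by
      rintro _ c ⟨a, b, rfl⟩ o
      exact cz1 (ac_EE_fix o (by simp [hf_ev]) (by simp [hf_add_right, hf_smul_right, hf_ev])))
    (cz hl (by simpa using e0 0)) o0 (by simpa using e0 1)
    (by
      rintro _ ⟨a, b, rfl⟩
      refine ⟨(a / (star l ^ 2 + 1)) • ev 2, ⟨a / (star l ^ 2 + 1), 0, by simp⟩, b, ?_⟩
      rw [ac_smul, e0, smul_smul, ← add_smul]
      congr 2
      simp; field_simp)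
    (v := ev 2) (w := ev 2) (fun a => ⟨a, 0, by simp⟩) ⟨1, 0, by simp⟩ (by simp [hf_ev])
  have p := (sr (pp01 (n := 4) (K := K)).symm (x 0)).ok
  have h3 := hx 3 (by decide)
  have h4 := hx 4 (by decide)
  have := mul_mem (kq (x 0) pp01) (k _ _ ⟨x 2, x 1, funext fun i => by
    fin_cases i <;> simp [ev_apply, CharTwo.add_self_eq_zero, h3, h4]⟩ (p.add o))
  rw [EE_mul p (p.add o), ← add_assoc, v_add_self, zero_add] at this
  convert this using 2
  simp only [hf_smul_right, hf_ev_right]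
  simp [ev_apply, h4]

theorem p3 (a : K) : Pp (ev (Fin.rev 1) : Vn 4 K) (a • ev 0) :=
  sr (pp_ev (by decide) (by decide) (by decide)) a

theorem ac_ss (a : K) {v : Vn 4 K} (hv : Wk 3 v) : ac (ss 0 1 a) v = v + (v 1 * a) • ev 0 := by
  rw [ac_qq (p3 a), hf_smul_right, hf_ev_right, hf_ev_right, hv _ (by decide), smul_smul]; simp

theorem ssO (a : K) : ss 0 1 a ∈ O2 (Cs (GA.ZZ (XU 4 K))) :=
  kq a (pp_ev (by decide) (by decide) (by decide))

theorem kQ2 : GA.Qk (XU 4 K) 2 ≤ O2 (Cs (GA.ZZ (XU 4 K))) := FV.gen_Q 2 (by omega) _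
  fun u x c o hu hx => by
    have eu := w2_eq hu
    by_cases h : u 1 = 0
    · rw [h, zero_smul, add_zero] at eu
      rw [eu] at o ⊢
      rw [EE_smul]
      exact kQ (ok_sm iso0 o)
    have hg := ssO (K := K) (u 0 / u 1)
    have e1 : ac (ss 0 1 (u 0 / u 1)) u = u 1 • ev 1 := by
      rw [ac_ss _ (hu.mono (by omega)), mul_div_cancel₀ _ h]
      nth_rewrite 1 [eu]
      rw [add_right_comm, v_add_self, zero_add]
    have o' := o.ac (ss 0 1 (u 0 / u 1))
    refine (mul_mem_cancel_left hg).1 ((mul_mem_cancel_right (inv_mem hg)).1 ?_)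
    rw [EE_conj o, e1, EE_smul]
    rw [e1] at o'
    refine k1 (Wk.smul ?_ _) (ok_sm pp01.r o')
    rw [ac_ss _ hx]
    exact Wk.add hx ((w0 (by omega)).smul _)

theorem opU : GA.UU (XU 4 K) ≤ O2 (Cs (GA.ZZ (XU 4 K))) := fun g hg => by
  rw [FV.mem_U] at hg
  have h0 : ac g (ev 0) = ev 0 := by
    have : ac g (ev 0) + ev 0 = 0 := funext fun i => hg 0 _ (w0 le_rfl) i (Nat.zero_le _)
    rw [← add_zero (ac g _), ← v_add_self (ev 0), ← add_assoc, this, zero_add]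
  have h3 : ∀ v, Wk 3 v → Wk 3 (ac g v) := fun v hv => by
    simpa [add_assoc] using ((hg 2 v hv).mono (by omega)).add hv
  obtain ⟨a, h1⟩ : ∃ a : K, ac g (ev 1) = ev 1 + a • ev 0 := by
    have h := hg 1 _ (w1 le_rfl)
    have e := w2_eq (h.mono (by omega))
    rw [h 1 (by decide), zero_smul, add_zero] at e
    exact ⟨_, by rw [← e, add_left_comm, v_add_self, add_zero]⟩
  refine (mul_mem_cancel_left (ssO a)).1 (kQ2 ((FV.mem_Qk 2 (by omega) _).2 ⟨fun v hv => ?_,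
    fun v hv => ?_⟩))
  · rw [w2_eq hv, ac_add, ac_smul, ac_smul, ac_mul, ac_mul, h0, h1, ac_add, ac_smul,
      ac_ss _ (w0 (by omega)), ac_ss _ (w1 (by omega))]
    simp [ev_apply, add_assoc]
  · rw [ac_mul, ac_ss _ (h3 v hv), add_right_comm]
    exact (hg 2 v hv).add ((w0 (by omega)).smul _)

end FP

theorem jobFP : JobFP := by
  intro n K _ _ _ _ hp B
  obtain rfl := hp.five
  have i0 : (0 : Fin (4 + 1)).val < 2 := by decide
  have i1 : (1 : Fin (4 + 1)).val < 2 := by decide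
  have I := @FP.ir
  have n1 := ne01 (n := 4) (K := K)
  have u0 := iso0 (n := 4) (K := K)
  have P : ∀ {i j : Fin (4 + 1)}, i.val < 2 → j.val < 2 → i ≠ j → ∀ a : K,
      Pp (ev j.rev : Vn 4 K) (a • ev i) := fun hi hj h a => FP.sr (pp_ev
        (by rw [Fin.rev_rev]; exact (I hj hj).symm) (I hi hi) (by rwa [Fin.rev_rev])) a
  have px := P i0 i1 n1
  have py := P i1 i0 n1.symm
  have sx : ∀ a : K, ss 0 1 a ∈ GA.SS (XU 4 K) := fun a => subset_closure ⟨a, Or.inl rfl⟩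
  have sy : ∀ a : K, ss 1 0 a ∈ GA.SS (XU 4 K) := fun a => subset_closure ⟨a, Or.inr rfl⟩
  have sw : ∀ b : K, ss 0 1 b * ss 1 0 b⁻¹ * ss 0 1 b ∈ GA.SS (XU 4 K) := fun b =>
    mul_mem (mul_mem (sx _) (sy _)) (sx _)
  have w : ∀ b : K, b ≠ 0 → ac (ss 0 1 b * ss 1 0 b⁻¹ * ss 0 1 b : XU 4 K) (ev 0) = b⁻¹ • ev 1 ∧
      ac (ss 0 1 b * ss 1 0 b⁻¹ * ss 0 1 b : XU 4 K) (ev 1) = b • ev 0 ∧
      ac (ss 0 1 b * ss 1 0 b⁻¹ * ss 0 1 b : XU 4 K) (ev (Fin.rev 1)) =
        (star b)⁻¹ • ev (Fin.rev 0) := fun b hb => by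
    have hs : star b ≠ 0 := by simpa using hb
    simp only [ac_mul, ac_qq (px _), ac_qq (py _), hf_add_left, hf_smul_left, hf_smul_right, hf_ev,
      Fin.rev_rev, Fin.rev_inj, I i0 i0, I i0 i1, I i1 i0, I i1 i1, (I i0 i1).symm,
      (I i1 i0).symm, (I i1 i1).symm, n1, n1.symm, if_true, if_false, mul_zero, mul_one, zero_smul,
      one_smul, add_zero, zero_add, smul_smul, star_inv₀, inv_mul_cancel₀ hb, mul_inv_cancel₀ hb,
      mul_inv_cancel₀ hs, zero_mul, one_mul, CharTwo.add_self_eq_zero]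
    refine ⟨by rw [add_right_comm, v_add_self, zero_add], by rw [add_right_comm, v_add_self, zero_add],
      by rw [add_right_comm, v_add_self, zero_add]⟩
  have tP : ∀ v, Pp (ev 0) v → TT v ∈ GA.PP (XU 4 K) := fun v hv => by
    rw [mem_PP, ac_Tc hv.r (star_one K), hv.p]; simp
  have tI : ∀ v, Pp (ev 0) v → TT v ∈ GA.Iv (GA.PP (XU 4 K)) := fun v hv =>
    GA.mem_Iv (tP v hv) (Tc_mul_self hv.r (star_one K))
  have sW : GA.SS (XU 4 K) ≤ StW 2 := by
    rw [SS_eq, closure_le]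
    have k : ∀ {i j : Fin (4 + 1)}, i.val < 2 → ∀ a : K, Pp (ev j.rev : Vn 4 K) (a • ev i) →
        ss i j a ∈ StW (n := 4) (K := K) 2 := fun hi a p => mem_StW (qq_mul_self p) fun v hv => by
      rw [ac_qq p, hv.perp ((wk_ev hi).smul a) (by omega), zero_smul, add_zero]
      exact hv.add (((wk_ev hi).smul a).smul _)
    rintro _ ⟨a, rfl | rfl⟩
    · exact k (by simp) a (px a)
    · exact k (by rw [v1 K]; omega) a (py a)
  have ivQ : GA.QQ (XU 4 K) ≤ GA.Iv (GA.QQ (XU 4 K)) := fun g hg => by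
    obtain ⟨x, c, o, rfl⟩ := (FV.mem_Q g).1 hg
    refine FW.span _ u0 (fun x => ∀ c, Ok (ev 0) x c → EE (ev 0) x c ∈ GA.Iv (GA.QQ (XU 4 K)))
      (fun x hx c o => GA.mem_Iv ((FV.mem_Q _).2 ⟨x, c, o, rfl⟩) (by
        rw [EE_mul o o, v_add_self, CharTwo.add_self_eq_zero, hx.r, add_zero, EE_zero]))
      (fun x y hx hy Hx Hy c o => ?_) x o.perp c o
    obtain ⟨d, hd⟩ := FQ.trs (hf x x) (star_hf _ _)
    have o1 : Ok (ev 0) x d := ⟨u0, hx, hd⟩
    have o2 := o1.star.add o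
    rw [← add_assoc, v_add_self, zero_add] at o2
    have := mul_mem (Hx d o1) (Hy _ o2)
    rw [EE_mul o1 o2] at this
    convert this using 2
    rw [hf_add_left, ← hd, tr]
    linear_combination -(d + star d + hf y x) * two0 K
  refine ⟨⟨rfl, ?_, ?_, ivQ, fun g hg => (StW_le (by omega) (sW hg)).1,
    fun g hg => (StW_le (by omega) (sW hg)).2, FW.genT _ fun v hv => ?_, FP.opU⟩,
    fun hq => FW.genP hq _ fun v hv => ?_⟩
  · have k1 : ∀ a b : K, b ≠ 0 → ss 1 0 (a * b⁻¹ * b⁻¹) * (ss 0 1 a)⁻¹ ∈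
        ⁅GA.SS (XU 4 K), GA.SS (XU 4 K)⁆ := fun a b hb => by
      have := commutator_mem_commutator (sw b) (sx a)
      rwa [commutatorElement_def, EE_conj (px a).ok, ac_smul, (w b hb).1, (w b hb).2.2, EE_smul,
        mul_zero, star_inv₀, star_star, smul_smul, smul_smul, mul_comm b⁻¹, mul_right_comm] at this
    have k2 : ∀ a : K, ss 1 0 a ∈ ⁅GA.SS (XU 4 K), GA.SS (XU 4 K)⁆ := fun a => by
      obtain ⟨b, b1, b2⟩ := FQ.n1 (K := K)
      have hb : b ≠ 0 := by rintro rfl; simp at b1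
      have h1 : (b + 1) ^ 2 ≠ 0 := pow_ne_zero _ fun e => b2 (by linear_combination e - two0 K)
      have := mul_mem (k1 (a / (b + 1) ^ 2) b⁻¹ (inv_ne_zero hb)) (inv_mem (k1 (a / (b + 1) ^ 2) 1
        one_ne_zero))
      rw [_root_.mul_inv_rev, inv_inv, inv_inv, mul_assoc, inv_mul_cancel_left,
        inv_eq_of_mul_eq_one_right (qq_mul_self (py _)), ← qq_add (py _) (py _)
          (((⟨pp01.r, pp01.r, pp01.r⟩ : Pp _ _).smul _ _).p), ← add_smul] at this
      convert this using 3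
      rw [inv_one, mul_one, mul_one, mul_assoc, ← mul_add_one,
        show b * b + 1 = (b + 1) ^ 2 by rw [CharTwo.add_sq]; ring, div_mul_cancel₀ _ h1]
    rw [SS_eq, closure_le, ← SS_eq]
    rintro _ ⟨a, rfl | rfl⟩
    · simpa using inv_mem (mul_mem (inv_mem (k2 a)) (k1 a 1 one_ne_zero))
    · exact k2 a
  · rw [SS_eq, closure_le, ← SS_eq]
    rintro _ ⟨a, rfl | rfl⟩
    · exact GA.mem_Iv (sx a) (qq_mul_self (px a))
    · exact GA.mem_Iv (sy a) (qq_mul_self (py a))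
  · by_cases h0 : hf (ev 0) v = 0
    · exact mem_sup_left (tI v ⟨u0, hv, h0⟩)
    have hg := mem_sup_right (S := GA.Iv (GA.PP (XU 4 K)))
      (mul_mem (sw 1) (inv_mem (sx (hf (ev 1) v / hf (ev 0) v))))
    refine (mul_mem_cancel_left hg).1 ((mul_mem_cancel_right (inv_mem hg)).1 ?_)
    rw [Tc_conj hv (star_one K)]
    refine mem_sup_left (tI _ ⟨u0, hv.ac _, ?_⟩)
    have := (w 1 one_ne_zero).2.1
    rw [one_smul] at this
    rw [ac_mul]
    nth_rewrite 1 [← this]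
    rw [hf_ac, ← hf_ac_left, ac_qq (px _)]
    simp only [hf_add_left, hf_smul_left, hf_smul_right, hf_ev, I i0 i1, if_true, if_false, mul_zero,
      zero_mul, add_zero, one_mul, div_mul_cancel₀ _ h0, CharTwo.add_self_eq_zero]
  · obtain ⟨η, hη⟩ := FQ.eta (K := K)
    obtain ⟨x, x1, x2, h⟩ : ∃ x, hf x v = 0 ∧ hf (ev 0) x = 0 ∧ hf x x = 1 := by
      by_cases h : Li (ev 0) v
      · obtain ⟨g, g1, rfl⟩ := FW.w2 _ _ hv h
        exact ⟨ac g (ev 2), by simp [hf_ev], by rw [← g1]; simp [hf_ev], by simp [hf_ev]⟩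
      · obtain ⟨c, rfl⟩ := exists_smul_of_not_li (ev_ne 0) h
        exact ⟨ev 2, by simp [hf_ev, hf_smul_right], by simp [hf_ev], by simp [hf_ev]⟩
    obtain ⟨c, o⟩ := FP.exists_ok (x := η • x) hv.r (by rw [hf_smul_left, x1, mul_zero])
    obtain ⟨d, o'⟩ := FP.exists_ok hv.r x1
    rw [TT, ← hη, ← mul_one η, ← h, ← hf_smul_left, ← EE_cm o o']
    exact commutator_mem_commutator (mem_PP.2 (ac_EE_fix o hv.p (by rw [hf_smul_right, x2, mul_zero])))
      (mem_PP.2 (ac_EE_fix o' hv.p x2))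

end H59.UV
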