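import Cfsg.Agent.H59.U5Amb
import Cfsg.Agent.H67.SAFU
import Cfsg.Agent.H59.U5GW0

/-! STD-UM: `JobFU` (the field case for `X = SU_(n+1)(q)`: unique fixed point, fusion in `M`). -/

set_option autoImplicit false
set_option linter.unusedSectionVars false

namespace H59.UVE

open H67

open H64.SG (O2 Syl Cz Cs Ns cjs Is2 Inv2 UF IsO2 fx mem_Cs mem_Cz mem_fx is2_of_sq
  isPGroup_iff_is2)
open H57 H98 Subgroup
open H67 H59.UV
open H67.SA (SLn Au la St cI cm IG sc oi)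
open H67.GA (B1 CE CF)

universe u

variable {n : ℕ} {K : Type} [Field K] [StarRing K] [CharP K 2] [Finite K] [Par n K] [FQ K] [FV n K]
  [FK n K] [H59.GB.Fa (XU n K)] {G : Type u} [Group G] [Finite G] {e : XU n K →* G} {t : G}
  {Φ : SLn n K →* G}

theorem two_le (n : ℕ) (K : Type) [Field K] [StarRing K] [Par n K] : 2 ≤ n :=
  (Par.five (n := n) K).symm ▸ by decide

theorem act (c : CF e t (io n K) (tau n K) Φ) : SA.Ind Φ t (tau n K) := c.act

theorem mem_rg (c : CF e t (io n K) (tau n K) Φ) (u : XU n K) : Φ u.1 ∈ e.range :=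
  c.rg ▸ ⟨u, rfl⟩

theorem rg_le (c : CF e t (io n K) (tau n K) Φ) : e.range ≤ Φ.range := by
  rw [← c.rg]; rintro _ ⟨u, rfl⟩; exact ⟨_, rfl⟩

theorem ker' (c : CF e t (io n K) (tau n K) Φ) : (Φ.comp (io n K)).ker ≤ center (XU n K) :=
  fun u hu => (FV.cen' u).2 (c.ker hu)

theorem tau_ne : tau n K ≠ 1 := fun h => by
  have := congrArg Prod.snd (FV.out_tau (n := n) (K := K))
  rw [h, map_one] at this
  exact absurd (show (1 : Multiplicative (ZMod 2)) = Multiplicative.ofAdd 1 from this) (by decide)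

theorem conj_t (c : CF e t (io n K) (tau n K) Φ) {η : K} (h : tr η = 1) {u : SLn n K}
    (h0 : tau n K u = u) (hu : u * u = 1) : Φ (sc η u) * t * (Φ (sc η u))⁻¹ = Φ u * t := by
  rw [← map_inv, inv_eq_of_mul_eq_one_right (SA.sc_sq hu η), mul_assoc,
    eq_mul_of_mul_inv_eq (c.act _), FV.tau_sc _ _ hu, h0, ← mul_assoc, ← map_mul, ← SA.sc_add hu,
    show η + star η = 1 from h, SA.sc_one hu]

theorem IG_eq (c : CF e t (io n K) (tau n K) Φ) (h : B1 e t) : IG t e.range = Φ.range := by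
  obtain ⟨η, hη⟩ := FQ.eta (K := K)
  refine le_antisymm (SA.IG_le h.cz (rg_le c) fun w hw => ?_) ?_
  · obtain ⟨u, u1, u2⟩ := GA.exists_sq_range (ker' c) (c.rg ▸ hw) (by
      have h2 := h.cen _ hw
      have h3 : cm w t * t = w * t * w⁻¹ := inv_mul_cancel_right _ _
      calc _ = cm w t * (cm w t * t) * t⁻¹ := by group
        _ = cm w t * t * (cm w t * t) := by
          nth_rewrite 1 [h2]; rw [h.inv_eq]; simp only [mul_assoc]
        _ = 1 := by rw [h3, conj_mul, h.inv.1]; simp)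
    exact ⟨_, ⟨_, rfl⟩, by
      rw [conj_t c hη (mem_fx.1 u.2) (congrArg Subtype.val u1), show Φ u.1 = cm w t from u2,
        inv_mul_cancel_right]⟩
  have x1 : tau n K (SA.x 0 (la n) 1) = SA.x 0 (la n) 1 := by simp [tau_x, la]
  have x2 : cm (Φ (SA.x 0 (la n) η)) t ∈ e.range := by
    have := conj_t c hη x1 (SA.x_mul_self ..)
    rw [SA.sc_x, mul_one] at this
    rw [cm, this, mul_inv_cancel_right]
    exact mem_rg c ⟨_, mem_fx.2 x1⟩
  rw [MonoidHom.range_eq_map Φ, ← FK.gen η hη, Subgroup.map_sup]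
  refine sup_le ?_ ?_
  · rintro _ ⟨u, hu, rfl⟩
    exact SA.le_IG (mem_rg c ⟨u, hu⟩)
  · rintro _ ⟨_, ⟨u, hu, rfl⟩, rfl⟩
    simpa using SA.mem_IG x2 (mem_rg c ⟨u, hu⟩)

theorem fi (c : CF e t (io n K) (tau n K) Φ) (ht : t * t = 1) (y : SLn n K)
    (hy : Φ y * t * (Φ y * t) = 1) : ∃ h, Φ y * t = Φ h * t * (Φ h)⁻¹ := by
  have hn := two_le n K
  have t1 := inv_eq_of_mul_eq_one_right ht
  obtain ⟨l, hl⟩ := FK.ft y (c.ker (by
    rw [MonoidHom.mem_ker, map_mul, ← c.act, ← hy, t1]; group))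
  have c3 := (SA.ind_conj y).mul (act c)
  have c4 := (SA.ind_conj l).conj (act c)
  have c5 : Φ y * t * (Φ l * t * (Φ l)⁻¹) ∈ Φ.range :=
    ⟨y * tau n K l * l⁻¹ * tau n K 1, by
      rw [map_one, mul_one, map_mul, map_mul, ← c.act, t1, map_inv]; group⟩
  obtain ⟨r, r1, r2⟩ := SA.exists_conj_of_odd hy (by rw [conj_mul, ht]; simp)
    (SA.odd_of_Cs hn c.ker c5
    (((c3.mul c4).eq_one_iff hn c.ker).1 (by rw [← hl]; exact c3.sq hn c.ker hy)))
  obtain ⟨r, rfl⟩ := zpowers_le.2 c5 r1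
  exact ⟨r * l, by rw [← r2, map_mul]; group⟩

theorem odd (h : CE e t) (c : CF e t (io n K) (tau n K) Φ) : Odd (Nat.card (Cs Φ.range)) :=
  GB.W.odd_of h (centralizer_anti (rg_le c)) (normalizer_le_normalizer_centralizer _ (act c).mem_Ns)
    fun h1 => tau_ne (((act c).eq_one_iff (two_le n K) c.ker).2 h1)

theorem ft (h : CE e t) (c : CF e t (io n K) (tau n K) Φ) : ∀ s ∈ Ns Φ.range, IsConj t s →
    ∃ m ∈ Ns Φ.range, (∃ β, SA.Ind Φ m β ∧ SA.out n K β = 1) ∧ s = m * t * m⁻¹ := fun s hs h1 => by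
  have hn := two_le n K
  obtain ⟨g, rfl⟩ := isConj_iff.1 h1
  have h4 := h.cje g
  have ae := (H59.GB.A.jobAB _ G (GA.cje g e) (g * t * g⁻¹)).2 h4
  generalize g * t * g⁻¹ = s at *
  obtain ⟨β, i1⟩ := SA.exists_ind hn c.ker hs
  have b2 := i1.sq hn c.ker h4.inv.1
  have k1 : (fx β).map Φ ≤ Cz s := by rintro _ ⟨a, ha, rfl⟩; exact mem_Cz.2 (i1.comm ha)
  have o1 : SA.out n K β = SA.out n K (tau n K) := by
    rcases FK.uf β b2 with ⟨P, p1, p2, p3⟩ | ⟨N, n1, n2, r, r1, r2⟩ | o1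
    · exact (GB.W.big ae ((map_mono p1).trans k1) (p2.map Φ)
        (by rwa [SA.card_map2 c.ker p2, pow_mul, qq_eq, ← FQ.card])).elim
    · exact (r2 (r1.trans ((SA.rel_dvd c.ker N).trans ((card_dvd_of_le (H59.GB.A.pf h4.b0
        ((map_mono n1).trans k1) (by rw [← map_commutator]; exact map_mono n2))).trans
          (card_range_dvd _))))).elim
    · exact o1
  have o3 : s * t ∈ oi Φ ⊥ := ⟨_, i1.mul (act c), by
    rw [map_mul, o1, ← map_mul, tau_mul_self, map_one]; exact one_mem _⟩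
  obtain ⟨r, hr⟩ := H9.UF.exists_odd (s * t)
  have d2 := isPGroup_iff_is2.1 hr _ (mem_zpowers _)
  obtain ⟨α, a1, a2⟩ := pow_mem o3 (2 * r + 1)
  obtain ⟨y, -, -, k, k1, k2, k3, -⟩ := a1.inner hn c.ker a2 d2
  rw [k2.eq_one (H64.SG.odd_orderOf_of_mem (odd h c) k1), one_mul] at k3
  have d3 := H9.UF.dih h4.inv.1 h.inv.1 r
  have d4 : (s * t) ^ r * s * ((s * t) ^ r)⁻¹ = Φ (tau n K y⁻¹) * t := by
    rw [← c.act, map_inv, ← k3, inv_mul_cancel_right, eq_mul_inv_iff_mul_eq,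
      show (s * t) ^ r * s * ((s * t) ^ r)⁻¹ * (s * t) ^ (2 * r + 1) =
        (s * t) ^ r * (s * (s * t) ^ (2 * r + 1)) * ((s * t) ^ r)⁻¹ by group, ← d3]
    group
  obtain ⟨l, hl⟩ := fi c h.inv.1 _ (by rw [← d4, conj_mul, h4.inv.1]; simp)
  obtain ⟨γ, g1, g2⟩ := mul_mem (inv_mem (pow_mem o3 r)) ⟨_, SA.ind_conj l, SA.out_conj hn l⟩
  exact ⟨_, g1.mem_Ns, ⟨γ, g1, g2⟩, by
    rw [_root_.mul_inv_rev, mul_assoc, mul_assoc, ← mul_assoc t, ← mul_assoc (Φ l),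
      ← mul_assoc (Φ l), ← hl, ← d4]; group⟩

theorem gf (h : CE e t) (c : CF e t (io n K) (tau n K) Φ) : GF t Φ := by
  have hM : Cz t ≤ Ns Φ.range := IG_eq c h.toB1 ▸ GB.W.le_Ns_IG h.toB1
  refine ⟨⟨h.inv, (act c).mem_Ns, fun g hg => ?_⟩, odd h c, ft h c⟩
  obtain ⟨m, m1, -, m2⟩ := ft h c _ hg (isConj_iff.2 ⟨g, rfl⟩)
  refine (mul_mem_cancel_left (inv_mem m1)).1 (hM (mem_Cz.2 ?_))
  calc _ = m⁻¹ * (m * t * m⁻¹) * g := by group
    _ = _ := by rw [← m2]; group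

theorem jobFU : JobFU.{u} := fun _ _ _ _ _ _ _ _ _ _ _ _ _ _ _ _ _ _ _ h c => gf h c

end H59.UVE
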