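/- STD-UM: elements and subgroups of `SU_(n+1)(q)` in terms of vectors (slot `FV`). -/
import Cfsg.Agent.H59.U5K0

set_option autoImplicit false
set_option linter.unusedSectionVars false

namespace H59.FV5

open H67

open Matrix H57 Subgroup H67 H59.UV
open H67.SA (SLn Au la)

variable {n : ℕ} {K : Type} [Field K] [StarRing K] [CharP K 2] [Finite K]
  {g : XU n K} {k l : ℕ}

theorem add_eq {a b : K} : a + b = 0 ↔ a = b := by rw [← CharTwo.sub_eq_add, sub_eq_zero]

theorem v_eq {u v : Vn n K} (h : u + v = 0) : u = v := funext fun i => add_eq.1 (congrFun h i)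

theorem wk_iff (g : XU n K) (k l : ℕ) : (∀ v, Wk l v → Wk k (ac g v + v)) ↔
    ∀ i j : Fin (n + 1), k ≤ i.val → j.val < l → mt g i j = if i = j then 1 else 0 := by
  refine ⟨fun h i j hi hj => ?_, fun h v hv i hi => ?_⟩
  · have := h _ (wk_ev hj) i hi
    rwa [Pi.add_apply, ac_ev, ev_apply, add_eq] at this
  · rw [Pi.add_apply, add_eq, ac, mulVec, dotProduct, Finset.sum_eq_single i]
    · by_cases e : i.val < l
      · simp [h i i hi e]
      · simp [hv i (not_lt.1 e)]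
    · intro j _ e
      by_cases e' : j.val < l
      · simp [h i j hi e', e.symm]
      · simp [hv j (not_lt.1 e')]
    · simp

theorem wk_top (v : Vn n K) : Wk (n + 1) v := fun i h => absurd i.2 (not_lt.2 h)

theorem wk_zero {v : Vn n K} : Wk 0 v ↔ v = 0 :=
  ⟨fun h => funext fun i => h i (Nat.zero_le _), by rintro rfl _ _; rfl⟩

theorem fix_iff (g : XU n K) (l : ℕ) : (∀ v, Wk l v → ac g v = v) ↔
    ∀ i j : Fin (n + 1), j.val < l → mt g i j = if i = j then 1 else 0 := by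
  have := wk_iff g 0 l
  simp only [wk_zero, Nat.zero_le, forall_true_left] at this
  rw [← this]
  exact forall₂_congr fun v _ => ⟨fun h => by rw [h, v_add_self], v_eq⟩

theorem of_inv {i j : Fin (n + 1)} (h : mt g⁻¹ j.rev i.rev = if j.rev = i.rev then 1 else 0) :
    mt g i j = if i = j then 1 else 0 := by
  rw [inv_apply, Fin.rev_rev, Fin.rev_rev] at h
  rw [← star_star (mt g i j), h]
  simp only [Fin.rev_inj, @eq_comm _ j i]
  split_ifs <;> simp

theorem mem_U (g : XU n K) : g ∈ GA.UU (XU n K) ↔ ∀ k v, Wk (k + 1) v → Wk k (ac g v + v) := by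
  simp only [wk_iff, mem_UU, SA.mem_UU]
  refine ⟨fun h k i j hi hj => ?_, fun h => ⟨fun i => ?_, fun i j e => ?_⟩⟩
  · by_cases e : i = j
    · rw [if_pos e, e]; exact h.1 j
    · rw [if_neg e]; exact h.2 i j (by rw [Fin.lt_def]; rw [Fin.ext_iff] at e; omega)
  · exact (h i.val i i le_rfl (Nat.lt_succ_self _)).trans (if_pos rfl)
  · exact (h i.val i j le_rfl (Nat.lt_succ_of_lt e)).trans (if_neg e.ne')

theorem of_ent {S : Fin (n + 1) → Fin (n + 1) → Prop} (hS : ∀ a, ¬ S a a) :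
    ((∀ a, g.1.1 a a = 1) ∧ ∀ a b, a ≠ b → ¬ S a b → g.1.1 a b = 0) ↔
      ∀ a b, ¬ S a b → mt g a b = if a = b then 1 else 0 := by
  refine ⟨fun h a b e => ?_, fun h => ⟨fun a => ?_, fun a b e e' => ?_⟩⟩
  · by_cases r : a = b
    · rw [if_pos r, r]; exact h.1 b
    · rw [if_neg r]; exact h.2 a b r e
  · exact (h a a (hS a)).trans (if_pos rfl)
  · exact (h a b e').trans (if_neg e)

theorem mem_M (hk : 2 * k ≤ n + 1) (g : XU n K) : g ∈ GA.Mk (XU n K) k ↔ ∀ v, Wk k (ac g v + v) := by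
  rw [mem_Mk, SA.mem_Mk hk, of_ent (fun a => by omega)]
  refine ⟨fun h v => (wk_iff g k (n + 1)).2 (fun i j hi _ => h i j (by omega)) v (wk_top v),
    fun h a b e => ?_⟩
  by_cases r : k ≤ a.val
  · exact (wk_iff g k (n + 1)).1 (fun v _ => h v) a b r b.2
  · refine of_inv ((wk_iff g⁻¹ k (n + 1)).1 (fun v _ => ?_) _ _ (by rw [Fin.val_rev]; omega) a.rev.2)
    simpa [add_comm] using h (ac g⁻¹ v)

theorem mem_Qk' (hk : 2 * k ≤ n + 1) (g : XU n K) : g ∈ GA.Qk (XU n K) k ↔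
    (∀ v, Wk k v → ac g v = v) ∧ ∀ v, Wk (n + 1 - k) v → Wk k (ac g v + v) := by
  rw [mem_Qk, SA.mem_Qk, of_ent (fun a => by omega)]
  refine ⟨fun h => ⟨(fix_iff g k).2 fun i j hj => h i j (by omega),
    (wk_iff g k _).2 fun i j hi hj => h i j (by omega)⟩, fun h a b e => ?_⟩
  by_cases r : b.val < k
  · exact (fix_iff g k).1 h.1 a b r
  by_cases r' : a.val < n + 1 - k
  · exact (wk_iff g k _).1 h.2 a b (by omega) (by omega)
  · exact of_inv ((fix_iff g⁻¹ k).1 (fun v hv => ac_inj g (by rw [ac_ac_inv, h.1 v hv])) _ _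
      (by rw [Fin.val_rev]; omega))

theorem Qk_top (hg : g ∈ GA.Qk (XU n K) k) (hk : 2 * k ≤ n + 1) (v : Vn n K) :
    Wk (n + 1 - k) (ac g v + v) := by
  rw [mem_Qk, SA.mem_Qk, of_ent (fun a => by omega)] at hg
  exact (wk_iff g _ (n + 1)).2 (fun i j hi _ => hg i j (by omega)) v (wk_top v)

theorem M_le_Q (hk : 2 * k ≤ n + 1) : GA.Mk (XU n K) k ≤ GA.Qk (XU n K) k := fun g hg => by
  rw [mem_Mk, SA.mem_Mk hk] at hg
  rw [mem_Qk, SA.mem_Qk]
  exact ⟨hg.1, fun a b e r => hg.2 a b e (by omega)⟩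

theorem wk_perp (hk : k ≤ n + 1) (v : Vn n K) : Wk (n + 1 - k) v ↔ ∀ w, Wk k w → hf v w = 0 :=
  ⟨fun h _ hw => h.perp hw (by omega), fun h i hi => by
    simpa [hf_ev_right] using h (ev i.rev) (wk_ev (by rw [Fin.val_rev]; omega))⟩

theorem EE_add {u x : Vn n K} {c : K} (h : Ok u x c) (y : Vn n K) :
    ac (EE u x c) y + y = hf y x • u + hf y u • x + (c * hf y u) • u := by
  rw [ac_EE h, add_comm, ← add_assoc, ← add_assoc, ← add_assoc, v_add_self, zero_add]

theorem EE_M (hk : 2 * k ≤ n + 1) (u x : Vn n K) (c : K) (h : Ok u x c) (hu : Wk k u) (hx : Wk k x) :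
    EE u x c ∈ GA.Mk (XU n K) k := (mem_M hk _).2 fun v => by
  rw [EE_add h]; exact ((hu.smul _).add (hx.smul _)).add (hu.smul _)

theorem EE_Q (hk : 2 * k ≤ n + 1) (u x : Vn n K) (c : K) (h : Ok u x c) (hu : Wk k u)
    (hx : Wk (n + 1 - k) x) : EE u x c ∈ GA.Qk (XU n K) k := (mem_Qk' hk _).2
  ⟨fun v hv => ac_EE_fix h (hv.perp hu (by omega)) (hv.perp hx (by omega)), fun v hv => by
    rw [EE_add h, hv.perp hu (by omega), zero_smul, add_zero]; exact (hu.smul _).add (hu.smul _)⟩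

/-- An element of `Qk k` fixing the last `k` basis vectors is trivial. -/
theorem eq_one (hk : 2 * k ≤ n + 1) (hg : g ∈ GA.Qk (XU n K) k)
    (h : ∀ i : Fin (n + 1), i.val < k → ac g (ev i.rev) = ev i.rev) : g = 1 := by
  refine X_ext (Matrix.ext fun a b => ?_)
  rw [← ac_ev, ← ac_ev, ac_one]
  by_cases r : b.val < n + 1 - k
  · by_cases r' : a.val < k
    · have := hf_ac g (ev b) (ev a.rev)
      rwa [h a r', hf_ev_right, hf_ev_right, Fin.rev_rev] at this
    · exact add_eq.1 (((mem_Qk' hk g).1 hg).2 _ (wk_ev r) a (not_lt.1 r'))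
  · have := h b.rev (by rw [Fin.val_rev]; omega)
    rw [Fin.rev_rev] at this
    rw [this]

/-- One step of the reduction. -/
theorem step (hk : 2 * k ≤ n + 1) (hg : g ∈ GA.Qk (XU n K) k) {m : Fin (n + 1)} (hm : m.val < k)
    (hl : k ≤ l) (h : Wk l (ac g (ev m.rev) + ev m.rev)) : ∃ x c, Ok (ev m) x c ∧ Wk l x ∧
      ac (EE (ev m) x c) (ev m.rev) = ac g (ev m.rev) ∧ ∀ i : Fin (n + 1), i.val < k → i ≠ m →
        ac g (ev i.rev) = ev i.rev → ac (EE (ev m) x c) (ev i.rev) = ev i.rev := by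
  have w := Qk_top hg hk (ev m.rev)
  have i0 : Iso (ac g (ev m.rev)) := (ev_iso (fun e => by
    rw [Fin.ext_iff, Fin.rev_rev, Fin.val_rev] at e; omega)).ac g
  have p : ∀ i : Fin (n + 1), ac g (ev i.rev) = ev i.rev → ac g (ev m.rev) i = ev (K := K) m.rev i :=
    fun i e => by
      have := hf_ac g (ev m.rev) (ev i.rev)
      rwa [e, hf_ev_right, hf_ev_right, Fin.rev_rev] at this
  have e : ac g (ev m.rev) = ev m.rev + (ac g (ev m.rev) + ev m.rev) := by
    rw [add_comm (ac g _), ← add_assoc, v_add_self, zero_add]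
  generalize ac g (ev m.rev) + ev m.rev = y at h w e
  obtain ⟨x, hx⟩ : ∃ x, x = y + y m • ev m := ⟨_, rfl⟩
  have x0 : x m = 0 := by simp [hx, ev_apply, CharTwo.add_self_eq_zero]
  have xw : Wk (n + 1 - k) x := hx ▸ w.add ((wk_ev (by omega)).smul _)
  have yx : y = x + y m • ev m := by rw [hx, add_assoc, v_add_self, add_zero]
  have mm : m ≠ m.rev := fun e => by rw [Fin.ext_iff, Fin.val_rev] at e; omega
  have xu : hf x (ev m) = 0 := xw.perp (wk_ev hm) (by omega)
  have ok : Ok (ev m) x (y m) := ⟨ev_iso mm, xu, by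
    rw [e, yx] at i0
    generalize y m = c at i0
    simp only [Iso, hf_add_left, hf_add_right, hf_smul_left, hf_smul_right, xu, hf_symm xu, hf_ev,
      Fin.rev_rev, if_true, if_neg mm, if_neg mm.symm, hf_ev_left m.rev x, hf_ev_right x m.rev, x0,
      star_zero] at i0
    linear_combination i0 - hf x x * two0 K⟩
  refine ⟨x, y m, ok, hx ▸ h.add ((wk_ev (by omega)).smul _), ?_, fun i hi r f => ac_EE_fix ok ?_ ?_⟩
  · rw [ac_EE ok, hf_ev_left, hf_ev, Fin.rev_rev, x0, e]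
    simp [← yx, add_assoc]
  · rw [hf_ev, Fin.rev_rev, if_neg r.symm]
  · have := p i f
    rw [e, Pi.add_apply, add_eq_left] at this
    simp [hf_ev_left, hx, this, ev_apply, r]

theorem gen (hk : 2 * k ≤ n + 1) (hl : k ≤ l) {D H : Subgroup (XU n K)} (hD : D ≤ GA.Qk (XU n K) k)
    (h1 : ∀ g ∈ D, ∀ v, Wk l (ac g v + v))
    (h2 : ∀ u x c, Ok u x c → Wk k u → Wk l x → EE u x c ∈ D ∧ EE u x c ∈ H) : D ≤ H := by
  have key : ∀ d, ∀ g ∈ D, (∀ i : Fin (n + 1), i.val + d < k → ac g (ev i.rev) = ev i.rev) → g ∈ H := by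
    intro d
    induction d with
    | zero => exact fun g hg h => eq_one hk (hD hg) h ▸ one_mem H
    | succ d ih =>
      intro g hg h
      by_cases r : d < k
      swap
      · exact ih g hg fun i hi => by omega
      obtain ⟨x, c, ok, xw, e, f⟩ := step hk (hD hg) (m := ⟨k - d - 1, by omega⟩) (by simp; omega) hl
        (h1 g hg _)
      obtain ⟨a, b⟩ := h2 _ x c ok (wk_ev (by simp; omega)) xw
      refine (mul_mem_cancel_left (inv_mem b)).1 (ih _ (mul_mem (inv_mem a) hg) fun i hi => ?_)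
      rw [ac_mul]
      by_cases s : i = ⟨k - d - 1, by omega⟩
      · rw [s, ← e, ac_inv_ac]
      · have t := h i (by rw [Fin.ext_iff] at s; simp at s; omega)
        rw [t, ← f i (by omega) s t, ac_inv_ac, f i (by omega) s t]
  exact fun g hg => key k g hg fun i hi => by omega

theorem Tc_eq [FQ K] {c : K} (hc : star c = c) (u : Vn n K) : Tc c u = TT (rt c • u) := by
  rw [TT, Tc_smul, nm, FQ.star_rt, hc, ← sq, rt_sq, mul_one]

theorem gen_M [FQ K] (hk : 2 * k ≤ n + 1) (H : Subgroup (XU n K)) (h : ∀ v, Wk k v → TT v ∈ H) :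
    GA.Mk (XU n K) k ≤ H := gen hk le_rfl (M_le_Q hk) (fun g hg => (mem_M hk g).1 hg)
  fun u x c ok hu hx => ⟨EE_M hk u x c ok hu hx, by
    have p := hu.pp hx hk
    have hc : star c = c := tr_eq_zero.1 (ok.tr.trans p.r)
    have : EE u x c = qq x u * Tc c u := by rw [EE_mul p.ok (ok_zero p.l hc)]; simp
    rw [this, qq_eq_TT p, Tc_eq hc]
    exact mul_mem (mul_mem (mul_mem (h _ (hu.add hx)) (h _ hu)) (h _ hx)) (h _ (hu.smul _))⟩

theorem gen_Q (hk : 2 * k ≤ n + 1) (H : Subgroup (XU n K))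
    (h : ∀ u x c, Ok u x c → Wk k u → Wk (n + 1 - k) x → EE u x c ∈ H) : GA.Qk (XU n K) k ≤ H :=
  gen hk (by omega) le_rfl (fun _ hg => Qk_top hg hk) fun u x c ok hu hx =>
    ⟨EE_Q hk u x c ok hu hx, h u x c ok hu hx⟩

theorem Tc_val (i : Fin (n + 1)) (c : K) (h : i ≠ i.rev) (hc : star c = c) :
    (Tc c (ev i)).1 = SA.x i i.rev c := Subtype.ext (by
  rw [SA.x_coe h]
  refine (mt_EE (ok_zero (ev_iso h) hc)).trans ?_
  have := op_ev (K := K) i i.rev
  rw [Fin.rev_rev] at this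
  simp [mE, this])

theorem ss_val (i j : Fin (n + 1)) (a : K) (hi : i ≠ i.rev) (hj : j ≠ j.rev) (h : i ≠ j) (_ : j ≠ i.rev) :
    (ss i j a).1 = SA.x i j a * SA.x j.rev i.rev (star a) := Subtype.ext (by
  have p : Pp (ev j.rev : Vn n K) (a • ev i) := by
    simpa using (pp_ev (K := K) (i := j.rev) (j := i) (by simpa using hj.symm) hi (by simpa using h)).smul 1 a
  rw [SA.val_mul, SA.x_coe h, SA.x_coe (fun e => h (Fin.rev_inj.1 e).symm)]
  refine (mt_EE p.ok).trans ?_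
  have := op_ev (K := K) j.rev i.rev
  rw [Fin.rev_rev] at this
  simp only [mE, op_smul_left, op_smul_right, this, op_ev, zero_smul, add_zero, add_mul, mul_add, one_mul,
    mul_one, single_mul_single_of_ne _ _ _ _ hj, smul_single, smul_eq_mul]
  abel)

theorem xk_val (hk : 2 * k ≤ n + 1) : (GA.xk (XU n K) k).1 = SA.xk K n k := by
  have : SA.xk K n k ∈ H64.SG.fx (tau n K) := mem_XU_iff.2 (by
    have : (of fun i j => star ((SA.xk K n k).1 j.rev i.rev)) = (SA.xk K n k).1 := by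
      ext i j
      rw [of_apply, SA.xk_apply, SA.xk_apply, star_add]
      simp only [Fin.rev_inj, @eq_comm _ j i, Fin.lt_def, Fin.val_rev, apply_ite (star : K → K), star_one,
        star_zero]
      congr 1
      exact if_congr (by omega) rfl rfl
    rw [this, ← SA.val_mul, SA.sq_Mk hk (SA.xk_mem_Mk hk), SA.val_one])
  exact Subtype.ext (mt_mk ⟨⟨_, this⟩, rfl⟩)

theorem tau_sc (g : SLn n K) (c : K) (h : g * g = 1) :
    tau n K (SA.sc c g) = SA.sc (star c) (tau n K g) := by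
  have k : ∀ s : SLn n K, s * s = 1 → ∀ i j, (tau n K s).1 i j = star (s.1 j.rev i.rev) := fun s hs i j => by
    rw [← tau_inv_apply, inv_eq_of_mul_eq_one_right hs]
  refine Subtype.ext (Matrix.ext fun i j => ?_)
  rw [k _ (SA.sc_sq h c), SA.sc_val h, SA.sc_val (by rw [← map_mul, h, map_one])]
  simp only [Matrix.add_apply, Matrix.smul_apply, Matrix.sub_apply, k g h, one_apply, Fin.rev_inj,
    @eq_comm _ j i, smul_eq_mul, star_add, star_mul', star_sub, apply_ite (star : K → K), star_one, star_zero]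

theorem diag [FQ K] (d : Fin (n + 1) → K) (h : ∀ i, d i * star (d i.rev) = 1) (h' : ∏ i, d i = 1) :
    ∃ g : XU n K, mt g = diagonal d ∧ Odd (orderOf g) ∧ ∀ v i, ac g v i = d i * v i := by
  obtain ⟨g, hg⟩ := exists_X (diagonal d) (by rw [det_diagonal, h']) fun x y =>
    Finset.sum_congr rfl fun i _ => by
      rw [mulVec_diagonal, mulVec_diagonal, star_mul']
      linear_combination x i * star (y i.rev) * h i
  refine ⟨g, hg, ?_, fun v i => by rw [ac, hg, mulVec_diagonal]⟩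
  have o : Odd (∏ i, orderOf (d i)) := Finset.prod_induction _ Odd (fun _ _ => Odd.mul) odd_one
    fun i _ => FQ.odd _ (left_ne_zero_of_mul_eq_one (h i))
  refine o.of_dvd_nat (orderOf_dvd_of_pow_eq_one (X_ext ?_))
  have : ∀ N, mt (g ^ N) = diagonal (d ^ N) := fun N => by
    rw [← diagonal_pow, ← hg]; rfl
  rw [this, mt_one, ← diagonal_one]
  exact congrArg diagonal (funext fun i =>
    orderOf_dvd_iff_pow_eq_one.1 (Finset.dvd_prod_of_mem _ (Finset.mem_univ i)))

theorem perm (π : Equiv.Perm (Fin (n + 1))) (h : ∀ i, π i.rev = (π i).rev) :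
    ∃ g : XU n K, g.1 = SA.pm π ∧ ∀ i, ac g (ev i) = ev (π i) := by
  have : (of fun i j => star ((SA.pm (F := K) π).1 j.rev i.rev)) = (SA.pm (F := K) π⁻¹).1 := by
    ext i j
    rw [of_apply, SA.pm_apply, SA.pm_apply, h]
    by_cases e : j = π i
    · simp [e]
    · rw [if_neg (fun e' => e (Fin.rev_inj.1 e')), if_neg (fun e' => e (by simp [e'])), star_zero]
  refine ⟨⟨SA.pm π, mem_XU_iff.2 (by rw [this, SA.pm_inv, SA.val_mul_inv])⟩, rfl, fun i => funext fun j => ?_⟩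
  rw [ac_ev, ev_apply]; exact SA.pm_apply π j i

theorem eig (hg : g ∈ center (XU n K)) {v : Vn n K} (h : Iso v) : ∃ a : K, ac g v = a • v := by
  by_cases h0 : v = 0
  · exact ⟨0, by simp [h0]⟩
  obtain ⟨i, hi⟩ := Function.ne_iff.1 h0
  obtain ⟨z, hz⟩ : ∃ z, hf z v = 1 := ⟨(star (v i))⁻¹ • ev i.rev, by
    rw [hf_smul_left, hf_ev_left, Fin.rev_rev, inv_mul_cancel₀ (by simpa using hi)]⟩
  have e := Tc_conj h (star_one K) g
  rw [← mem_center_iff.1 hg, mul_inv_cancel_right] at e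
  have e1 := ac_Tc h (star_one K) z
  rw [e, ac_Tc (h.ac g) (star_one K), add_right_inj, hz, one_mul, one_mul, one_smul] at e1
  generalize hf z (ac g v) = t at e1
  have t0 : t ≠ 0 := by rintro rfl; exact h0 (by simpa using e1.symm)
  exact ⟨t⁻¹, by rw [eq_inv_smul_iff₀ t0, e1]⟩

variable [hp : Par n K]

include hp in
theorem two_le : 2 * 1 ≤ n + 1 := by have := hp.five; omega

theorem xk_one : GA.xk (XU n K) 1 = TT (ev 0) := Subtype.ext (by
  have h0 : (0 : Fin (n + 1)) ≠ (0 : Fin (n + 1)).rev := fun e => by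
    have := hp.five
    rw [Fin.ext_iff, Fin.val_rev] at e; simp at e; omega
  rw [xk_val (two_le (K := K)), Tc_val _ _ h0 (star_one K)]
  refine Subtype.ext (Matrix.ext fun a b => ?_)
  rw [SA.xk_apply, SA.x_apply h0]
  congr 1
  refine if_congr ?_ rfl rfl
  have := hp.five
  simp only [Fin.ext_iff, Fin.lt_def, Fin.val_rev, Fin.val_zero]
  omega)

theorem ex_Q {g : XU n K} (hg : g ∈ GA.QQ (XU n K)) (hl : 1 ≤ l) (h : Wk l (ac g (ev (0 : Fin (n + 1)).rev) +
    ev (0 : Fin (n + 1)).rev)) (hn : l ≤ n) : ∃ x c, Ok (ev 0) x c ∧ Wk l x ∧ g = EE (ev 0) x c := by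
  obtain ⟨x, c, ok, xw, e, -⟩ := step (two_le (K := K)) hg (m := 0) Nat.one_pos hl h
  refine ⟨x, c, ok, xw, (inv_mul_eq_one.1 (eq_one (two_le (K := K)) (mul_mem (inv_mem hg)
    (EE_Q (two_le (K := K)) _ x c ok (w0 le_rfl) (xw.mono (by omega)))) fun i hi => ?_))⟩
  obtain rfl : i = 0 := Fin.ext (by simpa using hi)
  rw [ac_mul, e, ac_inv_ac]

theorem mem_Q (g : XU n K) : g ∈ GA.QQ (XU n K) ↔ ∃ x c, Ok (ev 0) x c ∧ g = EE (ev 0) x c := by
  have := hp.five
  refine ⟨fun hg => ?_, ?_⟩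
  · obtain ⟨x, c, a, -, b⟩ := ex_Q hg (l := n + 1 - 1) (by omega) (Qk_top hg (two_le (K := K)) _) (by omega)
    exact ⟨x, c, a, b⟩
  · rintro ⟨x, c, ok, rfl⟩
    refine EE_Q (two_le (K := K)) _ x c ok (w0 le_rfl) fun i hi => ?_
    obtain rfl : i = (0 : Fin (n + 1)).rev := Fin.ext (by rw [Fin.val_rev]; simp; omega)
    rw [← hf_ev_right x, ok.perp]

theorem mem_Z (g : XU n K) : g ∈ GA.ZZ (XU n K) ↔ ∃ c, star c = c ∧ g = Tc c (ev 0) := by
  have := hp.five
  refine ⟨fun hg => ?_, ?_⟩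
  · obtain ⟨x, c, ok, xw, rfl⟩ := ex_Q (M_le_Q (two_le (K := K)) hg) le_rfl
      ((mem_M (two_le (K := K)) g).1 hg _) (by omega)
    have e : x = 0 + x 0 • ev 0 := funext fun i => by
      by_cases r : i = 0
      · simp [r, ev_apply]
      · simp [ev_apply, r, xw i (Nat.pos_of_ne_zero fun e => r (Fin.ext e))]
    refine ⟨c + tr (x 0), ?_, by rw [Tc, ← EE_shift, ← e]⟩
    rw [star_add, star_tr, tr_eq_zero.1 (ok.tr.trans (xw.pp xw (two_le (K := K))).l)]
  · rintro ⟨c, hc, rfl⟩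
    exact EE_M (two_le (K := K)) _ _ c (ok_zero iso0 hc) (w0 le_rfl) fun _ _ => rfl

theorem root [FQ K] (g : XU n K) (h : GA.Root g) : ∃ v, v ≠ 0 ∧ Iso v ∧ g = TT v := by
  obtain ⟨p, z, hz, z1, rfl⟩ := h
  obtain ⟨c, hc, rfl⟩ := (mem_Z z).1 hz
  refine ⟨rt c • ac p (ev 0), smul_ne_zero (rt_ne ?_) fun e => ev_ne (K := K) 0 (ac_inj p (by simpa using e)),
    (iso0.ac p).smul _, by rw [Tc_conj iso0 hc, Tc_eq hc]⟩
  rintro rfl
  exact z1 (EE_zero _)

theorem cen [FQ K] (g : XU n K) : g ∈ center (XU n K) ↔ ∃ a : K, ∀ v, ac g v = a • v := by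
  refine ⟨fun hg => ?_, fun ⟨a, h⟩ => mem_center_iff.2 fun p => ac_ext fun v => by
    rw [ac_mul, ac_mul, h, h, ac_smul]⟩
  obtain ⟨a, ha⟩ := eig hg (iso0 (n := n) (K := K))
  have k : ∀ v, Iso v → hf v (ev 0) = 1 → ac g v = (star a)⁻¹ • v := fun v hv e => by
    obtain ⟨b, hb⟩ := eig hg hv
    have := hf_ac g v (ev 0)
    rw [ha, hb, hf_smul_left, hf_smul_right, e, mul_one] at this
    rw [hb, eq_inv_of_mul_eq_one_left this]
  generalize (star a)⁻¹ = b at k
  obtain ⟨z, z0, z1⟩ : ∃ z : Vn n K, Iso z ∧ hf z (ev 0) = 1 := ⟨ev (0 : Fin (n + 1)).rev,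
    ev_iso (fun e => by
      have := hp.five
      rw [Fin.ext_iff, Fin.rev_rev, Fin.val_rev] at e; simp at e; omega), by simp [hf_ev]⟩
  have k1 : ∀ x c, Ok (ev 0) x c → ac g (hf z x • ev 0 + x + c • ev 0) = b • (hf z x • ev 0 + x + c • ev 0) :=
    fun x c ok => by
      have e := EE_add ok z
      rw [z1, one_smul, mul_one] at e
      rw [← e, ac_add, smul_add, k z z0 z1, k _ (z0.ac _) (by
        have := hf_ac (EE (ev 0) x c) z (ev 0)
        rwa [ac_EE_self ok, z1] at this)]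
  have k2 : ac g (ev 0) = b • ev 0 := by simpa using k1 0 1 (ok_zero iso0 (star_one K))
  refine ⟨b, fun v => ?_⟩
  obtain ⟨x, hx⟩ : ∃ x, x = v + hf v (ev 0) • z := ⟨_, rfl⟩
  have x0 : hf x (ev 0) = 0 := by rw [hx, hf_add_left, hf_smul_left, z1, mul_one, CharTwo.add_self_eq_zero]
  obtain ⟨c, hc⟩ := FQ.trs (hf x x) (star_hf x x)
  have k3 := k1 x c ⟨iso0, x0, hc⟩
  simp only [ac_add, ac_smul, k2, smul_add, smul_comm b, add_left_inj, add_right_inj] at k3
  rw [hx, ac_add, ac_smul, k z z0 z1, smul_add, smul_comm b, add_left_inj] at k3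
  exact k3

theorem cen' [FQ K] (g : XU n K) : g ∈ center (XU n K) ↔ g.1 ∈ center (SLn n K) := by
  refine ⟨fun hg => ?_, fun h => mem_center_iff.2 fun p => Subtype.ext (mem_center_iff.1 h p.1)⟩
  obtain ⟨a, ha⟩ := (cen g).1 hg
  have : g.1.1 = a • (1 : Matrix _ _ K) := Matrix.ext fun i j => by
    refine (ac_ev g j i).symm.trans ?_
    rw [ha]; simp [ev_apply, one_apply]
  exact mem_center_iff.2 fun p => Subtype.ext (by rw [SA.val_mul, SA.val_mul, this]; simp)

theorem jobFV : JobFV := fun n K _ _ _ _ hp _ =>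
  { out_tau := by
      have : 2 ≤ n := by have := hp.five; omega
      rw [tau, map_mul, SA.out_gam this, SA.out_slField this]; simp
    tau_sc := tau_sc
    xk_val := fun _ => xk_val
    xk_one := xk_one
    ss_val := ss_val
    Tc_val := Tc_val
    mem_Z := mem_Z
    mem_Q := mem_Q
    mem_U := mem_U
    mem_M := fun _ => mem_M
    mem_Qk := fun _ => mem_Qk'
    wk_perp := fun _ => wk_perp
    EE_M := fun _ => EE_M
    EE_Q := fun _ => EE_Q
    gen_M := fun _ => gen_M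
    gen_Q := fun _ => gen_Q
    root := root
    diag := diag
    perm := perm
    cen := cen
    cen' := cen' }

end H59.FV5
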