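import Cfsg.Agent.H59.U5K0

/-! STD-U5: `JobHM4`; `hm_of_sq` gives `HM` for every `q` once the `τ v` are involutions. -/

set_option autoImplicit false
set_option linter.unusedSectionVars false

namespace H59.UV

open H67

open H64.SG (O2 Syl Cz Cs Ns cjs Is2 Inv2 UF IsO2 fx mem_Cs mem_Cz is2_of_sq)
open Matrix H57 Subgroup
open H67.SA (SLn Au la St cI cm)
open H67.GA (B1 CE CH CP CW CF)

universe u

namespace HM4

section Abs

variable {K : Type} [Field K] [StarRing K] [CharP K 2] [Finite K] [FQ K] {C : Type u} [AddCommGroup C]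

/-- `x`, `x'` are independent over the fixed field -/
def In (x x' : K) : Prop := tr (x * star x') ≠ 0

theorem In.l {x x' : K} (h : In x x') : x ≠ 0 := by rintro rfl; simp [In] at h
theorem In.r {x x' : K} (h : In x x') : x' ≠ 0 := by rintro rfl; simp [In] at h
theorem In.s {x x' : K} (h : In x x') : x + x' ≠ 0 := fun e => by
  rw [CharTwo.add_eq_zero.1 e] at h
  exact h (tr_eq_zero.2 (star_nm x'))

theorem ext_add {g : K → C} (h0 : g 0 = 0) (h2 : ∀ x, g x + g x = 0)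
    (h : ∀ x x', In x x' → g x + g x' + g (x + x') = 0) (x x' : K) : g (x + x') = g x + g x' := by
  have k : ∀ x x', In x x' → g (x + x') = g x + g x' := fun x x' a => by
    linear_combination (norm := abel1) h x x' a - h2 x - h2 x'
  by_cases a : In x x'
  · exact k x x' a
  by_cases hx : x = 0
  · simp [hx, h0]
  by_cases hx' : x' = 0
  · simp [hx', h0]
  by_cases hs : x + x' = 0
  · rw [hs, h0, CharTwo.add_eq_zero.1 hs, h2]
  obtain ⟨η, hη⟩ := FQ.eta (K := K)
  have a' : star (x * star x') = x * star x' := tr_eq_zero.1 (not_not.1 a)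
  have sx : star x ≠ 0 := by simpa using hx
  have i : ∀ y : K, y ≠ 0 → star (x * star y) = x * star y → In y (η * x) := fun y hy e => by
    have : tr (y * star (η * x)) = x * star y := by
      simp only [tr, star_mul', star_star] at e hη ⊢
      linear_combination (x * star y) * hη + star η * e
    rw [In, this]
    exact mul_ne_zero hx (by simpa using hy)
  have i1 := i x' hx' a'
  have i2 := i (x + x') hs (by rw [star_add, mul_add, star_add, a']; exact congrArg (· + _) (star_nm x))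
  have i3 : In x (x' + η * x) := by
    have := i x hx (star_nm x)
    rw [In, star_add, mul_add, tr, star_add, a'] at *
    intro e; apply this
    linear_combination e - x * star x' * two0 K
  have e1 := k _ _ i2
  rw [add_assoc, k _ _ i3, k _ _ i1] at e1
  linear_combination (norm := abel1) -e1

theorem core {B : K → K → C} (h1 : ∀ x x' y, B (x + x') y = B x y + B x' y)
    (h2 : ∀ x y y', B x (y + y') = B x y + B x y') (h3 : ∀ a x y, nm a = 1 → B (a * x) (a * y) = B x y)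
    (a x y : K) : B (a * x) y = B x (star a * y) := by
  have z1 : ∀ y, B 0 y = 0 := fun y => by simpa using h1 0 0 y
  have z2 : ∀ x, B x 0 = 0 := fun x => by simpa using h2 x 0 0
  let R : Subring K :=
    { carrier := {a | ∀ x y, B (a * x) y = B x (star a * y)}
      one_mem' := fun x y => by simp
      mul_mem' := fun {a b} ha hb x y => by rw [mul_assoc, ha, hb, star_mul, mul_assoc]
      zero_mem' := fun x y => by simp [z1, z2]
      add_mem' := fun {a b} ha hb x y => by rw [add_mul, h1, ha, hb, star_add, add_mul, h2]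
      neg_mem' := fun {a} ha => by rwa [CharTwo.neg_eq] }
  have hR : R = ⊤ := FQ.core R fun a ha x y => by
    rw [← h3 a x _ ha, ← mul_assoc, show a * star a = 1 from ha, one_mul]
  exact (hR ▸ Subring.mem_top a : a ∈ R) x y

variable (F : K × K → C)

/-- the polar form -/
def Bf (a b : K × K) : C := F (a + b) - F a - F b
/-- the sum over a triple in the first coordinate -/
def R0 (x x' : K) (b : K × K) : C := Bf F (x, 0) b + Bf F (x', 0) b + Bf F (x + x', 0) b
/-- the sum over a triple in the second coordinate -/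
def R1 (x x' : K) (b : K × K) : C := Bf F (0, x) b + Bf F (0, x') b + Bf F (0, x + x') b

theorem Bf_comm (a b : K × K) : Bf F a b = Bf F b a := by rw [Bf, Bf, add_comm]; abel

variable {F}

theorem R0_inv (h4 : ∀ a, F a + F a + (F a + F a) = 0) (x x' : K) :
    R0 F x x' (x, 1) = R0 F x x' (0, 1) ∧ R0 F x x' (x', 1) = R0 F x x' (0, 1) := by
  simp only [R0, Bf, Prod.mk_add_mk, add_zero, zero_add, CharTwo.add_self_eq_zero,
    add_comm x' x, show x + x' + x = x' by linear_combination x * two0 K,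
    show x + x' + x' = x by linear_combination x' * two0 K]
  exact ⟨by linear_combination (norm := abel1) h4 (0, 1) - h4 (x, 1),
    by linear_combination (norm := abel1) h4 (0, 1) - h4 (x', 1)⟩

/-- the input -/
def H0 (F : K × K → C) : Prop := ∀ x x', In x x' → ∃ z z' : C, z + z = 0 ∧ z' + z' = 0 ∧
  (z = z' → z = 0) ∧ (∀ c y, y ≠ 0 → R0 F x x' (c, y) = z) ∧ ∀ y, y ≠ 0 → R1 F x x' (y, 0) = z'

theorem tri (h : H0 F) {x x' : K} (a : In x x') : (∀ c y, y ≠ 0 → R0 F x x' (c, y) = 0) ∧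
    ∀ y, y ≠ 0 → R1 F x x' (y, 0) = 0 := by
  obtain ⟨z, z', h1, h2, h3, h4, h5⟩ := h x x' a
  have e : z = z' := by
    have a1 := h4 0 _ a.l
    have a2 := h4 0 _ a.r
    have a3 := h4 0 _ a.s
    have b1 := h5 _ a.l
    have b2 := h5 _ a.r
    have b3 := h5 _ a.s
    simp only [R0, R1, Bf_comm F (0, _) (_, 0)] at a1 a2 a3 b1 b2 b3
    linear_combination (norm := abel1) b1 + b2 + b3 - a1 - a2 - a3 - h1 + h2
  obtain rfl := h3 e
  exact ⟨h4, fun y hy => (h5 y hy).trans e.symm⟩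

theorem dbl (h : H0 F) {η c : K} (hη : tr η = 1) (hc : star c = c) (c0 : c ≠ 0) :
    Bf F (η, 0) (0, 1) + Bf F (η, 0) (0, 1) = Bf F (c * η, 0) (0, 1) + Bf F (c * η, 0) (0, 1) := by
  have i : ∀ x x' : K, tr (x * star x') = 1 ∨ tr (x * star x') = c → R0 F x x' (0, 1) = 0 :=
    fun x x' e => (tri h (by
      rcases e with e | e <;> rw [In, e]
      exacts [one_ne_zero, c0])).1 0 1 one_ne_zero
  simp only [tr, star_mul', star_star] at i hη
  have a1 := i 1 η (Or.inl (by simp only [star_one]; linear_combination hη))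
  have a2 := i (1 + η) (c * η) (Or.inr (by
    simp only [star_one, star_add, star_mul', hc]
    linear_combination c * hη + c * η * star η * two0 K))
  have a3 := i 1 (c * η) (Or.inr (by simp only [star_one, star_mul', hc]; linear_combination c * hη))
  have a4 := i (1 + c * η) η (Or.inl (by
    simp only [star_one, star_add, star_mul', hc]
    linear_combination hη + c * η * star η * two0 K))
  simp only [R0, add_right_comm 1 (c * η) η] at a1 a2 a3 a4
  linear_combination (norm := abel1) a1 - a2 - a3 + a4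

theorem quad (h : H0 F) (h0 : F 0 = 0) (h2 : ∀ a, F a + F a = 0)
    (hn : ∀ a x y, nm a = 1 → F (a * x, a * y) = F (x, y)) :
    (∀ x x', Bf F (x + x', 0) (0, 1) = Bf F (x, 0) (0, 1) + Bf F (x', 0) (0, 1)) ∧
    (∀ x y, Bf F (x, 0) (0, y) = Bf F (star y * x, 0) (0, 1)) ∧
    ∀ a b, star a = a → star b = b → F (a + b, 0) = F (a, 0) + F (b, 0) := by
  have b2 : ∀ a b, Bf F a b + Bf F a b = 0 := fun a b => by
    simp only [Bf]; linear_combination (norm := abel1) h2 (a + b) - h2 a - h2 b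
  have b0 : ∀ b, Bf F 0 b = 0 := fun b => by simp [Bf, h0]
  have l1 : ∀ c y, y ≠ 0 → ∀ x x', Bf F (x + x', 0) (c, y) = Bf F (x, 0) (c, y) + Bf F (x', 0) (c, y) :=
    fun c y hy => ext_add (g := fun x => Bf F (x, 0) (c, y)) (b0 _) (fun _ => b2 _ _)
      fun x x' a => (tri h a).1 c y hy
  have l2 : ∀ x x' y, Bf F (x + x', 0) (0, y) = Bf F (x, 0) (0, y) + Bf F (x', 0) (0, y) :=
    fun x x' y => by
      by_cases hy : y = 0
      · simp only [hy, Bf_comm F _ (0, 0)]
        simp [← Prod.zero_eq_mk, b0]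
      · exact l1 0 y hy x x'
  have l3 : ∀ x y y', Bf F (x, 0) (0, y + y') = Bf F (x, 0) (0, y) + Bf F (x, 0) (0, y') :=
    fun x y y' => by
      by_cases hx : x = 0
      · simp [hx, ← Prod.zero_eq_mk, b0]
      simp only [Bf_comm F (x, 0)]
      exact ext_add (g := fun y => Bf F (0, y) (x, 0)) (b0 _) (fun _ => b2 _ _)
        (fun y y' a => (tri h a).2 x hx) y y'
  have n0 : ∀ a x, nm a = 1 → F (a * x, 0) = F (x, 0) := fun a x ha => by simpa using hn a x 0 ha
  have n1 : ∀ a x, nm a = 1 → F (0, a * x) = F (0, x) := fun a x ha => by simpa using hn a 0 x ha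
  refine ⟨fun x x' => l2 x x' 1, fun x y => ?_, fun a b ha hb => ?_⟩
  · rw [core (B := fun x y => Bf F (x, 0) (0, y)) l2 l3 fun a x y ha => by
      simp [Bf, hn a _ _ ha, n0 a _ ha, n1 a _ ha]]
    simp
  have m1 : ∀ x x' c, Bf F (x + x', 0) (c, 0) = Bf F (x, 0) (c, 0) + Bf F (x', 0) (c, 0) :=
    fun x x' c => by
      have k : ∀ x, Bf F (x, 0) (c, 0) =
          Bf F (x, 0) (c, 1) - Bf F (x + c, 0) (0, 1) + Bf F (c, 0) (0, 1) := fun x => by
        simp only [Bf, Prod.mk_add_mk, add_zero, zero_add]; abel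
      rw [k, k, k, l1 c 1 one_ne_zero, l2, l2, l2, l2]
      abel
  have m2 := core (B := fun x y => Bf F (x, 0) (y, 0)) m1
    (fun x y y' => by simp only [Bf_comm F (x, 0), m1]) fun a x y ha => by
      simp [Bf, ← mul_add, n0 a _ ha]
  obtain ⟨d, hd⟩ := FQ.trs (a * b) (by rw [star_mul', ha, hb])
  have m3 : Bf F (a, 0) (b, 0) = 0 := by
    have e1 := m2 b a 1
    have e2 := m2 (star d) 1 1
    simp only [hb, mul_one, star_star] at e1 e2
    rw [← e1, mul_comm, ← hd, tr, m1, e2, Bf_comm F (1, 0), b2]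
  simp only [Bf, Prod.mk_add_mk, add_zero] at m3
  linear_combination (norm := abel1) m3

end Abs

variable {n : ℕ} {K : Type} [Field K] [StarRing K] [CharP K 2] [Finite K]

/-- the coordinates on `Mk 2` -/
def co (i j : Fin (n + 1)) (m : XU n K) : K := hf (ac m (ev j.rev)) (ev i.rev)
/-- the vector `x e₀ + y e₁` -/
def jv (a : K × K) : Vn n K := a.1 • ev 0 + a.2 • ev 1

theorem jv_add (a b : K × K) : (jv (a + b) : Vn n K) = jv a + jv b := by
  simp only [jv, Prod.fst_add, Prod.snd_add]; module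
theorem jv_l (x : K) : (jv (x, 0) : Vn n K) = x • ev 0 := by simp [jv]
theorem jv_r (x : K) : (jv (0, x) : Vn n K) = x • ev 1 := by simp [jv]

variable [hp : Par n K] [FQ K] [FV n K] [FW n K] [H59.GB.Fa (XU n K)]

theorem jv_w (a : K × K) : Wk 2 (jv a : Vn n K) := ((w0 (by omega)).smul _).add ((w1 le_rfl).smul _)

theorem jv_sur {v : Vn n K} (h : Wk 2 v) : v = jv (v 0, v 1) := funext fun i => by
  have n1 := ne01 (n := n) (K := K)
  by_cases h0 : i = 0
  · simp [jv, h0, ev_apply, n1]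
  by_cases h1 : i = 1
  · simp [jv, h1, ev_apply, n1.symm]
  rw [h i (by rw [Fin.ext_iff] at h0 h1; rw [v1 K] at h1; simp only [Fin.val_zero] at h0; omega)]
  simp [jv, ev_apply, h0, h1]

include hp in
theorem ir {i j : Fin (n + 1)} (hi : i.val < 2) (hj : j.val < 2) : i ≠ j.rev := fun h => by
  have := hp.five
  have := congrArg Fin.val h
  rw [Fin.val_rev] at this; omega

theorem hrr {i j : Fin (n + 1)} (hi : i.val < 2) (hj : j.val < 2) :
    hf (ev j.rev : Vn n K) (ev i.rev) = 0 := by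
  rw [hf_ev, Fin.rev_rev, if_neg (ir (K := K) hj hi).symm]

theorem co_mul {i j : Fin (n + 1)} (hi : i.val < 2) (hj : j.val < 2) {m m' : XU n K}
    (h : m ∈ GA.Mk (XU n K) 2) (h' : m' ∈ GA.Mk (XU n K) 2) : co i j (m * m') = co i j m + co i j m' := by
  have h1 := (FV.mem_M 2 (four K) m').1 h' (ev j.rev)
  have h2 := Qk_fix (four K) (GA.Mk_le_Qk GA.rg2 h) h1
  have h3 : ac m' (ev j.rev) = ev j.rev + (ac m' (ev j.rev) + ev j.rev) := by
    rw [add_left_comm, v_add_self, add_zero]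
  rw [co, ac_mul, h3, ac_add, h2, hf_add_left, hf_add_left, hrr hi hj, add_zero]; rfl

theorem co_star (i j : Fin (n + 1)) {m : XU n K} (h : m ∈ GA.Mk (XU n K) 2) :
    star (co i j m) = co j i m := by
  rw [co, star_hf, co, hf_ac_left, inv_eq_of_mul_eq_one_right (GA.FB.sqM 2 GA.rg2 m h)]

theorem co_Tc {i j : Fin (n + 1)} (hi : i.val < 2) (hj : j.val < 2) {v : Vn n K} (hv : Wk 2 v) {c : K}
    (hc : star c = c) : co i j (Tc c v) = c * star (v j) * v i := by
  rw [co, ac_Tc (hv.pp hv (four K)).l hc, hf_add_left, hrr hi hj, hf_smul_left, hf_ev_left, hf_ev_right]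
  simp

include hp in
theorem l1 : (1 : Fin (n + 1)).val < 2 := by rw [v1 K]; omega

theorem fixZ {m : XU n K} (hm : m ∈ GA.Mk (XU n K) 2) {x x' : K} (a : In x x')
    (h1 : ss 0 1 x * m * (ss 0 1 x)⁻¹ = m) (h2 : ss 0 1 x' * m * (ss 0 1 x')⁻¹ = m) :
    ∃ c, star c = c ∧ m = Tc c (ev 0) := by
  have i0 : (0 : Fin (n + 1)).val < 2 := by simp
  have i1 := l1 (n := n) (K := K)
  have n1 := ne01 (n := n) (K := K)
  have p : ∀ y : K, Pp (ev (Fin.rev 1) : Vn n K) (y • ev 0) := fun y => by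
    simpa using (pp_ev (i := Fin.rev 1) (j := 0) (by rw [Fin.rev_rev]; exact (ir (K := K) i1 i1).symm)
      (ir (K := K) i0 i0) (by rwa [Fin.rev_rev])).smul 1 y
  have k : ∀ y : K, y ≠ 0 → ss 0 1 y * m * (ss 0 1 y)⁻¹ = m → co 1 1 m = 0 ∧ tr (y * co 1 0 m) = 0 :=
    fun y hy e => by
    have k2 : ∀ u v, hf (ac m (ac (ss 0 1 y) u)) (ac (ss 0 1 y) v) = hf (ac m u) v := fun u v => by
      rw [← ac_mul, ← eq_mul_of_mul_inv_eq e, ac_mul, hf_ac]
    have a0 : ac (ss 0 1 y) (ev (Fin.rev 0) : Vn n K) = ev (Fin.rev 0) + star y • ev (Fin.rev 1) := by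
      rw [ac_qq (p y), hrr i1 i0, hf_smul_right, hf_ev, Fin.rev_rev, if_pos rfl]; simp
    have a1 : ac (ss 0 1 y) (ev (Fin.rev 1) : Vn n K) = ev (Fin.rev 1) := by
      rw [ac_qq (p y), hrr i1 i1, hf_smul_right, hf_ev, Fin.rev_rev, if_neg n1]; simp
    have e1 := k2 (ev (Fin.rev 0)) (ev (Fin.rev 1))
    have e2 := k2 (ev (Fin.rev 0)) (ev (Fin.rev 0))
    simp only [a0, a1, ac_add, ac_smul, hf_add_left, hf_add_right, hf_smul_left, hf_smul_right,
      star_star] at e1 e2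
    have e3 : co 1 1 m = 0 := (mul_eq_zero.1 (show star y * co 1 1 m = 0 by
      simp only [co]; linear_combination e1)).resolve_left (by simpa using hy)
    refine ⟨e3, ?_⟩
    rw [tr, star_mul', co_star _ _ hm]
    simp only [co] at e3 ⊢
    linear_combination e2 - y * star y * e3
  obtain ⟨e1, e2⟩ := k x a.l h1
  have e3 := (k x' a.r h2).2
  have e4 : co 1 0 m = 0 := by
    by_contra hne
    apply a
    simp only [tr, star_mul', star_star] at e2 e3 ⊢
    refine (mul_eq_zero.1 (?_ : _ * star (co 1 0 m) = 0)).resolve_right (by simpa using hne)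
    linear_combination x * e3 + x' * e2 - x * x' * co 1 0 m * two0 K
  have e5 : co 0 1 m = 0 := by rw [← co_star _ _ hm, e4, star_zero]
  have w : Wk 2 (ev 0 : Vn n K) := w0 (by omega)
  refine ⟨co 0 0 m, co_star _ _ hm, Mk_ext (four K) hm (Tc_mem (four K) w (co_star _ _ hm))
    fun i j hi hj => ?_⟩
  have key : ∀ i : Fin (n + 1), i.val < 2 → i = 0 ∨ i = 1 := fun i hi => by
    rw [Fin.ext_iff, Fin.ext_iff, v1 K, Fin.val_zero]; omega
  change co i j m = co i j _
  rw [co_Tc hi hj w (co_star _ _ hm)]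
  rcases key i hi with rfl | rfl <;> rcases key j hj with rfl | rfl <;>
    simp [ev_apply, n1.symm, e1, e4, e5]

variable {G : Type u} [Group G] [Finite G] {e : XU n K →* G} {t : G} {τ : Vn n K → G}

variable (e t τ) in
/-- `w` translates `t` by `m` -/
structure Pr (w : G) (m : XU n K) : Prop where
  c : w ∈ Cs ((GA.Qk (XU n K) 2).map e)
  m1 : m ∈ GA.Mk (XU n K) 2
  t1 : w * t * w⁻¹ = t * e m
  k : Commute (τ (ev 0)) w

theorem Pr.cj {w : G} {m m' : XU n K} (h : Pr e t τ w m) (hm : m' ∈ GA.Mk (XU n K) 2) :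
    e m' * w = w * e m' := h.c _ ⟨m', GA.Mk_le_Qk GA.rg2 hm, rfl⟩

theorem Pr.mul {w w' : G} {m m' : XU n K} (h : Pr e t τ w m) (h' : Pr e t τ w' m') :
    Pr e t τ (w * w') (m * m') := ⟨mul_mem h.c h'.c, mul_mem h.m1 h'.m1, by
  calc _ = w * (w' * t * w'⁻¹) * w⁻¹ := by group
    _ = w * t * w⁻¹ * (w * e m' * w⁻¹) := by rw [h'.t1]; group
    _ = _ := by rw [h.t1, ← h.cj h'.m1, map_mul]; group, h.k.mul_right h'.k⟩

theorem Pr.inv {w : G} {m : XU n K} (h : Pr e t τ w m) : Pr e t τ w⁻¹ m :=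
  ⟨inv_mem h.c, h.m1, by
    have h1 : e m * e m = 1 := by rw [← map_mul, GA.FB.sqM 2 GA.rg2 m h.m1, map_one]
    calc _ = w⁻¹ * (t * (e m * e m)) * w := by rw [h1]; group
      _ = w⁻¹ * (t * e m) * (e m * w) := by group
      _ = _ := by
        conv_lhs => rw [← h.t1, h.cj h.m1]
        group, h.k.inv_right⟩

variable (T : T1 e t τ) (h : CH e t)
include T

theorem pr {v : Vn n K} (hv : Wk 2 v) : Pr e t τ (τ v) (TT v) := by
  have i := (hv.pp hv (four K)).l
  refine ⟨?_, Tc_mem (four K) hv (star_one K), T.tt v i, T.comm _ _ ((w0 (by omega)).pp hv (four K))⟩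
  rintro _ ⟨p, hp, rfl⟩
  exact eq_mul_of_mul_inv_eq ((T.eqv p v i).trans (by rw [Qk_fix (four K) hp hv]))

variable (τ) in
/-- the polar form of `τ` -/
def PP (a b : Vn n K) : G := τ (a + b) * (τ a)⁻¹ * (τ b)⁻¹
variable (τ) in
/-- the product over a triple -/
def RR (x x' : K) (u v : Vn n K) : G := PP τ (x • u) v * PP τ (x' • u) v * PP τ ((x + x') • u) v

theorem prP {a b : Vn n K} (ha : Wk 2 a) (hb : Wk 2 b) : Pr e t τ (PP τ a b) (qq a b) := by
  rw [qq_comm, qq_eq_TT (ha.pp hb (four K))]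
  exact ((pr T (ha.add hb)).mul (pr T ha).inv).mul (pr T hb).inv

theorem RR_conj (x x' : K) {u v : Vn n K} (p : Pp u v) (g : XU n K) :
    e g * RR τ x x' u v * (e g)⁻¹ = RR τ x x' (ac g u) (ac g v) := by
  have k : ∀ y : K, e g * PP τ (y • u) v * (e g)⁻¹ = PP τ (y • ac g u) (ac g v) := fun y => by
    have p' : Pp (y • u) v := by simpa using p.smul y 1
    simp only [PP, ← conj_mul, ← conj_inv, T.eqv g _ p'.l, T.eqv g _ p'.r, T.eqv g _ p'.iso_add, ac_add,
      ac_smul]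
  simp only [RR, ← conj_mul, k]

theorem transfer : ∃ (C : Type u) (_ : AddCommGroup C) (ι : C → G) (F : K × K → C),
    Function.Injective ι ∧ (∀ a b, ι (a + b) = ι a * ι b) ∧ ι 0 = 1 ∧
      (∀ a b, ι (Bf F a b) = PP τ (jv a) (jv b)) ∧ ∀ a, ι (F a) = τ (jv a) := by
  let s : Set G := Set.range fun a : K × K => τ (jv a)
  let : CommGroup (closure s) := closureCommGroupOfComm (by
    rintro _ ⟨a, rfl⟩ _ ⟨b, rfl⟩
    exact T.comm _ _ ((jv_w a).pp (jv_w b) (four K)))
  exact ⟨Additive (closure s), inferInstance, fun c => (Additive.toMul c).1,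
    fun a => Additive.ofMul ⟨τ (jv a), subset_closure ⟨a, rfl⟩⟩,
    fun _ _ e => Additive.toMul.injective (Subtype.ext e), fun _ _ => rfl, rfl,
    fun a b => by rw [PP, ← jv_add, ← div_eq_mul_inv, ← div_eq_mul_inv]; rfl, fun _ => rfl⟩

include h

theorem ker {w : G} (p : Pr e t τ w 1) : ∃ m ∈ GA.Mk (XU n K) 2, w = e m := by
  have h1 := p.t1
  rw [map_one, mul_one] at h1
  obtain ⟨m, m1, m2 | m2⟩ := k0 h GA.rg2 (eq_mul_of_mul_inv_eq h1).symm p.c
  · exact ⟨m, m1, m2⟩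
  have h4 : Commute (τ (ev 0)) (e m) := ((pr T (w0 (by omega))).cj m1).symm
  have h5 := T.tt _ (iso0 (n := n) (K := K))
  rw [eq_mul_inv_of_mul_eq m2.symm, (p.k.mul_right h4.inv_right).eq, mul_inv_cancel_right,
    left_eq_mul] at h5
  exact absurd (e_Tc_eq_one h.ker (ev_ne 0) iso0 (star_one K) h5) one_ne_zero

theorem inZ {w : G} (p : Pr e t τ w 1) {x x' : K} (a : In x x')
    (h1 : e (ss 0 1 x) * w * (e (ss 0 1 x))⁻¹ = w) (h2 : e (ss 0 1 x') * w * (e (ss 0 1 x'))⁻¹ = w) :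
    ∃ c, star c = c ∧ w = e (Tc c (ev 0)) := by
  obtain ⟨m, m1, rfl⟩ := ker T h p
  have k : ∀ g, e g * e m * (e g)⁻¹ = e m → g * m * g⁻¹ = m := fun g e1 =>
    e_inj h.ker GA.rg2 m1 g (GA.FB.sqM 2 GA.rg2 m m1) (by rw [map_mul, map_mul, map_inv, e1])
  obtain ⟨c, hc, rfl⟩ := fixZ m1 a (k _ h1) (k _ h2)
  exact ⟨c, hc, rfl⟩

omit T h in
theorem ac_ss (y : K) : ac (ss 0 1 y) (ev 0 : Vn n K) = ev 0 ∧
    ac (ss 0 1 y) (ev 1 : Vn n K) = jv (y, 1) := by
  have i0 : (0 : Fin (n + 1)).val < 2 := by simp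
  have i1 := l1 (n := n) (K := K)
  have n1 := ne01 (n := n) (K := K)
  have p : Pp (ev (Fin.rev 1) : Vn n K) (y • ev 0) := by
    simpa using (pp_ev (i := Fin.rev 1) (j := 0) (by rw [Fin.rev_rev]; exact (ir (K := K) i1 i1).symm)
      (ir (K := K) i0 i0) (by rwa [Fin.rev_rev])).smul 1 y
  constructor
  · rw [ac_qq p, hf_smul_right, hf_ev, hf_ev, if_neg (ir (K := K) i0 i0), if_neg (by
      rw [Fin.rev_inj]; exact n1.symm)]; simp
  · rw [ac_qq p, hf_smul_right, hf_ev, hf_ev, if_neg (ir (K := K) i0 i1), if_pos rfl]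
    simp [jv, add_comm]

omit T h in
theorem in_eta {η : K} (hη : tr η = 1) : In 1 η := by
  rw [In, one_mul, tr, star_star, add_comm, show η + star η = 1 from hη]; exact one_ne_zero

theorem exists_rho : ∃ ρ : K, star ρ = ρ ∧ ∀ v, Iso v → τ v * τ v = e (Tc ρ v) := by
  obtain ⟨η, hη⟩ := FQ.eta (K := K)
  have p := pr T (w0 (n := n) (K := K) (k := 2) (by omega))
  have k : ∀ y : K, e (ss 0 1 y) * (τ (ev 0) * τ (ev 0)) * (e (ss 0 1 y))⁻¹ = τ (ev 0) * τ (ev 0) :=
    fun y => by rw [← conj_mul, T.eqv _ _ iso0, (ac_ss y).1]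
  obtain ⟨ρ, hρ, m2⟩ := inZ T h (Tc_mul_self (iso0 (n := n)) (star_one K) ▸ p.mul p) (in_eta hη) (k _) (k _)
  refine ⟨ρ, hρ, fun v hv => ?_⟩
  by_cases h0 : v = 0
  · simp [h0, T.zero]
  obtain ⟨g, rfl⟩ := FW.w1 v h0 hv
  rw [← T.eqv g _ iso0, conj_mul, m2, ← Tc_conj iso0 hρ, map_mul, map_mul, map_inv]

theorem h0 {C : Type u} [AddCommGroup C] {ι : C → G} {F : K × K → C} (i1 : Function.Injective ι)
    (i2 : ∀ a b, ι (a + b) = ι a * ι b) (i3 : ι 0 = 1) (i4 : ∀ a b, ι (Bf F a b) = PP τ (jv a) (jv b))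
    (i5 : ∀ a, ι (F a) = τ (jv a)) : H0 F := fun x x' a => by
  obtain ⟨ρ, hρ, hs⟩ := exists_rho T h
  have iso : ∀ a : K × K, Iso (jv a : Vn n K) := fun a => ((jv_w a).pp (jv_w a) (four K)).l
  have h4 : ∀ a, F a + F a + (F a + F a) = 0 := fun a => i1 (by
    rw [i2, i2, i5, hs _ (iso a), ← map_mul, Tc_mul_self (iso a) hρ, map_one, i3])
  have r0 : ∀ b, ι (R0 F x x' b) = RR τ x x' (ev 0) (jv b) := fun b => by
    simp only [R0, RR, i2, i4, jv_l]
  have r1 : ∀ b, ι (R1 F x x' b) = RR τ x x' (ev 1) (jv b) := fun b => by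
    simp only [R1, RR, i2, i4, jv_r]
  have j1 : (jv (0, 1) : Vn n K) = ev 1 := by rw [jv_r, one_smul]
  have u0 : ∀ y : K, Wk 2 (y • ev 0 : Vn n K) := fun y => (w0 (by omega)).smul y
  have u1 : Wk 2 (ev 1 : Vn n K) := w1 le_rfl
  have p : Pr e t τ (RR τ x x' (ev 0) (ev 1)) 1 := by
    have := ((prP T (u0 x) u1).mul (prP T (u0 x') u1)).mul (prP T (u0 (x + x')) u1)
    rwa [← qq_add (u1.pp (u0 _) (four K)) (u1.pp (u0 _) (four K)) ((u0 _).pp (u0 _) (four K)).p,
      ← add_smul, ← qq_add (u1.pp (u0 _) (four K)) (u1.pp (u0 _) (four K)) ((u0 _).pp (u0 _) (four K)).p,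
      v_add_self, qq, EE_zero] at this
  obtain ⟨c, hc, e1⟩ := inZ T h p a
    (by rw [RR_conj T _ _ pp01, (ac_ss x).1, (ac_ss x).2, ← r0, (R0_inv h4 x x').1, r0, j1])
    (by rw [RR_conj T _ _ pp01, (ac_ss x').1, (ac_ss x').2, ← r0, (R0_inv h4 x x').2, r0, j1])
  have e2 : ∀ u v, Pp u v → Li u v → RR τ x x' u v = e (Tc c u) := fun u v p l => by
    obtain ⟨g, rfl, rfl⟩ := FW.w2 u v p l
    rw [← RR_conj T _ _ pp01, e1, ← Tc_conj iso0 hc, map_mul, map_mul, map_inv]
  have f0 : ∀ c' y, y ≠ 0 → ι (R0 F x x' (c', y)) = e (Tc c (ev 0)) := fun c' y hy => by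
    rw [r0, e2 _ _ ((w0 (by omega)).pp (jv_w _) (four K)) fun r s e => by
      obtain ⟨h1, h2⟩ := li_ev (n := n) (r + s * c') (s * y) (by rw [← e, jv]; module)
      obtain rfl := (mul_eq_zero.1 h2).resolve_right hy
      exact ⟨by simpa using h1, rfl⟩]
  have f1 : ∀ y, y ≠ 0 → ι (R1 F x x' (y, 0)) = e (Tc c (ev 1)) := fun y hy => by
    rw [r1, e2 _ _ (u1.pp (jv_w _) (four K)) fun r s e => by
      obtain ⟨h1, h2⟩ := li_ev (n := n) (s * y) r (by rw [← e, jv]; module)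
      exact ⟨h2, (mul_eq_zero.1 h1).resolve_right hy⟩]
  refine ⟨R0 F x x' (0, 1), R1 F x x' (1, 0), i1 ?_, i1 ?_, fun e3 => i1 ?_,
    fun c' y hy => i1 ((f0 c' y hy).trans (f0 0 1 one_ne_zero).symm),
    fun y hy => i1 ((f1 y hy).trans (f1 1 one_ne_zero).symm)⟩
  · rw [i2, f0 0 1 one_ne_zero, ← map_mul, Tc_mul_self iso0 hc, map_one, i3]
  · rw [i2, f1 1 one_ne_zero, ← map_mul, Tc_mul_self pp01.r hc, map_one, i3]
  · have e4 := congrArg ι e3
    rw [f0 0 1 one_ne_zero, f1 1 one_ne_zero] at e4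
    have e5 := e_inj h.ker GA.rg2 (Tc_mem (four K) (w0 (by omega)) hc) 1 (Tc_mul_self pp01.r hc)
      (by simpa using e4)
    have e6 := congrArg (co 0 0) e5
    rw [one_mul, inv_one, mul_one, co_Tc (by simp) (by simp) (w0 (by omega)) hc,
      co_Tc (by simp) (by simp) u1 hc] at e6
    obtain rfl : c = 0 := by simpa [ev_apply, ne01 (n := n) (K := K)] using e6
    rw [f0 0 1 one_ne_zero, i3, Tc, EE_zero, map_one]

theorem sq4 (hq : 4 ≤ qK K) (v : Vn n K) (hv : Iso v) : τ v * τ v = 1 := by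
  obtain ⟨ρ, hρ, hs⟩ := exists_rho T h
  obtain ⟨η, hη⟩ := FQ.eta (K := K)
  obtain ⟨c, hc, c0, c1⟩ : ∃ c : K, star c = c ∧ c ≠ 0 ∧ c ≠ 1 := by
    by_contra hn
    push Not at hn
    have : ((selfAdjoint K : AddSubgroup K) : Set K) ⊆ {0, 1} := fun b hb => by
      by_cases e : b = 0
      · exact Or.inl e
      · exact Or.inr (hn b hb e)
    have h2 := (Set.ncard_le_ncard this).trans (Set.ncard_insert_le _ _)
    rw [Set.ncard_singleton] at h2
    have : qK K = ((selfAdjoint K : AddSubgroup K) : Set K).ncard := rfl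
    omega
  obtain ⟨C, _, ι, F, i1, i2, i3, i4, i5⟩ := transfer T
  have d := dbl (h0 T h i1 i2 i3 i4 i5) hη hc c0
  have iso : ∀ a : K × K, Iso (jv a : Vn n K) := fun a => ((jv_w a).pp (jv_w a) (four K)).l
  have M : ∀ a : K × K, Tc ρ (jv a) ∈ GA.Mk (XU n K) 2 := fun a => Tc_mem (four K) (jv_w a) hρ
  have d2 : F (η, 1) + F (η, 1) + (F (c * η, 0) + F (c * η, 0)) =
      F (c * η, 1) + F (c * η, 1) + (F (η, 0) + F (η, 0)) := by
    simp only [Bf, Prod.mk_add_mk, add_zero, zero_add] at d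
    linear_combination (norm := abel1) d
  have d3 := congrArg ι d2
  simp only [i2, i5, hs _ (iso _), ← map_mul] at d3
  have d4 := e_inj h.ker GA.rg2 (mul_mem (M _) (M _)) 1 (GA.FB.sqM 2 GA.rg2 _ (mul_mem (M _) (M _)))
    (by simpa using d3)
  have d5 := congrArg (co 0 1) d4
  have i0 : (0 : Fin (n + 1)).val < 2 := by simp
  have i1 := l1 (n := n) (K := K)
  have n1 := ne01 (n := n) (K := K)
  rw [one_mul, inv_one, mul_one, co_mul i0 i1 (M _) (M _), co_mul i0 i1 (M _) (M _)] at d5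
  simp only [co_Tc i0 i1 (jv_w _) hρ] at d5
  simp only [jv, Pi.add_apply, Pi.smul_apply, ev_apply, n1, n1.symm, if_true, if_false, smul_eq_mul,
    mul_one, mul_zero, add_zero, zero_add, star_one, star_zero, zero_mul] at d5
  obtain rfl : ρ = 0 := (mul_eq_zero.1 (show ρ * (η * (1 - c)) = 0 by linear_combination d5)).resolve_right
    (mul_ne_zero (in_eta hη).r (sub_ne_zero.2 c1.symm))
  simpa using hs v hv

theorem hm_of_sq (hs : ∀ v, Iso v → τ v * τ v = 1) : HM τ := by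
  obtain ⟨C, _, ι, F, i1, i2, i3, i4, i5⟩ := transfer T
  have iso : ∀ a : K × K, Iso (jv a : Vn n K) := fun a => ((jv_w a).pp (jv_w a) (four K)).l
  have h2 : ∀ a, F a + F a = 0 := fun a => i1 (by rw [i2, i5, hs _ (iso a), i3])
  have hn : ∀ a x y, nm a = 1 → F (a * x, a * y) = F (x, y) := fun a x y ha => i1 (by
    rw [i5, i5, ← T.n1 a _ ha (iso (x, y))]; congr 1; simp only [jv]; module)
  obtain ⟨q1, q2, q3⟩ := quad (h0 T h i1 i2 i3 i4 i5)
    (i1 (by rw [i5, i3, ← T.zero]; congr 1; simp [jv])) h2 hn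
  have q4 : ∀ a b, star a = a → star b = b → F (0, a + b) = F (0, a) + F (0, b) := fun a b ha hb => by
    obtain ⟨g, g0⟩ := FW.w1 (n := n) (K := K) _ (ev_ne 1) pp01.r
    have k : ∀ y, ι (F (0, y)) = e g * ι (F (y, 0)) * (e g)⁻¹ := fun y => by
      rw [i5, i5, T.eqv _ _ (iso _), jv_l, jv_r, ac_smul, g0]
    exact i1 (by rw [i2, k, k, k, q3 a b ha hb, i2, conj_mul])
  have i0 : (0 : Fin (n + 1)).val < 2 := by simp
  have i1 := l1 (n := n) (K := K)
  have ra : ∀ a b : K, rt (a + b) = rt a + rt b := fun a b => map_add (frobeniusEquiv K 2).symm a b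
  have sr : ∀ (i : Fin (n + 1)) (m : GA.Mk (XU n K) 2), star (rt (co i i m.1)) = rt (co i i m.1) :=
    fun i m => by rw [FQ.star_rt, co_star _ _ m.2]
  refine ⟨MonoidHom.mk' (fun m => ι (F (rt (co 0 0 m.1), 0) + Bf F (co 0 1 m.1, 0) (0, 1) +
    F (0, rt (co 1 1 m.1)))) fun a b => ?_, fun v m hv hm => ?_⟩
  · rw [← i2, coe_mul, co_mul i0 i0 a.2 b.2, co_mul i0 i1 a.2 b.2, co_mul i1 i1 a.2 b.2, ra, ra,
      q3 _ _ (sr 0 a) (sr 0 b), q4 _ _ (sr 1 a) (sr 1 b), q1]
    congr 1; abel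
  rw [MonoidHom.mk'_apply, hm, co_Tc i0 i0 hv (star_one K), co_Tc i0 i1 hv (star_one K),
    co_Tc i1 i1 hv (star_one K), one_mul, one_mul, ← q2, mul_comm (star (v 0)), mul_comm (star (v 1))]
  conv_rhs => rw [jv_sur hv, ← i5]
  obtain ⟨a, a1, a2⟩ := FQ.dec (v 0)
  obtain ⟨b, b1, b2⟩ := FQ.dec (v 1)
  have e1 := hn a (rt (nm (v 0))) 0 a1
  have e2 := hn b 0 (rt (nm (v 1))) b1
  rw [mul_zero, mul_comm, ← a2] at e1
  rw [mul_zero, mul_comm, ← b2] at e2
  rw [← e1, ← e2, Bf]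
  congr 1
  simp only [Prod.mk_add_mk, add_zero, zero_add]
  abel

end HM4

theorem jobHM4 : JobHM4.{u} := by
  intro n K _ _ _ _ hp _ _ _ _ _ _ G _ _ e t hq h τ T
  exact HM4.hm_of_sq T h (HM4.sq4 T h hq)

end H59.UV
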