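import Cfsg.Agent.H59.U5FW
import Cfsg.Agent.H59.SU

/-! STD-UM, slot PD: primitive prime divisors of `|SU_(n+1)(q)|` and of involution centralisers. -/

set_option autoImplicit false
set_option linter.unusedSectionVars false

namespace H59.UM5b

open H67

open H64.SG (Cz Inv2)
open H59 Module

/-- the arithmetic part -/
theorem not_dvd_ordGU {q ρ d : ℕ} (hρ : ρ.Prime) (h2 : ρ ≠ 2) (hq : ∃ f, 1 ≤ f ∧ q = 2 ^ f)
    (hd : ∀ j, ρ ∣ q ^ j - 1 ↔ d ∣ j) (j : ℕ) (hj : Odd d ∧ j < 2 * d ∨ 4 ∣ d ∧ j < d) :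
    ¬ ρ ∣ ordGU q j := by
  obtain ⟨f, hf, rfl⟩ := hq
  induction j with
  | zero => simpa [ordGU] using hρ.one_lt.ne'
  | succ j ih =>
    rw [ordGU_succ]
    intro h
    rcases (Nat.Prime.dvd_mul hρ).1 h with h | h
    · rcases (Nat.Prime.dvd_mul hρ).1 h with h | h
      · exact h2 ((Nat.prime_dvd_prime_iff_eq hρ Nat.prime_two).1
          (hρ.dvd_of_dvd_pow (hρ.dvd_of_dvd_pow h)))
      · split_ifs at h with he
        · have h1 := (hd _).1 h
          rcases hj with ⟨ho, hj⟩ | ⟨-, hj⟩
          · have h3 : 2 * d ∣ j + 1 :=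
              Nat.Coprime.mul_dvd_of_dvd_of_dvd (Nat.coprime_two_left.2 ho) he.two_dvd h1
            exact absurd (Nat.le_of_dvd (Nat.succ_pos j) h3) (by omega)
          · exact absurd (Nat.le_of_dvd (Nat.succ_pos j) h1) (by omega)
        · have hpos : 1 ≤ (2 ^ f) ^ (j + 1) := Nat.one_le_pow _ _ (by positivity)
          have h3 : ρ ∣ (2 ^ f) ^ (2 * (j + 1)) - 1 := by
            have : (2 ^ f) ^ (2 * (j + 1)) - 1 =
                ((2 ^ f) ^ (j + 1) + 1) * ((2 ^ f) ^ (j + 1) - 1) := by
              rw [mul_comm 2, pow_mul, ← Nat.sq_sub_sq, one_pow]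
            rw [this]; exact h.mul_right _
          have h4 := (hd _).1 h3
          rcases hj with ⟨ho, -⟩ | ⟨h5, -⟩
          · have h6 : d ∣ j + 1 :=
              (Nat.Coprime.dvd_of_dvd_mul_left (Nat.coprime_two_right.2 ho) h4)
            have h7 := (hd _).2 h6
            have h8 : ρ ∣ 2 := by
              have : (2 ^ f) ^ (j + 1) + 1 = ((2 ^ f) ^ (j + 1) - 1) + 2 := by omega
              rw [this] at h
              exact (Nat.dvd_add_right h7).1 h
            exact h2 ((Nat.prime_dvd_prime_iff_eq hρ Nat.prime_two).1 h8)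
          · have h6 := h5.trans h4
            rw [Nat.even_iff] at he
            omega
    · exact ih (hj.imp (fun h => ⟨h.1, by omega⟩) fun h => ⟨h.1, by omega⟩) h

section Abs

variable {F : Type} [Field F] [Fintype F] {q : ℕ} {σ : F →+* F}

/-- an isometry of prime order `ρ` not dividing the order of the unitary group is trivial -/
theorem eq_one_of_pow (hF : Fintype.card F = q ^ 2) (hσ : σ = frob hF) {U : Type} [AddCommGroup U]
    [Module F U] [FiniteDimensional F U] {B : U →ₛₗ[σ] U →ₗ[F] F} (h : IsHerm B)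
    (f : U →ₗ[F] U) (hf : ∀ x y, B (f x) (f y) = B x y) {ρ : ℕ} (hρ : ρ.Prime) (h1 : f ^ ρ = 1)
    (hn : ¬ ρ ∣ ordGU q (finrank F U)) : ∀ x, f x = x := by
  subst hσ
  have hi : Function.Injective f := by
    rw [injective_iff_map_eq_zero]
    intro x hx
    exact h.nondeg x fun y => by rw [← hf, hx]; simp
  let e : isom B := ⟨LinearEquiv.ofInjectiveEndo f hi, mem_isom.2 hf⟩
  have he : ∀ (k : ℕ) x, (e ^ k).1 x = (f ^ k) x := by
    intro k
    induction k with
    | zero => intro x; rfl
    | succ k ih => intro x; rw [pow_succ, pow_succ, Module.End.mul_apply, ← ih]; rfl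
  have h2 : e ^ ρ = 1 := Subtype.ext (LinearEquiv.ext fun x => by rw [he, h1]; rfl)
  haveI := Fact.mk hρ
  by_cases h3 : e = 1
  · intro x
    have := he 1 x
    rw [pow_one, pow_one, h3] at this
    exact this.symm
  · exfalso
    apply hn
    rw [← h.card_isom hF, ← orderOf_eq_prime h2 h3]
    exact orderOf_dvd_natCard e

theorem restrict_pow {V : Type} [AddCommGroup V] [Module F V] (r : V →ₗ[F] V) {W : Submodule F V}
    (hW : ∀ x ∈ W, r x ∈ W) {ρ : ℕ} (h : r ^ ρ = 1) : (r.restrict hW) ^ ρ = 1 := by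
  rw [Module.End.pow_restrict]
  ext x
  simp [h]

/-- an isometry of odd prime order which commutes with an involution -/
theorem eq_one_of_comm [CharP F 2] (hF : Fintype.card F = q ^ 2) (hσ : σ = frob hF) {V : Type}
    [AddCommGroup V] [Module F V] [FiniteDimensional F V] {B : V →ₛₗ[σ] V →ₗ[F] F} (h : IsHerm B)
    (r g : V →ₗ[F] V) (hr : ∀ x y, B (r x) (r y) = B x y) (hg : ∀ x y, B (g x) (g y) = B x y)
    (hg2 : ∀ x, g (g x) = x) (hg1 : ∃ x, g x ≠ x) (hc : ∀ x, r (g x) = g (r x))
    {ρ : ℕ} (hρ : ρ.Prime) (h2 : ρ ≠ 2) (h1 : r ^ ρ = 1) (h4 : 4 ≤ finrank F V)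
    (hn : ∀ j, j + 2 ≤ finrank F V → ¬ ρ ∣ ordGU q j) : ∀ x, r x = x := by
  have hv : ∀ x : V, x + x = 0 := fun x => by
    rw [← two_smul F x, show (2 : F) = 0 from CharTwo.two_eq_zero, zero_smul]
  set t : V →ₗ[F] V := g + 1 with ht
  have ta : ∀ x, t x = g x + x := fun x => rfl
  have tt : ∀ x, t (t x) = 0 := fun x => by
    rw [ta, ta, map_add, hg2, add_comm x, hv]
  have tadj : ∀ x y, B (t x) y = B x (t y) := fun x y => by
    rw [ta, ta, map_add, map_add, LinearMap.add_apply, ← hg (g x) y, hg2]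
  have rt : ∀ x, r (t x) = t (r x) := fun x => by rw [ta, ta, map_add, hc]
  -- step 1: `r` is trivial on the range of `t`
  have s1 : ∀ x, r (t x) = t x := by
    obtain ⟨s, hs⟩ := t.rangeRestrict.exists_rightInverse_of_surjective t.range_rangeRestrict
    have hs' : ∀ u : LinearMap.range t, t (s u) = u := fun u =>
      congrArg Subtype.val (LinearMap.congr_fun hs u)
    let B' : LinearMap.range t →ₛₗ[σ] LinearMap.range t →ₗ[F] F :=
      LinearMap.mk₂'ₛₗ σ (RingHom.id F) (fun x y => B (s x) y)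
        (fun _ _ _ => by simp) (fun _ _ _ => by simp [LinearMap.map_smulₛₗ])
        (fun _ _ _ => by simp) (fun _ _ _ => by simp)
    have B'a : ∀ x y, B' x y = B (s x) y := fun _ _ => rfl
    have hB' : IsHerm B' := by
      refine ⟨h.ne_id, h.invol, fun x y => ?_, fun x hx => ?_⟩
      · rw [B'a, B'a, h.symm, ← hs' x, ← tadj, hs']
      · refine Subtype.ext (h.nondeg _ fun y => ?_)
        rw [← hs', tadj]
        exact hx ⟨t y, y, rfl⟩
    have hW : ∀ x ∈ LinearMap.range t, r x ∈ LinearMap.range t := by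
      rintro _ ⟨x, rfl⟩
      exact ⟨r x, (rt x).symm⟩
    have hdim : finrank F (LinearMap.range t) + 2 ≤ finrank F V := by
      have e1 := t.finrank_range_add_finrank_ker
      have e2 : LinearMap.range t ≤ LinearMap.ker t := by
        rintro _ ⟨x, rfl⟩
        exact tt x
      have e3 := Submodule.finrank_mono e2
      omega
    have := eq_one_of_pow hF hσ hB' (r.restrict hW) (fun x y => ?_) hρ (restrict_pow r hW h1)
      (hn _ hdim)
    · intro x
      exact congrArg Subtype.val (this ⟨t x, x, rfl⟩)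
    · rw [B'a, B'a]
      obtain ⟨_, y, rfl⟩ := y
      change B _ (r (t y)) = B _ (t y)
      rw [rt, ← tadj, hs', ← tadj, hs']
      exact hr x y
  -- step 2: the fixed space of `r` is non-degenerate of dimension at least two
  let Fx : Submodule F V := LinearMap.eqLocus r 1
  have mF : ∀ x, x ∈ Fx ↔ r x = x := fun x => Iff.rfl
  have hD : Disjoint Fx (perp B Fx) := by
    rw [Submodule.disjoint_def]
    intro v hv1 hv2
    refine h.nondeg v fun x => ?_
    have e1 : ∀ k : ℕ, B v ((r ^ k) x) = B v x := by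
      intro k
      induction k with
      | zero => rfl
      | succ k ih => rw [pow_succ', Module.End.mul_apply, ← ih, ← hr v ((r ^ k) x), (mF v).1 hv1]
    have e2 : (∑ k ∈ Finset.range ρ, (r ^ k) x) ∈ Fx := by
      rw [mF, map_sum]
      have e3 := Finset.sum_range_succ (fun k => (r ^ k) x) ρ
      have e4 := Finset.sum_range_succ' (fun k => (r ^ k) x) ρ
      rw [e3, h1, pow_zero] at e4
      rw [add_right_cancel e4]
      exact Finset.sum_congr rfl fun k _ => by rw [pow_succ', Module.End.mul_apply]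
    have e5 := (h.mem_perp'.1 hv2) _ e2
    rw [map_sum, Finset.sum_congr rfl fun k _ => e1 k, Finset.sum_const, Finset.card_range,
      nsmul_eq_mul] at e5
    refine (mul_eq_zero.1 e5).resolve_left fun e6 => h2 ?_
    exact ((Nat.prime_dvd_prime_iff_eq Nat.prime_two hρ).1 ((CharP.cast_eq_zero_iff F 2 ρ).1 e6)).symm
  have hF2 : 2 ≤ finrank F Fx := by
    by_contra hlt
    obtain ⟨x, hx⟩ := hg1
    have hu : t x ≠ 0 := fun e => hx (by
      rw [ta] at e
      rw [← add_zero (g x), ← hv x, ← add_assoc, e, zero_add])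
    have hu' : (⟨t x, (mF _).2 (s1 x)⟩ : Fx) ≠ 0 := fun e => hu (congrArg Subtype.val e)
    have e1 : finrank F Fx = 1 := by
      have : 0 < finrank F Fx := finrank_pos_iff_exists_ne_zero.2 ⟨_, hu'⟩
      omega
    refine hu ((Submodule.disjoint_def.1 hD) _ ((mF _).2 (s1 x)) fun w hw => ?_)
    obtain ⟨c, hc'⟩ := exists_smul_eq_of_finrank_eq_one e1 hu' ⟨w, hw⟩
    have e2 : w = c • t x := (congrArg Subtype.val hc').symm
    rw [e2, form_smul_left, tadj, tt, map_zero, mul_zero]
  -- step 3: `r` is trivial on the perp of its fixed space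
  have hW : ∀ y ∈ perp B Fx, r y ∈ perp B Fx := fun y hy x hx => by
    rw [← (mF x).1 hx, hr]; exact hy x hx
  have hdim := h.finrank_add_finrank_perp Fx
  have s3 := eq_one_of_pow hF hσ (h.restrict (h.disjoint_perp_perp hD)) (r.restrict hW)
    (fun x y => hr x y) hρ (restrict_pow r hW h1) (hn _ (by omega))
  have e1 : perp B Fx = ⊥ := by
    rw [eq_bot_iff]
    intro y hy
    exact (Submodule.disjoint_def.1 hD) y ((mF y).2 (congrArg Subtype.val (s3 ⟨y, hy⟩))) hy
  rw [e1, finrank_bot, add_zero] at hdim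
  intro x
  exact (mF x).1 (by rw [Submodule.eq_top_of_finrank_eq hdim]; trivial)

end Abs

open H67 H59.UV H59.UM5

theorem jobPD : H59.UV.JobPD := by
  intro n K _ _ _ _ hp B _ _
  haveI := B
  haveI := Fintype.ofFinite K
  have hF : Fintype.card K = qK K ^ 2 := by rw [← Nat.card_eq_fintype_card]; exact FQ.card
  have hσ : starRingEnd K = frob hF := RingHom.ext fun a => FQ.star_eq a
  refine ⟨fun ρ d hρ h2 hd hn g hg h => ?_, fun ρ d hρ h2 hd hn h => ?_⟩
  · haveI := Fact.mk hρ
    obtain ⟨r, hr⟩ := exists_prime_orderOf_dvd_card' ρ h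
    have hc : g * r.1 = r.1 * g := r.2 g rfl
    have h1 : r.1 ^ ρ = 1 := by rw [← hr]; exact congrArg Subtype.val (pow_orderOf_eq_one r)
    have h5 := hp.five
    have := eq_one_of_comm hF hσ (herm n K) (lin n K r.1 : Vn n K →ₗ[K] Vn n K)
      (lin n K g : Vn n K →ₗ[K] Vn n K) (fun x y => hf_ac _ y x) (fun x y => hf_ac _ y x)
      (fun x => by change ac g (ac g x) = x; rw [← ac_mul, hg.1, ac_one])
      (by
        by_contra hne
        push Not at hne
        exact hg.2 (ac_ext fun v => by rw [ac_one]; exact hne v))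
      (fun x => by change ac r.1 (ac g x) = ac g (ac r.1 x); rw [← ac_mul, ← ac_mul, hc])
      hρ h2 (by
        have := map_pow (LinearEquiv.automorphismGroup.toLinearMapMonoidHom.comp (lin n K)) r.1 ρ
        rw [h1, map_one] at this
        exact this.symm)
      (by rw [finrank_Vn]; omega)
      (fun j hj => not_dvd_ordGU hρ h2 FQ.pow2 hd j (by
        rw [finrank_Vn] at hj
        exact hn.imp (fun h => ⟨h.1, by omega⟩) fun h => ⟨h.1, by omega⟩))
    have e : r = 1 := Subtype.ext (ac_ext fun v => by rw [OneMemClass.coe_one, ac_one]; exact this v)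
    rw [e, orderOf_one] at hr
    exact hρ.one_lt.ne hr
  · obtain ⟨e⟩ := FX.iso (n := n) (K := K)
    rw [Nat.card_congr e.toEquiv] at h
    refine not_dvd_ordGU hρ h2 FQ.pow2 hd (n + 1) hn ?_
    rw [← card_SU hF (Nat.le_add_left 1 n)]
    exact h.mul_left _

end H59.UM5b
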