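import Cfsg.Agent.H59.U5K0
import Cfsg.Agent.H59.U5GAB
import Cfsg.Agent.H59.U5GW0

/-! STD-U5, slot SF: the Steinberg relations of `SL₅(K)` from the transvections `Y v u` and the
root elements `A i a` of the middle index. -/

set_option autoImplicit false
set_option linter.unusedSectionVars false

namespace H59.UVF

open H67

open H64.SG (Cz mem_Cz mem_fx)
open Matrix Subgroup H67 H59.UV
open H67.SA (SLn la cm StR)
open H67.GA (B1 CH CF)

universe u

section Grp

variable {G : Type*} [Group G]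

theorem conj2 {t : G} (h : t * t = 1) (g : G) : t * (t * g * t⁻¹) * t⁻¹ = g := by
  rw [← mul_assoc, ← mul_assoc, h, mul_assoc, ← _root_.mul_inv_rev, h]; simp

theorem cm_swap {A B C : G} (h : cm A B = C) (h2 : C * C = 1) : cm B A = C := by
  rw [← inv_eq_of_mul_eq_one_right h2, ← h]; simp only [cm]; group

theorem hall {A B C D E : G} (h1 : Commute A C) (h2 : cm B C = D) (h3 : D * D = 1) (h4 : cm A D = E)
    (h5 : E * E = 1) (h6 : Commute D (cm A B)) : cm (cm A B) C = E := by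
  have e1 : C * B * C⁻¹ = D * B := by
    rw [← inv_eq_of_mul_eq_one_right h3, ← h2]; simp only [cm]; group
  have e2 : C * A * C⁻¹ = A := by rw [← h1.eq, mul_inv_cancel_right]
  calc cm (cm A B) C = cm A B * (cm (C * A * C⁻¹) (C * B * C⁻¹))⁻¹ := by simp only [cm]; group
    _ = cm A B * (cm A D * (D * cm A B) * D⁻¹)⁻¹ := by rw [e1, e2]; simp only [cm]; group
    _ = E := by
      rw [h6.eq, h4]
      generalize cm A B = F
      rw [show F * (E * (F * D) * D⁻¹)⁻¹ = F * F⁻¹ * E⁻¹ by group, mul_inv_cancel, one_mul,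
        inv_eq_of_mul_eq_one_right h5]

end Grp

/-- `r` avoids the pair of `a`. -/
def Av {n : ℕ} (r a : Fin (n + 1)) : Prop := r ≠ a ∧ r ≠ a.rev

theorem exI {n : ℕ} (h : n = 4) (a b : Fin (n + 1)) : ∃ r : Fin (n + 1), Av r a ∧ Av r b := by
  by_contra hn
  push Not at hn
  have h0 := hn ⟨0, by omega⟩
  have h1 := hn ⟨1, by omega⟩
  have h2 := hn ⟨2, by omega⟩
  simp only [Av, Ne, Fin.ext_iff, Fin.val_rev] at h0 h1 h2
  omega

variable {n : ℕ} {K : Type} [Field K] [StarRing K] [CharP K 2] [Finite K]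
variable {G : Type u} [Group G] {t : G}

/-- The remaining relations follow from the good ones. -/
theorem str_of (hn : n = 4) {y : Fin (n + 1) → Fin (n + 1) → K → G}
    (add : ∀ i j, i ≠ j → ∀ a b, y i j (a + b) = y i j a * y i j b)
    (T : ∀ i j, i ≠ j → ∀ a, t * y i j a * t⁻¹ = y j.rev i.rev (star a))
    (G1 : ∀ i j k l, i ≠ j → k ≠ l → j ≠ k → i ≠ l → ¬ (l = j.rev ∧ k = i.rev) → ∀ a b,
      Commute (y i j a) (y k l b))
    (G2 : ∀ i j k, i ≠ j → j ≠ k → i ≠ k → j ≠ i.rev → k ≠ j.rev → ∀ a b,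
      cm (y i j a) (y j k b) = y i k (a * b)) : StR y := by
  have sq : ∀ i j, i ≠ j → ∀ a, y i j a * y i j a = 1 := fun i j h a => by
    have h0 := add i j h 0 0
    rw [add_zero, left_eq_mul] at h0
    rw [← add i j h, CharTwo.add_self_eq_zero, h0]
  have m1 : ∀ i k, i ≠ i.rev → i.rev ≠ k → i ≠ k → ∀ a b,
      cm (y i i.rev a) (y i.rev k b) = y i k (a * b) := fun i k h1 h2 h3 a b => by
    obtain ⟨r, r1, r2⟩ := exI hn i k
    simp only [Av, Ne, Fin.ext_iff, Fin.val_rev] at h1 h2 h3 r1 r2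
    have o : ∀ {p : Prop}, (r.val ≠ i.val → p) → p := fun h => h r1.1
    have e := G2 i r i.rev (by grind) (by grind) (by grind) (by grind) (by grind) a 1
    rw [mul_one] at e
    rw [← e]
    refine hall (G1 _ _ _ _ (by grind) (by grind) (by grind) (by grind) (by grind) _ _)
      (G2 _ _ _ (by grind) (by grind) (by grind) (by grind) (by grind) _ _) (sq _ _ (by grind) _)
      (by rw [G2 _ _ _ (by grind) (by grind) (by grind) (by grind) (by grind), one_mul])
      (sq _ _ (by grind) _) ?_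
    rw [e]
    exact G1 _ _ _ _ (by grind) (by grind) (by grind) (by grind) (by grind) _ _
  refine ⟨add, fun i j k l h1 h2 h3 h4 a b => ?_, fun i j k h1 h2 h3 a b => ?_⟩
  · by_cases c : l = j.rev ∧ k = i.rev
    · obtain ⟨rfl, rfl⟩ := c
      obtain ⟨r, r1, r2⟩ := exI hn i j
      simp only [Av, Ne, Fin.ext_iff, Fin.val_rev] at h1 h2 h3 h4 r1 r2
      have e := G2 i r j (by grind) (by grind) (by grind) (by grind) (by grind) a 1
      rw [mul_one] at e
      have c1 := G1 i r i.rev j.rev (by grind) (by grind) (by grind) (by grind) (by grind) a b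
      have c2 := G1 r j i.rev j.rev (by grind) (by grind) (by grind) (by grind) (by grind) 1 b
      rw [← e]
      exact ((c1.mul_left c2).mul_left c1.inv_left).mul_left c2.inv_left
    · exact G1 i j k l h1 h2 h3 h4 c a b
  · by_cases c : j = i.rev
    · subst c; exact m1 i k h1 h2 h3 a b
    by_cases c' : k = j.rev
    · subst c'
      have e := cm_swap (m1 j i.rev h2 (Fin.rev_injective.ne h1.symm) c (star b) (star a))
        (sq _ _ c _)
      apply (MulAut.conj t).injective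
      simp only [cm, map_mul, map_inv, MulAut.conj_apply, T _ _ h1, T _ _ h2, T _ _ h3, Fin.rev_rev]
      rw [star_mul]
      exact e
    · exact G2 i j k h1 h2 h3 c c' a b

variable {e : XU n K →* G} {Y : Vn n K → Vn n K → G}

variable {A : Fin (n + 1) → K → G}

theorem pp_self {u : Vn n K} (h : Iso u) : Pp u u := ⟨h, h, h⟩
theorem pp_smul {u v : Vn n K} (h : Pp u v) (a : K) : Pp u (a • v) := by simpa using h.smul 1 a

theorem c2 (h : YK e t Y) {u v w x : Vn n K} (p : Pp u v) (q : Pp w x) (a1 : hf x u = 0)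
    (a2 : hf v w = 0) (a3 : hf v x = 0) : Commute (Y v u) (Y x w) := by
  have := h.c1 v u x w p.symm q.symm (hf_symm a2) (hf_symm a1) a3
  rw [← h.tc _ _ p, ← h.tc _ _ q, conj_mul, conj_mul] at this
  show Y v u * Y x w = Y x w * Y v u
  simpa using this

variable (t Y A) in
/-- The root elements. -/
def yy (i j : Fin (n + 1)) (a : K) : G :=
  if j = j.rev then A i a
  else if i = i.rev then t * A j.rev (star a) * t⁻¹
  else Y (a • ev i) (ev j.rev)

theorem ppi {i j : Fin (n + 1)} (hi : i ≠ i.rev) (hj : j ≠ j.rev) (h : i ≠ j) (a : K) :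
    Pp (ev j.rev) (a • ev i : Vn n K) :=
  pp_smul (pp_ev (by simpa using hj.symm) hi (by simpa using h)) a

theorem hfe {i j : Fin (n + 1)} (h : j ≠ i.rev) (a : K) : hf (a • ev i : Vn n K) (ev j) = 0 := by
  rw [hf_smul_left, hf_ev, if_neg h, mul_zero]

section Rel

theorem yy_iso {i j : Fin (n + 1)} (hi : i ≠ i.rev) (hj : j ≠ j.rev) (a : K) :
    yy t Y A i j a = Y (a • ev i) (ev j.rev) := by rw [yy, if_neg hj, if_neg hi]

theorem yy_mid {i μ : Fin (n + 1)} (hμ : μ = μ.rev) (a : K) : yy t Y A i μ a = A i a := by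
  rw [yy, if_pos hμ]

variable (h : YK e t Y) (m : MID t Y A) (tt : t * t = 1)
include h m tt

theorem yy_T (i j : Fin (n + 1)) (hij : i ≠ j) (a : K) :
    t * yy t Y A i j a * t⁻¹ = yy t Y A j.rev i.rev (star a) := by
  by_cases hj : j = j.rev
  · have hi : i ≠ i.rev := by grind
    rw [yy, if_pos hj, yy, if_neg (by grind), if_pos (by grind), star_star, Fin.rev_rev]
  by_cases hi : i = i.rev
  · rw [yy, if_neg hj, if_pos hi, conj2 tt, yy, if_pos (by grind)]
  · rw [yy_iso hi hj, yy_iso (by grind) (by grind), h.tc _ _ (ppi hi hj hij a), Fin.rev_rev,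
      h.scal _ _ _ (by simpa using (ppi hi hj hij (1 : K)).symm), star_star]

theorem yy_add (i j : Fin (n + 1)) (hij : i ≠ j) (a b : K) :
    yy t Y A i j (a + b) = yy t Y A i j a * yy t Y A i j b := by
  by_cases hj : j = j.rev
  · simp only [yy, if_pos hj]
    exact m.add i (by grind) a b
  by_cases hi : i = i.rev
  · simp only [yy, if_neg hj, if_pos hi]
    rw [star_add, m.add _ (by grind), conj_mul]
  · simp only [yy_iso hi hj]
    rw [add_smul, h.add _ _ _ (ppi hi hj hij a) (ppi hi hj hij b) ((pp_self (ev_iso hi)).smul _ _)]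

theorem yy_G1 (i j k l : Fin (n + 1)) (h1 : i ≠ j) (h2 : k ≠ l) (h3 : j ≠ k) (h4 : i ≠ l)
    (h5 : ¬ (l = j.rev ∧ k = i.rev)) (a b : K) : Commute (yy t Y A i j a) (yy t Y A k l b) := by
  have P : ∀ i j k l : Fin (n + 1), i ≠ j → k ≠ l → j ≠ k → i ≠ l → ¬ (l = j.rev ∧ k = i.rev) →
      j = j.rev → ∀ a b, Commute (yy t Y A i j a) (yy t Y A k l b) := by
    intro i j k l h1 h2 h3 h4 h5 hj a b
    have hi : i ≠ i.rev := by grind
    have hk : k ≠ k.rev := by grind
    by_cases hl : l = l.rev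
    · rw [yy_mid hj, yy_mid hl]
      exact m.r1 i k hi hk (by grind) a b
    · rw [yy_mid hj, yy_iso hk hl]
      exact (m.r4 k l i hk hl hi h2 h4.symm b a).symm
  have B : ∀ i j k l : Fin (n + 1), i ≠ j → k ≠ l → j ≠ k → i ≠ l → ¬ (l = j.rev ∧ k = i.rev) →
      i = i.rev → ∀ a b, Commute (yy t Y A i j a) (yy t Y A k l b) := by
    intro i j k l h1 h2 h3 h4 h5 hi a b
    have := P j.rev i.rev l.rev k.rev (by grind) (by grind) (by grind) (by grind) (by grind)
      (by grind) (star a) (star b)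
    rw [← yy_T h m tt _ _ h1, ← yy_T h m tt _ _ h2] at this
    exact (Commute.conj_iff t).1 this
  by_cases hj : j = j.rev
  · exact P i j k l h1 h2 h3 h4 h5 hj a b
  by_cases hi : i = i.rev
  · exact B i j k l h1 h2 h3 h4 h5 hi a b
  by_cases hl : l = l.rev
  · exact (P k l i j h2 h1 h4.symm h3.symm (by grind) hl b a).symm
  by_cases hk : k = k.rev
  · exact (B k l i j h2 h1 h4.symm h3.symm (by grind) hk b a).symm
  rw [yy_iso hi hj, yy_iso hk hl]
  by_cases c : k = i.rev
  · exact h.c1 _ _ _ _ (ppi hi hj h1 a) (ppi hk hl h2 b) (hfe (by grind) b) (hfe (by grind) a)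
      (by rw [hf_ev, if_neg (by grind)])
  · exact c2 h (ppi hi hj h1 a) (ppi hk hl h2 b) (hfe (by grind) b) (hfe (by grind) a)
      ((pp_ev hi hk c).smul a b).p

theorem yy_G2 (i j k : Fin (n + 1)) (h1 : i ≠ j) (h2 : j ≠ k) (h3 : i ≠ k) (h4 : j ≠ i.rev)
    (h5 : k ≠ j.rev) (a b : K) :
    cm (yy t Y A i j a) (yy t Y A j k b) = yy t Y A i k (a * b) := by
  have hb : ∀ (j : Fin (n + 1)) (b : K), hf (b • ev j : Vn n K) (ev j.rev) = b := fun j b => by
    rw [hf_smul_left, hf_ev, if_pos rfl, mul_one]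
  have P : ∀ i j k : Fin (n + 1), i ≠ j → j ≠ k → i ≠ k → j ≠ i.rev → k = k.rev → ∀ a b,
      cm (yy t Y A i j a) (yy t Y A j k b) = yy t Y A i k (a * b) := by
    intro i j k h1 h2 h3 h4 hk a b
    have hi : i ≠ i.rev := by grind
    have hj : j ≠ j.rev := by grind
    rw [yy_iso hi hj, yy_mid hk, yy_mid hk]
    exact m.r3 i j hi hj h1 (by grind) a b
  by_cases hk : k = k.rev
  · exact P i j k h1 h2 h3 h4 hk a b
  by_cases hi : i = i.rev
  · have e1 := P k.rev j.rev i.rev (by grind) (by grind) (by grind) (by grind) (by grind) (star b) (star a)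
    have e2 := yy_add h m tt k.rev i.rev (by grind) 0 0
    rw [add_zero, left_eq_mul] at e2
    have e3 := cm_swap e1 (by
      rw [← yy_add h m tt _ _ (by grind), CharTwo.add_self_eq_zero, e2])
    apply (MulAut.conj t).injective
    simp only [cm, map_mul, map_inv, MulAut.conj_apply, yy_T h m tt _ _ h1, yy_T h m tt _ _ h2,
      yy_T h m tt _ _ h3]
    rw [star_mul]
    exact e3
  by_cases hj : j = j.rev
  · rw [yy_mid hj, yy_iso hi hk, yy, if_neg hk, if_pos hj]
    exact m.r2 i k hi hk h3 a b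
  · rw [yy_iso hi hj, yy_iso hj hk, yy_iso hi hk, h.m1 _ _ _ _ (ppi hi hj h1 a) (ppi hj hk h2 b)
      (hfe (by grind) a) (by rw [hf_ev, if_neg (by grind)]) ((pp_ev hi hj h4).smul a b).p, hb,
      smul_smul, mul_comm]

end Rel

theorem jobSF : JobSF.{u} := by
  intro n K _ _ _ _ hp _ _ _ _ _ _ G _ _ e t b Y A h m
  have h5 := hp.five
  have T := yy_T h m b.inv.1
  obtain ⟨Φ, hΦ⟩ := (str_of h5 (yy_add h m b.inv.1) T (yy_G1 h m b.inv.1)
    (yy_G2 h m b.inv.1)).exists_hom (by omega)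
  have act : ∀ s, t * Φ s * t⁻¹ = Φ (tau n K s) := fun s =>
    congrArg (fun f : SLn n K →* G => f s) (SA.hom_ext (e := (MulAut.conj t).toMonoidHom.comp Φ)
      (e' := Φ.comp (tau n K).toMonoidHom) fun i j hij c => by
        change t * Φ _ * t⁻¹ = Φ (tau n K _)
        rw [tau_x, hΦ _ _ hij, hΦ _ _ (Fin.rev_injective.ne hij.symm), T _ _ hij])
  have ker : Φ.ker ≤ center (SLn n K) := by
    refine (SA.normal_le_center_or (by omega) Φ.ker).resolve_right fun e0 => ?_
    let i1 : Fin (n + 1) := ⟨1, by omega⟩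
    have a0 : (0 : Fin (n + 1)) ≠ (0 : Fin (n + 1)).rev := by rw [Ne, Fin.ext_iff]; simp; omega
    have a1 : i1 ≠ i1.rev := by rw [Ne, Fin.ext_iff]; simp [i1]; omega
    have a2 : (0 : Fin (n + 1)) ≠ i1 := by rw [Ne, Fin.ext_iff]; simp [i1]
    have a3 : (0 : Fin (n + 1)) ≠ i1.rev := by rw [Ne, Fin.ext_iff]; simp [i1]; omega
    have p := ppi (K := K) a0 a1 a2 1
    have e1 : Y ((1 : K) • ev 0) (ev i1.rev) = 1 := by
      rw [← yy_iso (t := t) (Y := Y) (A := A) a0 a1, ← hΦ _ _ a2]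
      exact (e0 ▸ mem_top _ : _ ∈ Φ.ker)
    have e2 := h.res _ _ p
    rw [← h.tc _ _ p, e1] at e2
    obtain ⟨c, hc⟩ := (FV.cen _).1 (b.ker (show e _ = 1 from e2.symm.trans (by simp)))
    have e3 := congrFun (hc (ev i1)) 0
    rw [ac_qq p] at e3
    simp [ev_apply, hf_ev, a2, a3] at e3
  refine ⟨Φ, ker, act, H59.GB.W.range_eq_of_le b.ker (fun s hs => (FV.cen' s).2 (ker hs))
    (H59.GB.A.pf b.ce.b0 ?_ GA.range_perfect)⟩
  rintro _ ⟨s, rfl⟩
  refine mem_Cz.2 (mul_inv_eq_iff_eq_mul.1 ?_)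
  change t * Φ s.1 * t⁻¹ = Φ s.1
  rw [act, mem_fx.1 s.2]

end H59.UVF
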