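import Cfsg.Agent.H59.U5K0

/-! STD-UM, slot SW: the wreath case. -/

set_option autoImplicit false
set_option linter.unusedSectionVars false

namespace H59.UVW

open H67

open H64.SG (Cz Cs Ns cjs mem_Cz mem_Cs Cs_le_Ns)
open Matrix Subgroup H67 H59.UV
open H67.SA (SLn la cm mem_cjs conj_mem_cjs)
open H67.GA (B1 CH CW cje)

universe u

section Split

variable {X : Type} [Group X] [Finite X] [GA.Dat X] [GA.FO X] {G : Type u} [Group G] {e : X →* G}
  {t : G}

theorem conj2 (h : t * t = 1) (g : G) : t * (t * g * t⁻¹) * t⁻¹ = g := by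
  rw [← mul_assoc, ← mul_assoc, h, mul_assoc, ← _root_.mul_inv_rev, h]; simp

/-- `e X` is diagonal in a commuting product `L L^t`. -/
theorem split (b : B1 e t) {L : Subgroup G} (c : L ≤ Cs (cjs t L)) (h1 : e.range ≤ L ⊔ cjs t L) :
    ∃ e₁ e₂, CW e t e₁ e₂ := by
  have sw : ∀ {g}, g ∈ cjs t L → t * g * t⁻¹ ∈ L := by
    rintro _ ⟨g, hg, rfl⟩; exact (conj2 b.inv.1 g).symm ▸ hg
  have n2 : L ⊔ cjs t L ≤ Ns (cjs t L) := sup_le (c.trans (Cs_le_Ns _)) le_normalizer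
  have : ((cjs t L).subgroupOf (L ⊔ cjs t L)).Normal := ⟨fun a ha g =>
    mem_subgroupOf.2 (H98.conj_mem_of_mem_normalizer (n2 g.2) (mem_subgroupOf.1 ha))⟩
  let π := (QuotientGroup.mk' ((cjs t L).subgroupOf (L ⊔ cjs t L))).comp
    (inclusion (le_sup_left : L ≤ L ⊔ cjs t L))
  obtain ⟨φ, hφ⟩ := H21.exists_lift_of_perfect GA.FO.perf GA.FO.mult
    ((QuotientGroup.mk' ((cjs t L).subgroupOf (L ⊔ cjs t L))).comp
      (e.codRestrict _ fun a => h1 ⟨a, rfl⟩)) (π := π) (fun q => by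
      obtain ⟨⟨g, hg⟩, rfl⟩ := QuotientGroup.mk_surjective q
      obtain ⟨l, hl, a, ha, h4⟩ := (H98.mem_sup_left_norm (c.trans (Cs_le_Ns _))).1 hg
      exact ⟨⟨l, hl⟩, QuotientGroup.eq.2 (by
        change l⁻¹ * g ∈ cjs t L
        rwa [h4, inv_mul_cancel_left])⟩)
    (fun l hl => mem_center_iff.2 fun g => Subtype.ext
      (c g.2 _ (mem_subgroupOf.1 ((QuotientGroup.eq_one_iff (inclusion le_sup_left l)).1 hl))).symm)
  have h4 : ∀ a, ((φ a : L) : G)⁻¹ * e a ∈ cjs t L := fun a =>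
    mem_subgroupOf.1 (QuotientGroup.eq (s := (cjs t L).subgroupOf (L ⊔ cjs t L)).1 (hφ a))
  have cc : ∀ a a', ((φ a : L) : G) * (t * φ a' * t⁻¹) = t * φ a' * t⁻¹ * φ a := fun a a' =>
    (c (φ a).2 _ (conj_mem_cjs.2 (φ a').2)).symm
  let f : X →* G := MonoidHom.mk' (fun a => (φ a : G) * (t * φ a * t⁻¹)) fun a a' => by
    simp only [map_mul, coe_mul, ← conj_mul]
    rw [mul_assoc, ← mul_assoc (φ a' : G), cc a' a]; group
  have cen : ∀ a, ∀ g ∈ L ⊔ cjs t L, Commute (e a * (f a)⁻¹) g := fun a => by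
    have h5 := sw (h4 a)
    rw [← conj_mul, b.conj_eq] at h5
    have p2 : t * φ a * t⁻¹ ∈ cjs t L := conj_mem_cjs.2 (φ a).2
    have m1 : e a * (f a)⁻¹ ∈ L := by
      have : e a * (f a)⁻¹ = t * (φ a : G)⁻¹ * t⁻¹ * e a * (φ a : G)⁻¹ := by
        calc e a * ((φ a : G) * (t * φ a * t⁻¹))⁻¹ = t * φ a * t⁻¹ * (t * (φ a : G)⁻¹ * t⁻¹ * e a) *
              ((φ a : G) * (t * φ a * t⁻¹))⁻¹ := by group
          _ = _ := by rw [c h5 _ p2]; group
      exact this ▸ mul_mem h5 (inv_mem (φ a).2)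
    have m2 : e a * (f a)⁻¹ ∈ cjs t L := by
      have : e a * (f a)⁻¹ = (φ a : G)⁻¹ * e a * (t * φ a * t⁻¹)⁻¹ := by
        calc e a * ((φ a : G) * (t * φ a * t⁻¹))⁻¹ = φ a * ((φ a : G)⁻¹ * e a) *
              ((φ a : G) * (t * φ a * t⁻¹))⁻¹ := by group
          _ = _ := by rw [← c (φ a).2 _ (h4 a), cc]; group
      exact this ▸ mul_mem (h4 a) (inv_mem p2)
    have k : L ⊔ cjs t L ≤ Cz (e a * (f a)⁻¹) := sup_le
      (fun g hg => mem_Cz.2 (c hg _ m2)) fun g hg => mem_Cz.2 (c m1 g hg).symm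
    exact fun g hg => mem_Cz.1 (k hg)
  have ef : e = f := GA.hom_eq_of_central e f
    (fun a a' => cen a _ (mul_mem_sup (φ a').2 (conj_mem_cjs.2 (φ a').2)))
    fun a a' => cen a _ (h1 ⟨a', rfl⟩)
  refine ⟨L.subtype.comp φ, cje t (L.subtype.comp φ), fun a ha => b.ker ?_, cc,
    fun a => congrArg (fun g : X →* G => g a) ef, fun _ => rfl⟩
  have ha : (φ a : G) = 1 := ha
  change e a = 1
  rw [ef]
  change (φ a : G) * (t * φ a * t⁻¹) = 1
  rw [ha]; simp

end Split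

variable {n : ℕ} {K : Type} [Field K] [StarRing K] [CharP K 2] [Finite K]

/-- `λ` at `i` and `i'`. -/
def dd (i : Fin (n + 1)) (l : K) (k : Fin (n + 1)) : K := if k = i ∨ k = i.rev then l else 1

theorem dd_nm (i : Fin (n + 1)) {l : K} (h : nm l = 1) (k : Fin (n + 1)) :
    dd i l k * star (dd i l k.rev) = 1 := by
  have : (k.rev = i ∨ k.rev = i.rev) ↔ (k = i ∨ k = i.rev) := by
    rw [Fin.rev_inj, Fin.rev_eq_iff, or_comm]
  unfold dd
  rw [if_congr this rfl rfl]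
  split_ifs
  · exact h
  · simp

theorem dd_prod {i : Fin (n + 1)} (h : i ≠ i.rev) (l : K) : ∏ k, dd i l k = l * l := by
  have : ∀ k, dd i l k = (if k = i then l else 1) * if k = i.rev then l else 1 := fun k => by
    unfold dd
    by_cases h1 : k = i
    · simp [h1, h]
    · simp [h1]
  simp only [this, Finset.prod_mul_distrib]
  simp

/-- `λ` at `i, i'`, `λ⁻¹` at `j, j'`. -/
theorem exists_dd [FV n K] {i j : Fin (n + 1)} (hi : i ≠ i.rev) (hj : j ≠ j.rev) {l : K}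
    (h : nm l = 1) : ∃ g : XU n K, Odd (orderOf g) ∧
      ∀ k, ac g (ev k) = (dd i l k * dd j l⁻¹ k) • ev k := by
  have l0 : l ≠ 0 := fun e => by simp [e] at h
  have h' : nm l⁻¹ = 1 := by rw [nm, star_inv₀, ← mul_inv, show l * star l = 1 from h, inv_one]
  obtain ⟨g, -, g2, g3⟩ := FV.diag (n := n) (fun k => dd i l k * dd j l⁻¹ k) (fun k => by
    rw [star_mul']
    linear_combination dd_nm i h k * (dd j l⁻¹ k * star (dd j l⁻¹ k.rev)) + dd_nm j h' k) (by
    rw [Finset.prod_mul_distrib, dd_prod hi, dd_prod hj]; field_simp)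
  refine ⟨g, g2, fun k => funext fun a => ?_⟩
  rw [g3, Pi.smul_apply, ev_apply]
  split_ifs with e
  · simp [e]
  · simp

theorem rt_one : rt (1 : K) = 1 := sq_inj (by rw [rt_sq, one_pow])
theorem rt_zero : rt (0 : K) = 0 := sq_inj (by rw [rt_sq]; simp)

variable {G : Type u} [Group G] {e : XU n K →* G} {t : G} {τ : Vn n K → G} {δ : K}

theorem pp_add {u v w : Vn n K} (h : Pp u v) (h1 : Pp u w) (h2 : Pp v w) : Pp (u + v) w :=
  ⟨h.iso_add, h1.r, by rw [hf_add_left, h1.p, h2.p, add_zero]⟩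

theorem e_τ (h : T1 e t τ) {g : XU n K} {v : Vn n K} (hv : Iso v) (hg : ac g v = v) :
    Commute (e g) (τ v) := by
  have := h.eqv g v hv
  rwa [hg, mul_inv_eq_iff_eq_mul] at this

theorem sig_comm (h : T1 e t τ) {u v : Vn n K} (p : Pp u v) : sig τ v u = sig τ u v := by
  rw [sig, sig, add_comm u, mul_assoc, mul_assoc, h.comm u v p]

theorem sig_conj (h : T1 e t τ) (g : XU n K) {u v : Vn n K} (p : Pp u v) :
    e g * sig τ v u * (e g)⁻¹ = sig τ (ac g v) (ac g u) := by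
  rw [sig, sig, ← conj_mul, ← conj_mul, h.eqv _ _ p.iso_add, h.eqv _ _ p.l, h.eqv _ _ p.r, ac_add]

theorem zt_comm (h : T1 e t τ) {u v : Vn n K} (p : Pp u v) {a b a' b' : K} (ha : star a = a)
    (ha' : star a' = a') : Commute (zt e τ u a b) (zt e τ v a' b') := by
  have f1 : ∀ c : K, ac (Tc a u) (c • v) = c • v := fun c =>
    ac_EE_fix (ok_zero p.l ha) (by rw [hf_smul_left, p.symm.p, mul_zero]) (by simp)
  have f2 : ac (Tc a' v) (rt b • u) = rt b • u :=
    ac_EE_fix (ok_zero p.r ha') (by rw [hf_smul_left, p.p, mul_zero]) (by simp)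
  refine Commute.mul_left (Commute.mul_right (Commute.map ?_ e) (e_τ h (p.r.smul _) (f1 _)))
    (Commute.mul_right (e_τ h (p.l.smul _) f2).symm (h.comm _ _ (p.smul _ _)))
  have := Tc_conj p.r ha' (Tc a u)
  rwa [← one_smul K v, f1, one_smul, mul_inv_eq_iff_eq_mul] at this

variable (e τ) in
/-- `1 + (c + η)(x w* + w x*)` -/
noncomputable def YY (c : K) (x w : Vn n K) : G := e (qq (c • x) w) * sig τ x w

section P

variable (h : P3 e t τ δ) {c : K}
include h

theorem YY_cl {x w : Vn n K} (p : Pp w x) : Cl e t τ w (YY e τ c x w) (c • x) x := by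
  have p' : Pp w (c • x) := by simpa using p.smul 1 c
  simpa [YY] using h.cl.mul _ _ _ _ _ _ _ p.l (h.cl.cl_e _ _ _ p'.ok) (h.cl.cl_s _ _ p)

theorem YY_comm (hc : star c = c) {x w : Vn n K} (p : Pp w x) : YY e τ c x w = YY e τ c w x := by
  rw [YY, YY, sig_comm h.ta.toT1 p, qq_smul, hc, qq_comm]

theorem YY_smul (a : K) {x w : Vn n K} (p : Pp w x) :
    YY e τ c (a • x) w = YY e τ c x (star a • w) := by
  rw [YY, YY, h.ta.sscal _ _ _ p, smul_comm, qq_smul]

theorem YY_conj (g : XU n K) {x w : Vn n K} (p : Pp w x) :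
    e g * YY e τ c x w * (e g)⁻¹ = YY e τ c (ac g x) (ac g w) := by
  have p' : Pp w (c • x) := by simpa using p.smul 1 c
  rw [YY, YY, ← conj_mul, sig_conj h.ta.toT1 g p, ← map_inv, ← map_mul, ← map_mul, EE_conj p'.ok,
    ac_smul]

theorem YY_add {x x' w : Vn n K} (p : Pp w x) (p' : Pp w x') (q : Pp x x') :
    YY e τ c (x + x') w = YY e τ c x w * YY e τ c x' w := by
  have s1 : Pp w (c • x) := by simpa using p.smul 1 c
  have s2 : Pp w (c • x') := by simpa using p'.smul 1 c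
  have k := sig_conj h.ta.toT1 (qq (c • x') w) p
  rw [ac_EE_self s2.ok, ac_EE_fix s2.ok p.symm.p (by rw [hf_smul_right, q.p, mul_zero]),
    mul_inv_eq_iff_eq_mul] at k
  rw [YY, YY, YY, h.ta.sadd _ _ _ p p' q, smul_add, qq_add s1 s2 (q.symm.smul c c).p, map_mul,
    mul_assoc, mul_assoc, ← mul_assoc (sig τ x w), ← k, mul_assoc]

theorem InZ_sq {u : Vn n K} (hu : Iso u) {z : G} (hz : InZ e τ u z) : z * z = 1 := by
  obtain ⟨a, b, ha, hb, rfl⟩ := hz
  rw [← h.cl.zmul u a b a b hu ha hb ha hb, CharTwo.add_self_eq_zero, CharTwo.add_self_eq_zero, zt,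
    rt_zero, zero_smul, h.ta.zero, Tc, EE_zero, map_one, mul_one]

variable {η : K} (h1 : η ^ 2 + η = δ) (h2 : star η = η)
include h1 h2

theorem T_cl {x v w : Vn n K} (x0 : x ≠ 0) (p : Pp x w) (q : Pp x v) :
    InZ e τ x (cm (zt e τ v η 1) (YY e τ (η + 1) w x)) := by
  have k := YY_cl h (c := η + 1) p
  have k1 := h.cl.conj_e (Tc η v) _ _ _ _ p.l (h.cc x v _ _ _ x0 q k)
  have o := ok_zero q.r h2
  have a1 : ∀ y, ac (Tc η v) y = y + (η * hf y v) • v := fun y => by simp [ac_EE o]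
  have v0 : hf v v = 0 := q.r
  rw [ac_EE_fix o q.p (by simp), a1, a1] at k1
  have k2 := h.cl.mul _ _ _ _ _ _ _ p.l k1 (h.cl.inv _ _ _ _ p.l k)
  refine h.cl.rigid _ _ x0 p.l ?_
  convert k2 using 1
  · rw [cm, zt, rt_one, one_smul]; group
  · simp only [hf_add_left, hf_smul_left, v0]
    ext i
    simp only [Pi.add_apply, Pi.smul_apply, Pi.zero_apply, smul_eq_mul]
    linear_combination (hf w v * v i) * h1 - ((η + 1) * w i + (η ^ 2 + η) * hf w v * v i) * two0 K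
  · simp only [hf_add_left, hf_smul_left, v0]
    ext i
    simp only [Pi.add_apply, Pi.smul_apply, Pi.zero_apply, smul_eq_mul]
    linear_combination -(w i + (η + 1) * hf w v * v i) * two0 K

theorem T_YY {x v w : Vn n K} (x0 : x ≠ 0) (p : Pp x w) (q : Pp x v) {g : XU n K} {l : K}
    (l1 : l ≠ 1) (l2 : nm l = 1) (gx : ac g x = l • x) (gv : ac g v = v) (gw : ac g w = w) :
    Commute (zt e τ v η 1) (YY e τ (η + 1) w x) := by
  have hc : star (η + 1) = η + 1 := by rw [star_add, h2, star_one]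
  have pa : ∀ a : K, Pp x (a • w) := fun a => by simpa using p.smul 1 a
  have d1 := fun a => T_cl h h1 h2 x0 (pa a) q
  have d2 : ∀ a, cm (zt e τ v η 1) (YY e τ (η + 1) ((star l * a) • w) x) =
      cm (zt e τ v η 1) (YY e τ (η + 1) (a • w) x) := fun a => by
    obtain ⟨r, s, hr, hs, e1⟩ := d1 a
    have e2 := h.cl.zconj g x r s p.l hr
    rw [gx, h.cl.zsmul _ _ _ _ p.l hs, l2, one_mul, one_mul, ← e1] at e2
    rw [← e2, mul_smul, YY_smul h _ (pa a), star_star, ← gx]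
    have e3 := h.cl.zconj g v η 1 q.r h2
    have e4 := YY_conj h (c := η + 1) g (pa a)
    rw [ac_smul, gw] at e4
    rw [gv] at e3
    rw [← e4]
    nth_rewrite 1 [← e3]
    simp only [cm]; group
  have s0 : star l + 1 ≠ 0 := fun e => l1 (by
    rw [← star_star l, show star l = 1 by linear_combination e - two0 K, star_one])
  have d3 := d2 (star l + 1)⁻¹
  have d4 := InZ_sq h p.l (d1 (star l + 1)⁻¹)
  have d5 := (YY_cl h (c := η + 1) (pa (star l * (star l + 1)⁻¹))).c1 _ (d1 (star l + 1)⁻¹)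
  have e5 : w = (star l * (star l + 1)⁻¹) • w + (star l + 1)⁻¹ • w := by
    rw [← add_smul, show star l * (star l + 1)⁻¹ + (star l + 1)⁻¹ = 1 by field_simp, one_smul]
  refine SA.cm_eq_one.1 ?_
  rw [e5, YY_add h (pa _) (pa _) ((⟨p.r, p.r, p.r⟩ : Pp w w).smul _ _)]
  generalize YY e τ (η + 1) ((star l * (star l + 1)⁻¹) • w) x = A at *
  generalize YY e τ (η + 1) ((star l + 1)⁻¹ • w) x = B at *
  generalize zt e τ v η 1 = T at *
  calc cm T (A * B) = cm T A * (A * cm T B) * A⁻¹ := by simp only [cm]; group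
    _ = 1 := by rw [d5, d3, ← mul_assoc, d4]; simp

theorem T_comm [hp : Par n K] [FQ K] [FV n K] [FW n K] {v w : Vn n K} (hv : Iso v) (hw : Iso w) :
    Commute (zt e τ v η 1) (zt e τ w (η + 1) 1) := by
  have hc : star (η + 1) = η + 1 := by rw [star_add, h2, star_one]
  by_cases h0 : hf v w = 0
  · exact zt_comm h.ta.toT1 ⟨hv, hw, h0⟩ h2 hc
  obtain ⟨g, rfl, e1⟩ := FW.wh v w hv hw h0
  have c0 : star (hf (ac g (ev 0)) w) ≠ 0 := by simpa using h0
  generalize star (hf (ac g (ev 0)) w) = a at e1 c0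
  subst e1
  have h5 := hp.five
  have i0 : Iso (ev 0 : Vn n K) := ev_iso (by rw [Ne, Fin.ext_iff]; simp; omega)
  have il : Iso (a • ev (la n) : Vn n K) := (ev_iso (by rw [Ne, Fin.ext_iff]; simp; omega)).smul a
  rw [← h.cl.zconj _ _ _ _ i0 h2, ← h.cl.zconj _ _ _ _ il hc]
  refine Commute.conj ?_ _
  obtain ⟨l, l2, l1⟩ := FQ.n1 (K := K)
  let i1 : Fin (n + 1) := ⟨1, by omega⟩
  have r1 : i1 ≠ i1.rev := by rw [Ne, Fin.ext_iff]; simp [i1]; omega
  have m2 := v2 (n := n) K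
  obtain ⟨d, -, hd⟩ := exists_dm r1 (μ := 2) (rev2 (K := K)).symm l2
  have w0 : (a • ev (la n) : Vn n K) ≠ 0 := smul_ne_zero c0 (ev_ne _)
  have key : ∀ i : Fin (n + 1), i = i1 ∨ i = i1.rev → ∀ b : K, Pp (a • ev (la n)) (b • ev i) ∧
      Commute (zt e τ (ev 0) η 1) (YY e τ (η + 1) (b • ev i) (a • ev (la n))) := fun i hi b => by
    have hi' : i.val = 1 ∨ i.val = n - 1 := hi.imp (by rintro rfl; rfl) (by rintro rfl; simp [i1])
    have r : i ≠ i.rev := by rw [Ne, Fin.ext_iff]; simp; omega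
    have p : Pp (ev i : Vn n K) (ev (la n)) :=
      pp_ev r (by rw [Ne, Fin.ext_iff]; simp; omega) (by rw [Ne, Fin.ext_iff]; simp; omega)
    have q : Pp (ev i : Vn n K) (ev 0) :=
      pp_ev r (by rw [Ne, Fin.ext_iff]; simp; omega) (by rw [Ne, Fin.ext_iff]; simp; omega)
    refine ⟨p.symm.smul a b, ?_⟩
    have p1 : Pp (ev i) (star b • a • ev (la n) : Vn n K) := by simpa [smul_smul] using p.smul 1 _
    rw [YY_smul h b (by simpa using p.symm.smul a 1), YY_comm h hc p1.symm]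
    refine T_YY h h1 h2 (ev_ne i) p1 q (g := d) l1 l2 ?_ ?_ ?_
    · rw [hd, if_pos hi]
    · rw [hd, if_neg (by simp [Fin.ext_iff, i1]; omega),
        if_neg (by rw [Fin.ext_iff, m2]; simp), one_smul]
    · rw [ac_smul, ac_smul, hd, if_neg (by simp [Fin.ext_iff, i1]; omega),
        if_neg (by rw [Fin.ext_iff, m2]; simp; omega), one_smul]
  obtain ⟨θ, hθ⟩ := FQ.eta (K := K)
  obtain ⟨p1, k1⟩ := key i1 (.inl rfl) θ
  obtain ⟨p2, k2⟩ := key i1.rev (.inr rfl) 1
  have e1 := h.cb _ _ _ _ _ _ _ w0 il (YY_cl h (c := η + 1) p1) (YY_cl h (c := η + 1) p2)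
  simp only [hf_smul_left, hf_smul_right, hf_ev, if_true, hc, star_one, mul_one, one_mul, tr,
    star_mul'] at e1 hθ
  have e2 : zt e τ (a • ev (la n)) (η + 1) 1 = cm (YY e τ (η + 1) (θ • ev i1) (a • ev (la n)))
      (YY e τ (η + 1) ((1 : K) • ev i1.rev) (a • ev (la n))) := by
    rw [e1]
    congr 1
    · linear_combination -((η + 1) ^ 2 + δ) * hθ + h1 - (η ^ 2 + η) * two0 K
    · linear_combination -(2 * η + 3) * hθ - (η + 1) * two0 K
  rw [e2]
  exact ((k1.mul_right k2).mul_right k1.inv_right).mul_right k2.inv_right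

end P

theorem jobSW : JobSW.{u} := by
  intro n K _ _ _ _ _ _ _ _ _ _ _ G _ _ e t b τ δ h η h1 h2
  have hc : star (η + 1) = η + 1 := by rw [star_add, h2, star_one]
  have tc : ∀ v, Iso v → t * zt e τ v η 1 * t⁻¹ = zt e τ v (η + 1) 1 := fun v hv =>
    h.cl.zt_t v η 1 hv h2 (star_one K)
  let L := closure {g | ∃ v, Iso v ∧ g = zt e τ v η 1}
  have mem : ∀ v, Iso v → zt e τ v η 1 ∈ L := fun v hv => subset_closure ⟨v, hv, rfl⟩
  refine split b.toB1 (L := L) ((closure_le _).2 ?_) ?_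
  · rintro _ ⟨v, hv, rfl⟩ _ ⟨g, hg, rfl⟩
    refine (mem_Cz.1 ((closure_le ((Cz (zt e τ v η 1)).comap (MulAut.conj t).toMonoidHom)).2
      ?_ hg)).symm
    rintro _ ⟨w, hw, rfl⟩
    refine mem_Cz.2 ?_
    change _ * (t * _ * t⁻¹) = t * _ * t⁻¹ * _
    rw [tc w hw]
    exact T_comm h h1 h2 hv hw
  · rw [MonoidHom.range_eq_map, map_le_iff_le_comap, top_le_iff]
    refine FW.genT _ fun v hv => ?_
    have := h.cl.zmul v η 1 (η + 1) 1 hv h2 (star_one K) hc (star_one K)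
    rw [← add_assoc, CharTwo.add_self_eq_zero, CharTwo.add_self_eq_zero, zero_add, zt, rt_zero,
      zero_smul, h.ta.zero, mul_one, ← tc v hv] at this
    change e (Tc 1 v) ∈ L ⊔ cjs t L
    rw [this]
    exact mul_mem_sup (mem v hv) (conj_mem_cjs.2 (mem v hv))

end H59.UVW
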