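import Cfsg.Agent.H59.U5K0

/-! STD-U5: `JobTA`, from `HM`.  Pairwise perpendicular isotropic vectors can be moved into `W₂`,
where the identities are identities in `Mk 2` read through `ψ`. -/

set_option autoImplicit false
set_option linter.unusedSectionVars false

namespace H59.UV

open H67

open H64.SG (O2 Syl Cz Cs Ns cjs Is2 Inv2 UF IsO2 fx mem_Cs mem_Cz is2_of_sq)
open Matrix H57 Subgroup
open H67.SA (SLn Au la St cI cm)
open H67.GA (Ind B1 CE CH CP CW CF)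

universe u

namespace TAx

variable {n : ℕ} {K : Type} [Field K] [StarRing K] [CharP K 2] [Finite K] [hp : Par n K]

theorem wk0 (k : ℕ) : Wk k (0 : Vn n K) := fun _ _ => rfl

/-- an isotropic vector perpendicular to `e_0`, `e_1` lies in `W₂` -/
theorem wk_of_pp {x : Vn n K} (h0 : Pp (ev 0) x) (h1 : Pp (ev 1) x) : Wk 2 x := by
  obtain rfl := hp.five
  have a4 : x 4 = 0 := by simpa [hf_ev_right] using h0.symm.p
  have a3 : x 3 = 0 := by
    have := h1.symm.p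
    rw [hf_ev_right] at this
    exact this
  have a2 : x 2 = 0 := by
    have := h0.r
    rw [Iso, hf, Fin.sum_univ_five] at this
    change x 0 * star (x 4) + x 1 * star (x 3) + x 2 * star (x 2) + x 3 * star (x 1) +
      x 4 * star (x 0) = 0 at this
    simpa [a3, a4] using this
  intro i hi
  fin_cases i
  · simp at hi
  · simp at hi
  · exact a2
  · exact a3
  · exact a4

variable [FW n K]

theorem toA {u v : Vn n K} (h : Pp u v) (hl : Li u v) :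
    ∃ g : XU n K, ∀ x, Pp u x → Pp v x → Wk 2 (ac g x) := by
  obtain ⟨g, rfl, rfl⟩ := FW.w2 u v h hl
  exact ⟨g⁻¹, fun x h1 h2 => wk_of_pp (by simpa using h1.ac g⁻¹) (by simpa using h2.ac g⁻¹)⟩

theorem toB {u : Vn n K} (h : Iso u) : ∃ g : XU n K, ∀ a : K, Wk 2 (ac g (a • u)) := by
  by_cases hu : u = 0
  · exact ⟨1, fun a => by rw [hu, smul_zero, ac_zero]; exact wk0 2⟩
  obtain ⟨g, rfl⟩ := FW.w1 u hu h
  exact ⟨g⁻¹, fun a => by rw [ac_smul, ac_inv_ac]; exact (w0 (by omega)).smul a⟩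

theorem to3 {u v w : Vn n K} (h1 : Pp u v) (h2 : Pp u w) (h3 : Pp v w) :
    ∃ g : XU n K, Wk 2 (ac g u) ∧ Wk 2 (ac g v) ∧ Wk 2 (ac g w) := by
  have pu : Pp u u := ⟨h1.l, h1.l, h1.l⟩
  have pv : Pp v v := ⟨h1.r, h1.r, h1.r⟩
  have pw : Pp w w := ⟨h2.r, h2.r, h2.r⟩
  by_cases l1 : Li u v
  · obtain ⟨g, hg⟩ := toA h1 l1
    exact ⟨g, hg u pu h1.symm, hg v h1 pv, hg w h2 h3⟩
  by_cases l2 : Li u w
  · obtain ⟨g, hg⟩ := toA h2 l2
    exact ⟨g, hg u pu h2.symm, hg v h1 h3.symm, hg w h2 pw⟩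
  by_cases l3 : Li v w
  · obtain ⟨g, hg⟩ := toA h3 l3
    exact ⟨g, hg u h1.symm h2.symm, hg v pv h3.symm, hg w h3 pw⟩
  by_cases hu : u = 0
  · by_cases hv : v = 0
    · obtain ⟨g, hg⟩ := toB h2.r
      exact ⟨g, by simpa [hu] using hg 0, by simpa [hv] using hg 0, by simpa using hg 1⟩
    obtain ⟨c, rfl⟩ := exists_smul_of_not_li hv l3
    obtain ⟨g, hg⟩ := toB h1.r
    exact ⟨g, by simpa [hu] using hg 0, by simpa using hg 1, hg c⟩
  obtain ⟨c, rfl⟩ := exists_smul_of_not_li hu l1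
  obtain ⟨d, rfl⟩ := exists_smul_of_not_li hu l2
  obtain ⟨g, hg⟩ := toB h1.l
  exact ⟨g, by simpa using hg 1, hg c, hg d⟩

variable [FV n K] {G : Type u} [Group G] {e : XU n K →* G} {t : G} {τ : Vn n K → G}

theorem hm_ex (H : HM τ) : ∃ φ : XU n K → G, φ 1 = 1 ∧
    (∀ a b, a ∈ GA.Mk (XU n K) 2 → b ∈ GA.Mk (XU n K) 2 → φ (a * b) = φ a * φ b) ∧
    ∀ v, Wk 2 v → τ v = φ (TT v) := by
  classical
  obtain ⟨ψ, hψ⟩ := H
  refine ⟨fun a => if h : a ∈ GA.Mk (XU n K) 2 then ψ ⟨a, h⟩ else 1, ?_, fun a b ha hb => ?_,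
    fun v hv => ?_⟩
  · simp only [dif_pos (one_mem (GA.Mk (XU n K) 2))]; exact map_one ψ
  · simp only [dif_pos ha, dif_pos hb, dif_pos (mul_mem ha hb)]
    exact map_mul ψ ⟨a, ha⟩ ⟨b, hb⟩
  · have h := Tc_mem (four (n := n) K) hv (star_one K)
    simp only [dif_pos h]
    exact (hψ v ⟨_, h⟩ hv rfl).symm

theorem sig_conj (T : T1 e t τ) (g : XU n K) {u v : Vn n K} (h : Pp u v) :
    e g * sig τ v u * (e g)⁻¹ = sig τ (ac g v) (ac g u) := by
  rw [sig, sig, ← conj_mul, ← conj_mul, T.eqv g _ h.iso_add, T.eqv g _ h.l, T.eqv g _ h.r, ac_add]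

theorem cj_inj {G : Type u} [Group G] (g : G) {a b : G} (h : g * a * g⁻¹ = g * b * g⁻¹) : a = b :=
  mul_left_cancel (mul_right_cancel h)

end TAx

open TAx in
theorem jobTA : JobTA.{u} := by
  intro n K _ _ _ _ hp _ _ _ _ _ _ G _ _ e t h τ T H
  obtain ⟨φ, f1, f2, f3⟩ := hm_ex H
  have hk := four (n := n) K
  have M : ∀ {v : Vn n K}, Wk 2 v → TT v ∈ GA.Mk (XU n K) 2 := fun hv => Tc_mem hk hv (star_one K)
  have Q : ∀ {u v : Vn n K}, Wk 2 u → Wk 2 v → qq v u ∈ GA.Mk (XU n K) 2 := fun hu hv =>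
    FV.EE_M 2 hk _ _ _ (hu.pp hv hk).ok hu hv
  have S : ∀ {u v : Vn n K}, Wk 2 u → Wk 2 v → sig τ v u = φ (qq v u) := fun hu hv => by
    rw [qq_eq_TT (hu.pp hv hk), f2 _ _ (mul_mem (M (hu.add hv)) (M hu)) (M hv),
      f2 _ _ (M (hu.add hv)) (M hu), ← f3 _ (hu.add hv), ← f3 _ hu, ← f3 _ hv, sig]
  refine ⟨T, fun v hv => ?_, fun a b u ha hb hu => ?_, fun u v w h1 h2 h3 => ?_,
    fun a u v h1 => ?_⟩
  · obtain ⟨g, hg⟩ := toB hv
    have g1 := hg 1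
    rw [one_smul] at g1
    apply cj_inj (e g)
    rw [← conj_mul, T.eqv g v hv, f3 _ g1, ← f2 _ _ (M g1) (M g1),
      Tc_mul_self (hv.ac g) (star_one K), f1]
    simp
  · obtain ⟨g, hg⟩ := toB hu
    apply cj_inj (e g)
    rw [← conj_mul, T.eqv g _ (hu.smul _), T.eqv g _ (hu.smul _), T.eqv g _ (hu.smul _),
      f3 _ (hg _), f3 _ (hg _), f3 _ (hg _), ← f2 _ _ (M (hg a)) (M (hg b))]
    congr 1
    simp only [ac_smul, TT, Tc_smul, mul_one]
    rw [← Tc_add (hu.ac g) (star_nm a) (star_nm b)]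
    congr 1
    simp only [nm, star_add, ha, hb]
    linear_combination a * b * two0 K
  · obtain ⟨g, g1, g2, g3⟩ := to3 h1 h2 h3
    apply cj_inj (e g)
    rw [← conj_mul, sig_conj T g h1, sig_conj T g h2,
      sig_conj T g ⟨h1.l, h3.iso_add, by rw [hf_add_right, h1.p, h2.p, add_zero]⟩, ac_add,
      S g1 (g2.add g3), S g1 g2, S g1 g3, ← f2 _ _ (Q g1 g2) (Q g1 g3),
      qq_add (g1.pp g2 hk) (g1.pp g3 hk) (g3.pp g2 hk).p]
  · obtain ⟨g, g1, g2, -⟩ := to3 h1 h1 ⟨h1.r, h1.r, h1.r⟩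
    apply cj_inj (e g)
    rw [sig_conj T g (by simpa using h1.smul 1 a), sig_conj T g (by simpa using h1.smul (star a) 1),
      ac_smul, ac_smul, S g1 (g2.smul a), S (g1.smul _) g2, qq_smul]

end H59.UV
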