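import Cfsg.Agent.H59.U5FK
import Cfsg.Agent.H29.SAFF

/-! STD-UM: `JobTR`, `JobFF` (outer involutions of `X = SU_(n+1)(q)`). -/

set_option autoImplicit false
set_option linter.unusedSectionVars false

namespace H59.UVK

open H67

open H64.SG (O2 Syl Cz Cs Ns cjs Is2 Inv2 UF IsO2 fx mem_fx is2_of_sq)
open Matrix H57 Subgroup
open H67 H59.UV
open H67.SA (SLn Au la St cI cm)
open H29.SA (gr)

variable {n : ℕ} {K : Type} [Field K] [StarRing K] [CharP K 2] [Finite K] [hp : Par n K]

/-- `F ≤ K` -/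
def io0 (K : Type) [Field K] [StarRing K] : selfAdjoint K →+* K where
  toFun := Subtype.val
  map_one' := rfl
  map_mul' _ _ := rfl
  map_zero' := rfl
  map_add' _ _ := rfl

instance charP_sa : CharP (selfAdjoint K) 2 := (io0 K).charP Subtype.val_injective 2

theorem par0 (n : ℕ) (K : Type) [Field K] [StarRing K] [Par n K] : SA.Par n (selfAdjoint K) :=
  ⟨two_le n K, fun h => by have := Par.five (n := n) K; omega⟩

theorem exists_map {M : Matrix (Fin (n + 1)) (Fin (n + 1)) K} (h : M.map (sg K) = M) :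
    ∃ M₀ : Matrix (Fin (n + 1)) (Fin (n + 1)) (selfAdjoint K), M₀.map (io0 K) = M :=
  ⟨of fun i j => ⟨M i j, congrFun (congrFun h i) j⟩, rfl⟩

/-- A graph automorphism commuting with the field involution is defined over `F`. -/
theorem exists_gr [FQ K] {α : Au n K} (h2 : α * α = 1)
    (ho : SA.out n K α = (1, Multiplicative.ofAdd 1))
    (hc : slField _ K (sg K) * α = α * slField _ K (sg K)) :
    ∃ J : GL (Fin (n + 1)) (selfAdjoint K), J.1ᵀ = J.1 ∧ α = gr (GeneralLinearGroup.map (io0 K) J) := by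
  have hn := two_le n K
  have z : (1 : Multiplicative (ZMod 2)) ≠ Multiplicative.ofAdd 1 := by decide
  obtain ⟨g, ⟨h, -⟩ | ⟨-, e⟩⟩ := SA.exists_dfg hn α
  · rw [ho] at h; exact absurd h.symm z
  rw [ho, map_one, mul_one, ← inv_inv g] at e
  generalize g⁻¹ = J at e
  subst e
  rw [← mul_assoc, slField_mul_slDiag, mul_assoc, mul_assoc, slGraph_mul_slField, mul_left_inj,
    ← mul_inv_eq_one, ← map_inv, ← map_mul, inv_inv, map_inv] at hc
  obtain ⟨c, hc⟩ := pslDiag_eq_one_iff.1 ((congrArg (quotCenterAut _) hc).trans (map_one _))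
  rw [eq_inv_mul_iff_mul_eq] at hc
  have h3 : ∀ i j, star (J.1 i j) * c = J.1 i j := fun i j => by
    have h4 := congrArg Units.val hc
    simpa using congrFun (congrFun h4 i) j
  obtain ⟨j, hj⟩ := SA.exists_row_ne J 0
  obtain ⟨b, b0, hb⟩ := FQ.h90 (c : K) (mul_left_cancel₀ hj (by
    have := congrArg star (h3 0 j)
    rw [star_mul', star_star] at this
    linear_combination c * this + h3 0 j))
  obtain ⟨M, hM⟩ := exists_map (M := star b • J.1) (by
    ext i j
    simp only [map_apply, Matrix.smul_apply, smul_eq_mul, starRingAut_apply, star_mul', star_star]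
    linear_combination star b * h3 i j - star (J.1 i j) * hb)
  have d0 : M.det ≠ 0 := fun h => by
    have := (io0 K).map_det M
    rw [h, map_zero, RingHom.mapMatrix_apply, hM, det_smul] at this
    exact mul_ne_zero (pow_ne_zero _ (star_ne_zero.2 b0)) J.det_ne_zero this.symm
  have e : GeneralLinearGroup.map (io0 K) (GeneralLinearGroup.mkOfDetNeZero M d0) =
      J * GeneralLinearGroup.scalar _ (Units.mk0 _ (star_ne_zero.2 b0)) := Units.ext (by
    refine hM.trans ?_
    ext i j; simp [mul_comm])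
  refine ⟨GeneralLinearGroup.mkOfDetNeZero M d0, ?_, by
    rw [e, gr, _root_.mul_inv_rev, map_mul, ← map_inv, H29.SA.slDiag_scalar, one_mul]⟩
  refine Matrix.map_injective (f := io0 K) Subtype.val_injective ?_
  change Mᵀ.map (io0 K) = M.map (io0 K)
  rw [transpose_map, hM, transpose_smul, (H29.SA.symm_of_sq (J := J) h2).2]

theorem tr_gr [Base n K] (β : MulAut (XU n K)) (h2 : β * β = 1) (ho : GA.out (XU n K) β ≠ 1) :
    ∃ J : GL (Fin (n + 1)) (selfAdjoint K), J.1ᵀ = J.1 ∧ Nonempty (fx β ≃* fx (gr J)) := by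
  have hn := two_le n K
  have z : (1 : Multiplicative (ZMod 2)) ≠ Multiplicative.ofAdd 1 := by decide
  obtain ⟨γ, g1, g2⟩ := FX.ext β
  have g3 : γ * γ = 1 := (FX.cX (γ * γ) fun g => by
      rw [MulAut.mul_apply, ← g1, ← g1, ← MulAut.mul_apply, h2]; rfl).resolve_right fun h => by
    have := congrArg (fun a => (SA.out n K a).2) h
    simp only [map_mul, Prod.snd_mul, g2, mul_one, FV.out_tau] at this
    exact z this
  rw [FX.out_eq β γ ⟨g1, g2⟩] at ho
  obtain ⟨θ, hθ⟩ : ∃ θ, θ * γ * θ⁻¹ = slField _ K (sg K) := by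
    rcases H29.SA.rep hn g3 (fun h => ho (by rw [h]; rfl)) with
      ⟨σ, s1, s2, e⟩ | ⟨J, rfl⟩ | ⟨σ, s1, s2, e⟩
    · rw [(SA.out_sq_eq_one (sg_ne n) sg_sq s2).resolve_left s1] at e
      exact isConj_iff.1 e
    · rw [H29.SA.out_gr hn] at g2; exact absurd g2.symm z
    · rw [H29.SA.out_of_isConj e, map_mul, SA.out_slField hn, SA.out_slGraph hn] at g2
      exact absurd g2.symm z
  have c1 := FX.comm β γ g1
  obtain ⟨J, j1, j2⟩ := exists_gr (α := θ * (γ * tau n K) * θ⁻¹) (by
      rw [conj_mul, mul_assoc γ, ← mul_assoc (tau n K), ← c1, mul_assoc γ, tau_mul_self, mul_one, g3]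
      simp)
    (by
      rw [SA.out_conj_eq, map_mul, ← SA.out_conj_eq θ γ, hθ, SA.out_slField hn, FV.out_tau]
      exact Prod.ext sg_sq rfl)
    (by rw [← hθ, conj_mul, conj_mul, mul_assoc γ, ← c1])
  let f : fx β →* SLn n K := θ.toMonoidHom.comp ((io n K).comp (fx β).subtype)
  let f' : fx (gr J) →* SLn n K := (SpecialLinearGroup.map (io0 K)).comp (fx (gr J)).subtype
  have i1 : Function.Injective f := fun a b h => Subtype.ext (Subtype.ext (θ.injective h))
  have i2 : Function.Injective f' := fun a b h => Subtype.ext (Subtype.ext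
    (Matrix.map_injective (f := io0 K) Subtype.val_injective (congrArg Subtype.val h)))
  have k : ∀ u : SLn n (selfAdjoint K), u ∈ fx (gr J) ↔
      SpecialLinearGroup.map (io0 K) u ∈ fx (θ * (γ * tau n K) * θ⁻¹) := fun u => by
    rw [j2, H29.SA.mem_fx_gr, H29.SA.mem_fx_gr]
    change _ ↔ (u.1.map (io0 K))ᵀ * J.1.map (io0 K) * u.1.map (io0 K) = J.1.map (io0 K)
    rw [← transpose_map, ← Matrix.map_mul, ← Matrix.map_mul]
    exact (Matrix.map_injective (f := io0 K) Subtype.val_injective).eq_iff.symm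
  refine ⟨J, j1, ⟨((MonoidHom.ofInjective i1).trans (MulEquiv.subgroupCongr (le_antisymm ?_ ?_))).trans
    (MonoidHom.ofInjective i2).symm⟩⟩
  · rintro _ ⟨⟨s, hs⟩, rfl⟩
    have s1 : γ s.1 = s.1 := by rw [← g1, mem_fx.1 hs]
    have s2 : slField _ K (sg K) (θ s.1) = θ s.1 := by rw [← hθ]; simp [s1]
    obtain ⟨M, hM⟩ := exists_map (M := (θ s.1).1) (congrArg Subtype.val s2)
    have e : SpecialLinearGroup.map (io0 K) ⟨M, Subtype.val_injective (((io0 K).map_det M).trans (by
      rw [RingHom.mapMatrix_apply, hM]; exact (θ s.1).2))⟩ = θ s.1 := Subtype.ext hM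
    exact ⟨⟨_, (k _).2 (by rw [e, mem_fx]; simp [mem_fx.1 s.2, s1])⟩, e⟩
  · rintro _ ⟨⟨u, hu⟩, rfl⟩
    obtain ⟨s, hs⟩ := θ.surjective (SpecialLinearGroup.map (io0 K) u)
    have s1 : γ s = s := θ.injective (by
      have : slField _ K (sg K) (SpecialLinearGroup.map (io0 K) u) = SpecialLinearGroup.map (io0 K) u :=
        Subtype.ext (Matrix.ext fun i j => (u.1 i j).2)
      rw [← hθ, ← hs] at this
      simpa using this)
    have s2 : tau n K s = s := by
      have := mem_fx.1 ((k u).1 hu)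
      rw [← hs, c1] at this
      simpa [s1] using this
    exact ⟨⟨⟨s, mem_fx.2 s2⟩, mem_fx.2 (Subtype.ext (by rw [g1]; exact s1))⟩, hs⟩

theorem jobTR : JobTR := fun n K _ _ _ _ _ B β h2 ho => by
  obtain ⟨J, j1, e⟩ := tr_gr β h2 ho
  exact ⟨gr J, H29.SA.gr_sq (two_le n K) j1, H29.SA.out_gr (two_le n K) J, e⟩

end H59.UVK
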