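import Cfsg.Agent.H67.GAInd

/-! STD-U5 (row S1778, chapter `U₅(q)`), piece 1: a variant `GB` of the type-free tower `H67.GA`
for two classes of involutions; it covers `SU₅(q)` for all even `q`.  Notes:
`blueprints/STDU5.md`. -/

set_option autoImplicit false

namespace H59.GB

open H64.SG (O2 Syl Cz Cs Ns cjs Is2 Inv2 UF IsO2 fx)
open H57 Subgroup H67.GA

universe u

section Facts

variable (X : Type) [Group X] [Dat X]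

/-- `(Q ⊓ Q₂) M₂` -/
abbrev D3 : Subgroup X := QQ X ⊓ Qk X 2 ⊔ Mk X 2

/-- Generation. -/
class FP : Prop where
  l2 : ll X = 2
  pfS : SS X ≤ ⁅SS X, SS X⁆
  ivS : SS X ≤ Iv (SS X)
  ivQ : QQ X ≤ Iv (QQ X)
  SN : SS X ≤ Ns (Qk X 2)
  SM : SS X ≤ Ns (Mk X 2)
  top : Iv (PP X) ⊔ SS X = ⊤
  opU : UU X ≤ O2 (Cs (ZZ X))

/-- Involutions and squares. -/
class FG : Prop where
  ig3 : ∀ k, Rg X k → Qk X k ≤ Iv (Cz (xk X k))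
  cm2 : Mk X 2 ≤ ⁅Qk X 2, Qk X 2⁆
  gM : ∀ k, Rg X k → Mk X k ≤ closure {v | ∃ u ∈ Qk X k, v = u * u}
  gM2 : Mk X 2 ≤ ZZ X ⊔ closure {v | ∃ u ∈ Qk X 2, v = u * u ∧ v ∉ QQ X}
  iU : ∀ u ∈ UU X, u * u = 1 → u ∈ QQ X ∨ u ∈ Mk X 2

/-- More centralisers in `Aut X`. -/
class FC : Prop where
  ct3 : ∀ β : MulAut X, (∀ u ∈ D3 X, β u = u) → β ∈ cI (Mk X 2)
  cM2 : ∀ β : MulAut X, Is2 β → (∀ u ∈ Mk X 2, β u = u) → β ∈ cI (Qk X 2)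
  oZ : ∀ β : MulAut X, (∀ z ∈ ZZ X, β z = z) → out X (β * β) = 1

/-- Every automorphism of some `P₁` between `P` and `C(Z)` extends. -/
class FE : Prop where
  ap : ∃ P : Subgroup X, PP X ≤ P ∧ P ≤ Cs (ZZ X) ∧ P ⊓ center X = ⊥ ∧
    (∀ θ : MulAut P, ∃ β : MulAut X, ∀ p : P, β p = θ p) ∧
    (P ≤ ⁅P, P⁆ ∧ P ≤ PP X ∨ P ≤ O2 P ∧
      (∀ β : MulAut X, Odd (orderOf β) → ∃ s, β = MulAut.conj s) ∧ ∀ z ∈ ZZ X, z ≠ 1 → Cz z ≤ P)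

/-- The centre of a Sylow `2`-subgroup of the fixed points of an outer involution. -/
class FF : Prop where
  ff : ∀ β : MulAut X, β * β = 1 → out X β ≠ 1 →
    (∀ (P : Subgroup X) (y : X), Syl P (fx β) → y ∈ P → y ∈ Cs P → y * y = 1 →
      y ∈ ⁅fx β, fx β⁆) ∨
    ((∀ a b : Dat.A X, a ≠ 1 → b ≠ 1 → a = b) ∧
      (∀ g : X, MulAut.conj g * β * (MulAut.conj g * β) = 1 →
        ∃ h : X, MulAut.conj g * β = MulAut.conj h * β * (MulAut.conj h)⁻¹) ∧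
      ∀ P : Subgroup X, Syl P (fx β) → 4 ≤ Nat.card ↥(P ⊓ Cs P) ∧
        (∀ y ∈ P ⊓ Cs P, y * y = 1) ∧ Ns P ≤ Cs (P ⊓ Cs P))

/-- All facts. -/
class Fa : Prop extends FO X, FB X, FA X, FP X, FG X, FC X, FE X, FI X, FJ X, FD X, FF X, FH X

end Facts

/-- `GW` and the centraliser of `D3`. -/
structure GX {X : Type} [Group X] [Dat X] {G : Type u} [Group G] (e : X →* G) (t : G)
    (e₁ e₂ : X →* G) : Prop extends GW e t e₁ e₂ where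
  cu3 : Cs ((D3 X).map e) ≤ Ns (G12 e₁ e₂)

/-- A statement for all `X`, `e`, `t`. -/
def AllG (P : ∀ (X : Type) [Group X] [Dat X] (G : Type u) [Group G], (X →* G) → G → Prop) : Prop :=
  ∀ (X : Type) [Group X] [Finite X] [Dat X] [Fa X] (G : Type u) [Group G] [Finite G]
    (e : X →* G) (t : G), P X G e t

def JobAB : Prop := AllG.{u} fun _ _ _ _ _ e t => (B0 e t → AB e t) ∧ (CE e t → AE e t)

def JobJB : Prop := AllG.{u} fun X _ _ _ _ e t => B0 e t →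
  (∃ s, IsConj t s ∧ s ≠ t ∧ s * t = t * s) → ∃ z ∈ ZZ X, z ≠ 1 ∧ IsConj t (t * e z)

def JobJA : Prop := AllG.{u} fun X _ _ G _ e t => B0 e t →
  Cfsg.IsTightlyEmbedded (Cs e.range) → Ns (Cs e.range) ≤ Ns (e.range : Subgroup G) →
  (∃ z ∈ ZZ X, z ≠ 1 ∧ IsConj t (t * e z)) → CA e t

def JobP2a : Prop := AllG.{u} fun _ _ _ _ _ e t => CH e t → CP e t

/-- Pass to `N(O) / O` and lift back. -/
def JobH : Prop := ∀ (X : Type) [Group X] [Finite X] [Dat X] [Fa X] (Y : Type) [Group Y] [Finite Y]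
  (ι : X →* Y) (τ : MulAut Y), Big ι τ →
    (∀ (G : Type u) [Group G] [Finite G] (e : X →* G) (t : G), CH e t → Res e t ι τ) →
    ∀ (G : Type u) [Group G] [Finite G] (e : X →* G) (t : G), CA e t → Res e t ι τ

/-- A statement in the wreath case. -/
def AllW (P : ∀ (X : Type) [Group X] [Dat X] (G : Type u) [Group G],
    (X →* G) → G → (X →* G) → (X →* G) → Prop) : Prop :=
  AllG.{u} fun X _ _ G _ e t => ∀ e₁ e₂ : X →* G, CE e t → CW e t e₁ e₂ → P X G e t e₁ e₂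

def JobW0 : Prop := AllW.{u} fun _ _ _ _ _ _ t e₁ e₂ => W0 t e₁ e₂

def JobWU : Prop := AllW.{u} fun _ _ _ _ _ e t e₁ e₂ => W0 t e₁ e₂ → GX e t e₁ e₂

/-- `m` normalises `Qk₁ Mk₂` and `Qk₂ Mk₁`. -/
def NB {X : Type} [Group X] [Dat X] {G : Type u} [Group G] (e₁ e₂ : X →* G) (m : G) : Prop :=
  ∀ k, Rg X k → m ∈ Ns ((Qk X k).map e₁ ⊔ (Mk X k).map e₂) ∧
    m ∈ Ns ((Qk X k).map e₂ ⊔ (Mk X k).map e₁)

def JobNQ : Prop := AllW.{u} fun _ _ _ _ _ e t e₁ e₂ => GW e t e₁ e₂ →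
  ∀ m, NB e₁ e₂ m → m ∈ Ns (G12 e₁ e₂)

/-- Case I: `U* ≤ W`. -/
def JobW1 : Prop := AllW.{u} fun X _ _ G _ e t e₁ e₂ => GW e t e₁ e₂ → ∀ W : Subgroup G,
  IsPGroup 2 W → W ≤ Ns (G12 e₁ e₂) → two e₁ e₂ (UU X) ≤ W → ∀ m ∈ Ns W,
    NB e₁ e₂ m ∨ NB e₁ e₂ (t * m)

/-- Case II: the odd part of `t b` centralises `W`. -/
def JobW2 : Prop := AllW.{u} fun X _ _ G _ e t e₁ e₂ => GW e t e₁ e₂ →
  ∀ (W : Subgroup G) (b : G) (k : ℕ) (y : X), IsPGroup 2 W → W ≤ Ns (G12 e₁ e₂) → t ∈ Ns W →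
    b ∈ Ns W → b * b = 1 → Odd k → (t * b) ^ k ∈ W → e₁ (y * y) ∈ W → (e₁ y)⁻¹ * t ∈ W →
    (y * y = 1 ∨ 2 < Nat.card ↥(W ⊓ e₁.range)) →
    ∀ o ∈ zpowers (t * b), Odd (orderOf o) → o ∈ Cs W

/-- Case II: centralisers of `d = y⁻¹ t`. -/
def JobW3 : Prop := AllW.{u} fun X _ _ _ _ e t e₁ e₂ => GW e t e₁ e₂ →
  (∀ y, Inv2 y → Cz (e₁ y * t) ≤ Ns (G12 e₁ e₂)) ∧ ∀ y ∈ D3 X,
    Cs (two e₁ e₂ (Mk X 2) ⊔ zpowers ((e₁ y)⁻¹ * t)) ≤ Ns (G12 e₁ e₂)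

def JobWE : Prop := AllW.{u} fun X _ _ G _ e t e₁ e₂ => GX e t e₁ e₂ →
  (∀ W : Subgroup G, IsPGroup 2 W → W ≤ Ns (G12 e₁ e₂) → two e₁ e₂ (UU X) ≤ W →
    Ns W ≤ Ns (G12 e₁ e₂)) → Ns (G12 e₁ e₂) = ⊤

end H59.GB
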