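import Cfsg.Agent.H59.U5GW0
import Cfsg.Agent.H18.SAK

/-! STD-UM (row S3128), wreath case: a kit for `JobNQ`, `JobW1` of `H67.GA` (port of `H18/SAK`). -/

set_option autoImplicit false
set_option linter.unusedSectionVars false

namespace H59.GB.K

open H67 H67.GA

open H64.SG (O2 Syl Cz Cs Ns cjs Is2 Inv2 UF IsO2 fx mem_Cs mem_Cz mem_fx is2_of_sq
  isPGroup_iff_is2)
open H57 H98 H67.GA Subgroup
open H18.SA (le_or_le rel_le_ncard rel_le_card rel_eq_card rel_cj rel_mono rel_mul_card ktr)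
open scoped commutatorElement

universe u

variable {X : Type} [Group X] [Finite X] [Dat X] [Fa X] {G : Type u} [Group G] [Finite G]
  {e e₁ e₂ : X →* G} {g m t : G} {β : MulAut X} {A B : Subgroup X} {a b : X}

theorem rel_eq (hk : e.ker ≤ center X) (h : Ind e g β) (hA : IsPGroup 2 A) :
    (fx β).relIndex A = (Cz g).relIndex (A.map e) := by
  rw [← relIndex_comap, ← inf_relIndex_right, ← inf_relIndex_right (comap e _)]
  congr 1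
  ext a
  refine and_congr_left fun ha => ?_
  exact mem_fx.trans ((h.comm_iff hk (isPGroup_iff_is2.1 hA a ha)).symm.trans mem_Cz.symm)

theorem x0_ne : xk X 1 ≠ 1 := (inv2_xk rg1).2
theorem x_sq : xk X 1 * xk X 1 = 1 := (inv2_xk rg1).1
theorem x_mem : xk X 1 ∈ ZZ X := FB.xM 1 rg1
theorem one_lt_q : 1 < qq X := FB.q2

/-- The part of `GW` that is used here. -/
structure HB (e : X →* G) (t : G) (e₁ e₂ : X →* G) : Prop extends CW e t e₁ e₂ where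
  uf : UF (Ns (G12 e₁ e₂)) t
  odd : Odd (Nat.card (Cs (G12 e₁ e₂)))
  pm : ∀ m ∈ Ns (G12 e₁ e₂), m ∈ Ns e₁.range ∧ m ∈ Ns e₂.range ∨
    cjs m e₁.range = e₂.range ∧ cjs m e₂.range = e₁.range

theorem hb_of (c : CW e t e₁ e₂) (w : GW e t e₁ e₂) : HB e t e₁ e₂ :=
  ⟨c, w.uf, w.odd, w.pm⟩

namespace HB

variable (h : HB e t e₁ e₂)
include h

theorem tt : t * t = 1 := h.uf.inv.1

theorem symm : HB e t e₂ e₁ := by
  have hG : G12 e₂ e₁ = G12 e₁ e₂ := G12_comm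
  refine ⟨h.toCW.symm h.tt, ?_, ?_, ?_⟩ <;> rw [hG]
  exacts [h.uf, h.odd, fun m hm => (h.pm m hm).imp And.symm And.symm]

theorem twe (β : MulAut X) : HB (twe e β) t (twe e₁ β) (twe e₂ β) := by
  refine ⟨h.toCW.twe β, ?_, ?_, ?_⟩ <;> simp only [G12, range_twe]
  exacts [h.uf, h.odd, h.pm]

theorem conj2 (p p' a b : X) : e₁ p * e₂ p' * (e₁ a * e₂ b) * (e₁ p * e₂ p')⁻¹ =
    e₁ (p * a * p⁻¹) * e₂ (p' * b * p'⁻¹) := by
  rw [← conj_mul, h.ind₁, h.ind₂]; rfl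

theorem nor_two {p p' : X} (h1 : p ∈ Ns A) (h2 : p' ∈ Ns A) :
    e₁ p * e₂ p' ∈ Ns (two e₁ e₂ A) := mem_normalizer_of_cj_le (by
  rintro _ ⟨w, hw, rfl⟩
  obtain ⟨a, ha, b, hb, rfl⟩ := h.mem_two.1 hw
  exact h.mem_two.2 ⟨_, conj_mem_of_mem_normalizer h1 ha, _, conj_mem_of_mem_normalizer h2 hb,
    h.conj2 ..⟩)

theorem t_comm (a : X) : t * e a = e a * t := by
  rw [← mul_inv_eq_iff_eq_mul, h.diag, ← conj_mul, h.sw, h.symm.sw, h.comm]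

theorem eq_one₁ (ha : Is2 a) (h1 : e₁ a ∈ e₂.range) : a = 1 :=
  eq_one2 h.ker ha (h.eq_one ⟨a, rfl⟩ h1 (ha.map e₁))

theorem eq_one₂ (hb : Is2 b) (h1 : e₁ a * e₂ b ∈ e₁.range) : b = 1 :=
  h.symm.eq_one₁ hb ((mul_mem_cancel_left (MonoidHom.mem_range.2 ⟨a, rfl⟩)).1 h1)

theorem nor (hm : m ∈ Ns (G12 e₁ e₂)) (ha : Is2 a) (h0 : a ≠ 1) (h1 : m * e₁ a * m⁻¹ ∈ e₁.range) :
    m ∈ Ns e₁.range ∧ m ∈ Ns e₂.range := (h.pm m hm).resolve_right fun k => h0 (eq_one2 h.ker ha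
  (conj_eq_one_iff.1 (h.eq_one h1 (k.1.le (conj_mem_cj ⟨a, rfl⟩)) ((ha.map e₁).conj m))))

theorem inf₁ (hB : IsPGroup 2 B) : (A.map e₁ ⊔ B.map e₂) ⊓ e₁.range = A.map e₁ := by
  refine le_antisymm (fun w hw => ?_) (le_inf le_sup_left (map_le_range _ _))
  obtain ⟨a, ha, b, hb, rfl⟩ := h.mem_sup.1 hw.1
  rw [h.eq_one₂ (isPGroup_iff_is2.1 hB b hb) hw.2, map_one, mul_one]
  exact ⟨a, ha, rfl⟩

theorem nor₁ (hB : IsPGroup 2 B) (h1 : m ∈ Ns e₁.range) (h2 : m ∈ Ns (A.map e₁ ⊔ B.map e₂)) :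
    m ∈ Ns (A.map e₁) := by
  rw [← h.inf₁ hB]
  exact le_normalizer_inf (zpowers_le.2 h2) (zpowers_le.2 h1) (mem_zpowers m)

theorem cen (i1 : Ind e₁ g (MulAut.conj a)) (i2 : Ind e₂ g (MulAut.conj b)) :
    g * (e₁ a * e₂ b)⁻¹ ∈ Cs (G12 e₁ e₂) := by
  rw [Cs, centralizer_sup]
  exact ⟨ind_one_iff.1 (by simpa using i1.mul (h.ind₁ a b).inv),
    ind_one_iff.1 (by simpa using i2.mul (h.ind₂ a b).inv)⟩

theorem mem_G (i1 : Ind e₁ g (MulAut.conj a)) (i2 : Ind e₂ g (MulAut.conj b)) (h2 : g * g = 1) :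
    g ∈ G12 e₁ e₂ := by
  have k1 := h.cen i1 i2
  have k0 : e₁ a * e₂ b ∈ G12 e₁ e₂ := h.mem_G12.2 ⟨_, _, rfl⟩
  generalize e₁ a * e₂ b = y at *
  obtain ⟨k, rfl⟩ : ∃ k, g = k * y := ⟨g * y⁻¹, (inv_mul_cancel_right _ _).symm⟩
  rw [mul_inv_cancel_right] at k1
  refine mul_mem (H64.SG.mem_of_sq_mem ?_ (H64.SG.odd_orderOf_of_mem h.odd k1)) k0
  rw [mul_assoc, ← mul_assoc y, k1 y k0, ← mul_assoc, ← mul_assoc, mul_assoc, mul_eq_one_iff_eq_inv]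
    at h2
  exact h2 ▸ inv_mem (mul_mem k0 k0)

theorem eq_mul {W : Subgroup G} (hW : IsPGroup 2 W) (hg : g ∈ W) (h1 : e₁ a ∈ W) (h2 : e₂ b ∈ W)
    (i1 : Ind e₁ g (MulAut.conj a)) (i2 : Ind e₂ g (MulAut.conj b)) : g = e₁ a * e₂ b :=
  mul_inv_eq_one.1 ((isPGroup_iff_is2.1 hW _ (mul_mem hg (inv_mem (mul_mem h1 h2)))).eq_one
    (H64.SG.odd_orderOf_of_mem h.odd (h.cen i1 i2)))

theorem rel_swap (h1 : cjs g e₁.range = e₂.range) (hA : IsPGroup 2 A) :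
    (Cz g).relIndex (A.map e₁) = Nat.card A := by
  rw [rel_eq_card (eq_bot_iff.2 ?_), card_map2 h.ker hA]
  rintro _ ⟨h2, a, ha, rfl⟩
  have := h1.le (conj_mem_cj (g := g) ⟨a, rfl⟩)
  rw [mem_Cz.1 h2, mul_inv_cancel_right] at this
  rw [h.eq_one₁ (isPGroup_iff_is2.1 hA a ha) this, map_one]
  exact one_mem _

theorem ne_map (hA : IsPGroup 2 A) (h0 : xk X 1 ∈ A) : ¬ A.map e₁ ≤ e₂.range := fun k =>
  x0_ne (h.eq_one₁ (isPGroup_iff_is2.1 hA _ h0) (k ⟨_, h0, rfl⟩))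

/-- A map that sends `A₁` and `A₂` into `A₁ ∪ A₂` fixes or interchanges them. -/
theorem fix_or (hA : IsPGroup 2 A) (h0 : xk X 1 ∈ A)
    (h1 : cjs m (A.map e₁) ≤ A.map e₁ ∨ cjs m (A.map e₁) ≤ A.map e₂)
    (h2 : cjs m (A.map e₂) ≤ A.map e₂ ∨ cjs m (A.map e₂) ≤ A.map e₁) :
    cjs m (A.map e₁) = A.map e₁ ∧ cjs m (A.map e₂) = A.map e₂ ∨
      cjs m (A.map e₁) = A.map e₂ ∧ cjs m (A.map e₂) = A.map e₁ := by
  have c1 := card_map2 h.ker hA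
  have c2 := card_map2 h.ker₂ hA
  have k : cjs m (A.map e₁) ≠ cjs m (A.map e₂) := fun k =>
    h.ne_map hA h0 ((cj_inj.1 k).le.trans (map_le_range _ _))
  replace h1 := h1.imp (eq_of_le_of_card_ge · (by rw [card_cjs]))
    (eq_of_le_of_card_ge · (by rw [card_cjs, c1, c2]))
  replace h2 := h2.imp (eq_of_le_of_card_ge · (by rw [card_cjs]))
    (eq_of_le_of_card_ge · (by rw [card_cjs, c1, c2]))
  rcases h1 with h1 | h1 <;> rcases h2 with h2 | h2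
  exacts [.inl ⟨h1, h2⟩, absurd (h1.trans h2.symm) k, absurd (h1.trans h2.symm) k, .inr ⟨h1, h2⟩]

theorem t_fix (h1 : cjs m (A.map e₁) = A.map e₂) : cjs (t * m) (A.map e₁) = A.map e₁ :=
  (cj_cj t m _).symm.trans ((congrArg _ h1).trans (h.symm.cjs_map A))

end HB

end H59.GB.K
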