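import Cfsg.Agent.H59.U5GDef

/-! STD-U5: perfect subgroups of `C_L(z)`; automorphisms induced on `e P`. -/

set_option autoImplicit false

namespace H59.GB

open H67 H67.GA

open H64.SG (O2 Syl Cz Cs Ns cjs Is2 Inv2 UF IsO2 fx mem_Cs mem_Cz mem_fx)
open H57 Subgroup
open scoped commutatorElement

universe u

variable {X : Type} [Group X] [Finite X] [Dat X] [Fa X] {G : Type u} [Group G] {e : X →* G} {g : G}

theorem np (hk : e.ker ≤ center X) {N : Subgroup G} (h1 : N ≤ e.range) (h2 : N ≤ ⁅N, N⁆) {z : X}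
    (hz : z ∈ ZZ X) (z1 : z ≠ 1) (h3 : N ≤ Cz (e z)) : N ≤ (PP X).map e := by
  have k1 : (N.comap e).map e = N := map_comap_eq_self h1
  have k2 : N.comap e ≤ Ns (ZZ X) := fun a ha => FA.cz z hz z1 (mem_Cz.2
    ((e_comm_iff hk (is2_of_UU (ZZ_le_UU hz))).1 (mem_Cz.1 (h3 ha)).symm).symm)
  have k3 : N ≤ ⁅N.comap e, N.comap e⁆.map e := by rw [map_commutator, k1]; exact h2
  refine k3.trans (map_mono (FA.pfN _ ((commutator_le_self _).trans k2) ?_))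
  have k4 : ∀ a ∈ N.comap e, ∃ b ∈ ⁅N.comap e, N.comap e⁆, ∃ c ∈ center X, a = b * c := fun a ha => by
    obtain ⟨b, hb, e1⟩ := k3 ha
    exact ⟨b, hb, b⁻¹ * a, hk (by simp [MonoidHom.mem_ker, e1]), by group⟩
  refine commutator_le.2 fun a ha b hb => ?_
  obtain ⟨a, ha', c, hc, rfl⟩ := k4 a ha
  obtain ⟨b, hb', d, hd, rfl⟩ := k4 b hb
  have : ⁅a * c, b * d⁆ = ⁅a, b⁆ := by
    simp only [commutatorElement_def, mul_inv_rev]
    calc _ = a * (c * (b * d)) * c⁻¹ * (a⁻¹ * d⁻¹) * b⁻¹ := by group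
      _ = a * b * (d * (a⁻¹ * d⁻¹)) * b⁻¹ := by rw [← mem_center_iff.1 hc]; group
      _ = _ := by rw [← mem_center_iff.1 hd]; group
  exact this ▸ commutator_mem_commutator ha' hb'

theorem inj_PP (hk : e.ker ≤ center X) {a b : X} (ha : a ∈ PP X) (hb : b ∈ PP X) (h : e a = e b) :
    a = b := mul_inv_eq_one.1 (mem_bot.1 (FB.Pc (X := X) ▸ mem_inf.2 ⟨mul_mem ha (inv_mem hb),
      hk (by simp [MonoidHom.mem_ker, h])⟩))

/-- The subgroup `P` of `FE.ap`. -/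
structure PA (P : Subgroup X) : Prop where
  le : PP X ≤ P
  cz : P ≤ Cs (ZZ X)
  pc : P ⊓ center X = ⊥
  ap : ∀ θ : MulAut P, ∃ β : MulAut X, ∀ p : P, β p = θ p
  br : P ≤ ⁅P, P⁆ ∧ P ≤ PP X ∨ P ≤ O2 P ∧
    (∀ β : MulAut X, Odd (orderOf β) → ∃ s, β = MulAut.conj s) ∧ ∀ z ∈ ZZ X, z ≠ 1 → Cz z ≤ P

theorem exists_PA : ∃ P : Subgroup X, PA P :=
  let ⟨P, a, b, c, d, f⟩ := FE.ap (X := X)
  ⟨P, a, b, c, d, f⟩

omit [Finite X] [Fa X] in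
theorem PA.inj {P : Subgroup X} (hP : PA P) (hk : e.ker ≤ center X) {a b : X} (ha : a ∈ P)
    (hb : b ∈ P) (h : e a = e b) : a = b :=
  mul_inv_eq_one.1 (mem_bot.1 (hP.pc ▸ mem_inf.2 ⟨mul_mem ha (inv_mem hb),
    hk (by simp [MonoidHom.mem_ker, h])⟩))

omit [Finite X] [Fa X] in
theorem PA.exists_ind {P : Subgroup X} (hP : PA P) (hk : e.ker ≤ center X)
    (hg : g ∈ Ns (P.map e)) : ∃ β : MulAut X, ∀ p ∈ P, β p ∈ P ∧ g * e p * g⁻¹ = e (β p) := by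
  let φ : P ≃* P.map e := MulEquiv.ofBijective (e.subgroupMap _)
    ⟨fun a b h => Subtype.ext (hP.inj hk a.2 b.2 (congrArg Subtype.val h)),
      e.subgroupMap_surjective _⟩
  obtain ⟨β, hβ⟩ := hP.ap ((φ.trans ((P.map e).normalizerMonoidHom ⟨g, hg⟩)).trans φ.symm)
  refine ⟨β, fun p hp => ⟨hβ ⟨p, hp⟩ ▸ Subtype.property _, ?_⟩⟩
  rw [hβ ⟨p, hp⟩]
  exact (congrArg Subtype.val (φ.apply_symm_apply
    ((P.map e).normalizerMonoidHom ⟨g, hg⟩ (φ ⟨p, hp⟩)))).symm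

theorem PP_le_Ns_QQ : PP X ≤ Ns (QQ X) := fun _ hp =>
  (FI.qk 1 (rg1 (X := X))).2.1 (mem_Cz.2 (PP_le_Cs hp _ (FB.xM 1 rg1)))

end H59.GB
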