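import Cfsg.Agent.H59.U5GK
import Cfsg.Agent.H86.SAW3

/-! STD-U5 (row S1778), `H59.GB.JobW3`: centralisers of `d = y⁻¹ t` in the wreath case (port of
`H86/SAW3`). -/

set_option autoImplicit false
set_option linter.unusedSectionVars false

namespace H59.GB.W3

open H67 H67.GA
open H64.SG (O2 Syl Cz Cs Ns cjs Is2 Inv2 UF IsO2 fx mem_Cs mem_Cz mem_fx)
open H57 Subgroup
open H86.SAW3 (cj_mul' cj_zp')

universe u

variable {X : Type} [Group X] [Finite X] [Dat X] [Fa X] {G : Type u} [Group G] [Finite G]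
  {e e₁ e₂ : X →* G} {t : G} {k : ℕ}

/-- An automorphism fixing `xk k` normalises `Qk k`. -/
theorem st_Qk (h : IsO2 (Qk X k) (Cz (xk X k))) {β : MulAut X} (hβ : β (xk X k) = xk X k)
    {u : X} (hu : u ∈ Qk X k) : β u ∈ Qk X k := by
  have hz : ∀ g, g ∈ Cz (xk X k) → β g ∈ Cz (xk X k) := fun g hg => mem_Cz.2 (by
    rw [← hβ, ← map_mul, ← map_mul, mem_Cz.1 hg])
  have hz' : ∀ g, g ∈ Cz (xk X k) → β.symm g ∈ Cz (xk X k) := fun g hg => mem_Cz.2 (β.injective (by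
    rw [map_mul, map_mul, hβ, MulEquiv.apply_symm_apply, mem_Cz.1 hg]))
  refine h.2.2.2 ((Qk X k).map β.toMonoidHom) ?_ (fun g hg => H98.mem_normalizer_of_cj_le ?_)
    (h.2.2.1.map _) ⟨u, hu, rfl⟩
  · rintro _ ⟨a, ha, rfl⟩; exact hz a (h.1 ha)
  · rintro _ ⟨_, ⟨a, ha, rfl⟩, rfl⟩
    refine ⟨_, H98.conj_mem_of_mem_normalizer (h.2.1 (hz' g hg)) ha, ?_⟩
    simp

/-- An element of `M` normalising both factors and fixing `e₁ a e₂ b` fixes `e₁ a` and `e₂ b`. -/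
theorem fix_both (c : CW e t e₁ e₂) {m : G} (h1 : m ∈ Ns e₁.range)
    (h2 : m ∈ Ns e₂.range) {a b : X} (ha : Is2 a) (hb : Is2 b)
    (h : m * (e₁ a * e₂ b) * m⁻¹ = e₁ a * e₂ b) :
    m * e₁ a * m⁻¹ = e₁ a ∧ m * e₂ b * m⁻¹ = e₂ b := by
  obtain ⟨β, hβ⟩ := exists_ind c.ker h1
  obtain ⟨γ, hγ⟩ := exists_ind c.ker₂ h2
  obtain ⟨k1, k2⟩ := c.inj2 (ha.map β.toMonoidHom) (hb.map γ.toMonoidHom) ha hb (by
    rw [← h]; change e₁ (β a) * e₂ (γ b) = _; rw [← hβ, ← hγ]; group)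
  exact ⟨by rw [hβ]; exact congrArg e₁ k1, by rw [hγ]; exact congrArg e₂ k2⟩

theorem odd_nor (h : W0 t e₁ e₂) {m : G} (hm : m ∈ Ns (G12 e₁ e₂)) (ho : Odd (orderOf m)) :
    m ∈ Ns e₁.range ∧ m ∈ Ns e₂.range := by
  have h2 : m * m ∈ Ns e₁.range ⊓ Ns e₂.range := by
    rcases h.pm m hm with k | k
    · exact mul_mem k k
    · exact ⟨H98.cj_eq_self_iff.1 (by rw [cj_mul']; exact (congrArg (cjs m) k.1).trans k.2),
        H98.cj_eq_self_iff.1 (by rw [cj_mul']; exact (congrArg (cjs m) k.2).trans k.1)⟩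
  exact H67.mem_of_pow_mem_of_coprime (C := Ns e₁.range ⊓ Ns e₂.range)
    ((Nat.coprime_two_left).2 ho) (by rwa [pow_two]) (by rw [pow_orderOf_eq_one]; exact one_mem _)

/-- The common part of both statements. -/
theorem key (b : CE e t) (c : CW e t e₁ e₂) (g : GW e t e₁ e₂)
    (k1 : Rg X k) {l : ℕ} (l1 : Rg X l) (D : Subgroup G) (hD : IsPGroup 2 D) (ht : t ∈ Ns D)
    (hM : D ≤ Ns (G12 e₁ e₂)) (hQ : ∀ u ∈ Qk X k, e u ∈ Ns D) (V : Set X)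
    (hV : ∀ v ∈ V, v * v = 1 ∧ e v ∈ Ns D) (hV' : Qk X l ≤ closure V)
    (hc : ∀ m ∈ Cs D, m ∈ Ns (G12 e₁ e₂) → cm m t ∈ D)
    (hO : ∀ m ∈ Cs D, m ∈ Ns e₁.range → m ∈ Ns e₂.range →
      m * (e₁ (xk X k) * e₂ (xk X k)) * m⁻¹ = e₁ (xk X k) * e₂ (xk X k)) :
    Cs D ≤ Ns (G12 e₁ e₂) := by
  have tt := b.inv.1
  have hP : IsPGroup 2 ↥(D ⊔ zpowers t) :=
    hD.to_sup_of_normal_left' (H9.UF.pg_zp tt) (zpowers_le.2 ht)
  have hPN : D ⊔ zpowers t ≤ Ns D := sup_le le_normalizer (zpowers_le.2 ht)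
  have hNC : Ns D ≤ Ns (Cs D) := H98.normalizer_le_normalizer_centralizer D
  have dec : ∀ h ∈ Cs D ⊔ (D ⊔ zpowers t), ∃ a ∈ Cs D, ∃ p ∈ D ⊔ zpowers t, h = a * p :=
    fun h hh => (H98.mem_sup_right_norm (hPN.trans hNC)).1 hh
  have hodd : ∀ h ∈ Cs D ⊔ (D ⊔ zpowers t), Odd (orderOf h) → h ∈ Cs D := fun h hh ho => by
    obtain ⟨a, ha, p, hp, rfl⟩ := dec h hh
    obtain ⟨j, hj⟩ := H67.exists_pow_eq_one_of_mem hP hp
    have hn : a * p ∈ Ns (Cs D) := mul_mem (le_normalizer ha) (hNC (hPN hp))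
    refine H67.mem_of_coprime_pow (y := p) (a := orderOf (a * p)) (b := 2 ^ j)
      (fun x hx => by simpa using H98.conj_mem_of_mem_normalizer (inv_mem hn) hx) ?_
      (Nat.Coprime.pow_right _ ((Nat.coprime_two_right).2 ho))
      (by rw [pow_orderOf_eq_one]; exact one_mem _) (by rw [hj]; exact one_mem _)
    rw [show (a * p)⁻¹ * p = p⁻¹ * a⁻¹ * p⁻¹⁻¹ by group]
    exact H98.conj_mem_of_mem_normalizer (inv_mem (hNC (hPN hp))) (inv_mem ha)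
  have hS : ∀ u, e u ∈ Ns D → e u ∈ Ns (Cs D ⊔ (D ⊔ zpowers t)) := fun u hu =>
    H98.le_normalizer_sup (zpowers_le.2 (hNC hu)) (H98.le_normalizer_sup
      (zpowers_le.2 hu) (zpowers_le.2 (H64.SG.Cs_le_Ns _ (H64.SG.mem_Cs_zpowers.2
        (b.comm u))))) (mem_zpowers _)
  have eM : ∀ u, e u ∈ Ns (G12 e₁ e₂) := fun u => le_normalizer (g.le ⟨u, rfl⟩)
  refine le_trans le_sup_left (jobK10 g.uf (IsConj.refl t) g.uf.mem _ D
    (mem_sup_right (mem_sup_right (mem_zpowers t))) (le_sup_of_le_right le_sup_left)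
    (sup_le (H64.SG.Cs_le_Ns D) hPN) hD hodd (fun m hm mM => ?_) (e '' V) ?_
    (by rw [← MonoidHom.map_closure]; exact (centralizer_le (map_mono hV')).trans (g.cu l l1)) fun O o1 o2 o3 v hv o ho => ?_)
  · obtain ⟨a, ha, p, hp, rfl⟩ := dec m hm
    have pM : p ∈ Ns (G12 e₁ e₂) := sup_le hM (zpowers_le.2 g.uf.mem) hp
    have h1 : cm p t ∈ D := by
      obtain ⟨d, hd, s, hs, rfl⟩ := (H98.mem_sup_right_norm (zpowers_le.2 ht)).1 hp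
      have : s * t = t * s := by
        obtain ⟨j, rfl⟩ := mem_zpowers_iff.1 hs
        exact ((Commute.refl t).zpow_left j).eq
      rw [show cm (d * s) t = d * ((s * t) * s⁻¹ * d⁻¹ * t⁻¹) by unfold cm; group, this,
        show t * s * s⁻¹ * d⁻¹ * t⁻¹ = t * d⁻¹ * t⁻¹ by group]
      exact mul_mem hd (H98.conj_mem_of_mem_normalizer ht (inv_mem hd))
    rw [show cm (a * p) t = a * cm p t * a⁻¹ * cm a t by unfold cm; group]
    exact mul_mem (H98.conj_mem_of_mem_normalizer (H64.SG.Cs_le_Ns D ha) h1)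
      (hc a ha (by simpa using mul_mem mM (inv_mem pM)))
  · rintro _ ⟨u, hu, rfl⟩
    exact ⟨by rw [← map_mul, (hV u hu).1, map_one], eM u, hS u (hV u hu).2, b.comm u,
      g.tx u (hV u hu).1⟩
  · obtain ⟨v, -, rfl⟩ := hv
    have o4 := H64.SG.odd_orderOf_of_mem o2 ho
    obtain ⟨n1, n2⟩ := odd_nor g.toW0 (o1 ho).2 o4
    have x2 : Is2 (xk X k) := H64.SG.is2_of_sq (inv2_xk k1).1
    obtain ⟨f1, f2⟩ := fix_both c n1 n2 x2 x2 (hO o (hodd o (o1 ho).1 o4) n1 n2)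
    obtain ⟨β, hβ⟩ := exists_ind c.ker n1
    obtain ⟨γ, hγ⟩ := exists_ind c.ker₂ n2
    have q := FI.qk k k1
    have k0 : ∀ u ∈ Qk X k, o * e₁ u * o⁻¹ = e₁ u ∧ o * e₂ u * o⁻¹ = e₂ u := fun u hu => by
      have b1 := st_Qk q (inj2 c.ker (x2.map β.toMonoidHom) x2 ((hβ _).symm.trans f1)) hu
      have b2 := st_Qk q (inj2 c.ker₂ (x2.map γ.toMonoidHom) x2 ((hγ _).symm.trans f2)) hu
      have h1 : cm o (e u) ∈ two e₁ e₂ (Qk X k) := by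
        refine mul_mem ?_ (inv_mem (c.map_le _ ⟨u, hu, rfl⟩))
        rw [c.diag, show o * (e₁ u * e₂ u) * o⁻¹ = o * e₁ u * o⁻¹ * (o * e₂ u * o⁻¹) by group, hβ, hγ]
        exact c.mem_two.2 ⟨_, b1, _, b2, rfl⟩
      have h2 : cm o (e u) ∈ O := by
        rw [show cm o (e u) = o * (e u * o⁻¹ * (e u)⁻¹) by unfold cm; group]
        exact mul_mem ho (H98.conj_mem_of_mem_normalizer (o3 ⟨hS u (hQ u hu), eM u⟩) (inv_mem ho))
      have h3 := (H64.SG.isPGroup_iff_is2.1 (c.isP_two q.2.2.1) _ h1).eq_one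
        (H64.SG.odd_orderOf_of_mem o2 h2)
      have u2 := is2_of_UU (Qk_le_UU k1 hu)
      exact fix_both c n1 n2 u2 u2 (c.diag u ▸ mul_inv_eq_one.1 h3)
    have c1 := H64.SG.mem_of_sq_mem (cq2 c.ker k1 n1 (mem_Cs_map.2 fun u hu =>
      (mul_inv_eq_iff_eq_mul.1 (k0 u hu).1).symm)) o4
    have c2 := H64.SG.mem_of_sq_mem (cq2 c.ker₂ k1 n2 (mem_Cs_map.2 fun u hu =>
      (mul_inv_eq_iff_eq_mul.1 (k0 u hu).2).symm)) o4
    rw [mem_Cz, c.diag, mul_assoc, c2 _ ⟨v, rfl⟩, ← mul_assoc, c1 _ ⟨v, rfl⟩, mul_assoc]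

theorem partA (b : CE e t) (c : CW e t e₁ e₂) (g : GW e t e₁ e₂)
    (k1 : Rg X k) : Cz (e₁ (xk X k) * t) ≤ Ns (G12 e₁ e₂) := by
  set y := xk X k with hy
  have tt := b.inv.1
  have ti := b.inv_eq
  have yy : y * y = 1 := (inv2_xk k1).1
  have y2 : Is2 y := H64.SG.is2_of_sq yy
  have e1 : e₁ y * e₁ y = 1 := by rw [← map_mul, yy, map_one]
  have e2 : e₂ y * e₂ y = 1 := by rw [← map_mul, yy, map_one]
  have dd : e₁ y * t * (e₁ y * t) = e₁ y * e₂ y := by rw [← c.sw, ti]; group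
  have d4 : Is2 (e₁ y * t) := H64.SG.Is2.of_pow (k := 1) (by
    rw [pow_one, pow_two, dd]
    exact H64.SG.is2_of_sq (by rw [c.mul_mul, yy, map_one, map_one, mul_one]))
  have di : t * (e₁ y * t) * t⁻¹ = (e₁ y * t)⁻¹ := by
    rw [_root_.mul_inv_rev, ti, inv_eq_of_mul_eq_one_right e1, mul_assoc, mul_assoc, tt, mul_one]
  have dM : e₁ y * t ∈ Ns (G12 e₁ e₂) :=
    mul_mem (le_normalizer (mem_sup_left ⟨y, rfl⟩)) g.uf.mem
  have nsw : ∀ m ∈ Cs (zpowers (e₁ y * t)), m ∈ Ns e₁.range → m ∈ Ns e₂.range → cm m t = 1 ∧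
      m * (e₁ y * e₂ y) * m⁻¹ = e₁ y * e₂ y := fun m hm n1 n2 => by
    have h1 : m * (e₁ y * t) * m⁻¹ = e₁ y * t := by
      rw [← H64.SG.mem_Cs_zpowers.1 hm, mul_inv_cancel_right]
    have h2 : m * (e₁ y * e₂ y) * m⁻¹ = e₁ y * e₂ y := by rw [← dd, ← conj_mul, h1]
    refine ⟨?_, h2⟩
    rw [← conj_mul, (fix_both c n1 n2 y2 y2 h2).1, mul_right_inj] at h1
    rw [cm, h1, mul_inv_cancel]
  have hz : ∀ u ∈ Cz y, e u ∈ Ns (zpowers (e₁ y * t)) := fun u hu => H64.SG.Cs_le_Ns _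
    (H64.SG.mem_Cs_zpowers.2 (by
      rw [mul_assoc, b.comm u, ← mul_assoc, ← mul_assoc, c.diag, ← mul_assoc, ← map_mul, mem_Cz.1 hu,
        map_mul, mul_assoc (e₁ u), c.comm y u, ← mul_assoc]))
  intro m hm
  refine key b c g k1 k1 (zpowers (e₁ y * t)) d4.zpowers
    (H98.mem_normalizer_of_cj_le ?_) (zpowers_le.2 dM) (fun u hu => hz u (mem_Cz.2
      (FB.QM k k1 hu y (FB.xM k k1)))) _ (fun v hv => ⟨hv.2, hz v hv.1⟩) (FG.ig3 k k1)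
      (fun m hm mM => ?_) (fun m hm n1 n2 => (nsw m hm n1 n2).2)
    (H64.SG.mem_Cs_zpowers.2 (mem_Cz.1 hm))
  · rintro _ ⟨a, ha, rfl⟩
    obtain ⟨j, rfl⟩ := mem_zpowers_iff.1 ha
    change t * _ * t⁻¹ ∈ _
    rw [← conj_zpow, di]
    exact zpow_mem (inv_mem (mem_zpowers _)) j
  · rcases g.pm m mM with h1 | h1
    · rw [(nsw m hm h1.1 h1.2).1]; exact one_mem _
    · have s1 : cjs (e₁ y * t) e₁.range = e₂.range := by
        change H98.cj _ _ = _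
        rw [cj_mul', show H98.cj t e₁.range = e₂.range from c.cjs_range]
        exact H98.cj_eq_self_iff.2 (c.G12_le_Ns' (mem_sup_left ⟨y, rfl⟩))
      have s2 : cjs (e₁ y * t) e₂.range = e₁.range := by
        change H98.cj _ _ = _
        rw [cj_mul', show H98.cj t e₂.range = e₁.range from (c.symm tt).cjs_range]
        exact H98.cj_eq_self_iff.2 (le_normalizer ⟨y, rfl⟩)
      have h2 := (nsw (m * (e₁ y * t)) (mul_mem hm (H64.SG.mem_Cs_zpowers.2 rfl))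
        (H98.cj_eq_self_iff.1 (by rw [cj_mul']; exact (congrArg (cjs m) s1).trans h1.2))
        (H98.cj_eq_self_iff.1 (by rw [cj_mul']; exact (congrArg (cjs m) s2).trans h1.1))).1
      have h3 : cm (e₁ y * t) t ∈ zpowers (e₁ y * t) := by
        rw [show cm (e₁ y * t) t = e₁ y * t * (t * (e₁ y * t) * t⁻¹)⁻¹ by unfold cm; group, di]
        exact mul_mem (mem_zpowers _) (inv_mem (inv_mem (mem_zpowers _)))
      rw [show cm (m * (e₁ y * t)) t = m * cm (e₁ y * t) t * m⁻¹ * cm m t by unfold cm; group,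
        mul_eq_one_iff_inv_eq] at h2
      rw [← h2]
      exact inv_mem (H98.conj_mem_of_mem_normalizer (H64.SG.Cs_le_Ns _ hm) h3)

theorem partB (b : CE e t) (c : CW e t e₁ e₂) (g : GW e t e₁ e₂)
    (k1 : Rg X k) {l : ℕ} (l1 : Rg X l) {y : X} (hy : y ∈ Qk X k)
    (hV : Qk X l ≤ closure {v | v * v = 1 ∧ v ∈ Ns (Mk X k) ∧ cm v y ∈ Mk X k}) :
    Cs (two e₁ e₂ (Mk X k) ⊔ zpowers ((e₁ y)⁻¹ * t)) ≤ Ns (G12 e₁ e₂) := by
  have tt := b.inv.1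
  have ti := b.inv_eq
  have y2 : Is2 y⁻¹ := (is2_of_UU (Qk_le_UU k1 hy)).inv
  have dd : (e₁ y)⁻¹ * t * ((e₁ y)⁻¹ * t) = e₁ y⁻¹ * e₂ y⁻¹ := by
    rw [← c.sw, ti, map_inv]; group
  have d2 : Is2 ((e₁ y)⁻¹ * t) := H64.SG.Is2.of_pow (k := 1) (by
    rw [pow_one, pow_two, dd]
    exact (y2.map e₁).mul (y2.map e₂) (c.comm _ _))
  have hW : IsPGroup 2 (two e₁ e₂ (Mk X k)) :=
    c.isP_two (isP_Mk k1)
  have tW : t ∈ Ns (two e₁ e₂ (Mk X k)) := c.t_mem_Ns tt _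
  have qW : ∀ a ∈ Qk X k, ∀ a' ∈ Qk X k, e₁ a * e₂ a' ∈ Cs (two e₁ e₂ (Mk X k)) :=
    fun a ha a' ha' w hw => by
      obtain ⟨p, hp, p', hp', rfl⟩ := c.mem_two.1 hw
      rw [c.mul_mul, c.mul_mul, FB.QM k k1 ha p hp, FB.QM k k1 ha' p' hp']
  have dW : (e₁ y)⁻¹ * t ∈ Ns (two e₁ e₂ (Mk X k)) := mul_mem (inv_mem (H64.SG.Cs_le_Ns _
    (by simpa using qW y hy 1 (one_mem _)))) tW
  have dD := mem_sup_right (S := two e₁ e₂ (Mk X k)) (mem_zpowers ((e₁ y)⁻¹ * t))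
  have nor : ∀ a ∈ Ns (two e₁ e₂ (Mk X k)), a * ((e₁ y)⁻¹ * t) * a⁻¹ ∈
      two e₁ e₂ (Mk X k) ⊔ zpowers ((e₁ y)⁻¹ * t) →
      a ∈ Ns (two e₁ e₂ (Mk X k) ⊔ zpowers ((e₁ y)⁻¹ * t)) := fun a h1 h2 =>
    H98.mem_normalizer_of_cj_le (by
      rw [H98.cj_sup, H98.cj_eq_self_iff.2 h1, cj_zp']
      exact sup_le le_sup_left (zpowers_le.2 h2))
  have xM := FB.xM k k1
  have x1 : e₁ (xk X k) ∈ two e₁ e₂ (Mk X k) := mem_sup_left ⟨_, xM, rfl⟩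
  have hz : ∀ u ∈ Ns (Mk X k), cm u y ∈ Mk X k →
      e u ∈ Ns (two e₁ e₂ (Mk X k) ⊔ zpowers ((e₁ y)⁻¹ * t)) := fun u u1 u2 => by
    refine nor _ (c.diag u ▸ (H59.GB.K.hb_of c g).nor_two u1 u1) ?_
    have : e u * ((e₁ y)⁻¹ * t) * (e u)⁻¹ = e₁ (y⁻¹ * (cm u y)⁻¹ * y⁻¹⁻¹) * ((e₁ y)⁻¹ * t) := by
      rw [show e u * ((e₁ y)⁻¹ * t) * (e u)⁻¹ = e u * (e₁ y)⁻¹ * (e u)⁻¹ * (e u * t * (e u)⁻¹) by group,
        b.conj_t, c.diag, ← map_inv, c.ind₁ u u]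
      simp only [cm, map_mul, map_inv, MulAut.conj_apply]; group
    rw [this]
    exact mul_mem (mem_sup_left (mem_sup_left ⟨_, H98.conj_mem_of_mem_normalizer
      (inv_mem (H64.SG.Cs_le_Ns _ (FB.QM k k1 hy))) (inv_mem u2), rfl⟩)) dD
  refine key b c g k1 l1 _ (hW.to_sup_of_normal_left' d2.zpowers (zpowers_le.2 dW))
    (nor t tW ?_) (sup_le ((two_le _).trans le_normalizer) (zpowers_le.2
      (mul_mem (inv_mem (le_normalizer (mem_sup_left ⟨y, rfl⟩))) g.uf.mem)))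
    (fun u hu => hz u (H64.SG.Cs_le_Ns _ (FB.QM k k1 hu)) (FB.cmQ k k1 u hu y hy)) _
    (fun v hv => ⟨hv.1, hz v hv.2.1 hv.2.2⟩) hV
    (fun m hm mM => ?_) fun m hm _ _ => ?_
  · have : t * ((e₁ y)⁻¹ * t) * t⁻¹ = (e₂ (y * y))⁻¹ * ((e₁ y)⁻¹ * t)⁻¹ := by
      rw [map_mul, ← c.sw]
      have h9 : t * t = 1 := tt
      rw [show (t * e₁ y * t⁻¹ * (t * e₁ y * t⁻¹))⁻¹ * ((e₁ y)⁻¹ * t)⁻¹ =
        t * (e₁ y)⁻¹ * ((e₁ y)⁻¹ * (t * t)⁻¹ * e₁ y) by group, h9]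
      group
    rw [this]
    exact mul_mem (inv_mem (mem_sup_left (mem_sup_right ⟨_, FB.sqQ k k1 y hy, rfl⟩))) (inv_mem dD)
  · have h0 : e₁ (xk X k) * m = m * e₁ (xk X k) := hm _ (mem_sup_left x1)
    rcases g.pm m mM with h1 | h1
    · have h2 : m * ((e₁ y)⁻¹ * t) * m⁻¹ = (e₁ y)⁻¹ * t := by rw [← hm _ dD, mul_inv_cancel_right]
      have h3 := (fix_both c h1.1 h1.2 y2 y2 (by rw [← dd, ← conj_mul, h2])).1
      rw [← conj_mul, ← map_inv, h3, mul_right_inj] at h2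
      rw [cm, h2, mul_inv_cancel]; exact one_mem _
    · exfalso
      have x2 : Is2 (xk X k) := H64.SG.is2_of_sq (inv2_xk k1).1
      refine (inv2_e c.ker (inv2_xk k1)).2 (c.eq_one ⟨_, rfl⟩ ?_ (x2.map e₁))
      rw [← h1.1, H67.SA.mem_cjs, mul_assoc, h0, inv_mul_cancel_left]
      exact ⟨_, rfl⟩
  · rw [← hm _ (mem_sup_left (c.mem_two.2 ⟨_, xM, _, xM, rfl⟩)), mul_inv_cancel_right]

theorem D3_le : D3 X ≤ Qk X 2 := sup_le inf_le_right (FB.MQ 2 rg2)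

theorem iv3 {y : X} (hy : y ∈ D3 X) :
    Qk X 1 ≤ closure {v | v * v = 1 ∧ v ∈ Ns (Mk X 2) ∧ cm v y ∈ Mk X 2} := by
  refine FP.ivQ.trans (closure_mono fun v hv => ?_)
  have n := UU_le_Ns_Mk rg2 (Qk_le_UU rg1 hv.1)
  have n' : QQ X ⊓ Qk X 2 ≤ Ns (Mk X 2) := (inf_le_left.trans (Qk_le_UU rg1)).trans (UU_le_Ns_Mk rg2)
  obtain ⟨a, ha, m, hm, rfl⟩ := (H98.mem_sup_left_norm n').1 hy
  refine ⟨hv.2, n, ?_⟩
  rw [show cm v (a * m) = cm v a * (a * (v * m * v⁻¹ * m⁻¹) * a⁻¹) by unfold cm; group]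
  exact mul_mem (FB.ZM 2 rg2 (FB.cmQ 1 rg1 v hv.1 a ha.1)) (H98.conj_mem_of_mem_normalizer (n' ha)
    (mul_mem (H98.conj_mem_of_mem_normalizer n hm) (inv_mem hm)))

theorem jobW3 : JobW3.{u} := by
  intro X _ _ _ _ G _ _ e t e₁ e₂ b c g
  refine ⟨fun y hy m hm => ?_, fun y hy => partB b c g rg2 rg1 (D3_le hy) (iv3 hy)⟩
  obtain ⟨h, k, k1, hk⟩ := FI.ic y hy
  have eM : e h ∈ Ns (G12 e₁ e₂) := le_normalizer (g.le ⟨h, rfl⟩)
  have h1 : e₁ (xk X k) * t = e h * (e₁ y * t) * (e h)⁻¹ := by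
    rw [← conj_mul, b.conj_t, c.diag, c.ind₁ h h, MulAut.conj_apply, hk]
  have h2 := partA b c g k1 (show e h * m * (e h)⁻¹ ∈ Cz _ from mem_Cz.2 (by
    rw [h1, conj_mul, conj_mul, mem_Cz.1 hm]))
  simpa [mul_assoc] using mul_mem (mul_mem (inv_mem eM) h2) eM

end H59.GB.W3
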