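import Cfsg.Agent.H59.U5HM4

/-! STD-U5: `JobHM2`.  For `q = 2` the case `τ(v)² = e(TT v)` is impossible: a product of four
elements `τ(e₀ + v) τ(v)` centralises `t` but conjugates an element of `X` to an element acting
non-linearly on `Q/Z`. -/

set_option autoImplicit false
set_option linter.unusedSectionVars false

namespace H59.UV

open H67

open H64.SG (O2 Syl Cz Cs Ns cjs Is2 Inv2 UF IsO2 fx mem_Cs mem_Cz is2_of_sq)
open Matrix H57 Subgroup
open H67.SA (SLn Au la St cI cm)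
open H67.GA (B1 CE CH CP CW CF)

universe u

namespace HM2

open HM4

variable {n : ℕ} {K : Type} [Field K] [StarRing K] [CharP K 2] [Finite K]

theorem TT_mul {u v : Vn n K} (h : Pp u v) : TT v * TT (u + v) = EE u v 1 := ac_ext fun y => by
  have o : Ok u v 1 := ⟨h.l, h.symm.p, by rw [h.r, tr_eq_zero, star_one]⟩
  simp only [ac_mul, ac_EE o, ac_Tc h.r (star_one K), ac_Tc h.iso_add (star_one K), hf_add_left,
    hf_add_right, hf_smul_left, show hf v v = 0 from h.r, h.p]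
  ext i
  simp only [Pi.add_apply, Pi.smul_apply, smul_eq_mul]
  linear_combination (hf y v * v i) * two0 K

theorem is2_EE {u x : Vn n K} {c : K} (h : Ok u x c) : Is2 (EE u x c) :=
  Is2.of_pow (k := 1) (is2_of_sq (by
    rw [pow_one, pow_two, EE_mul h h, v_add_self]
    exact Tc_mul_self h.iso (by rw [CharTwo.add_self_eq_zero, zero_add, star_hf])))

theorem eq01 (hq : ∀ a : K, star a = a ^ 2) {a : K} (h : tr a = 0) : a = 0 ∨ a = 1 := by
  have := tr_eq_zero.1 h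
  rw [hq] at this
  exact (mul_eq_zero.1 (show a * (a - 1) = 0 by linear_combination this)).imp_right sub_eq_zero.1

theorem nm1 (hq : ∀ a : K, star a = a ^ 2) {a : K} (h : tr a = 1) : nm a = 1 := by
  simp only [tr, nm, hq] at h ⊢
  linear_combination (a + 1) * h + (a - a ^ 2 - a) * two0 K

theorem tr1 {a : K} (h : tr a = 1) : tr (1 + a) = 1 := by
  simp only [tr, star_add, star_one] at h ⊢
  linear_combination h + two0 K

variable [hp : Par n K] [FQ K] [FV n K] [FW n K] [H59.GB.Fa (XU n K)]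
variable {G : Type u} [Group G] [Finite G] {e : XU n K →* G} {t : G} {τ : Vn n K → G}

variable (e τ) in
/-- `y` has the class `(x, j)` -/
def Cj (x : Vn n K) (j : ℕ) (y : G) : Prop :=
  ∃ c, Ok (ev 0) x c ∧ y = e (EE (ev 0) x c) * τ (ev 0) ^ j
variable (e τ) in
/-- the action of `c` on the classes -/
def Mp (c : G) (x : Vn n K) (i : ℕ) (x' : Vn n K) (j : ℕ) : Prop :=
  ∀ y, Cj e τ x i y → Cj e τ x' j (c⁻¹ * y * c)
variable (e t τ) in
/-- the action of `c` on the classes times `t` -/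
def Mt (c : G) (x : Vn n K) (i : ℕ) (x' : Vn n K) (j : ℕ) : Prop :=
  ∀ y, Cj e τ x i y → Cj e τ x' j (t⁻¹ * (c⁻¹ * (t * y) * c))
variable (τ) in
/-- `k_v` -/
def kk (v : Vn n K) : G := τ (ev 0 + v) * τ v

theorem Mp.mul {c c' : G} {x y z : Vn n K} {i j l : ℕ} (h : Mp e τ c x i y j) (h' : Mp e τ c' y j z l) :
    Mp e τ (c * c') x i z l := fun w hw => by
  have := h' _ (h w hw)
  rwa [show c'⁻¹ * (c⁻¹ * w * c) * c' = (c * c')⁻¹ * w * (c * c') by group] at this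

theorem Mt.mul {c c' : G} {x y z : Vn n K} {i j l : ℕ} (h : Mt e t τ c x i y j)
    (h' : Mt e t τ c' y j z l) : Mt e t τ (c * c') x i z l := fun w hw => by
  have := h' _ (h w hw)
  rwa [show c'⁻¹ * (t * (t⁻¹ * (c⁻¹ * (t * w) * c))) * c' = (c * c')⁻¹ * (t * w) * (c * c') by
    group] at this

theorem Mp.cast {c : G} {x y y' : Vn n K} {i j : ℕ} (h : Mp e τ c x i y j) (e1 : y = y') :
    Mp e τ c x i y' j := e1 ▸ h

variable (T : T1 e t τ) (h : CH e t) (hq : ∀ a : K, star a = a ^ 2)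
  (hs : ∀ v, Iso v → τ v * τ v = e (TT v))
include T

theorem cE {x : Vn n K} {c : K} (o : Ok (ev 0) x c) : Commute (τ (ev 0)) (e (EE (ev 0) x c)) :=
  (eq_mul_of_mul_inv_eq ((T.eqv _ _ iso0).trans (by rw [ac_EE_self o]))).symm

theorem Cj.mul {x x' : Vn n K} {i j : ℕ} {y y' : G} (a : Cj e τ x i y) (b : Cj e τ x' j y') :
    Cj e τ (x + x') (i + j) (y * y') := by
  obtain ⟨c, o, rfl⟩ := a
  obtain ⟨c', o', rfl⟩ := b
  refine ⟨_, o.add o', ?_⟩
  rw [← EE_mul o o', map_mul, pow_add, mul_assoc, mul_assoc, ← mul_assoc (τ _ ^ i),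
    ((cE T o').pow_left i).eq, mul_assoc]

theorem Cj.comm {x : Vn n K} {i : ℕ} {y : G} (a : Cj e τ x i y) : Commute (τ (ev 0)) y := by
  obtain ⟨c, o, rfl⟩ := a
  exact (cE T o).mul_right (Commute.self_pow _ _)

theorem mp0 (x : Vn n K) (i : ℕ) : Mp e τ (τ (ev 0)) x i x i := fun y hy => by
  rwa [mul_assoc, ← (hy.comm T).eq, inv_mul_cancel_left]

theorem ck {v : Vn n K} (p : Pp (ev 0) v) : Commute (τ (ev 0)) (kk τ v) :=
  Commute.mul_right (T.comm _ _ ⟨p.l, p.iso_add, by rw [hf_add_right, p.l, p.p, add_zero]⟩)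
    (T.comm _ _ p)

theorem kk_conj {v x : Vn n K} {c : K} (p : Pp (ev 0) v) (o : Ok (ev 0) x c) :
    e (EE (ev 0) x c) * kk τ v * (e (EE (ev 0) x c))⁻¹ =
      τ ((1 + hf v x) • ev 0 + v) * τ (hf v x • ev 0 + v) := by
  rw [kk, ← conj_mul, T.eqv _ _ p.iso_add, T.eqv _ _ p.r, ac_add, ac_EE_self o,
    ac_EE_perp o p.symm.p]
  congr 2 <;> module

include hq in
theorem mp_fix {v x : Vn n K} (p : Pp (ev 0) v) (h0 : tr (hf v x) = 0) (i : ℕ) :
    Mp e τ (kk τ v) x i x i := by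
  rintro _ ⟨c, o, rfl⟩
  refine ⟨c, o, ?_⟩
  have k := kk_conj T p o
  have k2 : τ ((1 + hf v x) • ev 0 + v) * τ (hf v x • ev 0 + v) = kk τ v := by
    rcases eq01 hq h0 with a | a <;> rw [a, kk]
    · simp
    · rw [CharTwo.add_self_eq_zero, zero_smul, zero_add, one_smul]
      exact T.comm _ _ ⟨p.r, p.iso_add, by rw [hf_add_right, p.r, p.symm.p, add_zero]⟩
  rw [k2] at k
  rw [mul_assoc, mul_assoc, ((ck T p).pow_left i).eq, ← mul_assoc (e _), eq_mul_of_mul_inv_eq k]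
  group

include hs

theorem Cj.two {x : Vn n K} {j : ℕ} {y : G} (a : Cj e τ x (j + 2) y) : Cj e τ x j y := by
  obtain ⟨c, o, rfl⟩ := a
  have o' := ok_zero (iso0 (n := n) (K := K)) (star_one K)
  refine ⟨_, by simpa using o.add o', ?_⟩
  have := EE_mul o o'
  simp only [add_zero, hf_zero_left] at this
  rw [← this, map_mul, add_comm j 2, pow_add, pow_two, hs _ iso0, mul_assoc]

include h

theorem tt' {v : Vn n K} (hv : Iso v) : (τ v)⁻¹ * t * τ v = t * e (TT v) := by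
  calc _ = τ v * ((τ v * τ v)⁻¹ * t * (τ v * τ v)⁻¹⁻¹) * (τ v)⁻¹ := by group
    _ = _ := by rw [hs v hv, ← map_inv, h.toB1.conj_t, T.tt v hv]

theorem rel {η : K} (hη : tr η = 1) (n1 : nm η = 1) (n2 : nm (1 + η) = 1) {u v : Vn n K}
    (p : Pp u v) (l : Li u v) : τ ((1 + η) • u + v) * τ (η • u + v) =
      τ (u + v) * τ v * (τ v * τ v * (τ (u + v) * τ (u + v))) * (τ u * τ u * τ u) := by
  obtain ⟨g, rfl, rfl⟩ := FW.w2 u v p l
  obtain ⟨C, _, ι, F, i1, i2, i3, i4, i5⟩ := transfer T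
  have r := (tri (h0 T h i1 i2 i3 i4 i5) (in_eta hη)).1 0 1 one_ne_zero
  have iso : ∀ a : K × K, Iso (jv a : Vn n K) := fun a => ((jv_w a).pp (jv_w a) (four K)).l
  have h4 : ∀ a, F a + F a + (F a + F a) = 0 := fun a => i1 (by
    rw [i2, i2, i5, hs _ (iso a), ← map_mul, Tc_mul_self (iso a) (star_one K), map_one, i3])
  have hn : ∀ a, nm a = 1 → F (a, 0) = F (1, 0) := fun a ha => i1 (by
    rw [i5, i5, jv_l, jv_l, one_smul, T.n1 a _ ha iso0])
  simp only [R0, Bf, Prod.mk_add_mk, add_zero, zero_add, hn η n1, hn _ n2] at r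
  have r2 : F (1 + η, 1) + F (η, 1) = F (1, 1) + F (0, 1) + (F (0, 1) + F (0, 1) +
      (F (1, 1) + F (1, 1))) + (F (1, 0) + F (1, 0) + F (1, 0)) := by
    linear_combination (norm := abel1) r - h4 (1, 1)
  have r3 := congrArg (fun w => e g * ι w * (e g)⁻¹) r2
  simp only [i2, i5, ← conj_mul, T.eqv _ _ (iso _)] at r3
  simpa only [jv, ac_add, ac_smul, one_smul, zero_smul, zero_add, add_zero] using r3

include hq

theorem mp_mv {v x : Vn n K} (p : Pp (ev 0) v) (l : Li (ev 0) v) (h1 : tr (hf v x) = 1) (i : ℕ) :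
    Mp e τ (kk τ v) x i (v + x) (i + 1) := by
  rintro _ ⟨c, o, rfl⟩
  have k := kk_conj T p o
  rw [rel T h hs h1 (nm1 hq h1) (nm1 hq (tr1 h1)) p l, hs _ p.r, hs _ p.iso_add, ← map_mul,
    TT_mul p, ← kk] at k
  have o1 : Ok (ev 0) v 1 := ⟨p.l, p.symm.p, by rw [p.r, tr_eq_zero, star_one]⟩
  have a := Cj.mul T (⟨1, o1, rfl⟩ : Cj e τ v 3 _) (⟨c, o, rfl⟩ : Cj e τ x i _)
  rw [show 3 + i = i + 1 + 2 by omega] at a
  convert a.two T hs using 1
  rw [mul_assoc, mul_assoc, ((ck T p).pow_left i).eq, ← mul_assoc (e _), eq_mul_of_mul_inv_eq k,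
    pow_three]
  group

theorem mp_mv' {v x : Vn n K} (p : Pp (ev 0) v) (l : Li (ev 0) v) (h1 : tr (hf v x) = 1) :
    Mp e τ (kk τ v) x 1 (v + x) 0 := fun y hy => (mp_mv T h hq hs p l h1 1 y hy).two T hs

omit hq in
theorem mt_of {v x y : Vn n K} {i j : ℕ} (p : Pp (ev 0) v) (m : Mp e τ (kk τ v) x i y j) :
    Mt e t τ (kk τ v) x i (v + y) j := fun w hw => by
  have o1 : Ok (ev 0) v 1 := ⟨p.l, p.symm.p, by rw [p.r, tr_eq_zero, star_one]⟩
  have a := Cj.mul T (⟨1, o1, rfl⟩ : Cj e τ v 0 _) (m w hw)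
  rw [zero_add] at a
  convert a using 1
  have c1 : Commute (τ v) (τ (ev 0 + v)) :=
    T.comm _ _ ⟨p.r, p.iso_add, by rw [hf_add_right, p.r, p.symm.p, add_zero]⟩
  have k : (kk τ v)⁻¹ * t * kk τ v = t * e (EE (ev 0) v 1) := by
    calc _ = (τ v)⁻¹ * ((τ (ev 0 + v))⁻¹ * t * τ (ev 0 + v)) * τ v := by rw [kk]; group
      _ = (τ v)⁻¹ * t * (e (TT (ev 0 + v)) * τ v) := by rw [tt' T h hs p.iso_add]; group
      _ = _ := by
        rw [← TT_mul p, map_mul, ← mul_assoc t, ← tt' T h hs p.r, ← hs _ p.iso_add,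
          ← (c1.mul_right c1).eq]
        group
  calc _ = t⁻¹ * ((kk τ v)⁻¹ * t * kk τ v) * ((kk τ v)⁻¹ * w * kk τ v) := by group
    _ = _ := by rw [k]; group

omit hq in
theorem fin {c : G} (c1 : t * c = c * t) (c2 : Commute (τ (ev 0)) c) {η : K} (hη : tr η = 1)
    (a1 : Mp e τ c (ev 2) 0 (ev 2) 0) (a2 : Mp e τ c (η • ev 2) 0 (η • ev 2) 0)
    (b1 : Mp e τ c (ev 2 + ev 1) 0 (ev 2 + ev 1) 0)
    (b2 : Mp e τ c (η • (ev 2 + ev 1)) 0 (η • ev 2 + (1 + η) • ev 1) 0) (n1 : nm η = 1) : False := by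
  obtain rfl : n = 4 := hp.five
  have o0 : Ok (ev 1 : Vn 4 K) (ev 2) η := ⟨pp01.r, by rw [hf_ev, if_neg (by decide)], by
    rw [hf_ev, if_pos (by decide), hη]⟩
  have g1 : ac (EE (ev 1 : Vn 4 K) (ev 2) η) (ev 0) = ev 0 :=
    ac_EE_fix o0 pp01.p (by rw [hf_ev, if_neg (by decide)])
  have g2 : ac (EE (ev 1 : Vn 4 K) (ev 2) η) (ev 2) = ev 2 + ev 1 := by
    rw [ac_EE_perp o0 o0.perp, hf_ev, if_pos (by decide), one_smul]
  generalize EE (ev 1 : Vn 4 K) (ev 2) η = g0 at g1 g2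
  obtain ⟨g, hg⟩ := (mem_normalizer_iff''.1 (h.cz (mem_Cz.2 c1)) (e g0)).1 ⟨g0, rfl⟩
  have z1 : TT (ac g (ev 0)) = TT (ev 0) := by
    rw [TT, ← Tc_conj iso0 (star_one K)]
    refine e_inj h.ker GA.rg2 (Tc_mem (four K) (w0 (by omega)) (star_one K)) g
      (Tc_mul_self iso0 (star_one K)) ?_
    have z2 := T.eqv g0 _ iso0
    rw [g1] at z2
    rw [map_mul, map_mul, map_inv, hg, ← hs _ iso0]
    calc _ = c⁻¹ * (e g0 * (c * (τ (ev 0) * τ (ev 0)) * c⁻¹) * (e g0)⁻¹) * c := by group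
      _ = _ := by
        rw [← (c2.mul_left c2).eq, mul_inv_cancel_right, ← conj_mul, z2, mul_assoc,
          (c2.mul_left c2).eq, inv_mul_cancel_left]
  have z3 : ac g (ev 0) 1 = (0 : K) := by
    have z4 := ac_Tc (iso0.ac g) (star_one K) (ev 4)
    rw [show Tc 1 (ac g (ev 0)) = TT (ev 0) from z1, ac_Tc iso0 (star_one K), hf_ev,
      if_pos (by decide)] at z4
    have z5 := congrFun z4 0
    have z6 := congrFun z4 1
    simp only [Pi.add_apply, Pi.smul_apply, smul_eq_mul, ev_apply] at z5 z6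
    simp at z5 z6
    exact z6.resolve_left fun e => by simp [e] at z5
  have key : ∀ x y d, Ok (ev 0) x d → Mp e τ c x 0 x 0 → Mp e τ c (ac g0 x) 0 y 0 →
      hf (ev 4) (ac g (ev 0)) * ac g x 1 = y 1 := fun x y d o m1 m2 => by
    obtain ⟨d1, o1, e1⟩ := m1 _ ⟨d, o, rfl⟩
    obtain ⟨d2, o2, e2⟩ := m2 _ ⟨d, g1 ▸ o.ac g0, rfl⟩
    rw [pow_zero, mul_one, mul_one] at e1 e2
    have e3 : EE (ac g (ev 0)) (ac g x) d1 = EE (ev 0) y d2 :=
      GA.inj2 h.ker (is2_EE (o1.ac g)) (is2_EE o2) (by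
        rw [← EE_conj o1, ← e2, map_mul, map_mul, map_inv, ← e1, hg]
        nth_rewrite 2 [← g1]
        rw [← EE_conj o, map_mul, map_mul, map_inv]
        group)
    have e4 := congrFun (ac_EE (o1.ac g) (ev 4)) 1
    rw [e3, ac_EE o2, hf_ev, if_pos (by decide)] at e4
    simp only [Pi.add_apply, Pi.smul_apply, smul_eq_mul, ev_apply, z3] at e4
    simpa using e4.symm
  have p2 : hf (ev 2 : Vn 4 K) (ev 0) = 0 := by rw [hf_ev, if_neg (by decide)]
  have p3 : hf (ev 2 : Vn 4 K) (ev 2) = 1 := by rw [hf_ev, if_pos (by decide)]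
  have k1 := key _ _ η ⟨iso0, p2, by rw [hη, p3]⟩ a1 (by rwa [g2])
  have k2 := key _ _ η ⟨iso0, by rw [hf_smul_left, p2, mul_zero], by
    rw [hη, hf_smul_left, hf_smul_right, p3, mul_one]; exact n1.symm⟩ a2 (by rwa [ac_smul, g2])
  rw [ac_smul] at k2
  simp only [Pi.add_apply, Pi.smul_apply, smul_eq_mul, ev_apply] at k1 k2
  simp at k1 k2
  exact one_ne_zero (α := K) (by linear_combination η * k1 - k2)

theorem false_of_sq : False := by
  obtain ⟨η, hη⟩ := FQ.eta (K := K)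
  have n1 := nm1 hq hη
  have hη' := tr1 hη
  obtain rfl : n = 4 := hp.five
  have p3 : Pp (ev 0 : Vn 4 K) (ev 3) := pp_ev (by decide) (by decide) (by decide)
  have l3 : Li (ev 0 : Vn 4 K) (ev 3) := fun a b e =>
    ⟨by simpa [ev_apply] using congrFun e 0, by simpa [ev_apply] using congrFun e 3⟩
  have p1 : ∀ a : K, Pp (ev 0 : Vn 4 K) (a • ev 1) := fun a => by simpa using pp01.smul 1 a
  have l1 : ∀ a : K, tr a = 1 → Li (ev 0 : Vn 4 K) (a • ev 1) := fun a ha r s e => by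
    have a0 : a ≠ 0 := by rintro rfl; simp at ha
    exact ⟨by simpa [ev_apply] using congrFun e 0, by simpa [ev_apply, a0] using congrFun e 1⟩
  have f3 : ∀ x : Vn 4 K, tr (hf (ev 3) x) = tr (x 1) := fun x => by
    rw [hf_ev_left, tr, star_star, add_comm]; rfl
  have f1 : ∀ (a : K) (x : Vn 4 K), hf (a • ev 1) x = a * star (x 3) := fun a x => by
    rw [hf_smul_left, hf_ev_left]; rfl
  have vv : ∀ v y : Vn 4 K, v + (v + y) = y := fun v y => by rw [← add_assoc, v_add_self, zero_add]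
  have t1 : tr (1 : K) = 0 := by rw [tr_eq_zero, star_one]
  have fx : ∀ x : Vn 4 K, tr (x 1) = 0 → x 3 = 0 →
      Mp e τ (kk τ (ev 3) * kk τ (η • ev 1) * kk τ ((1 + η) • ev 1) * kk τ (ev 3)) x 0 x 0 :=
    fun x a b => (((mp_fix T hq p3 (by rw [f3, a]) 0).mul
      (mp_fix T hq (p1 _) (by simp [f1, b]) 0)).mul (mp_fix T hq (p1 _) (by simp [f1, b]) 0)).mul
      (mp_fix T hq p3 (by rw [f3, a]) 0)
  have a1 := fx (ev 2) (by simp [ev_apply]) (by simp [ev_apply])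
  have a2 := fx (η • ev 2) (by simp [ev_apply]) (by simp [ev_apply])
  have b1 := fx (ev 2 + ev 1) (by simpa [ev_apply] using t1) (by simp [ev_apply])
  have b2 := ((((mp_mv T h hq hs p3 l3 (x := η • (ev 2 + ev 1))
    (by rw [f3, ← hη]; simp [ev_apply]) 0).mul
    (mp_mv' T h hq hs (p1 η) (l1 _ hη) (by rw [f1, ← hη]; simp [ev_apply]))).mul
    (mp_mv T h hq hs (p1 (1 + η)) (l1 _ hη') (by rw [f1]; simpa [ev_apply] using hη') 0)).mul
    (mp_mv' T h hq hs p3 l3 (by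
      rw [f3]; simpa [ev_apply, add_assoc, CharTwo.add_self_eq_zero] using hη'))).cast
    (y' := η • ev 2 + (1 + η) • ev 1) (by
      linear_combination (norm := module) v_add_self (ev 3 : Vn 4 K) + v_add_self (η • ev 1 : Vn 4 K))
  have m1 := mt_of T h hs p3 (mp_fix T hq p3 (x := 0) (by simp) 0)
  rw [add_zero] at m1
  have m2 := mt_of T h hs (p1 η) (mp_mv T h hq hs (p1 η) (l1 _ hη) (x := ev 3)
    (by rw [f1, ← hη]; simp [ev_apply]) 0)
  have m3 := mt_of T h hs (p1 _) (mp_mv' T h hq hs (p1 _) (l1 _ hη') (x := ev 3)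
    (by rw [f1]; simpa [ev_apply] using hη'))
  have m4 := mt_of T h hs p3 (mp_fix T hq p3 (x := ev 3) (by rw [f3]; simp [ev_apply]) 0)
  rw [vv] at m2 m3
  rw [v_add_self] at m4
  obtain ⟨d, o, e1⟩ := ((m1.mul m2).mul m3).mul m4 1 ⟨0, ok_zero iso0 (star_zero K), by simp⟩
  have c2 := (((ck T p3).mul_right (ck T (p1 η))).mul_right (ck T (p1 (1 + η)))).mul_right (ck T p3)
  generalize kk τ (ev 3) * kk τ (η • ev 1) * kk τ ((1 + η) • ev 1) * kk τ (ev 3) = c at *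
  rw [pow_zero, mul_one, mul_one, inv_mul_eq_iff_eq_mul] at e1
  rcases eq01 hq (o.tr.trans (hf_zero_left _)) with rfl | rfl
  · rw [EE_zero, map_one, mul_one, mul_assoc, inv_mul_eq_iff_eq_mul] at e1
    exact fin T h hs e1 c2 hη a1 a2 b1 b2 n1
  refine fin T h hs (c := c * τ (ev 0)) ?_ (c2.mul_right (Commute.refl _)) hη (a1.mul (mp0 T _ _))
    (a2.mul (mp0 T _ _)) (b1.mul (mp0 T _ _)) (b2.mul (mp0 T _ _)) n1
  have e2 := T.tt _ (iso0 (n := 4) (K := K))
  rw [← e1] at e2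
  calc _ = c * (c⁻¹ * t * c) * τ (ev 0) := by group
    _ = _ := by rw [← e2]; group

end HM2

theorem jobHM2 : JobHM2.{u} := by
  intro n K _ _ _ _ hp _ _ _ _ _ _ G _ _ e t hq h τ T
  have hq' : ∀ a : K, star a = a ^ 2 := fun a => hq ▸ FQ.star_eq a
  obtain ⟨ρ, hρ, hs⟩ := HM4.exists_rho T h
  rcases HM2.eq01 hq' (tr_eq_zero.2 hρ) with rfl | rfl
  · exact HM4.hm_of_sq T h fun v hv => by simpa using hs v hv
  · exact (HM2.false_of_sq T h hq' hs).elim

end H59.UV
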