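import Cfsg.Agent.H59.U5CL

/-! STD-U5, slot MID, part 1: rows, pins, the group `M*`. -/

set_option autoImplicit false
set_option linter.unusedSectionVars false

namespace H59.UVM

open H64.SG (Cz Cs Ns mem_Cz mem_Cs)
open Matrix Subgroup H67 H59.UV H59.UVW
open H59.UVC (cm_mul cm_inv cm_cj cj_eq)
open H67.SA (cm cm_eq_one)
open H67.GA (B1 CH)

universe u

variable {K : Type} [Field K] [StarRing K] [CharP K 2] [Finite K]
variable {G : Type u} [Group G] {e : XU 4 K →* G} {t : G} {τ : Vn 4 K → G} {δ η : K}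

theorem cm_mul' {G : Type*} [Group G] (a b c : G) : cm a (b * c) = cm a b * (b * cm a c * b⁻¹) := by
  simp only [cm]; group

variable (e t τ δ η) in
/-- The field case. -/
structure Hy : Prop where
  b : CH e t
  p : P3 e t τ δ
  h1 : η ^ 2 + η = δ
  h2 : star η = η + 1

local notation "𝕐" => YY e τ (η + 1)

variable (e t τ η) in
/-- `k = 1 + u y*` modulo `Z*_u` -/
abbrev Rw (u : Vn 4 K) (k : G) (y : Vn 4 K) : Prop := Cl e t τ u k (η • y) y

variable (e τ η) in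
/-- the element `1 + a e₀ e₀* + b e₀ e₁* + c e₁ e₀* + d e₁ e₁*` -/
noncomputable def Ps (a b c d : K) : G :=
  𝕐 (a • ev 0 + c • ev 1) (ev 0) * 𝕐 (b • ev 0 + d • ev 1) (ev 1)

theorem w0 : Wk 2 (ev 0 : Vn 4 K) := wk_ev (by decide)
theorem w1 : Wk 2 (ev 1 : Vn 4 K) := wk_ev (by decide)
theorem wc (a b : K) : Wk 2 (a • ev 0 + b • ev 1 : Vn 4 K) := (w0.smul a).add (w1.smul b)
theorem pw {u v : Vn 4 K} (hu : Wk 2 u) (hv : Wk 2 v) : Pp u v := hu.pp hv (by omega)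
theorem w_eq {u : Vn 4 K} (hu : Wk 2 u) : u = u 0 • ev 0 + u 1 • ev 1 := by
  ext i
  fin_cases i <;> simp [ev_apply]
  exacts [hu 2 (by decide), hu 3 (by decide), hu 4 (by decide)]
theorem hfe (i j : Fin 5) : hf (ev i : Vn 4 K) (ev j) = if i.val + j.val = 4 then 1 else 0 := by
  rw [hf_ev]
  refine if_congr ?_ rfl rfl
  rw [Fin.ext_iff, Fin.val_rev]; omega
theorem nm2 : ∀ i : Fin 5, i ≠ 2 → i ≠ i.rev := by decide
theorem pe {i j : Fin 5} (hi : i ≠ 2) (hj : j ≠ 2) (h : j ≠ i.rev) (a : K) :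
    Pp (ev i : Vn 4 K) (a • ev j) :=
  pp_smul (pp_ev (nm2 i hi) (nm2 j hj) h) a

/-- the action of `x_01(c) x_34(c̄)` -/
theorem ac_s (c : K) : ac (ss (0 : Fin 5) 1 c) (ev 0) = ev 0 ∧
    ac (ss (0 : Fin 5) 1 c) (ev 1) = c • ev 0 + ev 1 ∧ ac (ss (0 : Fin 5) 1 c) (ev 2) = ev 2 ∧
    ac (ss (0 : Fin 5) 1 c) (ev 3) = ev 3 ∧
    ac (ss (0 : Fin 5) 1 c) (ev 4) = ev 4 + star c • ev 3 := by
  have p := pe (K := K) (i := 3) (j := 0) (by decide) (by decide) (by decide) c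
  have r : (1 : Fin 5).rev = 3 := rfl
  simp only [ss, r, ac_qq p, hf_smul_right, hfe]
  simp [add_comm]

namespace Hy

variable (h : Hy e t τ δ η)
include h

theorem s1 : star (η + 1) = η := st1 h.h2

theorem yk : YK e t 𝕐 := by
  have b := h.b
  have h2 := h.h2
  have key : ∀ u v (c c' : K), Pp u v → e (qq (c • v) u) * e (qq (c' • v) u) = e (qq ((c + c') • v) u) :=
    fun u v c c' p => by
      rw [← map_mul, add_smul, qq_add (pp_smul p c) (pp_smul p c') ((pp_self p.r).smul _ _).p]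
  refine ⟨fun u v w => YY_add h.p, fun a u v => YY_smul h.p a, fun u v p => ?_,
    fun g u v => YY_conj h.p g, fun u v p => ?_, fun u v w x => yk_c1 h.p h.h1 h2,
    fun u v w x => yk_m1 h.p h.h1 h2, yk_zc h.p h2⟩
  · rw [YY_sw h.p p.symm, st1 h2, YY, YY, ← conj_mul, b.conj_eq, t_sig b.toB1 h.p.ta.toT1 p, ← mul_assoc]
    nth_rewrite 2 [← one_smul K v]
    rw [key _ _ _ _ p, add_assoc, CharTwo.add_self_eq_zero, add_zero]
  · have q := pp_smul p η
    rw [YY_sw h.p p.symm, st1 h2, YY, YY, mul_assoc, ← mul_assoc (sig τ v u),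
      ← (e_sig h.p.ta.toT1 p (ac_EE_self q.ok) (ac_EE_fix q.ok p.symm.p
        (pp_smul (pp_self p.r) η).p)).eq, mul_assoc, sig_sq h.p.ta p, mul_one, key _ _ _ _ p,
      add_right_comm, CharTwo.add_self_eq_zero, zero_add, one_smul]

/-- the other root -/
theorem alt : Hy e t τ δ (η + 1) :=
  ⟨h.b, h.p, by linear_combination h.h1 + (η + 1) * two0 K, by
    rw [h.s1]; linear_combination -two0 K⟩

theorem tt : t * t = 1 := h.b.inv.1

variable {u v w x y y' y'' : Vn 4 K} {k k' z : G} {d g : XU 4 K}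

theorem zt_eq (hu : Iso u) {a b : K} (ha : star a = a) (hb : star b = b) :
    zt e τ u a b = 𝕐 ((a + η * b) • u) u := by
  rw [YY, h.p.cl.sig_self _ _ hu, smul_smul, qq_self, zt, zt, show Tc 0 u = 1 from EE_zero u, map_one,
    one_mul]
  simp only [tr, star_mul', star_add, ha, hb, h.h2, star_one]
  congr 3
  · linear_combination -((η + 1) * a + (η ^ 2 + 2 * η + 1) * b - b * (η + 0) + b * η) * two0 K + 2 * (a + η * b + b) * 0 * two0 K
  · congr 1
    linear_combination -(a + η * b) * two0 K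

theorem Y_eq_zt (hu : Iso u) (a : K) : 𝕐 (a • u) u = zt e τ u (tr ((η + 1) * a)) (tr a) := by
  rw [h.zt_eq hu (star_tr _) (star_tr _)]
  simp only [tr, star_mul', h.s1]
  congr 2
  linear_combination -(η * a + η * star a) * two0 K

theorem Y_inZ (hu : Iso u) (a : K) : InZ e τ u (𝕐 (a • u) u) :=
  ⟨_, _, star_tr _, star_tr _, h.Y_eq_zt hu a⟩

theorem inZ_iff (hu : Iso u) (hz : InZ e τ u z) : ∃ a : K, z = 𝕐 (a • u) u := by
  obtain ⟨a, b, ha, hb, rfl⟩ := hz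
  exact ⟨_, h.zt_eq hu ha hb⟩

theorem Y0 (hu : Iso u) : 𝕐 0 u = 1 := YY_zero' h.p hu

theorem Ysq (p : Pp u v) : 𝕐 v u * 𝕐 v u = 1 := by
  rw [← h.yk.add u v v p p (pp_self p.r), v_add_self, h.Y0 p.l]

theorem Yaddr (p : Pp u v) (q : Pp w v) (r : Pp u w) : 𝕐 v (u + w) = 𝕐 v u * 𝕐 v w := by
  rw [← h.yk.tc _ _ (pp_add r p q).symm, ← h.yk.tc _ _ p.symm, ← h.yk.tc _ _ q.symm, conj_mul,
    h.yk.add _ _ _ p.symm q.symm r]

theorem row (p : Pp u v) : Rw e t τ η v (𝕐 v u) u := cl_row h.p h.h2 p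

theorem row' (p : Pp u v) (a : K) : Rw e t τ η v (𝕐 (a • v) u) (star a • u) := by
  rw [h.yk.scal _ _ _ p]; exact h.row (pp_smul p.symm _).symm

theorem rmul (hu : Iso u) (c : Rw e t τ η u k y) (c' : Rw e t τ η u k' y') :
    Rw e t τ η u (k * k') (y + y') := by
  simpa only [Rw, smul_add] using h.p.cl.mul _ _ _ _ _ _ _ hu c c'

/-- The commutator of a row with any element. -/
theorem cm_row (u0 : u ≠ 0) (hu : Iso u) (c : Rw e t τ η u k y)
    (c' : Cl e t τ u k' ((η + 1) • y' + η • y'') (y' + y'')) : cm k k' = 𝕐 (hf y' y • u) u := by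
  have f : star δ = δ := h.p.fix
  rw [h.p.cb _ _ _ _ _ _ _ u0 hu c c', h.zt_eq hu (by simp [f, add_comm]) (by simp [add_comm]),
    ← star_hf y y']
  simp only [hf_smul_left, hf_smul_right, hf_add_right, h.s1, tr, star_mul', h.h2, star_add]
  congr 2
  rw [← h.h1]
  generalize hf y y' = p
  generalize hf y y'' = r
  linear_combination ((2 * η ^ 2 + η) * p + (2 * η ^ 2 + 3 * η) * star p + (2 * η ^ 2 + 2 * η) * r +
    (2 * η ^ 2 + 2 * η) * star r) * two0 K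

theorem row_comm (u0 : u ≠ 0) (hu : Iso u) (c : Rw e t τ η u k y) (c' : Rw e t τ η u k' y') :
    Commute k k' := cm_eq_one.1 (by
  rw [h.cm_row (y' := 0) u0 hu c (by simpa using c'), hf_zero_left, zero_smul, h.Y0 hu])

theorem cm_col (u0 : u ≠ 0) (hu : Iso u) (c : Rw e t τ η u k y)
    (c' : Rw e t τ (η + 1) u k' y') : cm k k' = 𝕐 (hf y' y • u) u :=
  h.cm_row (y'' := 0) u0 hu c (by simpa using c')

theorem cm_EE (u0 : u ≠ 0) (c : Rw e t τ η u k y) {a : K} (o : Ok u x a) :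
    cm k (e (EE u x a)) = 𝕐 (hf x y • u) u :=
  h.cm_row (y'' := x) u0 o.iso c (by
    rw [← add_smul, add_right_comm, CharTwo.add_self_eq_zero, zero_add, one_smul, v_add_self]
    exact h.p.cl.cl_e _ _ _ o)

theorem rconj (hu : Iso u) (c : Rw e t τ η u k y) (g : XU 4 K) :
    Rw e t τ η (ac g u) (e g * k * (e g)⁻¹) (ac g y) := by
  simpa only [Rw, ac_smul] using h.p.cl.conj_e g _ _ _ _ hu c

theorem rt (hu : Iso u) (c : Rw e t τ η u k y) : Rw e t τ (η + 1) u (t * k * t⁻¹) y := by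
  simpa only [Rw, add_smul, one_smul] using h.p.cl.conj_t _ _ _ _ hu c

theorem e_Z (hu : Iso u) (hd : ac d u = u) (hz : InZ e τ u z) : e d * z * (e d)⁻¹ = z := by
  obtain ⟨a, b, ha, -, rfl⟩ := hz
  rw [h.p.cl.zconj _ _ _ _ hu ha, hd]

theorem r_cm (hu : Iso u) (hd : ac d u = u) (c : Rw e t τ η u k y) :
    Rw e t τ η u (cm (e d) k) (ac d y + y) := by
  have := h.rconj hu c d
  rw [hd] at this
  exact h.rmul hu this (h.p.cl.inv _ _ _ _ hu c)

/-- The pin does not depend on the element of the class. -/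
theorem pin (u0 : u ≠ 0) (hu : Iso u) (hd : ac d u = u) (c : Rw e t τ η u k y)
    (c' : Rw e t τ η u k' y) : cm (e d) k = cm (e d) k' := by
  have hz := same h.p u0 hu c c'
  rw [← inv_mul_cancel_right k k', cm_mul', cm, h.e_Z hu hd hz, mul_inv_cancel, one_mul,
    ← (h.r_cm hu hd c').c1 _ hz, mul_inv_cancel_right]

theorem pin_mul (u0 : u ≠ 0) (hu : Iso u) (hd : ac d u = u) (c : Rw e t τ η u k y)
    (c' : Rw e t τ η u k' y') : cm (e d) (k * k') = cm (e d) k * cm (e d) k' := by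
  rw [cm_mul', cj_eq (h.row_comm u0 hu c (h.r_cm hu hd c')).eq]

theorem Ycomm (hu : Wk 2 u) (hv : Wk 2 v) (hw : Wk 2 w) (hx : Wk 2 x) : Commute (𝕐 v u) (𝕐 x w) :=
  h.yk.c1 _ _ _ _ (pw hu hv) (pw hw hx) (pw hx hu).p (pw hv hw).p (pw hu hw).p

theorem Ps_mul (a b c d a' b' c' d' : K) : Ps e τ η a b c d * Ps e τ η a' b' c' d' =
    Ps e τ η (a + a') (b + b') (c + c') (d + d') := by
  have k : ∀ a c a' c' : K, (a + a') • ev 0 + (c + c') • ev 1 =
      (a • ev 0 + c • ev 1) + (a' • ev 0 + c' • ev 1 : Vn 4 K) := fun _ _ _ _ => by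
    simp only [add_smul]; abel
  rw [Ps, Ps, Ps, k, k, h.yk.add _ _ _ (pw w0 (wc _ _)) (pw w0 (wc _ _)) (pw (wc _ _) (wc _ _)),
    h.yk.add _ _ _ (pw w1 (wc _ _)) (pw w1 (wc _ _)) (pw (wc _ _) (wc _ _)), mul_assoc, mul_assoc,
    ← mul_assoc (𝕐 (b • ev 0 + d • ev 1) _), (h.Ycomm w1 (wc _ _) w0 (wc _ _)).eq, mul_assoc]

theorem Ps_zero : Ps e τ η 0 0 0 0 = 1 := by
  simp [Ps, h.Y0 (pw w0 w0).l, h.Y0 (pw w1 w1).l]

theorem Ps_sq (a b c d : K) : Ps e τ η a b c d * Ps e τ η a b c d = 1 := by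
  simp only [h.Ps_mul, CharTwo.add_self_eq_zero, h.Ps_zero]

theorem Y_eq (a b c d : K) : 𝕐 (a • ev 0 + b • ev 1) (c • ev 0 + d • ev 1) =
    Ps e τ η (a * star c) (a * star d) (b * star c) (b * star d) := by
  rw [h.Yaddr (pw (w0.smul _) (wc _ _)) (pw (w1.smul _) (wc _ _)) (pw (w0.smul _) (w1.smul _)),
    ← star_star c, ← star_star d, ← h.yk.scal _ _ _ (pw w0 (wc _ _)), ← h.yk.scal _ _ _ (pw w1 (wc _ _)),
    Ps]
  simp only [star_star, smul_add, smul_smul, mul_comm]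

theorem Ps_conj {α β γ ε : K} (h0 : ac g (ev 0) = α • ev 0 + γ • ev 1)
    (h1 : ac g (ev 1) = β • ev 0 + ε • ev 1) (a b c d : K) :
    e g * Ps e τ η a b c d * (e g)⁻¹ = Ps e τ η
      ((a * α + c * β) * star α + (b * α + d * β) * star β)
      ((a * α + c * β) * star γ + (b * α + d * β) * star ε)
      ((a * γ + c * ε) * star α + (b * γ + d * ε) * star β)
      ((a * γ + c * ε) * star γ + (b * γ + d * ε) * star ε) := by
  have k : ∀ a c : K, ac g (a • ev 0 + c • ev 1) =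
      (a * α + c * β) • ev 0 + (a * γ + c * ε) • ev 1 := fun _ _ => by
    simp only [ac_add, ac_smul, h0, h1, smul_add, smul_smul, add_smul]; abel
  rw [Ps, ← conj_mul, h.yk.ec _ _ _ (pw w0 (wc _ _)), h.yk.ec _ _ _ (pw w1 (wc _ _)), k, k, h0, h1,
    h.Y_eq, h.Y_eq, h.Ps_mul]

theorem Ps_s (x a b c d : K) : e (ss 0 1 x) * Ps e τ η a b c d * (e (ss 0 1 x))⁻¹ =
    Ps e τ η (a + b * star x + c * x + d * nm x) (b + d * x) (c + d * star x) d := by
  rw [h.Ps_conj (α := 1) (γ := 0) (β := x) (ε := 1) (by simpa using (ac_s x).1)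
    (by simpa using (ac_s x).2.1)]
  congr 1 <;> simp [nm]
  ring

theorem Ps_t (a b c d : K) :
    t * Ps e τ η a b c d * t⁻¹ = Ps e τ η (star a) (star c) (star b) (star d) := by
  have e0 : (ev 0 : Vn 4 K) = (1 : K) • ev 0 + (0 : K) • ev 1 := by simp
  have e1 : (ev 1 : Vn 4 K) = (0 : K) • ev 0 + (1 : K) • ev 1 := by simp
  rw [Ps, ← conj_mul, h.yk.tc _ _ (pw w0 (wc _ _)), h.yk.tc _ _ (pw w1 (wc _ _))]
  nth_rewrite 1 [e0]
  nth_rewrite 3 [e1]
  rw [h.Y_eq, h.Y_eq, h.Ps_mul]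
  simp

variable [FQ K]

theorem Ps_inj0 {a b c : K} (h0 : Ps e τ η a b c 0 = 1) : a = 0 ∧ b = 0 ∧ c = 0 := by
  have i0 : Iso (ev 0 : Vn 4 K) := (pw w0 w0).l
  have c1 := h.p.cl.mul _ _ _ _ _ _ _ i0 (YY_cl h.p (c := η + 1) (pw w0 (wc a c)))
    (h.row' (pw w1 w0) b)
  rw [Ps, zero_smul, add_zero] at h0
  rw [h0] at c1
  have k : ∀ θ : K, tr (θ * (η * star c + (η + 1) * b)) = 0 ∧ tr (θ * (star c + b)) = 0 := fun θ => by
    have c2 := c1.c2 _ _ (pe (i := 0) (j := 3) (by decide) (by decide) (by decide) θ).ok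
    have c3 := h.p.cl.zinj _ _ _ (ev_ne 0) i0 (star_tr _) (star_tr _) (c2.symm.trans (by simp [cm]))
    simp only [hf_add_right, hf_smul_left, hf_smul_right, hfe, h.s1, h.h2, star_star] at c3
    simpa [mul_add, mul_comm, mul_left_comm, mul_assoc] using c3
  have k1 := FQ.trn _ fun θ => (k θ).1
  have k2 := FQ.trn _ fun θ => (k θ).2
  obtain rfl : b = 0 := by linear_combination k1 - η * k2
  obtain rfl : c = 0 := by simpa using k2
  rw [zero_smul, add_zero, zero_smul, h.Y0 (pw w1 w1).l, mul_one, h.Y_eq_zt i0] at h0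
  obtain ⟨k3, k4⟩ := h.p.cl.zinj _ _ _ (ev_ne 0) i0 (star_tr _) (star_tr _) h0
  simp only [tr, star_mul', h.s1] at k3 k4
  exact ⟨by linear_combination k3 - η * k4, rfl, rfl⟩

theorem Ps_inj {a b c d a' b' c' d' : K} (h0 : Ps e τ η a b c d = Ps e τ η a' b' c' d') :
    a = a' ∧ b = b' ∧ c = c' ∧ d = d' := by
  have h1 := h.Ps_mul a b c d a' b' c' d'
  rw [h0, h.Ps_sq] at h1
  have h2 := h.Ps_s 1 (a + a') (b + b') (c + c') (d + d')
  rw [← h1, mul_one, mul_inv_cancel] at h2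
  have h3 := h.Ps_mul _ _ _ _ _ _ _ _ ▸ (congrArg₂ (· * ·) h1 h2).symm
  rw [CharTwo.add_self_eq_zero, mul_one (1 : G)] at h3
  have h4 : d + d' = 0 := by linear_combination (h.Ps_inj0 h3).2.1 - (b + b') * two0 K
  rw [h4] at h1
  obtain ⟨k1, k2, k3⟩ := h.Ps_inj0 h1.symm
  exact ⟨by linear_combination k1 - a' * two0 K, by linear_combination k2 - b' * two0 K,
    by linear_combination k3 - c' * two0 K, by linear_combination h4 - d' * two0 K⟩

/-- `M*` -/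
def MM : Subgroup G where
  carrier := {g | ∃ a b c d, g = Ps e τ η a b c d}
  one_mem' := ⟨0, 0, 0, 0, h.Ps_zero.symm⟩
  mul_mem' := by
    rintro _ _ ⟨a, b, c, d, rfl⟩ ⟨a', b', c', d', rfl⟩
    exact ⟨_, _, _, _, h.Ps_mul ..⟩
  inv_mem' := by
    rintro _ ⟨a, b, c, d, rfl⟩
    exact ⟨_, _, _, _, inv_eq_of_mul_eq_one_right (h.Ps_sq ..)⟩

theorem Ps_mem (a b c d : K) : Ps e τ η a b c d ∈ h.MM := ⟨a, b, c, d, rfl⟩

theorem Y_mem (hu : Wk 2 u) (hv : Wk 2 v) : 𝕐 v u ∈ h.MM := by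
  rw [w_eq hu, w_eq hv, h.Y_eq]; exact h.Ps_mem ..

theorem Z_mem (hu : Wk 2 u) (hz : InZ e τ u z) : z ∈ h.MM := by
  obtain ⟨a, rfl⟩ := h.inZ_iff (pw hu hu).l hz
  exact h.Y_mem hu (hu.smul a)

theorem M_sq (hz : z ∈ h.MM) : z * z = 1 := by
  obtain ⟨a, b, c, d, rfl⟩ := hz
  exact h.Ps_sq ..

theorem M_comm : h.MM ≤ Cs h.MM := by
  rintro _ ⟨a, b, c, d, rfl⟩ _ ⟨a', b', c', d', rfl⟩
  simp only [h.Ps_mul, add_comm]

theorem eM [FV 4 K] (hg : g ∈ GA.Mk (XU 4 K) 2) : e g ∈ h.MM :=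
  FV.gen_M 2 (by omega) (h.MM.comap e) (fun v hv => h.Z_mem hv
    ⟨1, 0, star_one K, star_zero K, by
      rw [zt, rt_zero, zero_smul, h.p.ta.zero, mul_one]⟩) hg

theorem eQ_cs [FV 4 K] (hg : g ∈ GA.Qk (XU 4 K) 2) : e g ∈ Cs h.MM := by
  rintro _ ⟨a, b, c, d, rfl⟩
  rw [eq_comm, ← mul_inv_eq_iff_eq_mul, h.Ps_conj (α := 1) (γ := 0) (β := 0) (ε := 1)
    (by simpa using Qk_fix (by omega) hg w0) (by simpa using Qk_fix (by omega) hg w1)]
  simp

end Hy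

end H59.UVM
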