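import Cfsg.Agent.H59.U5M1

/-! STD-U5, slot MID, part 2: the pinned elements `AA i a = 1 + a e_i e₂*`. -/

set_option autoImplicit false
set_option linter.unusedSectionVars false

namespace H59.UVM

open H64.SG (Cz Cs Ns mem_Cz mem_Cs)
open Matrix Subgroup H67 H59.UV H59.UVW
open H59.UVC (cm_mul cm_inv cm_cj cj_eq)
open H67.SA (cm cm_eq_one)
open H67.GA (B1 CH)

universe u

variable {K : Type} [Field K] [StarRing K] [CharP K 2] [Finite K]
variable {G : Type u} [Group G] {e : XU 4 K →* G} {t : G} {τ : Vn 4 K → G} {δ η ν : K}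

local notation "𝕐" => YY e τ (η + 1)

theorem bext {g g' : XU 4 K} (h : ∀ j, ac g (ev j) = ac g' (ev j)) : g = g' :=
  X_ext (Matrix.ext fun i j => by rw [← ac_ev, h, ac_ev])

/-- `1` on `e_i, e_i'`, `ν⁻²` on `e₂`, `ν` elsewhere -/
def wt (ν : K) (i r : Fin 5) : K := if r = i ∨ r = i.rev then 1 else if r = 2 then star ν ^ 2 else ν

/-- the pinning element -/
noncomputable def dI (ν : K) (i : Fin 5) : XU 4 K := mk (diagonal (wt ν i))

variable (e t τ η) in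
/-- `1 + a e_i e₂*` -/
noncomputable def AA (ν : K) (i : Fin 5) (a : K) : G := cm (e (dI ν i))
  (Classical.epsilon fun k => Rw e t τ η (ev i) k (((star ν ^ 2 + 1)⁻¹ * star a) • ev 2))

theorem isoI {i : Fin 5} (hi : i ≠ 2) : Iso (ev i : Vn 4 K) := ev_iso (nm2 i hi)
theorem hf2 {i : Fin 5} (hi : i ≠ 2) : hf (ev 2 : Vn 4 K) (ev i) = 0 := by
  rw [hf_ev, if_neg (show i ≠ (2 : Fin 5).rev from hi)]
theorem hf2' {i : Fin 5} (hi : i ≠ 2) : hf (ev i : Vn 4 K) (ev 2) = 0 := hf_symm (hf2 hi)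
theorem hf22 : hf (ev 2 : Vn 4 K) (ev 2) = 1 := by rw [hfe, if_pos (by decide)]
theorem rev2 : ∀ k : Fin 5, k ≠ 2 → k.rev ≠ 2 := by decide
theorem pe1 {i j : Fin 5} (hi : i ≠ 2) (hj : j ≠ 2) (h : j ≠ i.rev) : Pp (ev i : Vn 4 K) (ev j) :=
  pp_ev (nm2 i hi) (nm2 j hj) h

theorem ne_one {a : K} (h : a ≠ 1) : a + 1 ≠ 0 := fun e => h (by linear_combination e - two0 K)
theorem sq_ne {a : K} (h : a ≠ 1) : star a ^ 2 + 1 ≠ 0 := ne_one fun e => h (by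
  rw [← star_star a, sq_inj (e.trans (one_pow 2).symm), star_one])

variable [FV 4 K]

theorem diag_ev {d : Fin 5 → K} {g : XU 4 K} (h : ∀ v i, ac g v i = d i * v i) (r : Fin 5) :
    ac g (ev r) = d r • ev r := funext fun a => by
  rw [h, Pi.smul_apply, ev_apply]
  split_ifs with e <;> simp [e]

theorem ac_dI (h1 : nm ν = 1) {i : Fin 5} (hi : i ≠ 2) (r : Fin 5) :
    ac (dI ν i) (ev r) = wt ν i r • ev r := by
  have h2 : ν * star ν = 1 := h1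
  have h3 : star ν ^ 2 * ν ^ 2 = 1 := by rw [← mul_pow, mul_comm, h2, one_pow]
  have k1 : ∀ i r : Fin 5, (r.rev = i ∨ r.rev = i.rev) ↔ (r = i ∨ r = i.rev) := by decide
  have k2 : ∀ r : Fin 5, r.rev = 2 ↔ r = 2 := by decide
  obtain ⟨g, g1, -, g2⟩ := FV.diag (n := 4) (wt ν i) (fun r => by
    simp only [wt, k1, k2]
    split_ifs <;> simp [h2, h3]) (by
    rw [Fin.prod_univ_five]
    fin_cases i <;> first | exact absurd rfl hi | (simp +decide [wt]; linear_combination h3))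
  rw [dI, ← g1, mk_mt, diag_ev g2]

/-- the torus -/
theorem exists_tor {l m : K} (l0 : l ≠ 0) (m0 : m ≠ 0) : ∃ g : XU 4 K, ∀ r, ac g (ev r) =
    ![l, m, star l * star m / (l * m), (star m)⁻¹, (star l)⁻¹] r • ev r := by
  have l1 := star_ne_zero.2 l0
  have m1 := star_ne_zero.2 m0
  obtain ⟨g, -, -, g2⟩ := FV.diag (n := 4) ![l, m, star l * star m / (l * m), (star m)⁻¹, (star l)⁻¹]
    (fun r => by fin_cases r <;> simp [l0, m0, l1, m1] <;> field_simp) (by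
      simp [Fin.prod_univ_succ]; field_simp)
  exact ⟨g, diag_ev g2⟩

/-- the Weyl group -/
theorem exists_w {i k : Fin 5} (hi : i ≠ 2) (hk : k ≠ 2) (h1 : k ≠ i) (h2 : k ≠ i.rev) :
    ∃ (π : Equiv.Perm (Fin 5)) (g : XU 4 K), (∀ r, π r.rev = (π r).rev) ∧
      (∀ r, ac g (ev r) = ev (π r)) ∧ π 0 = i ∧ π 1 = k ∧ π 2 = 2 := by
  have k1 : ∀ i k : Fin 5, i ≠ 2 → k ≠ 2 → k ≠ i → k ≠ i.rev →
      ∀ a b, ![i, k, 2, k.rev, i.rev] a = ![i, k, 2, k.rev, i.rev] b → a = b := by decide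
  have k2 : ∀ i k r : Fin 5, ![i, k, 2, k.rev, i.rev] r.rev = (![i, k, 2, k.rev, i.rev] r).rev := by
    decide
  let π := Equiv.ofBijective _ (Finite.injective_iff_bijective.1 fun a b => k1 i k hi hk h1 h2 a b)
  obtain ⟨g, -, hg⟩ := FV.perm (n := 4) (K := K) π (k2 i k)
  exact ⟨π, g, k2 i k, hg, rfl, rfl, rfl⟩

variable (t τ δ η e ν) in
/-- The field case with a chosen `ν`. -/
structure Hz : Prop extends Hy e t τ δ η where
  n1 : nm ν = 1
  n2 : ν ≠ 1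

local notation "𝔸" => AA e t τ η ν

namespace Hz

variable (h : Hz e t τ δ η ν) {i j k : Fin 5} (hi : i ≠ 2) {x y : G} {g : XU 4 K} {u v : Vn 4 K}
include h hi

theorem d_fix : ac (dI ν i) (ev i) = ev i := by rw [ac_dI h.n1 hi, wt, if_pos (.inl rfl), one_smul]

theorem d_two : ac (dI ν i) (ev 2) = star ν ^ 2 • ev 2 := by
  rw [ac_dI h.n1 hi, wt, if_neg (by revert i; decide), if_pos rfl]

theorem d_oth (hk : k ≠ 2) (h1 : k ≠ i) (h2 : k ≠ i.rev) : ac (dI ν i) (ev k) = ν • ev k := by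
  rw [ac_dI h.n1 hi, wt, if_neg (by simp [h1, h2]), if_neg hk]

theorem ex_row (a : K) : ∃ k, Rw e t τ η (ev i) k (a • ev 2) :=
  h.p.cl.exist _ _ _ (isoI hi) (by simp [hf_smul_left, hf2 hi]) (by simp [hf_smul_left, hf2 hi])

theorem A_eq {a : K} (c : Rw e t τ η (ev i) x (((star ν ^ 2 + 1)⁻¹ * star a) • ev 2)) :
    𝔸 i a = cm (e (dI ν i)) x :=
  h.pin (ev_ne i) (isoI hi) (h.d_fix hi) (Classical.epsilon_spec
    (p := fun k => Rw e t τ η (ev i) k (((star ν ^ 2 + 1)⁻¹ * star a) • ev 2)) ⟨x, c⟩) c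

theorem A_row (a : K) : Rw e t τ η (ev i) (𝔸 i a) (star a • ev 2) := by
  obtain ⟨k, c⟩ := h.ex_row hi ((star ν ^ 2 + 1)⁻¹ * star a)
  have := h.r_cm (isoI hi) (h.d_fix hi) c
  rw [ac_smul, h.d_two hi, smul_smul, ← add_smul, ← h.A_eq hi c] at this
  convert this using 2
  have := sq_ne h.n2
  field_simp

theorem A_add (a b : K) : 𝔸 i (a + b) = 𝔸 i a * 𝔸 i b := by
  obtain ⟨k, c⟩ := h.ex_row hi ((star ν ^ 2 + 1)⁻¹ * star a)
  obtain ⟨k', c'⟩ := h.ex_row hi ((star ν ^ 2 + 1)⁻¹ * star b)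
  rw [h.A_eq hi c, h.A_eq hi c', ← h.pin_mul (ev_ne i) (isoI hi) (h.d_fix hi) c c']
  exact h.A_eq hi (by simpa only [star_add, mul_add, add_smul] using h.rmul (isoI hi) c c')

theorem A_zero : 𝔸 i 0 = 1 := by
  have := h.A_add hi 0 0
  rwa [add_zero, left_eq_mul] at this

theorem A_sq (a : K) : 𝔸 i a * 𝔸 i a = 1 := by
  rw [← h.A_add hi, CharTwo.add_self_eq_zero, h.A_zero hi]

theorem A_inv (a : K) : (𝔸 i a)⁻¹ = 𝔸 i a := inv_eq_of_mul_eq_one_right (h.A_sq hi a)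

theorem A_conj (hj : j ≠ 2) {l m : K} (l0 : l ≠ 0) (g1 : ac g (ev i) = l • ev j)
    (g2 : ac g (ev 2) = m • ev 2) (g3 : g * dI ν i = dI ν j * g) (a : K) :
    e g * 𝔸 i a * (e g)⁻¹ = 𝔸 j (l * star m * a) := by
  obtain ⟨k, c⟩ := h.ex_row hi ((star ν ^ 2 + 1)⁻¹ * star a)
  have c' := h.rconj (isoI hi) c g
  rw [g1, ac_smul, g2, Rw, h.p.cl.scale _ _ _ _ _ l0 (isoI hj), smul_comm] at c'
  rw [h.A_eq hi c, ← cm_cj, ← map_inv, ← map_mul, ← map_mul, g3, mul_inv_cancel_right, map_inv]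
  refine (h.A_eq hj ?_).symm
  convert c' using 1
  simp only [smul_smul, star_mul', star_star]
  congr 1; ring

theorem A_tor {w : Fin 5 → K} (hw : ∀ r, ac g (ev r) = w r • ev r) (w0 : w i ≠ 0) (a : K) :
    e g * 𝔸 i a * (e g)⁻¹ = 𝔸 i (w i * star (w 2) * a) :=
  h.A_conj hi hi w0 (hw i) (hw 2) (bext fun r => by
    rw [ac_mul, ac_mul, hw, ac_dI h.n1 hi, ac_smul, ac_smul, hw, ac_dI h.n1 hi, smul_comm]) a

theorem A_perm {π : Equiv.Perm (Fin 5)} (h1 : ∀ r, π r.rev = (π r).rev)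
    (h2 : ∀ r, ac g (ev r) = ev (π r)) (h3 : π 2 = 2) (a : K) :
    e g * 𝔸 i a * (e g)⁻¹ = 𝔸 (π i) a := by
  have k : ∀ r, π r = 2 ↔ r = 2 := fun r => by
    nth_rewrite 1 [← h3]; exact π.apply_eq_iff_eq
  have hj : π i ≠ 2 := mt (k i).1 hi
  simpa using h.A_conj hi hj (l := 1) (m := 1) one_ne_zero (by rw [h2, one_smul])
    (by rw [h2, h3, one_smul]) (bext fun r => by
      rw [ac_mul, ac_mul, h2, ac_dI h.n1 hi, ac_dI h.n1 hj, ac_smul, h2, wt, wt, ← h1]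
      simp only [k, π.apply_eq_iff_eq]) a

theorem A_self (a b : K) : Commute (𝔸 i a) (𝔸 i b) :=
  h.row_comm (ev_ne i) (isoI hi) (h.A_row hi a) (h.A_row hi b)

theorem A_crow (p : Pp u (ev i)) (a b : K) : Commute (𝕐 (a • ev i) u) (𝔸 i b) :=
  h.row_comm (ev_ne i) (isoI hi) (h.row' p a) (h.A_row hi b)

theorem A_ccol (p : Pp (ev i) u) (h0 : hf u (ev 2) = 0) (b : K) : Commute (𝕐 u (ev i)) (𝔸 i b) :=
  (show Commute _ _ from cm_eq_one.1 (by
    rw [h.cm_col (ev_ne i) (isoI hi) (h.A_row hi b) (YY_cl h.p p), hf_smul_right, h0, mul_zero,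
      zero_smul, h.Y0 (isoI hi)])).symm

theorem d_Y (hk : k ≠ 2) (h1 : k ≠ i) (h2 : k ≠ i.rev) (c : K) :
    e (dI ν i) * 𝕐 (c • ev k) (ev k) * (e (dI ν i))⁻¹ = 𝕐 (c • ev k) (ev k) := by
  have p := pp_smul (pp_self (isoI (K := K) hk)) c
  rw [h.yk.ec _ _ _ p, ac_smul, h.d_oth hi hk h1 h2, ← star_star ν,
    ← h.yk.scal _ _ _ (pp_smul (pp_smul (pp_self (isoI hk)) _) c), smul_smul, smul_smul, star_star,
    show star ν * c * ν = c by linear_combination c * h.n1]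

theorem A_cpin (hk : k ≠ 2) (h1 : k ≠ i) (h2 : k ≠ i.rev) (c b : K) :
    Commute (𝕐 (c • ev k) (ev k)) (𝔸 i b) := by
  obtain ⟨x, cx⟩ := h.ex_row hi ((star ν ^ 2 + 1)⁻¹ * star b)
  have c' := act_row h.p h.h1 h.h2 (ev_ne i) (pp_smul (pp_self (isoI hk)) c) (pe hi hk h2 c)
    (pe1 hi hk h2) cx
  rw [hf_smul_left, hf_smul_right, hf2 hk, mul_zero, mul_zero, zero_smul, add_zero] at c'
  have k1 := h.A_eq hi c'
  rw [← cj_eq (mul_inv_eq_iff_eq_mul.1 (h.d_Y hi hk h1 h2 c)).symm, cm_cj, ← h.A_eq hi cx] at k1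
  exact mul_inv_eq_iff_eq_mul.1 k1.symm

theorem A_col2 (a b : K) :
    cm (𝔸 i a) (t * 𝔸 i (star b) * t⁻¹) = 𝕐 ((a * b) • ev i) (ev i) := by
  rw [h.cm_col (ev_ne i) (isoI hi) (h.A_row hi a) (h.rt (isoI hi) (h.A_row hi _)), hf_smul_left,
    hf_smul_right, hf22, star_star, star_star, mul_one, mul_comm]

theorem A_ss (hk : k ≠ 2) (h1 : k ≠ i) (c b : K) :
    Commute (e (ss i k c)) (𝔸 i b) := by
  have hk' : k.rev ≠ 2 := rev2 k hk
  have p := pe (K := K) hk' hi (by simpa using h1.symm) c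
  have q := pe (K := K) hi hk' (by simpa using h1) (star c)
  rw [ss, ← h.yk.res _ _ p, ← star_star c, ← h.yk.scal _ _ _ (pe1 hi hk' (by simpa using h1)),
    star_star]
  exact (h.A_crow hi (pe1 hk' hi (by simpa using h1.symm)) c b).mul_left
    (h.A_ccol hi q (by rw [hf_smul_left, hf2' hk', mul_zero]) b)

omit hi

theorem A0_cs (a : K) [FQ K] : 𝔸 0 a ∈ Cs h.MM := by
  rintro _ ⟨p, q, r, s, rfl⟩
  have k : Ps e τ η p q r s = Ps e τ η p 0 r 0 * Ps e τ η 0 q 0 0 * Ps e τ η 0 0 0 s := by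
    simp [h.Ps_mul]
  have i0 : (0 : Fin 5) ≠ 2 := by decide
  rw [k]
  simp only [Ps, zero_smul, add_zero, zero_add, h.Y0 (pw w0 w0).l, h.Y0 (pw w1 w1).l, mul_one, one_mul]
  exact ((h.A_ccol i0 (pw w0 (wc p r)) ((wc p r).perp (wk_ev (k := 3) (by decide)) (by omega)) a).mul_left
    (h.A_crow i0 (pw w1 w0) q a)).mul_left (h.A_cpin i0 (by decide) (by decide) (by decide) s a)

/-- `[y₁₃, y₃₄] = y₁₄` -/
theorem r5 (p c : K) : 𝕐 (c • ev 3) (ev 0) * 𝕐 (p • ev 1) (ev 1) * (𝕐 (c • ev 3) (ev 0))⁻¹ =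
    𝕐 ((c * p) • ev 1) (ev 0) * 𝕐 (p • ev 1) (ev 1) := by
  have i0 : (0 : Fin 5) ≠ 2 := by decide
  have n0 := ne_one h.n2
  have p3 := fun a : K => pe (K := K) i0 (j := 3) (by decide) (by decide) a
  have p1 := fun a : K => pe (K := K) i0 (j := 1) (by decide) (by decide) a
  have p11 := fun a : K => pp_smul (pw (K := K) w1 w1) a
  have k : ∀ j : Fin 5, j ≠ 2 → j ≠ 0 → j ≠ 4 → ∀ a : K,
      cm (e (dI ν 0)) (𝕐 (ev 0) (((ν + 1)⁻¹ * a) • ev j)) = 𝕐 (ev 0) (a • ev j) :=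
    fun j j1 j2 j3 a => by
      have pj := fun a : K => (pe (K := K) i0 j1 j3 a).symm
      rw [cm, h.yk.ec _ _ _ (pj _), h.d_fix i0, ac_smul, h.d_oth i0 j1 j2 j3, smul_smul,
        inv_eq_of_mul_eq_one_right (h.Ysq (pj _)), ← h.Yaddr (pj _) (pj _)
          ((pp_self (isoI j1)).smul _ _), ← add_smul]
      congr 2; field_simp
  have c1 := act_row h.p h.h1 h.h2 (ev_ne 0) (p11 (star p)) (p1 _) (pw w0 w1)
    (h.row (p3 ((ν + 1)⁻¹ * c)).symm)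
  have c2 := h.rmul (isoI i0) (h.row (p3 ((ν + 1)⁻¹ * c)).symm) (h.row (p1 ((ν + 1)⁻¹ * (c * p))).symm)
  rw [hf_smul_left, hf_smul_right, hfe, if_pos (by decide), mul_one, star_star, mul_assoc _ c] at c1
  have k1 := h.pin (ev_ne 0) (isoI i0) (h.d_fix i0) c1 c2
  rw [h.pin_mul (ev_ne 0) (isoI i0) (h.d_fix i0) (h.row (p3 _).symm) (h.row (p1 _).symm),
    k 3 (by decide) (by decide) (by decide), k 1 (by decide) (by decide) (by decide),
    ← cj_eq (mul_inv_eq_iff_eq_mul.1 (h.d_Y i0 (k := 1) (by decide) (by decide) (by decide)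
      (star p))).symm, cm_cj, k 3 (by decide) (by decide) (by decide)] at k1
  have k2 := congrArg (MulAut.conj t) k1
  simp only [map_mul, map_inv, MulAut.conj_apply, h.yk.tc _ _ (p3 _).symm, h.yk.tc _ _ (p1 _).symm,
    h.yk.tc _ _ (p11 _), ← h.yk.scal _ _ _ (pw w1 w1)] at k2
  have s3 := h.Ysq (p3 c)
  generalize 𝕐 (c • ev 3) (ev 0) = A at *
  rw [mul_inv_eq_iff_eq_mul] at k2
  calc _ = A * (𝕐 (p • ev 1) (ev 1) * A) * (A * A)⁻¹ := by group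
    _ = _ := by rw [k2, s3, ← mul_assoc, ← mul_assoc, s3]; simp

end Hz

end H59.UVM
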