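import Cfsg.Agent.H59.U5M2

/-! STD-U5, slot MID, part 3: classes modulo `M*`. -/

set_option autoImplicit false
set_option linter.unusedSectionVars false

namespace H59.UVM

open H64.SG (Cz Cs Ns mem_Cz mem_Cs)
open Matrix Subgroup H67 H59.UV H59.UVW
open H59.UVC (cm_mul cm_inv cm_cj cj_eq cm_def)
open H67.SA (cm cm_eq_one)
open H67.GA (B1 CH Qk Mk)

universe u

variable {K : Type} [Field K] [StarRing K] [CharP K 2] [Finite K] [FQ K] [FV 4 K]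
  [H59.GB.Fa (XU 4 K)]
variable {G : Type u} [Group G] [Finite G] {e : XU 4 K →* G} {t : G} {τ : Vn 4 K → G} {δ η ν : K}

local notation "𝕐" => YY e τ (η + 1)
local notation "𝔸" => AA e t τ η ν

theorem w2 : Wk 3 (ev 2 : Vn 4 K) := wk_ev (by decide)
theorem perp2 {u : Vn 4 K} (hu : Wk 2 u) : hf u (ev 2) = 0 := hu.perp w2 (by omega)
theorem ok2 {u : Vn 4 K} (hu : Wk 2 u) {a c : K} (hc : tr c = nm a) : Ok u (a • ev 2) c :=
  ⟨(pw hu hu).l, by rw [hf_smul_left, hf_symm (perp2 hu), mul_zero], by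
    rw [hc, hf_smul_left, hf_smul_right, hf22, mul_one]⟩
theorem tr2 {u : Vn 4 K} {a c : K} (o : Ok u (a • ev 2) c) : tr c = nm a := by
  rw [o.tr, hf_smul_left, hf_smul_right, hf22, mul_one]
theorem EE2_mem {u : Vn 4 K} (hu : Wk 2 u) {a c : K} (o : Ok u (a • ev 2) c) :
    EE u (a • ev 2) c ∈ Qk (XU 4 K) 2 := FV.EE_Q 2 (by omega) _ _ _ o hu (w2.smul a)
theorem ac_EE2 {u : Vn 4 K} (hu : Wk 2 u) {a c : K} (o : Ok u (a • ev 2) c) :
    ac (EE u (a • ev 2) c) (ev 2) = ev 2 + star a • u := by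
  rw [ac_EE_perp o (hf_symm (perp2 hu)), hf_smul_right, hf22, mul_one]

/-- `g` is an involution that fixes `e₂` and maps `W₂` into itself. -/
structure Lv (g : XU 4 K) : Prop where
  sq : g * g = 1
  w : ∀ v, Wk 2 v → Wk 2 (ac g v)
  two : ac g (ev 2) = ev 2

theorem Lv.acac {g : XU 4 K} (h : Lv g) (v : Vn 4 K) : ac g (ac g v) = v := by
  rw [← ac_mul, h.sq, ac_one]

theorem Lv.Q {g q : XU 4 K} (h : Lv g) (hq : q ∈ Qk (XU 4 K) 2) : g * q * g⁻¹ ∈ Qk (XU 4 K) 2 :=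
  FV.gen_Q 2 (by omega) ((Qk (XU 4 K) 2).comap (MulAut.conj g).toMonoidHom) (fun u x c o hu hx => by
    change g * _ * g⁻¹ ∈ Qk (XU 4 K) 2
    rw [EE_conj o]
    refine FV.EE_Q 2 (by omega) _ _ _ (o.ac g) (h.w u hu) ((FV.wk_perp 2 (by omega) _).2 fun w hw => ?_)
    rw [← h.acac w, hf_ac]
    exact hx.perp (h.w w hw) (by omega)) hq

theorem lv_of {g : XU 4 K} (h0 : g * g = 1) (h1 : Wk 2 (ac g (ev 0))) (h2 : Wk 2 (ac g (ev 1)))
    (h3 : ac g (ev 2) = ev 2) : Lv g := ⟨h0, fun v hv => by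
  rw [w_eq hv, ac_add, ac_smul, ac_smul]; exact (h1.smul _).add (h2.smul _), h3⟩

theorem s_add (c c' : K) : (ss (0 : Fin 5) 1 (c + c') : XU 4 K) = ss 0 1 c * ss 0 1 c' := by
  have p := fun c : K => pe (K := K) (i := 3) (j := 0) (by decide) (by decide) (by decide) c
  rw [ss, add_smul]
  exact qq_add (p c) (p c') ((pw w0 w0).smul _ _).p

theorem lv_s (c : K) : Lv (ss (0 : Fin 5) 1 c : XU 4 K) := lv_of (by
    rw [← s_add, CharTwo.add_self_eq_zero, ss, zero_smul]; exact EE_zero _)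
  (by rw [(ac_s c).1]; exact w0) (by rw [(ac_s c).2.1]; exact (w0.smul c).add w1) (ac_s c).2.2.1

namespace Hy

variable (h : Hy e t τ δ η) {k k' x : G} {α α' u : Vn 4 K} {g : XU 4 K}
include h

/-- `e(Q₂) M*` -/
def QM : Subgroup G where
  carrier := {x | ∃ q ∈ Qk (XU 4 K) 2, ∃ m ∈ h.MM, x = e q * m}
  one_mem' := ⟨1, one_mem _, 1, one_mem _, by simp⟩
  mul_mem' := by
    rintro _ _ ⟨q, hq, m, hm, rfl⟩ ⟨q', hq', m', hm', rfl⟩
    exact ⟨_, mul_mem hq hq', _, mul_mem hm hm', by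
      rw [map_mul, mul_assoc, ← mul_assoc m, h.eQ_cs hq' m hm]; group⟩
  inv_mem' := by
    rintro _ ⟨q, hq, m, hm, rfl⟩
    exact ⟨_, inv_mem hq, _, inv_mem hm, by
      rw [← h.eQ_cs (inv_mem hq) _ (inv_mem hm), map_inv, _root_.mul_inv_rev]⟩

theorem QM_e (hg : g ∈ Qk (XU 4 K) 2) : e g ∈ h.QM := ⟨g, hg, 1, one_mem _, by simp⟩
theorem QM_M (hx : x ∈ h.MM) : x ∈ h.QM := ⟨1, one_mem _, x, hx, by simp⟩

theorem of_gen (hk : k ∈ Cs h.MM) {H : Subgroup G} (hH : H ≤ h.MM)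
    (h1 : ∀ u (a c : K), Wk 2 u → Ok u (a • ev 2) c → cm k (e (EE u (a • ev 2) c)) ∈ H)
    (hg : g ∈ Qk (XU 4 K) 2) : cm k (e g) ∈ H := by
  let S : Subgroup (XU 4 K) :=
    { carrier := {q | q ∈ Qk (XU 4 K) 2 ∧ cm k (e q) ∈ H}
      one_mem' := ⟨one_mem _, by simp [cm]⟩
      mul_mem' := fun {a b} ha hb => ⟨mul_mem ha.1 hb.1, by
        rw [map_mul, cm_mul', cj_eq (h.eQ_cs ha.1 _ (hH hb.2)).symm]; exact mul_mem ha.2 hb.2⟩
      inv_mem' := fun {a} ha => ⟨inv_mem ha.1, by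
        rw [show cm k (e a⁻¹) = e a⁻¹ * (cm k (e a))⁻¹ * (e a⁻¹)⁻¹ by simp only [cm, map_inv]; group,
          cj_eq (h.eQ_cs (inv_mem ha.1) _ (hH (inv_mem ha.2))).symm]
        exact inv_mem ha.2⟩ }
  refine (FV.gen_Q 2 (by omega) S (fun u x c o hu hx => ?_) hg).2
  have e1 : x = x 2 • ev 2 + (x 0 • ev 0 + x 1 • ev 1) := by
    ext i
    fin_cases i <;> simp [ev_apply]
    exacts [hx 3 (by decide), hx 4 (by decide)]
  have wx : Wk 2 (x 0 • ev 0 + x 1 • ev 1 : Vn 4 K) := wc _ _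
  generalize (x 0 • ev 0 + x 1 • ev 1 : Vn 4 K) = x' at e1 wx
  generalize x 2 = a at e1
  subst e1
  have p := pw hu wx
  have z : hf x' (a • ev 2 : Vn 4 K) = 0 := by rw [hf_smul_right, perp2 wx, mul_zero]
  have o1 : Ok u (a • ev 2) c := ⟨o.iso, by rw [hf_smul_left, hf_symm (perp2 hu), mul_zero], by
    rw [o.tr, hf_add_left, hf_add_right, hf_add_right, z, hf_symm z, show hf x' x' = 0 from p.r]; simp⟩
  have m := FV.EE_M 2 (by omega) _ _ _ p.ok hu wx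
  have := EE_mul o1 p.ok
  rw [z, add_zero, add_zero] at this
  rw [← this]
  exact S.mul_mem ⟨EE2_mem hu o1, h1 _ _ _ hu o1⟩ ⟨GA.Mk_le_Qk GA.rg2 m, by
    rw [cm_eq_one.2 (hk _ (h.eM m)).symm]; exact one_mem _⟩

theorem t_M (hx : x ∈ h.MM) : t * x * t⁻¹ ∈ h.MM := by
  obtain ⟨a, b, c, d, rfl⟩ := hx
  rw [h.Ps_t]; exact h.Ps_mem ..

theorem rigid2 (c1 : k ∈ Cs h.MM) (c2 : k ∈ Cs ((Qk (XU 4 K) 2).map e)) (c3 : cm k t ∈ h.QM) :
    k ∈ h.MM := by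
  have b := h.b.toB1
  have ct : t ∈ Cs ((Qk (XU 4 K) 2).map e) := by rintro _ ⟨q, -, rfl⟩; exact (b.comm q).symm
  have cM : h.MM ≤ Cs ((Qk (XU 4 K) 2).map e) := by
    rintro m hm _ ⟨q, hq, rfl⟩; exact (h.eQ_cs hq m hm).symm
  obtain ⟨q, hq, m, hm, h1⟩ := c3
  have h2 : e q ∈ Cs ((Qk (XU 4 K) 2).map e) := by
    rw [← mul_inv_eq_iff_eq_mul.2 h1]
    exact mul_mem (mul_mem (mul_mem (mul_mem c2 ct) (inv_mem c2)) (inv_mem ct)) (inv_mem (cM hm))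
  have i2 := fun {a} (ha : a ∈ Qk (XU 4 K) 2) => GA.is2_of_UU (GA.Qk_le_UU GA.rg2 ha)
  obtain ⟨a, b', c, d, h3⟩ := h1 ▸ mul_mem (h.eM (GA.mem_Mk_of_Cs GA.rg2 (fun q' hq' => GA.inj2 b.ker
    (i2 (mul_mem hq' hq)) (i2 (mul_mem hq hq')) (by
      rw [map_mul, map_mul]; exact h2 _ ⟨q', hq', rfl⟩)) (i2 hq))) hm
  have h4 : cm k t * (t * cm k t * t⁻¹) = k * (t * t) * k⁻¹ * (t * t)⁻¹ := by rw [cm]; group
  rw [h.tt, h3, h.Ps_t, h.Ps_mul, mul_one, mul_inv_cancel, inv_one, mul_one, ← h.Ps_zero] at h4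
  obtain ⟨k1, k2, k3, k4⟩ := h.Ps_inj h4
  have m0 := h.Ps_mem (η * a) b' 0 (η * d)
  have h5 : Ps e τ η (η * a) b' 0 (η * d) * Ps e τ η a b' c d =
      t * Ps e τ η (η * a) b' 0 (η * d) * t⁻¹ := by
    rw [h.Ps_t, h.Ps_mul]
    simp only [star_mul', h.h2, star_zero]
    congr 1
    · linear_combination (η + 1) * k1 - (η + 1) * star a * two0 K
    · exact CharTwo.add_self_eq_zero _
    · linear_combination k3 - star b' * two0 K
    · linear_combination (η + 1) * k4 - (η + 1) * star d * two0 K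
  generalize Ps e τ η (η * a) b' 0 (η * d) = m₀ at m0 h5
  obtain ⟨m1, hm1, h6⟩ := k0 h.b GA.rg2 (w := m₀ * k) (by
    calc _ = t * m₀ * t⁻¹ * t * k := by group
      _ = _ := by rw [← h5, ← h3, cm]; group) (mul_mem (cM m0) c2)
  rcases h6 with h6 | h6
  · rw [eq_inv_mul_of_mul_eq h6]; exact mul_mem (inv_mem m0) (h.eM hm1)
  · have h7 := mul_mem (mul_mem (h.M_comm m0) c1) (inv_mem (h.M_comm (h.eM hm1)))
    rw [mul_inv_eq_iff_eq_mul.2 h6] at h7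
    have h8 := h.Ps_t η 0 0 0
    rw [cj_eq (h7 _ (h.Ps_mem ..)).symm, h.h2] at h8
    exact absurd (h.Ps_inj h8).1 (by simp)

theorem e_M (hg : Lv g) (hx : x ∈ h.MM) : e g * x * (e g)⁻¹ ∈ h.MM := by
  obtain ⟨a, b, c, d, rfl⟩ := hx
  rw [h.Ps_conj (w_eq (hg.w _ w0)) (w_eq (hg.w _ w1))]; exact h.Ps_mem ..

/-- `k = 1 + α e₂*` modulo `M*` -/
structure C1 (k : G) (α : Vn 4 K) : Prop where
  w : Wk 2 α
  cs : k ∈ Cs h.MM
  ex : ∀ u (a c : K), Wk 2 u → Ok u (a • ev 2) c → cm k (e (EE u (a • ev 2) c)) = 𝕐 α (star a • u)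
  c3 : cm k t ∈ h.QM

theorem cj_QM (c1 : k ∈ Cs h.MM)
    (h1 : ∀ u (a c : K), Wk 2 u → Ok u (a • ev 2) c → cm k (e (EE u (a • ev 2) c)) ∈ h.MM)
    (hx : x ∈ h.QM) : k * x * k⁻¹ ∈ h.QM := by
  obtain ⟨q, hq, m, hm, rfl⟩ := hx
  rw [show k * (e q * m) * k⁻¹ = cm k (e q) * e q * (k * m * k⁻¹) by rw [cm]; group,
    cj_eq (c1 m hm).symm]
  exact mul_mem (mul_mem (h.QM_M (h.of_gen c1 le_rfl h1 hq)) (h.QM_e hq)) (h.QM_M hm)

variable {h}

theorem C1.cj (c : h.C1 k α) (hx : x ∈ h.QM) : k * x * k⁻¹ ∈ h.QM :=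
  h.cj_QM c.cs (fun _ _ _ hu o => c.ex _ _ _ hu o ▸ h.Y_mem (hu.smul _) c.w) hx

theorem C1.mul (c : h.C1 k α) (c' : h.C1 k' α') : h.C1 (k * k') (α + α') where
  w := c.w.add c'.w
  cs := mul_mem c.cs c'.cs
  ex u a d hu o := by
    rw [cm_mul, c.ex _ _ _ hu o, c'.ex _ _ _ hu o, cj_eq (c.cs _ (h.Y_mem (hu.smul _) c'.w)).symm,
      add_comm α, h.yk.add _ _ _ (pw (hu.smul _) c'.w) (pw (hu.smul _) c.w) (pw c'.w c.w)]
  c3 := by rw [cm_mul]; exact mul_mem (c.cj c'.c3) c.c3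

theorem C1.inv (c : h.C1 k α) : h.C1 k⁻¹ α := by
  have k1 : ∀ u (a d : K), Wk 2 u → Ok u (a • ev 2) d →
      cm k⁻¹ (e (EE u (a • ev 2) d)) = 𝕐 α (star a • u) := fun u a d hu o => by
    rw [cm_inv, c.ex _ _ _ hu o, inv_eq_of_mul_eq_one_right (h.Ysq (pw (hu.smul _) c.w)),
      cj_eq (inv_mem c.cs _ (h.Y_mem (hu.smul _) c.w)).symm]
  exact ⟨c.w, inv_mem c.cs, k1, by
    rw [cm_inv]
    exact h.cj_QM (inv_mem c.cs) (fun _ _ _ hu o => k1 _ _ _ hu o ▸ h.Y_mem (hu.smul _) c.w)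
      (inv_mem c.c3)⟩

theorem C1.conj (c : h.C1 k α) (hg : Lv g) : h.C1 (e g * k * (e g)⁻¹) (ac g α) := by
  have i1 : (e g)⁻¹ = e g := inv_eq_of_mul_eq_one_right (by rw [← map_mul, hg.sq, map_one])
  refine ⟨hg.w _ c.w, fun m hm => ?_, fun u a d hu o => ?_, ?_⟩
  · have := c.cs _ (h.e_M hg hm)
    rw [show e g * k * (e g)⁻¹ = (e g)⁻¹ * k * e g by rw [i1]]
    calc _ = (e g)⁻¹ * (e g * m * (e g)⁻¹ * k) * e g := by group
      _ = _ := by rw [this]; group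
  · have o' := o.ac g
    rw [ac_smul, hg.two] at o'
    have k1 := EE_conj o' g
    rw [hg.acac, ac_smul, hg.two] at k1
    rw [← k1, map_mul, map_mul, map_inv, cm_cj, c.ex _ _ _ (hg.w _ hu) o',
      h.yk.ec _ _ _ (pw ((hg.w _ hu).smul _) c.w), ac_smul, hg.acac]
  · obtain ⟨q, hq, m, hm, h1⟩ := c.c3
    refine ⟨_, hg.Q hq, _, h.e_M hg hm, ?_⟩
    rw [map_mul, map_mul, map_inv, conj_mul, ← h1, ← cm_cj, h.b.toB1.conj_t]

theorem C1.zero (c : h.C1 k 0) : k ∈ h.MM := h.rigid2 c.cs (by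
  rintro _ ⟨q, hq, rfl⟩
  exact (cm_eq_one.1 (mem_bot.1 (h.of_gen c.cs bot_le (fun u a d hu o => by
    rw [c.ex _ _ _ hu o, h.Y0 (pw (hu.smul _) hu).l]; exact one_mem _) hq))).symm) c.c3

theorem C1.same (c : h.C1 k α) (c' : h.C1 k' α) : k * k'⁻¹ ∈ h.MM :=
  C1.zero (by simpa using c.mul c'.inv)

end Hy

theorem i0 : (0 : Fin 5) ≠ 2 := by decide
theorem i1 : (1 : Fin 5) ≠ 2 := by decide

namespace Hz

variable (h : Hz e t τ δ η ν) {a x c p : K}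
include h

theorem D0 (o : Ok (ev 1 : Vn 4 K) (x • ev 2) c) :
    ∃ p, cm (𝔸 0 a) (e (EE (ev 1) (x • ev 2) c)) = Ps e τ η p (a * x) 0 0 := by
  have c1 := h.r_cm (isoI i0) (Qk_fix (by omega) (EE2_mem w1 o) w0) (h.A_row i0 a)
  rw [ac_smul, ac_EE2 w1 o, smul_add, add_right_comm, v_add_self, zero_add, smul_smul,
    ← star_mul'] at c1
  obtain ⟨p, hp⟩ := h.inZ_iff (isoI i0) (same h.p (ev_ne 0) (isoI i0)
    (h.p.cl.inv _ _ _ _ (isoI i0) c1) (h.row' (pw w1 w0) (a * x)))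
  exact ⟨p, by
    rw [Ps, zero_smul, add_zero, add_zero, ← hp, inv_mul_cancel_right, cm, cm]; group⟩

theorem D_tor {m : K} (m0 : m ≠ 0) (o : Ok (ev 1 : Vn 4 K) (x • ev 2) c)
    (h1 : cm (𝔸 0 a) (e (EE (ev 1) (x • ev 2) c)) = Ps e τ η p (a * x) 0 0) :
    cm (𝔸 0 (m / star m * a)) (e (EE (ev 1) ((star m ^ 2 / m * x) • ev 2) (nm m * c))) =
      Ps e τ η p (star m * (a * x)) 0 0 := by
  obtain ⟨g, hg⟩ := exists_tor (K := K) one_ne_zero m0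
  have k := congrArg (fun y => e g * y * (e g)⁻¹) h1
  simp only
    [h.Ps_conj (α := 1) (γ := 0) (β := 0) (ε := m) (by simpa using hg 0) (by simpa using hg 1)] at k
  rw [← cm_cj, h.A_tor i0 hg (by simp), ← map_inv, ← map_mul, ← map_mul, EE_conj o, ac_smul, hg, hg,
    EE_smul, smul_smul, smul_smul] at k
  convert k using 4 <;> simp
  · field_simp
  · ring

theorem D_mul {g g' : XU 4 K} {k : G} (hg : g ∈ Qk (XU 4 K) 2) (h1 : cm k (e g') ∈ h.MM) :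
    cm k (e (g * g')) = cm k (e g) * cm k (e g') := by
  rw [map_mul, cm_mul', cj_eq (h.eQ_cs hg _ h1).symm]

theorem D_c {c' : K} (o : Ok (ev 1 : Vn 4 K) (x • ev 2) c) (o' : Ok (ev 1 : Vn 4 K) (x • ev 2) c') :
    cm (𝔸 0 a) (e (EE (ev 1) (x • ev 2) c')) = cm (𝔸 0 a) (e (EE (ev 1) (x • ev 2) c)) := by
  have hc : star (c + c') = c + c' := tr_eq_zero.1 (by
    rw [UVC.tr_add, o.tr, o'.tr, CharTwo.add_self_eq_zero])
  have k := EE_mul o (ok_zero (isoI i1) hc)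
  have k1 := cm_eq_one.2 (h.A0_cs a _ (h.eM (Tc_mem (by omega) w1 hc))).symm
  rw [add_zero, hf_zero_left, add_zero, ← add_assoc, CharTwo.add_self_eq_zero, zero_add] at k
  rw [← k, h.D_mul (EE2_mem w1 o) (k1 ▸ one_mem _), k1, mul_one]

theorem D1 (o : Ok (ev 1 : Vn 4 K) (x • ev 2) c) :
    cm (𝔸 0 a) (e (EE (ev 1) (x • ev 2) c)) = Ps e τ η 0 (a * x) 0 0 := by
  by_cases hF : ∃ r : K, star r = r ∧ r ≠ 0 ∧ r ≠ 1
  · obtain ⟨r, r1, r0, r2⟩ := hF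
    obtain ⟨y, rfl⟩ : ∃ y, x = y + r * y := ⟨x / (r + 1), by have := ne_one r2; field_simp; ring⟩
    have o1 : Ok (ev 1 : Vn 4 K) (y • ev 2) (η * nm y) := ok2 w1 (by
      rw [tr, star_mul', star_nm, h.h2]; linear_combination η * nm y * two0 K)
    obtain ⟨p, hp⟩ := h.D0 (a := a) o1
    have k := h.D_tor r0 o1 hp
    rw [r1, div_self r0, one_mul, show r ^ 2 / r = r by field_simp] at k
    have o2 : Ok (ev 1 : Vn 4 K) ((r * y) • ev 2) (nm r * (η * nm y)) := ok2 w1 (by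
      simp only [tr, nm, star_mul', star_star, h.h2, r1]
      linear_combination η * r * r * y * star y * two0 K)
    have o3 := o1.add o2
    have k1 := h.D_mul (k := 𝔸 0 a) (EE2_mem w1 o1) (k ▸ h.Ps_mem ..)
    rw [EE_mul o1 o2, ← add_smul, hp, k, h.Ps_mul] at k1
    rw [← add_smul] at o3
    rw [h.D_c o3 o, k1, CharTwo.add_self_eq_zero, add_zero]
    congr 1; ring
  · have n1 : ν * star ν = 1 := h.n1
    have n0 : ν ≠ 0 := left_ne_zero_of_mul_eq_one n1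
    have n3 : star ν = ν ^ 2 := by
      have k : tr ν = 1 := by
        by_contra k
        refine hF ⟨_, star_tr ν, fun k0 => h.n2 (sq_inj ?_), k⟩
        rw [tr_eq_zero.1 k0] at n1; rw [sq, n1, one_pow]
      linear_combination (ν + 1) * k + n1 - (ν ^ 2 + ν * star ν - 1) * two0 K
    obtain ⟨b, rfl⟩ : ∃ b, a = ν ^ 2 * b + b := ⟨a / (ν ^ 2 + 1), by
      have := sq_ne (a := star ν) (fun e => h.n2 (by rw [← star_star ν, e, star_one]))
      rw [star_star] at this; field_simp⟩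
    obtain ⟨p, hp⟩ := h.D0 (a := b) o
    have k := h.D_tor n0 o hp
    have n4 : ν ^ 3 = 1 := by rw [← n1, n3]; ring
    rw [h.n1, one_mul, n3, show ν / ν ^ 2 = ν ^ 2 by field_simp; linear_combination -n4,
      show (ν ^ 2) ^ 2 / ν = 1 by field_simp; linear_combination n4, one_mul] at k
    rw [h.A_add i0, cm_mul, hp, k, cj_eq (h.A0_cs _ _ (h.Ps_mem ..)).symm, h.Ps_mul,
      CharTwo.add_self_eq_zero, add_zero]
    congr 1; ring

theorem C1_A0 (a : K) : h.toHy.C1 (𝔸 0 a) (a • ev 0) where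
  w := w0.smul a
  cs := h.A0_cs a
  ex u x c hu o := by
    by_cases z1 : u 1 = 0
    · have e1 : u = u 0 • ev 0 := by simpa [z1] using w_eq hu
      generalize u 0 = u0 at e1
      subst e1
      rw [EE_smul, h.cm_EE (ev_ne 0) (h.A_row i0 a) (UVC.ok_smul (isoI i0) o), smul_smul, smul_smul,
        ← star_star (star x * u0), ← h.yk.scal _ _ _ (pw w0 (w0.smul a)), smul_smul, hf_smul_left,
        hf_smul_right, hf22]
      simp [mul_comm]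
    · have l := lv_s (u 0 / u 1)
      have e1 : u = ac (ss 0 1 (u 0 / u 1)) (u 1 • ev 1) := by
        rw [ac_smul, (ac_s _).2.1, smul_add, smul_smul, mul_div_cancel₀ _ z1]; exact w_eq hu
      clear z1
      generalize u 1 = u1 at e1 l
      generalize u 0 / u1 = d at e1 l
      subst e1
      have o1 : Ok (u1 • ev 1 : Vn 4 K) (x • ev 2) c := ok2 (w1.smul _) (tr2 o)
      have o2 := UVC.ok_smul (isoI i1) o1
      have k := EE_conj o1 (ss 0 1 d)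
      rw [ac_smul _ x, l.two] at k
      rw [smul_smul] at o2
      rw [← k, map_mul, map_mul, map_inv, ← cj_eq (h.A_ss i0 i1 (by decide) d a).eq, cm_cj, EE_smul,
        smul_smul, h.D1 o2, ← ac_smul, ← (ac_s d).1, ← ac_smul,
        ← h.yk.ec _ _ _ (pw ((w1.smul _).smul _) (w0.smul _)), smul_smul]
      congr 2
      simpa [mul_comm] using (h.Y_eq a 0 0 (star x * u1)).symm
  c3 := by
    obtain ⟨c, z, o, hz, h1⟩ := (h.A_row i0 a).c3
    exact ⟨_, EE2_mem w0 o, z, h.Z_mem w0 hz, h1⟩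

/-- the swap of `e₀, e₁` -/
theorem exists_pi : ∃ g : XU 4 K, Lv g ∧ ac g (ev 0) = ev 1 ∧ ac g (ev 1) = ev 0 ∧
    ac g (ev 3) = ev 4 ∧ ac g (ev 4) = ev 3 ∧ (∀ a, e g * 𝔸 0 a * (e g)⁻¹ = 𝔸 1 a) ∧
    ∀ a, e g * 𝔸 1 a * (e g)⁻¹ = 𝔸 0 a := by
  obtain ⟨π, g, h1, h2, p0, p1, p2⟩ := exists_w (K := K) i1 i0 (by decide) (by decide)
  have p3 : π 3 = 4 := (h1 1).trans (by rw [p1]; rfl)
  have p4 : π 4 = 3 := (h1 0).trans (by rw [p0]; rfl)
  refine ⟨g, lv_of (bext fun j => ?_) (by rw [h2, p0]; exact w1) (by rw [h2, p1]; exact w0)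
    (by rw [h2, p2]), by rw [h2, p0], by rw [h2, p1], by rw [h2, p3], by rw [h2, p4],
    fun a => p0 ▸ h.A_perm i0 h1 h2 p2 a, fun a => p1 ▸ h.A_perm i1 h1 h2 p2 a⟩
  rw [ac_mul, h2, h2, ac_one]
  fin_cases j <;> simp [p0, p1, p2, p3, p4]

theorem C1_A1 (a : K) : h.toHy.C1 (𝔸 1 a) (a • ev 1) := by
  obtain ⟨g, l, g0, -, -, -, k, -⟩ := h.exists_pi
  simpa only [k, ac_smul, g0] using (h.C1_A0 a).conj l

end Hz

end H59.UVM
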