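import Cfsg.Agent.H59.U5M3

/-! STD-U5, slot MID, part 4: the relations of `AA 0`, `AA 1`. -/

set_option autoImplicit false
set_option linter.unusedSectionVars false

namespace H59.UVM

open H64.SG (Cz Cs Ns mem_Cz mem_Cs)
open Matrix Subgroup H67 H59.UV H59.UVW
open H59.UVC (cm_mul cm_inv cm_cj cj_eq cm_def)
open H67.SA (cm cm_eq_one)
open H67.GA (B1 CH Qk Mk)

universe u

variable {K : Type} [Field K] [StarRing K] [CharP K 2] [Finite K] [FQ K] [FV 4 K]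
  [H59.GB.Fa (XU 4 K)]
variable {G : Type u} [Group G] [Finite G] {e : XU 4 K →* G} {t : G} {τ : Vn 4 K → G} {δ η ν : K}

local notation "𝕐" => YY e τ (η + 1)
local notation "𝔸" => AA e t τ η ν
local notation:max "𝕤 " c:max => e (ss (0 : Fin 5) 1 c)

namespace Hz

variable (h : Hz e t τ δ η ν) {a b c : K} {m : G} {g : XU 4 K}
include h

theorem fix_s (hm : m ∈ h.MM) (h1 : ∀ c, 𝕤 c * m * (𝕤 c)⁻¹ = m) : ∃ p, m = Ps e τ η p 0 0 0 := by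
  obtain ⟨p, q, r, s, rfl⟩ := hm
  obtain ⟨k1, k2, -, -⟩ := h.Ps_inj ((h.Ps_s 1 p q r s).symm.trans (h1 1))
  have k3 := (h.Ps_inj ((h.Ps_s η p q r s).symm.trans (h1 η))).1
  obtain rfl : s = 0 := by simpa using k2
  rw [h.h2] at k3
  rw [star_one] at k1
  obtain rfl : q = 0 := by linear_combination k3 - η * k1
  obtain rfl : r = 0 := by linear_combination k1
  exact ⟨p, rfl⟩

theorem Ps_pi (g0 : ac g (ev 0) = ev 1) (g1 : ac g (ev 1) = ev 0) (p q r s : K) :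
    e g * Ps e τ η p q r s * (e g)⁻¹ = Ps e τ η s r q p := by
  rw [h.Ps_conj (α := 0) (γ := 1) (β := 1) (ε := 0) (by simpa using g0) (by simpa using g1)]
  simp

theorem D_mem (c b : K) : 𝕤 c * 𝔸 1 b * (𝕤 c)⁻¹ * (𝔸 1 b * 𝔸 0 (c * b))⁻¹ ∈ h.MM :=
  ((h.C1_A1 b).conj (lv_s c)).same (by
    rw [ac_smul, (ac_s c).2.1, smul_add, smul_smul, add_comm, mul_comm b]
    exact (h.C1_A1 b).mul (h.C1_A0 _))

theorem r1_p (a b : K) : ∃ p, cm (𝔸 0 a) (𝔸 1 b) = Ps e τ η p 0 0 0 := by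
  have hm : cm (𝔸 0 a) (𝔸 1 b) ∈ h.MM := (((h.C1_A0 a).mul (h.C1_A1 b)).mul (h.C1_A0 a).inv).same (by
    rw [add_right_comm, v_add_self, zero_add]; exact h.C1_A1 b)
  refine h.fix_s hm fun c => ?_
  obtain ⟨p, q, r, s, k⟩ := h.D_mem c b
  rw [← cm_cj, cj_eq (h.A_ss i0 i1 (by decide) c a).eq, mul_inv_eq_iff_eq_mul.1 k, cm_mul', cm_mul',
    cm_eq_one.2 (h.A0_cs a _ (h.Ps_mem ..)).symm, cm_eq_one.2 (h.A_self i0 _ _).eq, mul_one,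
    mul_inv_cancel, mul_one, one_mul, cj_eq (h.M_comm (h.Ps_mem ..) _ hm).symm]

theorem r1 (a b : K) : Commute (𝔸 0 a) (𝔸 1 b) := by
  obtain ⟨g, -, g0, g1, -, -, k0, k1⟩ := h.exists_pi
  obtain ⟨p, hp⟩ := h.r1_p a b
  obtain ⟨q, hq⟩ := h.r1_p b a
  have k := h.Ps_pi g0 g1 p 0 0 0
  rw [← hp, ← cm_cj, k0, k1, show cm (𝔸 1 a) (𝔸 0 b) = (cm (𝔸 0 b) (𝔸 1 a))⁻¹ by
    simp only [cm]; group, hq, inv_eq_of_mul_eq_one_right (h.Ps_sq ..)] at k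
  rw [← (h.Ps_inj k).2.2.2, h.Ps_zero] at hp
  exact cm_eq_one.1 hp

/-- the defect of `s_c` -/
theorem D_coc {c c' p q r s p' q' r' s' : K}
    (h1 : 𝕤 c * 𝔸 1 b * (𝕤 c)⁻¹ = Ps e τ η p q r s * (𝔸 1 b * 𝔸 0 (c * b)))
    (h2 : 𝕤 c' * 𝔸 1 b * (𝕤 c')⁻¹ = Ps e τ η p' q' r' s' * (𝔸 1 b * 𝔸 0 (c' * b))) :
    𝕤 (c + c') * 𝔸 1 b * (𝕤 (c + c'))⁻¹ = Ps e τ η (p' + q' * star c + r' * c + s' * nm c + p)
      (q' + s' * c + q) (r' + s' * star c + r) (s' + s) * (𝔸 1 b * 𝔸 0 ((c + c') * b)) := by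
  simp only [s_add, map_mul]
  rw [show ∀ x y z : G, x * y * z * (x * y)⁻¹ = x * (y * z * y⁻¹) * x⁻¹ from fun _ _ _ => by group,
    h2, ← conj_mul, ← conj_mul, h1, cj_eq (h.A_ss i0 i1 (by decide) c _).eq, h.Ps_s, ← h.Ps_mul,
    add_mul, h.A_add i0]
  group

theorem D_one (b : K) : ∃ q, 𝕤 (1 : K) * 𝔸 1 b * (𝕤 (1 : K))⁻¹ = Ps e τ η 0 q q 0 * (𝔸 1 b * 𝔸 0 (1 * b)) := by
  obtain ⟨p, q, r, s, k⟩ := h.D_mem 1 b
  rw [mul_inv_eq_iff_eq_mul] at k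
  have k1 := h.D_coc k k
  rw [CharTwo.add_self_eq_zero, zero_mul, h.A_zero i0, ss, zero_smul, show qq 0 _ = 1 from EE_zero _,
    map_one, one_mul, inv_one, mul_one, mul_one, right_eq_mul, ← h.Ps_zero] at k1
  obtain ⟨k2, k3, -, -⟩ := h.Ps_inj k1
  obtain rfl : s = 0 := by linear_combination k3 - q * two0 K
  obtain rfl : q = r := by
    rw [star_one] at k2; linear_combination k2 - (p + r) * two0 K
  obtain ⟨g, l, g0, g1, g3, g4, k4, k5⟩ := h.exists_pi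
  have br : g * ss 0 1 1 * g = ss 0 1 1 * g * ss 0 1 1 := bext fun j => by
    obtain ⟨s0, s1, s2, s3, s4⟩ := ac_s (1 : K)
    simp only [one_smul, star_one] at s1 s4
    fin_cases j <;> simp [ac_mul, ac_add, g0, g1, g3, g4, l.two, s0, s1, s2, s3, s4, add_comm,
      ← add_assoc]
  have k6 : e g * (𝕤 (1 : K) * 𝔸 1 b * (𝕤 (1 : K))⁻¹) * (e g)⁻¹ = 𝕤 (1 : K) * 𝔸 1 b * (𝕤 (1 : K))⁻¹ := by
    have := congrArg e br
    simp only [map_mul] at this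
    rw [← k4, show ∀ x y z : G, x * (y * (x * z * x⁻¹) * y⁻¹) * x⁻¹ =
      (x * y * x) * z * (x * y * x)⁻¹ from fun _ _ _ => by group, this]
    nth_rewrite 2 [← cj_eq (h.A_ss i0 i1 (by decide) 1 b).eq]
    group
  rw [k, ← conj_mul, ← conj_mul, k4, k5, h.Ps_pi g0 g1, one_mul, (h.r1 b b).eq, mul_left_inj] at k6
  exact ⟨q, by rw [k, ← (h.Ps_inj k6).1]⟩

theorem D_tor1 (c0 : c ≠ 0) {q r : K}
    (h1 : 𝕤 (1 : K) * 𝔸 1 (star c / c * b) * (𝕤 (1 : K))⁻¹ =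
      Ps e τ η 0 q r 0 * (𝔸 1 (star c / c * b) * 𝔸 0 (1 * (star c / c * b)))) :
    𝕤 c * 𝔸 1 b * (𝕤 c)⁻¹ = Ps e τ η 0 (c * q) (star c * r) 0 * (𝔸 1 b * 𝔸 0 (c * b)) := by
  obtain ⟨g, hg⟩ := exists_tor (K := K) c0 one_ne_zero
  have c1 := star_ne_zero.2 c0
  have k := congrArg (MulAut.conj (e g)) h1
  have k1 : e g * 𝕤 (1 : K) * (e g)⁻¹ = 𝕤 c := by
    rw [← map_inv, ← map_mul, ← map_mul, ss, EE_conj (pe (i := Fin.rev 1) (j := 0) (by decide)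
      (by decide) (by decide) (1 : K)).ok, ac_smul, hg, hg]
    simp [ss, show Fin.rev (1 : Fin 5) = 3 from rfl]
  simp only [map_mul, map_inv, MulAut.conj_apply, k1, h.A_tor i0 hg (by simpa using c0),
    h.A_tor i1 hg (by simp),
    h.Ps_conj (α := c) (γ := 0) (β := 0) (ε := 1) (by simpa using hg 0) (by simpa using hg 1)] at k
  convert k using 4 <;> simp <;> field_simp

theorem A_s (c b : K) : 𝕤 c * 𝔸 1 b * (𝕤 c)⁻¹ = 𝔸 1 b * 𝔸 0 (c * b) := by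
  have k : ∀ b, 𝕤 (1 : K) * 𝔸 1 b * (𝕤 (1 : K))⁻¹ = Ps e τ η 0 0 0 0 * (𝔸 1 b * 𝔸 0 (1 * b)) := fun b => by
    have n0 : η ≠ 0 := fun e => by simpa [e] using h.h2
    have n1 : η + 1 ≠ 0 := fun e => by simpa [e, n0.symm] using h.s1
    obtain ⟨q, k1⟩ := h.D_one b
    obtain ⟨q1, k2⟩ := h.D_one (star η / η * b)
    obtain ⟨q2, k3⟩ := h.D_one (star (η + 1) / (η + 1) * b)
    have k4 := (h.D_coc (h.D_tor1 n0 k2) k1).symm.trans (h.D_tor1 n1 k3)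
    have k5 := (h.Ps_inj (mul_right_cancel k4)).1
    rw [h.h2] at k5
    rwa [show q = 0 by linear_combination k5 - η * q * two0 K] at k1
  by_cases c0 : c = 0
  · simp [c0, h.A_zero i0, ss]
  · simpa [h.Ps_zero] using h.D_tor1 c0 (k _)

theorem A1_cs (b : K) : 𝔸 1 b ∈ Cs h.MM := (h.C1_A1 b).cs

theorem r2 (a b : K) : cm (𝔸 1 a) (t * 𝔸 0 (star b) * t⁻¹) = 𝕐 ((a * b) • ev 1) (ev 0) := by
  obtain ⟨c, z, o, hz, h1⟩ := (h.A_row i0 (star b)).c3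
  have hz := h.Z_mem w0 hz
  rw [cm_def, conj_inv, h.A_inv i0, ← eq_inv_mul_iff_mul_eq, h.A_inv i0] at h1
  rw [h1, cm_mul', cm_mul', cm_eq_one.2 (h.r1 _ _).symm.eq, cm_eq_one.2 (h.A1_cs a z hz).symm,
    mul_one, mul_inv_cancel, mul_one, one_mul, (h.C1_A1 a).ex _ _ _ w0 o,
    cj_eq (h.A0_cs _ _ (h.Y_mem (w0.smul _) (w1.smul _))).symm, star_star,
    ← h.yk.scal _ _ _ (pw w0 (w1.smul _)), smul_smul, mul_comm]

end Hz

end H59.UVM
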