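import Cfsg.Agent.H59.U5M4

/-! STD-U5, slot MID, part 5: `y₃₄` commutes with `AA 1`; the slot. -/

set_option autoImplicit false
set_option linter.unusedSectionVars false

namespace H59.UVM

open H64.SG (Cz Cs Ns mem_Cz mem_Cs)
open Matrix Subgroup H67 H59.UV H59.UVW
open H59.UVC (cm_mul cm_inv cm_cj cj_eq cm_def)
open H67.SA (cm cm_eq_one)
open H67.GA (B1 CH Qk Mk)

universe u

variable {K : Type} [Field K] [StarRing K] [CharP K 2] [Finite K] [FQ K] [FV 4 K]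
  [H59.GB.Fa (XU 4 K)]
variable {G : Type u} [Group G] [Finite G] {e : XU 4 K →* G} {t : G} {τ : Vn 4 K → G} {δ η ν : K}

local notation "𝕐" => YY e τ (η + 1)
local notation "𝔸" => AA e t τ η ν
local notation:max "𝕤 " c:max => e (ss (0 : Fin 5) 1 c)
local notation:max "𝕪 " c:max => YY e τ (η + 1) (c • ev 3) (ev 0)

theorem cs_conj {G : Type*} [Group G] {M : Subgroup G} {y k : G} (h0 : y * y = 1)
    (h1 : ∀ m ∈ M, y * m * y⁻¹ ∈ M) (hk : k ∈ Cs M) : y * k * y⁻¹ ∈ Cs M := fun m hm => by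
  have := hk _ (h1 m hm)
  rw [show y * k * y⁻¹ = y⁻¹ * k * y by rw [inv_eq_of_mul_eq_one_right h0]]
  calc _ = y⁻¹ * (y * m * y⁻¹ * k) * y := by group
    _ = _ := by rw [this]; group

theorem p03 (c : K) : Pp (ev 0 : Vn 4 K) (c • ev 3) := pe i0 (by decide) (by decide) c

namespace Hz

variable (h : Hz e t τ δ η ν) {a b c d : K} {m : G} {g : XU 4 K} {u : Vn 4 K}
include h

theorem y_Ps (c p q r s : K) :
    𝕪 c * Ps e τ η p q r s * (𝕪 c)⁻¹ = Ps e τ η (p + q * c) q (r + s * c) s := by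
  have k : Ps e τ η p q r s = Ps e τ η p 0 r 0 * Ps e τ η 0 q 0 0 * Ps e τ η 0 0 0 s := by
    simp [h.Ps_mul]
  have k' : Ps e τ η (p + q * c) q (r + s * c) s = Ps e τ η p 0 r 0 *
      (Ps e τ η 0 q 0 0 * Ps e τ η (c * q) 0 0 0) * (Ps e τ η 0 0 (c * s) 0 * Ps e τ η 0 0 0 s) := by
    simp [h.Ps_mul, mul_comm]
  have k1 := h.cm_col (ev_ne 0) (isoI i0) (h.row' (pw w1 w0) q) (YY_cl h.p (p03 c))
  rw [hf_smul_left, hf_smul_right, hfe, if_pos (by decide), star_star, mul_one, cm_def,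
    mul_inv_eq_iff_eq_mul] at k1
  rw [k, k', ← conj_mul, ← conj_mul]
  simp only [Ps, zero_smul, add_zero, zero_add, h.Y0 (pw w0 w0).l, h.Y0 (pw w1 w1).l, mul_one, one_mul]
  rw [h.r5, cj_eq (h.yk.c1 _ _ _ _ (p03 c) (pw w0 (wc p r)) (pw (wc p r) w0).p (p03 c).symm.p
    (isoI i0)), ← (h.Ycomm w0 (w0.smul _) w1 (w0.smul _)).eq]
  nth_rewrite 2 [k1]
  rw [← mul_assoc (𝕐 ((c * q) • ev 0) _), h.Ysq (pw w0 (w0.smul _)), one_mul]

theorem y_M (c : K) (m : G) (hm : m ∈ h.MM) : 𝕪 c * m * (𝕪 c)⁻¹ ∈ h.MM := by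
  obtain ⟨p, q, r, s, rfl⟩ := hm
  rw [h.y_Ps]; exact h.Ps_mem ..

theorem B_cs (a : K) : t * 𝔸 0 a * t⁻¹ ∈ Cs h.MM := cs_conj h.tt (fun _ => h.t_M) (h.A0_cs a)

theorem y_E (c : K) (hu : Wk 2 u) (o : Ok u (a • ev 2) d) : ∃ m ∈ h.MM,
    𝕪 c * e (EE u (a • ev 2) d) * (𝕪 c)⁻¹ =
      m * (t * 𝔸 0 (star (c * star (u 1) * a)) * t⁻¹ * e (EE u (a • ev 2) d)) := by
  have c1 := h.alt.r_cm (isoI i0) (Qk_fix (by omega) (EE2_mem hu o) w0) (YY_cl h.p (p03 c))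
  have c2 := h.alt.rmul (isoI i0) (h.rt (isoI i0) (h.A_row i0 (star (c * star (u 1) * a))))
    (YY_cl h.p (pw w0 (hu.smul (c * (d * star (u 1))))))
  rw [ac_smul, ac_EE o, hf_smul_right, hf2' (by decide), hf_ev_left, mul_zero, zero_smul, add_zero,
    add_assoc, smul_add, add_right_comm, v_add_self, zero_add, smul_add, smul_smul, smul_smul,
    smul_smul] at c1
  rw [star_star] at c2
  have k := h.Z_mem w0 (same h.p (ev_ne 0) (isoI i0) c1 c2)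
  have k1 := h.Y_mem w0 (hu.smul (c * (d * star (u 1))))
  have k2 := h.B_cs (star (c * star (u 1) * a)) _ (inv_mem k)
  refine ⟨_, mul_mem (inv_mem k1) (inv_mem k), ?_⟩
  rw [mul_assoc _ _⁻¹, ← mul_assoc _ (t * _ * _), k2]
  nth_rewrite 1 [← h.A_inv i0]
  rw [cm]; group

theorem Y1_eq (hu : Wk 2 u) (b : K) :
    𝕐 (b • ev 1) u = Ps e τ η 0 0 (b * star (u 0)) (b * star (u 1)) := by
  simpa [← w_eq hu] using h.Y_eq 0 b (u 0) (u 1)

theorem y_A0 (c a : K) : Commute (𝕪 c) (𝔸 0 a) :=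
  h.A_ccol i0 (p03 c) (by rw [hf_smul_left, hf2' (by decide), mul_zero]) a

theorem y_res (c : K) : 𝕪 c * (t * 𝕪 c * t⁻¹) = 𝕤 (star c) := by
  rw [h.yk.tc _ _ (p03 c), h.yk.res _ _ (p03 c), ss, qq_smul (star c), star_star, qq_comm]; rfl

theorem C1_y (c b : K) : h.toHy.C1 (𝕪 c * 𝔸 1 b * (𝕪 c)⁻¹) (b • ev 1) := by
  have y2 := h.Ysq (p03 c)
  have yi := inv_eq_of_mul_eq_one_right y2
  have k0 : ∀ x, cm (𝕪 c * 𝔸 1 b * (𝕪 c)⁻¹) x = 𝕪 c * cm (𝔸 1 b) (𝕪 c * x * (𝕪 c)⁻¹) * (𝕪 c)⁻¹ :=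
    fun x => by rw [← cm_cj, conj2 y2]
  refine ⟨w1.smul b, cs_conj y2 (h.y_M c) (h.A1_cs b), fun u a d hu o => ?_, ?_⟩
  · obtain ⟨m, hm, k⟩ := h.y_E c hu o
    have k1 := h.Y_mem (hu.smul (star a)) (w1.smul b)
    rw [k0, k, cm_mul', cm_mul', cm_eq_one.2 (h.A1_cs b m hm).symm, one_mul, h.r2,
      (h.C1_A1 b).ex _ _ _ hu o, cj_eq (h.B_cs _ _ k1).symm,
      cj_eq (h.M_comm hm _ (mul_mem (h.Y_mem w0 (w1.smul _)) k1)).symm, h.Y1_eq w0,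
      h.Y1_eq (hu.smul _), h.Ps_mul, h.y_Ps]
    congr 1 <;> simp [ev_apply]
    linear_combination b * c * a * star (u 1) * two0 K
  · obtain ⟨d, z, o, hz, h1⟩ := (h.A_row i1 b).c3
    have l := lv_s (star c)
    have o' := o.ac (ss 0 1 (star c))
    have k1 := EE_conj o (ss 0 1 (star c))
    rw [ac_smul, l.two] at o' k1
    obtain ⟨m, hm, k⟩ := h.y_E c (l.w _ w1) o'
    rw [show ac (ss (0 : Fin 5) 1 (star c)) (ev 1) 1 = 1 by simp [(ac_s _).2.1, ev_apply], star_one,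
      mul_one, star_mul', star_star] at k
    rw [k0, show 𝕪 c * t * (𝕪 c)⁻¹ = 𝕤 (star c) * t by rw [← h.y_res, yi]; group, cm_mul', h1,
      cm_def, h.A_s, ← (h.r1 _ _).eq, _root_.mul_inv_rev, mul_inv_cancel_left, h.A_inv i0,
      ← conj_mul (c := z), ← map_inv, ← map_mul, ← map_mul, k1, map_inv, ← conj_mul, ← conj_mul, k,
      cj_eq (h.y_A0 _ _).eq,
      ← mul_assoc (𝔸 0 _), ← mul_assoc (𝔸 0 _), ← h.A0_cs _ m hm, mul_assoc m, ← mul_assoc (𝔸 0 _)]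
    refine mul_mem (mul_mem (h.QM_M hm) (mul_mem ?_ (h.QM_e (EE2_mem (l.w _ w1) o'))))
      (h.QM_M (h.y_M _ _ (h.e_M l (h.Z_mem w1 hz))))
    have := (h.C1_A0 (star c * b)).c3
    rwa [cm_def, conj_inv, h.A_inv i0] at this

theorem ka_p (c b : K) : ∃ p, cm (𝕪 c) (𝔸 1 b) = Ps e τ η p 0 0 0 := by
  refine h.fix_s ((h.C1_y c b).same (h.C1_A1 b)) fun a => ?_
  rw [← cm_cj, h.A_s, h.yk.ec _ _ _ (p03 c), ac_smul, (ac_s a).1, (ac_s a).2.2.2.1, cm_mul',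
    cm_eq_one.2 (h.y_A0 _ _).eq]
  simp

theorem ka_add1 (c c' b : K) : cm (𝕪 (c + c')) (𝔸 1 b) = cm (𝕪 c) (𝔸 1 b) * cm (𝕪 c') (𝔸 1 b) := by
  obtain ⟨p, hp⟩ := h.ka_p c b
  rw [add_comm c, add_smul, h.yk.add _ _ _ (p03 _) (p03 _) ((pp_self (isoI (by decide))).smul _ _),
    cm_mul, hp, h.y_Ps]
  simp

theorem ka_add2 (c b b' : K) : cm (𝕪 c) (𝔸 1 (b + b')) = cm (𝕪 c) (𝔸 1 b) * cm (𝕪 c) (𝔸 1 b') := by
  obtain ⟨p, hp⟩ := h.ka_p c b'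
  rw [h.A_add i1, cm_mul', hp, cj_eq (h.A1_cs _ _ (h.Ps_mem ..)).symm]

theorem ka_tor {m : K} (m0 : m ≠ 0) (c b : K) :
    cm (𝕪 (c / star m)) (𝔸 1 (m ^ 2 / star m * b)) = cm (𝕪 c) (𝔸 1 b) := by
  obtain ⟨g, hg⟩ := exists_tor (K := K) one_ne_zero m0
  obtain ⟨p, hp⟩ := h.ka_p c b
  have k := h.Ps_conj (α := 1) (γ := 0) (β := 0) (ε := m) (by simpa using hg 0) (by simpa using hg 1)
    p 0 0 0
  rw [← hp, ← cm_cj, h.A_tor i1 hg (by simpa using m0), h.yk.ec _ _ _ (p03 c), ac_smul, hg, hg,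
    smul_smul] at k
  rw [hp]
  convert k using 4 <;> simp [div_eq_mul_inv]
  ring

theorem ka (c b : K) : Commute (𝕪 c) (𝔸 1 b) := by
  have n1 : ν * star ν = 1 := h.n1
  have n0 : ν ≠ 0 := left_ne_zero_of_mul_eq_one n1
  have n2 : star ν = ν⁻¹ := (inv_eq_of_mul_eq_one_right n1).symm
  have n3 : tr ν ≠ 0 := fun k0 => h.n2 (sq_inj (by rw [tr_eq_zero.1 k0] at n1; rw [sq, n1, one_pow]))
  obtain ⟨c, rfl⟩ : ∃ c', c = tr ν * c' + tr (ν ^ 3) * c' := ⟨c / tr ν ^ 3, by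
    rw [← add_mul, show tr ν + tr (ν ^ 3) = tr ν ^ 3 by
      simp only [tr, star_pow]
      linear_combination -3 * (ν + star ν) * n1 - (ν + star ν) * two0 K, mul_div_cancel₀ _ (pow_ne_zero 3 n3)]⟩
  have k1 := h.ka_tor n0 c (star (ν ^ 3) * b)
  have k2 := h.ka_tor n0 (star ν * c) b
  have k3 : cm (𝕪 (tr (ν ^ 3) * c)) (𝔸 1 b) = cm (𝕪 c) (𝔸 1 (tr (ν ^ 3) * b)) := by
    by_cases r0 : tr (ν ^ 3) = 0
    · simp [r0, h.A_zero i1, h.Y0 (isoI i0), cm]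
    · rw [← h.ka_tor r0, star_tr, mul_div_cancel_left₀ _ r0, sq, mul_div_cancel_right₀ _ r0]
  rw [show c / star ν = ν * c by rw [n2]; field_simp,
    show ν ^ 2 / star ν * (star (ν ^ 3) * b) = b by rw [star_pow, n2]; field_simp] at k1
  rw [show star ν * c / star ν = c by rw [n2]; field_simp,
    show ν ^ 2 / star ν = ν ^ 3 by rw [n2]; field_simp] at k2
  obtain ⟨p, hp⟩ := h.ka_p c (tr (ν ^ 3) * b)
  refine cm_eq_one.1 ?_
  rw [h.ka_add1, k3, tr, add_mul, h.ka_add1, k1, ← k2, ← h.ka_add2, ← add_mul, add_comm (star _), hp,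
    h.Ps_sq]

theorem r3 (a b : K) : cm (𝕐 (a • ev 0) (ev 3)) (𝔸 1 b) = 𝔸 0 (a * b) := by
  have p := pe (K := K) (i := 3) (j := 0) (by decide) (by decide) (by decide) a
  have k := h.yk.res _ _ p
  rw [← star_star a, ← h.yk.scal _ _ _ (pe1 i0 (by decide) (by decide)), star_star,
    ← eq_mul_inv_iff_mul_eq] at k
  rw [k, cm_mul, cm_eq_one.2 (h.ka _ _).inv_left.eq, mul_one, mul_inv_cancel, one_mul, cm,
    show qq (a • ev 0) (ev 3) = ss (0 : Fin 5) 1 a from rfl, h.A_s, ← (h.r1 _ _).eq, mul_inv_cancel_right]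

theorem mid : MID t 𝕐 𝔸 := by
  have n2 : ∀ {i : Fin 5}, i ≠ i.rev → i ≠ 2 := by decide
  have cj : ∀ {x y : G} (g : G), Commute x y → Commute (g * x * g⁻¹) (g * y * g⁻¹) :=
    fun g c => c.map (MulAut.conj g)
  refine ⟨fun i hi => h.A_add (n2 hi), fun i k hi hk h1 a b => ?_, fun i j hi hj h1 a b => ?_,
    fun k i hk hi h1 h2 a b => ?_, fun k l i hk hl hi h1 h2 a b => ?_⟩
  · by_cases h2 : k = i
    · rw [h2]; exact h.A_self (n2 hi) a b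
    obtain ⟨π, g, g1, g2, rfl, rfl, p2⟩ := exists_w (K := K) (n2 hi) (n2 hk) h2 h1
    rw [← h.A_perm i0 g1 g2 p2, ← h.A_perm i1 g1 g2 p2]
    exact cj _ (h.r1 a b)
  · by_cases h2 : i = j.rev
    · rw [← h2]; exact h.A_col2 (n2 hi) a b
    obtain ⟨π, g, g1, g2, p0, rfl, p2⟩ := exists_w (K := K) (rev2 j (n2 hj)) (n2 hi) h2
      (by simpa using h1)
    rw [← p0, ← h.A_perm i0 g1 g2 p2, ← h.A_perm i1 g1 g2 p2, ← g2, ← g2, ← ac_smul,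
      ← h.yk.ec _ _ _ (pw w0 (w1.smul _)), ← h.r2, ← cm_cj, ← conj_mul, ← conj_mul, ← conj_inv,
      h.b.toB1.conj_eq]
  · obtain ⟨π, g, g1, g2, rfl, rfl, p2⟩ := exists_w (K := K) (n2 hk) (n2 hi) h1.symm
      (fun e => h2 (by rw [e, Fin.rev_rev]))
    rw [← g1, ← h.A_perm i0 g1 g2 p2, ← h.A_perm i1 g1 g2 p2, ← g2, ← g2, ← ac_smul,
      ← h.yk.ec _ _ _ (pe (by decide) i0 (by decide) a), cm_cj]
    exact congrArg (fun x => e g * x * (e g)⁻¹) (h.r3 a b)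
  · have hl' := rev2 l (n2 hl)
    by_cases h3 : k = i
    · rw [← h3]; exact h.A_crow (n2 hk) (pe1 hl' (n2 hk) (by simpa using h1)) a b
    by_cases h4 : l.rev = i
    · rw [← h4]
      exact h.A_ccol hl' (pe hl' (n2 hk) (by simpa using h1) a)
        (by rw [hf_smul_left, hf2' (n2 hk), mul_zero]) b
    by_cases h5 : k = i.rev
    · obtain ⟨π, g, g1, g2, p0, rfl, p2⟩ := exists_w (K := K) hl' (n2 hi) (Ne.symm h4)
        (by simpa using h2.symm)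
      rw [h5, ← p0, ← g1, ← h.A_perm i1 g1 g2 p2, ← g2, ← g2, ← ac_smul,
        ← h.yk.ec _ _ _ (pe i0 (by decide) (by decide) a)]
      exact cj _ (h.ka a b)
    · obtain rfl : k = l.rev := by revert k l i; decide
      exact h.A_cpin (n2 hi) hl' h3 h5 a b

end Hz

theorem jobMID : JobMID.{u} := by
  intro n K _ _ _ _ hp _ _ _ _ _ _ G _ _ e t b τ δ p η h1 h2
  obtain rfl := hp.five
  obtain ⟨ν, n1, n2⟩ := FQ.n1 (K := K)
  have h : Hz e t τ δ η ν := ⟨⟨b, p, h1, h2⟩, n1, n2⟩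
  exact ⟨_, _, h.yk, h.mid⟩

end H59.UVM
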