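/- XP tower, job G2: the relations of the Sylow `p`-subgroup of `G₂(p)` in the octonion model. -/
import Cfsg.Agent.H87.XPSpec
import Cfsg.Agent.H35.Oct1

set_option autoImplicit false

namespace H59.XP
open Cfsg Cfsg.Lie Matrix H35.Oct
open scoped commutatorElement MatrixGroups

/-- Integral matrices of size eight. -/
abbrev M8 : Type := Matrix (Fin 8) (Fin 8) ℤ

/-- A unipotent automorphism of the integral octonions. -/
def Ok (A : M8) : Prop := (A - 1) * (A - 1) * (A - 1) = 0 ∧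
  ∀ i j : Fin 8, A *ᵥ zornMul ((1 : M8).col i) ((1 : M8).col j) = zornMul (A.col i) (A.col j)

instance okDec (A : M8) : Decidable (Ok A) := inferInstanceAs (Decidable (_ ∧ _))

variable {K : Type*} [Field K]

/-- The product as a bilinear map. -/
def zb (K : Type*) [Field K] : (Fin 8 → K) →ₗ[K] (Fin 8 → K) →ₗ[K] (Fin 8 → K) :=
  LinearMap.mk₂ K zornMul
    (fun x y z => by apply ext8 <;> simp only [zm, Pi.add_apply, cons_val] <;> ring)
    (fun c x y => by apply ext8 <;> simp only [zm, Pi.smul_apply, smul_eq_mul, cons_val] <;> ring)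
    (fun x y z => by apply ext8 <;> simp only [zm, Pi.add_apply, cons_val] <;> ring)
    (fun c x y => by apply ext8 <;> simp only [zm, Pi.smul_apply, smul_eq_mul, cons_val] <;> ring)

theorem zm_cast (x y : Fin 8 → ℤ) :
    zornMul (Int.castRingHom K ∘ x) (Int.castRingHom K ∘ y) = Int.castRingHom K ∘ zornMul x y := by
  apply ext8 <;> simp [zornMul, dot3, cross3]

/-- The group element `g` is the reduction of the integral matrix `A`. -/
def Red (g : G2 K) (A : M8) : Prop :=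
  ((g : GL (Fin 8) K) : Matrix (Fin 8) (Fin 8) K) = (Int.castRingHom K).mapMatrix A

theorem pow_eq_one_of_cube {R : Type*} [Ring R] {p : ℕ} [hp : Fact p.Prime] [CharP R p] (h : 3 ≤ p)
    {a : R} (e : (a - 1) * (a - 1) * (a - 1) = 0) : a ^ p = 1 := by
  have := sub_pow_char_of_commute p (Commute.one_right a)
  rw [pow_eq_zero_of_le h (by rw [pow_three', e]), one_pow] at this
  exact sub_eq_zero.1 this.symm

theorem Ok.exists_red {A : M8} (h : Ok A) {p : ℕ} [Fact p.Prime] [CharP K p] (hp : 3 ≤ p) :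
    ∃ g : G2 K, Red g A ∧ g ^ p = 1 := by
  let φ := Int.castRingHom K
  have h1 := congrArg φ.mapMatrix h.1
  simp only [map_mul, map_sub, map_one, map_zero] at h1
  have h2 := pow_eq_one_of_cube hp h1
  have key : (zb K).compr₂ (toLin' (φ.mapMatrix A)) =
      (zb K).compl₁₂ (toLin' (φ.mapMatrix A)) (toLin' (φ.mapMatrix A)) := by
    refine LinearMap.pi_ext' fun i => LinearMap.ext_ring (LinearMap.pi_ext' fun j =>
      LinearMap.ext_ring ?_)
    have e : ∀ i : Fin 8, (Pi.single i 1 : Fin 8 → K) = φ ∘ (1 : M8).col i := fun i => by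
      ext k; simp [one_apply, Pi.single_apply]
    have c : ∀ i : Fin 8, A.map φ *ᵥ (φ ∘ (1 : M8).col i) = φ ∘ A.col i := fun i => by
      rw [← e, mulVec_single_one]; rfl
    change A.map φ *ᵥ zornMul (Pi.single i 1) (Pi.single j 1) =
      zornMul (A.map φ *ᵥ Pi.single i 1) (A.map φ *ᵥ Pi.single j 1)
    rw [e, e, c, c, zm_cast, zm_cast, ← h.2]
    exact funext fun k => (RingHom.map_mulVec φ A _ k).symm
  exact ⟨⟨Units.ofPowEqOne _ p h2 (by omega), fun x y => LinearMap.congr_fun₂ key x y⟩, rfl,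
    Subtype.ext (Units.pow_ofPowEqOne h2 (by omega))⟩

theorem Red.one : Red (1 : G2 K) 1 := (map_one _).symm

theorem Red.comm {g h k : G2 K} {A B C : M8} (hg : Red g A) (hh : Red h B) (hk : Red k C)
    (e : A * B = C * B * A) : ⁅g, h⁆ = k := by
  rw [commutatorElement_def, mul_inv_eq_iff_eq_mul, mul_inv_eq_iff_eq_mul]
  refine Subtype.ext (Units.ext ?_)
  simp only [Subgroup.coe_mul, Units.val_mul]
  rw [hg, hh, hk, ← map_mul, ← map_mul, ← map_mul, e]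

/-- A short root element. -/
def mY : M8 := !![1, 0, -1, 0, 0, 0, 0, 0; 0, 1, 0, 0, 0, 0, 1, 0; 0, 0, 1, 0, 0, 0, 0, 0;
  0, 0, 0, 1, -1, 0, 0, 0; 0, 0, 0, 0, 1, 0, 0, 0; 1, 0, -1, 0, 0, 1, 0, -1;
  0, 0, 0, 0, 0, 0, 1, 0; 0, 0, 1, 0, 0, 0, 0, 1]
/-- The first generator of the extraspecial subgroup. -/
def m0 : M8 := !![1, 0, 0, 0, 0, 0, -1, 0; 0, 1, 0, 0, 0, 0, 0, 0; 0, 6, 1, 0, 0, 0, 0, 0;
  1, 0, 0, 1, 0, 0, -1, -1; 0, -6, -1, 0, 1, -6, 0, 0; 0, 1, 0, 0, 0, 1, 0, 0;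
  0, 0, 0, 0, 0, 0, 1, 0; 0, 0, 0, 0, 0, 0, 1, 1]
/-- The second generator. -/
def m1 : M8 := !![1, -6, 0, 0, 0, 0, 6, 0; 0, 1, 0, 0, 0, 0, 0, 0; 0, 0, 1, 0, 0, 0, -6, 0;
  -6, 18, -3, 1, 0, 6, -18, 6; 6, -36, 6, 0, 1, 0, 18, -6; 0, -6, 0, 0, 0, 1, 3, 0;
  0, 0, 0, 0, 0, 0, 1, 0; 0, 6, 0, 0, 0, 0, -6, 1]
/-- The third generator. -/
def m2 : M8 := !![1, 0, 0, 0, 0, 0, 12, 0; 0, 1, 0, 0, 0, 0, 0, 0; 0, 0, 1, 0, 0, 0, 0, 0;
  -12, -108, -36, 1, 0, 0, -144, 12; 0, 0, 12, 0, 1, 0, 108, 0; 0, -12, 0, 0, 0, 1, 36, 0;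
  0, 0, 0, 0, 0, 0, 1, 0; 0, 0, 0, 0, 0, 0, -12, 1]
/-- The fourth generator. -/
def m3 : M8 := !![1, 0, 0, 0, 0, 0, 0, 0; 0, 1, 0, 0, 0, 0, 0, 0; 0, 0, 1, 0, 0, 0, 0, 0;
  0, 0, -36, 1, 0, 0, 0, 0; 0, 0, 0, 0, 1, 0, 0, 0; 0, 0, 0, 0, 0, 1, 36, 0;
  0, 0, 0, 0, 0, 0, 1, 0; 0, 0, 0, 0, 0, 0, 0, 1]
/-- The central element. -/
def mZ : M8 := !![1, 0, 0, 0, 0, 0, 0, 0; 0, 1, 0, 0, 0, 0, 0, 0; 0, 0, 1, 0, 0, 0, 0, 0;
  0, 216, 0, 1, 0, 0, 0, 0; 0, 0, 0, 0, 1, 0, -216, 0; 0, 0, 0, 0, 0, 1, 0, 0;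
  0, 0, 0, 0, 0, 0, 1, 0; 0, 0, 0, 0, 0, 0, 0, 1]

theorem not_dvd_pow_sub {p : ℕ} (hp : p.Prime) {k : ℕ} (hk : 0 < k) : ¬ p ∣ p ^ k - 1 := fun e =>
  hp.one_lt.ne' (Nat.dvd_one.1
    ((Nat.dvd_sub_iff_right (Nat.one_le_pow _ _ hp.pos) (dvd_pow_self p hk.ne')).1 e))

theorem jobG2 : H87.XP.JobG2 := by
  intro p hp h5
  have h3 : 3 ≤ p := by omega
  refine ⟨fun h => ?_, ?_⟩
  · have h1 := h.trans (card_dvd (F := ZMod p))
    rw [ZMod.card, pow_succ, mul_assoc, Nat.mul_dvd_mul_iff_left (pow_pos hp.out.pos 6)] at h1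
    exact (hp.out.dvd_mul.1 h1).elim (not_dvd_pow_sub hp.out two_pos)
      (not_dvd_pow_sub hp.out (by norm_num))
  obtain ⟨y, ry, py⟩ := (show Ok mY by decide +kernel).exists_red (K := ZMod p) h3
  obtain ⟨a, ra, pa⟩ := (show Ok m0 by decide +kernel).exists_red (K := ZMod p) h3
  obtain ⟨b, rb, pb⟩ := (show Ok m1 by decide +kernel).exists_red (K := ZMod p) h3
  obtain ⟨c, rc, pc⟩ := (show Ok m2 by decide +kernel).exists_red (K := ZMod p) h3
  obtain ⟨d, rd, pd⟩ := (show Ok m3 by decide +kernel).exists_red (K := ZMod p) h3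
  obtain ⟨z, rz, pz⟩ := (show Ok mZ by decide +kernel).exists_red (K := ZMod p) h3
  refine ⟨y, a, b, c, d, z, ⟨py, pa, pb, pc, pd, pz, ry.comm ra rb (by decide +kernel),
    ry.comm rb rc (by decide +kernel), ry.comm rc rd (by decide +kernel),
    ry.comm rd .one (by decide +kernel), ry.comm rz .one (by decide +kernel),
    ra.comm rb .one (by decide +kernel), ra.comm rc rz (by decide +kernel),
    ra.comm rd rz (by decide +kernel), ?_, rb.comm rd .one (by decide +kernel),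
    rc.comm rd .one (by decide +kernel), ra.comm rz .one (by decide +kernel),
    rb.comm rz .one (by decide +kernel), rc.comm rz .one (by decide +kernel),
    rd.comm rz .one (by decide +kernel)⟩, ?_⟩
  · rw [← rc.comm rb rz (by decide +kernel), commutatorElement_inv]
  rintro rfl
  have h1 : ((0 : ℤ) : ZMod p) = (216 : ℤ) :=
    congrFun (congrFun ((Red.one (K := ZMod p)).symm.trans rz) 3) 1
  rw [Int.cast_zero, eq_comm, ZMod.intCast_zmod_eq_zero_iff_dvd,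
    show (216 : ℤ) = ((2 ^ 3 * 3 ^ 3 : ℕ) : ℤ) from rfl, Int.natCast_dvd_natCast] at h1
  rcases hp.out.dvd_mul.1 h1 with h | h <;>
    have := Nat.le_of_dvd (by norm_num) (hp.out.dvd_of_dvd_pow h) <;> omega

end H59.XP
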