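/- XP tower, job SU: the relations of the Sylow `p`-subgroup of `SU₄(p)`. -/
import Cfsg.Agent.H59.XPG2
import Cfsg.Agent.H59.SU

set_option autoImplicit false

namespace H59.XP
open Cfsg Matrix
open scoped commutatorElement MatrixGroups

section
variable {K : Type} [Field K] {p : ℕ} [hp : Fact p.Prime] [CharP K p]

/-- The Gram matrix of two hyperbolic pairs. -/
def mJ (K : Type) [Field K] : Matrix (Fin 4) (Fin 4) K :=
  !![0, 0, 1, 0; 0, 0, 0, 1; 1, 0, 0, 0; 0, 1, 0, 0]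
/-- The unipotent radical. -/
def mU (x y y' t : K) : Matrix (Fin 4) (Fin 4) K :=
  !![1, 0, x, y; 0, 1, y', t; 0, 0, 1, 0; 0, 0, 0, 1]
/-- The unipotent elements of the Levi factor. -/
def mG (a b : K) : Matrix (Fin 4) (Fin 4) K :=
  !![1, a, 0, 0; 0, 1, 0, 0; 0, 0, 1, 0; 0, 0, b, 1]

/-- A change of basis from the hyperbolic form to the standard form. -/
structure Bs (p : ℕ) [Fact p.Prime] [CharP K p] (P Q : Matrix (Fin 4) (Fin 4) K) : Prop where
  qp : Q * P = 1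
  j : Pᵀ * P.map (frobenius K p) = mJ K

theorem exists_bs (p2 : p ≠ 2) {η : K} (h : η ^ (p + 1) = -1) :
    ∃ P Q : Matrix (Fin 4) (Fin 4) K, Bs p P Q := by
  have h2 : (2 : K) ≠ 0 := fun e => p2 ((Nat.prime_dvd_prime_iff_eq hp.out Nat.prime_two).1
    ((CharP.cast_eq_zero_iff K p 2).1 (by exact_mod_cast e)))
  rw [pow_succ, ← frobenius_def] at h
  have h3 : !![1, 0, 2⁻¹, 0; η, 0, -(2⁻¹ * η), 0; 0, 1, 0, 2⁻¹; 0, η, 0, -(2⁻¹ * η)]ᵀ *
      !![1, 0, 2⁻¹, 0; η, 0, -(2⁻¹ * η), 0; 0, 1, 0, 2⁻¹; 0, η, 0, -(2⁻¹ * η)].map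
        (frobenius K p) = mJ K := by
    ext i j
    fin_cases i <;> fin_cases j <;> simp [mJ, mul_apply, Fin.sum_univ_four, map_ofNat] <;>
      field_simp <;> first | linear_combination h | linear_combination -h
  generalize !![1, 0, 2⁻¹, 0; η, 0, -(2⁻¹ * η), 0; 0, 1, 0, 2⁻¹; 0, η, 0, -(2⁻¹ * η)] = P at h3
  refine ⟨P, (P.map (frobenius K p) * mJ K)ᵀ, transpose_injective ?_, h3⟩
  rw [transpose_mul, transpose_transpose, ← mul_assoc, h3]
  ext i j
  fin_cases i <;> fin_cases j <;> simp [mJ, mul_apply, Fin.sum_univ_four]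

variable {P Q : Matrix (Fin 4) (Fin 4) K}

/-- The group element `g` has the matrix `A` in the hyperbolic basis. -/
def Rs (P Q : Matrix (Fin 4) (Fin 4) K) (g : SU 4 K p) (A : Matrix (Fin 4) (Fin 4) K) : Prop :=
  ((g : SL(4, K)) : Matrix (Fin 4) (Fin 4) K) = P * A * Q

theorem Bs.pq (b : Bs p P Q) : P * Q = 1 := mul_eq_one_comm.1 b.qp

theorem Bs.mul (b : Bs p P Q) (A B : Matrix (Fin 4) (Fin 4) K) :
    P * A * Q * (P * B * Q) = P * (A * B) * Q := by
  simp only [mul_assoc]; rw [← mul_assoc Q, b.qp, one_mul]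

theorem Bs.one (b : Bs p P Q) : Rs P Q (1 : SU 4 K p) 1 := by rw [Rs, mul_one, b.pq]; rfl

theorem Rs.mul (b : Bs p P Q) {g h : SU 4 K p} {A B : Matrix (Fin 4) (Fin 4) K} (hg : Rs P Q g A)
    (hh : Rs P Q h B) : Rs P Q (g * h) (A * B) := by
  rw [Rs, ← b.mul, ← hg, ← hh]; rfl

omit hp [CharP K p] in
theorem Rs.eq {g h : SU 4 K p} {A : Matrix (Fin 4) (Fin 4) K} (hg : Rs P Q g A)
    (hh : Rs P Q h A) : g = h := Subtype.ext (Subtype.ext (hg.trans hh.symm))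

theorem Rs.pow (b : Bs p P Q) {g : SU 4 K p} {A : Matrix (Fin 4) (Fin 4) K} (hg : Rs P Q g A)
    (n : ℕ) : Rs P Q (g ^ n) (A ^ n) := by
  induction n with
  | zero => simpa using b.one
  | succ n ih => rw [pow_succ, pow_succ]; exact ih.mul b hg

theorem Rs.comm (b : Bs p P Q) {g h k : SU 4 K p} {A B C : Matrix (Fin 4) (Fin 4) K}
    (hg : Rs P Q g A) (hh : Rs P Q h B) (hk : Rs P Q k C) (e : A * B = C * B * A) :
    ⁅g, h⁆ = k := by
  rw [commutatorElement_def, mul_inv_eq_iff_eq_mul, mul_inv_eq_iff_eq_mul]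
  exact (hg.mul b hh).eq (e ▸ (hk.mul b hh).mul b hg)

theorem Bs.exists_rs (b : Bs p P Q) (h3 : 3 ≤ p) {A : Matrix (Fin 4) (Fin 4) K} (hd : A.det = 1)
    (hj : Aᵀ * mJ K * A.map (frobenius K p) = mJ K) (hc : (A - 1) * (A - 1) * (A - 1) = 0) :
    ∃ g : SU 4 K p, Rs P Q g A ∧ g ^ p = 1 := by
  have h1 : (P * A * Q).det = 1 := by
    rw [det_mul_comm, ← mul_assoc, b.qp, one_mul, hd]
  have h2 : (P * A * Q)ᵀ * (P * A * Q).map (frobenius K p) = 1 := by
    have e : (P * Q)ᵀ * (P * Q).map (frobenius K p) = 1 := by rw [b.pq]; simp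
    rw [transpose_mul, Matrix.map_mul, mul_assoc, ← mul_assoc Pᵀ, b.j] at e
    rw [transpose_mul, transpose_mul, Matrix.map_mul, Matrix.map_mul, ← e]
    conv_rhs => rw [← hj, ← b.j]
    simp only [mul_assoc]
  have h4 : ∀ u v : Fin 4 → K, hermForm 4 K p u v = u ⬝ᵥ (frobenius K p ∘ v) := fun u v => rfl
  have h5 : ∀ g : SU 4 K p, Rs P Q g A → Rs P Q g A ∧ g ^ p = 1 := fun g hg =>
    ⟨hg, (hg.pow b p).eq (pow_eq_one_of_cube h3 hc ▸ b.one)⟩
  refine ⟨⟨⟨P * A * Q, h1⟩, fun u v => ?_⟩, h5 _ rfl⟩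
  · change hermForm 4 K p ((P * A * Q) *ᵥ u) ((P * A * Q) *ᵥ v) = _
    rw [h4, h4, show frobenius K p ∘ ((P * A * Q) *ᵥ v) = (P * A * Q).map (frobenius K p) *ᵥ
      (frobenius K p ∘ v) from funext fun k => RingHom.map_mulVec _ _ _ k, dotProduct_comm,
      dotProduct_mulVec, ← mulVec_transpose, mulVec_mulVec, h2, one_mulVec, dotProduct_comm]

theorem Bs.exU (b : Bs p P Q) (h3 : 3 ≤ p) {x y y' t : K} (hx : frobenius K p x = -x)
    (hy : frobenius K p y = -y') (hy' : frobenius K p y' = -y) (ht : frobenius K p t = -t) :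
    ∃ g : SU 4 K p, Rs P Q g (mU x y y' t) ∧ g ^ p = 1 := by
  refine b.exists_rs h3 ?_ ?_ ?_
  · rw [det_of_isUpperTriangular]
    · simp [mU, Fin.prod_univ_four]
    · intro i j h; fin_cases i <;> fin_cases j <;> simp [mU] at h ⊢
  all_goals
    ext i j
    fin_cases i <;> fin_cases j <;> simp [mU, mJ, mul_apply, Fin.sum_univ_four, one_apply, *]

theorem Bs.exG (b : Bs p P Q) (h3 : 3 ≤ p) {x y : K} (hx : frobenius K p x = -y)
    (hy : frobenius K p y = -x) : ∃ g : SU 4 K p, Rs P Q g (mG x y) ∧ g ^ p = 1 := by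
  refine b.exists_rs h3 ?_ ?_ ?_
  · simp [mG, det_succ_row_zero, Fin.sum_univ_succ, Fin.succAbove]
  all_goals
    ext i j
    fin_cases i <;> fin_cases j <;> simp [mG, mJ, mul_apply, Fin.sum_univ_four, one_apply, *]

theorem mU_mul (x y y' t a b b' c : K) :
    mU x y y' t * mU a b b' c = mU (x + a) (y + b) (y' + b') (t + c) := by
  ext i j
  fin_cases i <;> fin_cases j <;> simp [mU, mul_apply, Fin.sum_univ_four, add_comm]

theorem mU_zero : mU (0 : K) 0 0 0 = 1 := by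
  ext i j
  fin_cases i <;> fin_cases j <;> simp [mU]

theorem mU_pow (x : K) (n : ℕ) : mU x 0 0 0 ^ n = mU (n * x) 0 0 0 := by
  induction n with
  | zero => simp [mU_zero]
  | succ n ih => rw [pow_succ, ih, mU_mul, Nat.cast_succ, add_one_mul, add_zero]

theorem mU_comm (x y y' t a b b' c : K) :
    mU x y y' t * mU a b b' c = 1 * mU a b b' c * mU x y y' t := by
  rw [one_mul, mU_mul, mU_mul, add_comm x, add_comm y, add_comm y', add_comm t]

theorem mG_mU (a b x y y' t : K) : mG a b * mU x y y' t =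
    mU (a * y' - b * y - a * b * t) (a * t) (-(b * t)) 0 * mU x y y' t * mG a b := by
  ext i j
  fin_cases i <;> fin_cases j <;> simp [mU, mG, mul_apply, Fin.sum_univ_four] <;> ring

theorem mG_comm (a b c d : K) : mG a b * mG c d = 1 * mG c d * mG a b := by
  ext i j
  fin_cases i <;> fin_cases j <;> simp [mG, mul_apply, Fin.sum_univ_four, add_comm]

theorem exists_theta [Fintype K] (hK : Fintype.card K = p ^ 2) (p2 : p ≠ 2) {d : ℤ}
    (hd : ¬ IsSquare (-d : ZMod p)) : ∃ θ : K, θ * θ = -d ∧ frobenius K p θ = -θ ∧ θ ≠ 0 := by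
  obtain ⟨k, hk⟩ := hp.out.odd_of_ne_two p2
  have d0 : (-d : ZMod p) ≠ 0 := fun e => hd (e ▸ IsSquare.zero)
  have h1 : (-d : ZMod p) ^ k = -1 := by
    have := (ZMod.pow_div_two_eq_neg_one_or_one p d0).resolve_left
      (mt (ZMod.euler_criterion p d0).2 hd)
    rwa [show p / 2 = k by omega] at this
  have h2 : (-d : K) ^ k = -1 := by simpa using congrArg (ZMod.castHom (dvd_refl p) K) h1
  have d1 : (-d : K) ≠ 0 := by simpa using (map_ne_zero (ZMod.castHom (dvd_refl p) K)).2 d0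
  obtain ⟨θ, h3⟩ := (FiniteField.isSquare_iff (by rwa [ringChar.eq K p]) d1).2 (by
    rw [hK, show p ^ 2 / 2 = k * (2 * (k + 1)) by
      rw [hk, show (2 * k + 1) ^ 2 = 1 + 2 * (k * (2 * (k + 1))) by ring]; omega,
      pow_mul, h2, pow_mul, neg_one_sq, one_pow])
  refine ⟨θ, h3.symm, ?_, by rintro rfl; exact d1 (by simpa using h3)⟩
  rw [frobenius_def, hk, pow_succ, pow_mul, sq, ← h3, h2, neg_one_mul]

end

theorem not_dvd_pow_add {p : ℕ} (hp : p.Prime) {k : ℕ} (hk : 0 < k) : ¬ p ∣ p ^ k + 1 := fun e =>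
  hp.one_lt.ne' (Nat.dvd_one.1 ((Nat.dvd_add_right (dvd_pow_self p hk.ne')).1 e))

theorem su_model {K : Type} [Field K] [Fintype K] {p : ℕ} [hp : Fact p.Prime] [CharP K p]
    (hK : Fintype.card K = p ^ 2) {d : ℤ} (p2 : p ≠ 2) (hd : ¬ IsSquare (-d : ZMod p)) :
    ¬ p ^ 7 ∣ Nat.card (SU 4 K p) ∧
    ∃ w g₁ g₂ c₁ c₂ z : SU 4 K p, H87.XP.RelO p d w g₁ g₂ c₁ c₂ z ∧ z ≠ 1 := by
  have h3 : 3 ≤ p := by have := hp.out.two_le; omega
  refine ⟨fun h => ?_, ?_⟩
  · have h1 := h.mul_left (p + 1)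
    rw [H59.card_SU hK (by norm_num), H59.ordGU, pow_succ,
      Nat.mul_dvd_mul_iff_left (pow_pos hp.out.pos 6)] at h1
    obtain ⟨i, -, hi⟩ := (Prime.dvd_finsetProd_iff hp.out.prime _).1 h1
    split_ifs at hi
    exacts [not_dvd_pow_add hp.out i.succ_pos hi, not_dvd_pow_sub hp.out i.succ_pos hi]
  obtain ⟨η, hη⟩ := H59.exists_norm_eq hK (μ := -1) ((hp.out.odd_of_ne_two p2).neg_one_pow)
  obtain ⟨P, Q, b⟩ := exists_bs p2 hη
  obtain ⟨θ, t2, tσ, t0⟩ := exists_theta hK p2 hd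
  obtain ⟨w, rw', pw⟩ := b.exU h3 (x := 0) (y := 0) (y' := 0) (by simp) (by simp) (by simp) tσ
  obtain ⟨g, rg, pg⟩ := b.exG h3 (x := 1) (y := -1) (by simp) (by simp)
  obtain ⟨h, rh, ph⟩ := b.exG h3 tσ tσ
  obtain ⟨c, rc, pc⟩ := b.exU h3 (t := 0) tσ tσ tσ (by simp)
  obtain ⟨e, re, pe⟩ := b.exU h3 (x := d * θ) (y := -d) (y' := d) (t := 0) (by simp [tσ]) (by simp)
    (by simp) (by simp)
  obtain ⟨z, rz, pz⟩ := b.exU h3 (x := 2 * θ) (y := 0) (y' := 0) (t := 0)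
    (by simp [tσ, map_ofNat]) (by simp) (by simp) (by simp)
  have o := b.one
  have zd : Rs P Q (z ^ d) (mU (d * (2 * θ)) 0 0 0) := by
    obtain ⟨n, hn⟩ := Int.eq_ofNat_of_zero_le (Int.emod_nonneg d (b := p) (by omega))
    rw [zpow_eq_zpow_emod' d pz, CharP.intCast_eq_intCast_mod K p, hn, zpow_natCast,
      Int.cast_natCast, ← mU_pow]
    exact rz.pow b n
  refine ⟨w, g, h, c, e, z, ⟨pw, pg, ph, pc, pe, pz, rg.comm b rw' rc ?_, rh.comm b rw' re ?_,
    rg.comm b rc rz ?_, rh.comm b re zd ?_, rg.comm b re o ?_, rh.comm b rc o ?_,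
    rg.comm b rh o (mG_comm ..), rw'.comm b rc o (mU_comm ..), rw'.comm b re o (mU_comm ..),
    rc.comm b re o (mU_comm ..), rw'.comm b rz o (mU_comm ..), rg.comm b rz o ?_,
    rh.comm b rz o ?_, rc.comm b rz o (mU_comm ..), re.comm b rz o (mU_comm ..)⟩, ?_⟩
  iterate 8
    rw [mG_mU]
    try rw [← mU_zero]
    congr 3 <;> first | ring1 | linear_combination t2 | linear_combination -t2 |
      linear_combination (-θ) * t2
  rintro rfl
  have h1 : Q * (P * 1 * Q) * P = Q * (P * mU (2 * θ) 0 0 0 * Q) * P := by rw [← o, ← rz]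
  simp only [← mul_assoc, b.qp, one_mul, mul_assoc _ Q P, mul_one] at h1
  have h2 := congrFun (congrFun h1 0) 2
  simp [mU, t0] at h2
  exact p2 ((Nat.prime_dvd_prime_iff_eq hp.out Nat.prime_two).1
    ((CharP.cast_eq_zero_iff K p 2).1 (by exact_mod_cast h2)))

theorem jobSU : H87.XP.JobSU := by
  intro p hp d p2 hd
  let i := Fintype.ofFinite (GaloisField p 2)
  have hK : Fintype.card (GaloisField p 2) = p ^ 2 := by
    rw [← Nat.card_eq_fintype_card, GaloisField.card p 2 two_ne_zero]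
  exact ⟨GaloisField p 2, inferInstance, i, hK, su_model hK p2 hd⟩

end H59.XP
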